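import Cfsg.Agent.StemCert.Defs

/-! Data of the certificate. -/

set_option autoImplicit false
set_option maxRecDepth 100000
set_option maxHeartbeats 0
set_option linter.all false

namespace Cfsg.Agent.SuzOut.Data

open Cfsg.Agent.StemCert

/-- A part. -/
noncomputable def cand0_0 : Arr ℕ :=
  (.node 0x1 (.node 0xa000001 (.node 0x1c (.node 0x47800760001 (.node 0xfa (.node 0xc67 (.node 0x4c2 .nil .nil) (.node 0xa95 .nil .nil)) (.node 0x34c04e40c67 (.node 0xb2f .nil .nil) .nil)) (.node 0x22002ba0001 (.node 0xc67 (.node 0x478041e0b2f .nil .nil) (.node 0xa95 .nil .nil)) (.node 0x386012a0b2f (.node 0x75e0a95 .nil .nil) .nil))) (.node 0x6a80001 (.node 0xa200001 (.node 0x3620c67 (.node 0x51e .nil .nil) (.node 0x79a .nil .nil)) (.node 0xc67 (.node 0x66204c80a95 .nil .nil) .nil)) (.node 0x774083e0c67 (.node 0x3f208780c67 (.node 0x47c00400b2f .nil .nil) (.node 0x84a .nil .nil)) (.node 0x484 (.node 0x3380a95 .nil .nil) .nil))))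 (.node 0x4c09da0001 (.node 0x9480001 (.node 0x6f80001 (.node 0x61a0c67 (.node 0x4f60b2f .nil .nil) (.node 0x35600a40a95 .nil .nil)) (.node 0x8900c67 (.node 0x5d80b2f .nil .nil) .nil)) (.node 0x75a0001 (.node 0x66c00e40c67 (.node 0x3ca044c0b2f .nil .nil) (.node 0x32c0a5a0a95 .nil .nil)) (.node 0x5cc0b2f (.node 0xa95 .nil .nil) .nil))) (.node 0x5d604fa0001 (.node 0x1 (.node 0x7ae0c67 (.node 0x270027a0b2f .nil .nil) (.node 0x5ba005c0a95 .nil .nil)) (.node 0x5200c67 (.node 0x404011a0a95 .nil .nil) .nil)) (.node 0xc67 (.node 0x4d405140c67 (.node 0xb2f .nil .nil) (.node 0x51a0a95 .nil .nil)) (.node 0x4ac (.node 0x9860a95 .nil .nil) .nil))))) (.node 0x1 (.node 0x2a (.node 0x76 (.node 0x5d20001 (.node 0x4d209340c67 (.node 0x4d4 .nil .nil) (.node 0x69e02080a95 .nil .nil)) (.node 0x3760c67 (.node 0x634 .nil .nil) .nil)) (.node 0x25803e20001 (.node 0x6e804120c67 (.node 0x58a .nil .nil) (.node 0x24c05ca0a95 .nil .nil)) (.node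 0x3400b2f (.node 0xa95 .nil .nil) .nil))) (.node 0x1 (.node 0x34e05700001 (.node 0x6c401cc0c67 (.node 0x7a004f80b2f .nil .nil) (.node 0x41a048e0a95 .nil .nil)) (.node 0x292020a0c67 (.node 0x31207260a95 .nil .nil) .nil)) (.node 0x5cc0c67 (.node 0x9de0c67 (.node 0x3c807d00b2f .nil .nil) (.node 0x45c05fa0a95 .nil .nil)) (.node 0xb2f (.node 0xa95 .nil .nil) .nil)))) (.node 0x5c20001 (.node 0x1 (.node 0x154 (.node 0x2b200360c67 (.node 0x30004160b2f .nil .nil) (.node 0xa95 .nil .nil)) (.node 0x1e2088c0c67 (.node 0x55e03fc0b2f .nil .nil) .nil)) (.node 0x67405dc0001 (.node 0x77e0c67 (.node 0x2b607ae0b2f .nil .nil) (.node 0x828 .nil .nil)) (.node 0x6260a0e0b2f (.node 0x6f203840a95 .nil .nil) .nil))) (.node 0x240001 (.node 0x53a00020001 (.node 0x6bc08d80c67 (.node 0x2004980b2f .nil .nil) (.node 0x84c0a95 .nil .nil)) (.node 0x758046c0c67 (.node 0x9780a95 .nil .nil) .nil)) (.node 0x23e (.node 0x2c601140c67 (.node 0x3602fc0b2f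 .nil .nil) (.node 0x27c05860a95 .nil .nil)) (.node 0x71a064a0b2f (.node 0xa95 .nil .nil) .nil))))))

/-- A part. -/
noncomputable def cand0_1 : Arr ℕ :=
  (.node 0x5f60001 (.node 0x4b60001 (.node 0x1 (.node 0x6c (.node 0x782066a0001 (.node 0x9400c67 (.node 0x1cc04380b2f .nil .nil) (.node 0xa95 .nil .nil)) (.node 0x1da047c0c67 (.node 0x628 .nil .nil) .nil)) (.node 0x57209c40001 (.node 0x26601980c67 (.node 0x5a03d00b2f .nil .nil) (.node 0xa3c0a95 .nil .nil)) (.node 0x8da0b2f (.node 0x3f40a95 .nil .nil) .nil))) (.node 0x1 (.node 0x2de0a560001 (.node 0x13c0c67 (.node 0x64c0a800b2f .nil .nil) (.node 0x7a8 .nil .nil)) (.node 0x3ee (.node 0x7340a95 .nil .nil) .nil)) (.node 0x5c04a20c67 (.node 0x6f802ce0c67 (.node 0x14a0b2f .nil .nil) (.node 0x3d8070a0a95 .nil .nil)) (.node 0xb2f (.node 0xa95 .nil .nil) .nil)))) (.node 0x54 (.node 0x1 (.node 0x9ec0001 (.node 0x272 (.node 0x39402540b2f .nil .nil) (.node 0xa95 .nil .nil))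 (.node 0x27c0c67 (.node 0x654 .nil .nil) .nil)) (.node 0x7d6079a0001 (.node 0x4d808340c67 (.node 0x5aa .nil .nil) (.node 0x81a .nil .nil)) (.node 0x7460b2f (.node 0xa95 .nil .nil) .nil))) (.node 0x1 (.node 0x9360001 (.node 0x1c00c67 (.node 0x1100b2f .nil .nil) (.node 0x8020a95 .nil .nil)) (.node 0x426 (.node 0x4a808460a95 .nil .nil) .nil)) (.node 0x238 (.node 0x65208940c67 (.node 0x5f2 .nil .nil) (.node 0x54008920a95 .nil .nil)) (.node 0x4b20b2f (.node 0xa95 .nil .nil) .nil))))) (.node 0x1 (.node 0x38 (.node 0x2340a360001 (.node 0x124 (.node 0xc67 (.node 0x4de .nil .nil) (.node 0xa95 .nil .nil)) (.node 0x3e02f20c67 (.node 0x36e06700b2f .nil .nil) .nil)) (.node 0x2c07640001 (.node 0xc67 (.node 0x6d60b2f .nil .nil) (.node 0x58401840a95 .nil .nil)) (.node 0x6060b2f (.node 0x44a04360a95 .nil .nil) .nil))) (.node 0x16e044c0001 (.node 0x1 (.node 0x57203c60c67 (.node 0xc0b2f .nil .nil) (.node 0x3a2065a0a95 .nil .nil))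 (.node 0x40a (.node 0xa4a0a95 .nil .nil) .nil)) (.node 0x44a0c67 (.node 0xb208000c67 (.node 0xb2f .nil .nil) (.node 0xa95 .nil .nil)) (.node 0x17c08020b2f (.node 0xa95 .nil .nil) .nil)))) (.node 0x18007a20001 (.node 0x1 (.node 0x1aa01700001 (.node 0xc67 (.node 0x55e06f40b2f .nil .nil) (.node 0x7b004800a95 .nil .nil)) (.node 0xc67 (.node 0x7160b2f .nil .nil) .nil)) (.node 0x1 (.node 0x30e05640c67 (.node 0xb2f .nil .nil) (.node 0x53a070e0a95 .nil .nil)) (.node 0x1a000d00b2f (.node 0xa95 .nil .nil) .nil))) (.node 0x71e0a0e0001 (.node 0x1 (.node 0x9680c67 (.node 0x13403ec0b2f .nil .nil) (.node 0x25401260a95 .nil .nil)) (.node 0x1cc011e0c67 (.node 0x69e .nil .nil) .nil)) (.node 0xc67 (.node 0x1f60a740c67 (.node 0x76a0b2f .nil .nil) .nil) (.node 0x6e809000b2f (.node 0xa95 .nil .nil) .nil))))))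

/-- A part. -/
noncomputable def cand0_2 : Arr ℕ :=
  (.node 0x6e40a740001 cand0_0 cand0_1)

/-- A part. -/
noncomputable def cand0_3 : Arr ℕ :=
  (.node 0x2ba01260001 (.node 0x1 (.node 0x49605d40001 (.node 0x92e0001 (.node 0x19a08e80001 (.node 0x2160c67 (.node 0x30608a40b2f .nil .nil) (.node 0x72602e60a95 .nil .nil)) (.node 0x2840c67 (.node 0x624 .nil .nil) .nil)) (.node 0x1c2 (.node 0xc67 (.node 0x47200e20b2f .nil .nil) (.node 0xa95 .nil .nil)) (.node 0x5ec048a0b2f (.node 0x6a6002a0a95 .nil .nil) .nil))) (.node 0x12c08b40001 (.node 0x5c202c60001 (.node 0xc67 (.node 0x7a6065e0b2f .nil .nil) (.node 0x7a0 .nil .nil)) (.node 0x72a09280c67 (.node 0x1460a95 .nil .nil) .nil)) (.node 0xc67 (.node 0x2a8034a0c67 (.node 0x5c8 .nil .nil) (.node 0x7f804b60a95 .nil .nil)) (.node 0xb2f (.node 0xa95 .nil .nil) .nil)))) (.node 0x50e01ce0001 (.node 0x59c085e0001 (.node 0x4140001 (.node 0x26c (.node 0x1da0aa20b2f .nil .nil) (.node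 0x6c207560a95 .nil .nil)) (.node 0x4a807760c67 (.node 0xb2f .nil .nil) .nil)) (.node 0x1f8 (.node 0x6040c67 (.node 0xe09320b2f .nil .nil) (.node 0x6340a95 .nil .nil)) (.node 0xb2f (.node 0x9720a95 .nil .nil) .nil))) (.node 0xd0 (.node 0x1a0 (.node 0x64808ba0c67 (.node 0x25407960b2f .nil .nil) (.node 0x7da .nil .nil)) (.node 0x642026c0c67 (.node 0xa95 .nil .nil) .nil)) (.node 0x71c0aa20c67 (.node 0x4840c67 (.node 0x5020b2f .nil .nil) (.node 0x4f000460a95 .nil .nil)) (.node 0x7b20b2f (.node 0xa95 .nil .nil) .nil))))) (.node 0x1 (.node 0x42a01a20001 (.node 0x1f209440001 (.node 0x6c40001 (.node 0x75e00c40c67 (.node 0x4d8 .nil .nil) (.node 0x3fe02420a95 .nil .nil)) (.node 0xc67 (.node 0x7c603ea0b2f .nil .nil) .nil)) (.node 0x74c03000001 (.node 0x4bc05180c67 (.node 0x2000ba0b2f .nil .nil) (.node 0x294021e0a95 .nil .nil)) (.node 0x8f20b2f (.node 0x44a05700a95 .nil .nil) .nil))) (.node 0x63e01f80001 (.node 0x5a04860001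 (.node 0x2a2 (.node 0x5c004300b2f .nil .nil) (.node 0xa95 .nil .nil)) (.node 0x406 (.node 0x67a .nil .nil) .nil)) (.node 0x62604020c67 (.node 0x43409520c67 (.node 0xb2f .nil .nil) (.node 0x4c0a95 .nil .nil)) (.node 0x49c (.node 0xa95 .nil .nil) .nil)))) (.node 0x19406960001 (.node 0x16800220001 (.node 0x156064a0001 (.node 0xc67 (.node 0x27404ea0b2f .nil .nil) (.node 0x2c0a95 .nil .nil)) (.node 0x3d0 (.node 0x8b60b2f .nil .nil) .nil)) (.node 0x1 (.node 0x82a0c67 (.node 0x39806780b2f .nil .nil) (.node 0x834 .nil .nil)) (.node 0xa0c0b2f (.node 0x2c603fe0a95 .nil .nil) .nil))) (.node 0x1 (.node 0x1b4 (.node 0x37202f00c67 (.node 0x2000b2f .nil .nil) (.node 0xa95 .nil .nil)) (.node 0xc67 (.node 0x9980a95 .nil .nil) .nil)) (.node 0x246 (.node 0x2f6033a0c67 (.node 0x608 .nil .nil) (.node 0x25c08820a95 .nil .nil)) (.node 0x2120b2f (.node 0x8f60a95 .nil .nil) .nil))))))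

/-- A part. -/
noncomputable def cand0_4 : Arr ℕ :=
  (.node 0x1 (.node 0x1 (.node 0x1 (.node 0x58e05a80001 (.node 0x10c (.node 0x226059e0c67 (.node 0x32403e40b2f .nil .nil) (.node 0x756 .nil .nil)) (.node 0x77a01d40c67 (.node 0xb2f .nil .nil) .nil)) (.node 0x66e0001 (.node 0x55800f40c67 (.node 0x3f20b2f .nil .nil) (.node 0xa95 .nil .nil)) (.node 0x76208ca0b2f (.node 0x7fa0a95 .nil .nil) .nil))) (.node 0x1 (.node 0x1 (.node 0xc67 (.node 0x532 .nil .nil) (.node 0x7d207180a95 .nil .nil)) (.node 0x3f8 (.node 0x7fa00fc0a95 .nil .nil) .nil)) (.node 0x228 (.node 0xc67 (.node 0x71801be0b2f .nil .nil) (.node 0x7ce02da0a95 .nil .nil)) (.node 0x1fc00d40b2f (.node 0x6e0a95 .nil .nil) .nil)))) (.node 0x11402640001 (.node 0x70c05d80001 (.node 0x1 (.node 0xa400040c67 (.node 0xb2f .nil .nil) (.node 0x3e2094c0a95 .nil .nil)) (.node 0x32a041c0c67 (.node 0xee01d20b2f .nil .nil) .nil)) (.node 0x1 (.node 0xc67 (.node 0x4c408640b2f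 .nil .nil) (.node 0x2e601f80a95 .nil .nil)) (.node 0x4500b2f (.node 0x2c00a95 .nil .nil) .nil))) (.node 0x1ae02e00001 (.node 0x3e408500001 (.node 0xc67 (.node 0xa260b2f .nil .nil) (.node 0xa95 .nil .nil)) (.node 0x43004600c67 (.node 0x694 .nil .nil) .nil)) (.node 0xc67 (.node 0x33c08820c67 (.node 0x44605720b2f .nil .nil) (.node 0xa95 .nil .nil)) (.node 0x2020b2f (.node 0x1ea09600a95 .nil .nil) .nil))))) (.node 0x1 (.node 0x1 (.node 0x82 (.node 0x15c01340001 (.node 0x25e (.node 0xb2f .nil .nil) (.node 0x76e .nil .nil)) (.node 0x65603200c67 (.node 0x644 .nil .nil) .nil)) (.node 0x4ee09d00001 (.node 0x7ea0a9a0c67 (.node 0xe0b2f .nil .nil) (.node 0x29408060a95 .nil .nil)) (.node 0x3c808d40b2f (.node 0x4960a660a95 .nil .nil) .nil))) (.node 0x1 (.node 0xa640001 (.node 0x2aa (.node 0x63607080b2f .nil .nil) (.node 0x7ce .nil .nil)) (.node 0x416 (.node 0x682 .nil .nil) .nil)) (.node 0xc67 (.node 0x356 (.node 0x20205c40b2f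 .nil .nil) (.node 0xa95 .nil .nil)) (.node 0x4820b2f (.node 0x650085e0a95 .nil .nil) .nil)))) (.node 0x1a05200001 (.node 0x22801f40001 (.node 0x1 (.node 0x38c08520c67 (.node 0x540004e0b2f .nil .nil) (.node 0xa800a95 .nil .nil)) (.node 0x3da (.node 0xa95 .nil .nil) .nil)) (.node 0x1 (.node 0x72c09940c67 (.node 0xb2f .nil .nil) (.node 0xa95 .nil .nil)) (.node 0xb2f (.node 0xa95 .nil .nil) .nil))) (.node 0xee (.node 0x4607fe0001 (.node 0xc67 (.node 0x56c .nil .nil) (.node 0xa95 .nil .nil)) (.node 0x22607f20c67 (.node 0x18209000a95 .nil .nil) .nil)) (.node 0x1ba022e0c67 (.node 0xc67 (.node 0x644002e0b2f .nil .nil) .nil) (.node 0xb2f (.node 0xa95 .nil .nil) .nil))))))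

/-- A part. -/
noncomputable def cand0_5 : Arr ℕ :=
  (.node 0x60e0001 cand0_3 cand0_4)

/-- A part. -/
noncomputable def cand0_6 : Arr ℕ :=
  (.node 0x6a00b00001 cand0_2 cand0_5)

/-- A part. -/
noncomputable def cand0_7 : Arr ℕ :=
  (.node 0x1 (.node 0x38e03720001 (.node 0x1 (.node 0x4a09520001 (.node 0x1 (.node 0x252 (.node 0x7b202760b2f .nil .nil) (.node 0xa95 .nil .nil)) (.node 0x53e05820c67 (.node 0xb2f .nil .nil) .nil)) (.node 0x1c207060001 (.node 0xc67 (.node 0x3f8007e0b2f .nil .nil) (.node 0x620058e0a95 .nil .nil)) (.node 0x91a0b2f (.node 0xa95 .nil .nil) .nil))) (.node 0xaa (.node 0x1 (.node 0x1fe04360c67 (.node 0x72c06500b2f .nil .nil) (.node 0x100a95 .nil .nil)) (.node 0x6ec02e00c67 (.node 0xa95 .nil .nil) .nil)) (.node 0x58804180c67 (.node 0x334 (.node 0x598082a0b2f .nil .nil) (.node 0x30202880a95 .nil .nil)) (.node 0x6e00b2f (.node 0x6ee .nil .nil) .nil)))) (.node 0x694036e0001 (.node 0x11e04fe0001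 (.node 0x67c03380001 (.node 0x56032c0c67 (.node 0x32e0b2f .nil .nil) (.node 0x3b60a95 .nil .nil)) (.node 0x57a058e0c67 (.node 0x35c00a20b2f .nil .nil) .nil)) (.node 0x1 (.node 0x35c0c67 (.node 0x17806e80b2f .nil .nil) (.node 0x95a0a95 .nil .nil)) (.node 0x8a60b2f (.node 0x1e401400a95 .nil .nil) .nil))) (.node 0x51806720001 (.node 0x1 (.node 0x57e0a5a0c67 (.node 0x7f20b2f .nil .nil) (.node 0x7d8 .nil .nil)) (.node 0x6e202b80c67 (.node 0x684 .nil .nil) .nil)) (.node 0x9c04700c67 (.node 0x5ec01180c67 (.node 0xb2f .nil .nil) (.node 0x43e0a95 .nil .nil)) (.node 0xb2f (.node 0x50c0a95 .nil .nil) .nil))))) (.node 0x27405ce0001 (.node 0x30 (.node 0x3de00160001 (.node 0xa920001 (.node 0x12200340c67 (.node 0x55a078c0b2f .nil .nil) (.node 0xa95 .nil .nil)) (.node 0xc67 (.node 0xb2f .nil .nil) .nil)) (.node 0x1 (.node 0x2ee (.node 0x50c0b2f .nil .nil) (.node 0x804 .nil .nil)) (.node 0x454 (.node 0xa95 .nil .nil) .nil))) (.node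 0x3800a980001 (.node 0x1 (.node 0xc67 (.node 0xb2f .nil .nil) (.node 0x7b8 .nil .nil)) (.node 0x6520c67 (.node 0x6c60a95 .nil .nil) .nil)) (.node 0x65c0c67 (.node 0x402021e0c67 (.node 0xb2f .nil .nil) (.node 0x59e00700a95 .nil .nil)) (.node 0xb2f (.node 0x47805040a95 .nil .nil) .nil)))) (.node 0x1 (.node 0x65006c80001 (.node 0x4fc0001 (.node 0x4580c67 (.node 0xd801ae0b2f .nil .nil) (.node 0xa95 .nil .nil)) (.node 0xc67 (.node 0x3c0b2f .nil .nil) .nil)) (.node 0x28e0001 (.node 0x316 (.node 0xb2f .nil .nil) (.node 0x82e .nil .nil)) (.node 0x46e (.node 0xa95 .nil .nil) .nil))) (.node 0x1 (.node 0x1 (.node 0x4e002060c67 (.node 0x3d608b20b2f .nil .nil) (.node 0x7e8 .nil .nil)) (.node 0x43a (.node 0x69c08800a95 .nil .nil) .nil)) (.node 0x244 (.node 0x1940c67 (.node 0xb2f .nil .nil) (.node 0x7ae02ac0a95 .nil .nil)) (.node 0x3dc08de0b2f (.node 0x48c01440a95 .nil .nil) .nil))))))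

/-- A part. -/
noncomputable def cand0_8 : Arr ℕ :=
  (.node 0x1 (.node 0x14 (.node 0x4920001 (.node 0x7aa010e0001 (.node 0x6280a520001 (.node 0x36805b00c67 (.node 0x65c07aa0b2f .nil .nil) (.node 0x750 .nil .nil)) (.node 0x1fe01480c67 (.node 0x680b2f .nil .nil) .nil)) (.node 0x1 (.node 0xc67 (.node 0x5da0b2f .nil .nil) (.node 0x3d006de0a95 .nil .nil)) (.node 0x704055a0b2f (.node 0x20e084a0a95 .nil .nil) .nil))) (.node 0x76809060001 (.node 0xa940001 (.node 0x294 (.node 0x5e604d20b2f .nil .nil) (.node 0x7ac .nil .nil)) (.node 0x3180c67 (.node 0xa95 .nil .nil) .nil)) (.node 0x45404a00c67 (.node 0x340 (.node 0x5d0 .nil .nil) (.node 0x42005320a95 .nil .nil)) (.node 0x48a (.node 0x1e807e00a95 .nil .nil) .nil)))) (.node 0x1 (.node 0x1 (.node 0x1 (.node 0x83c0c67 (.node 0x36005420b2f .nil .nil) (.node 0x4580a95 .nil .nil)) (.node 0x78a0c67 (.node 0xa0a0b2f .nil .nil) .nil)) (.node 0x5ae00ea0001 (.node 0x1a60c67 (.node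 0xa580b2f .nil .nil) (.node 0x59800220a95 .nil .nil)) (.node 0x7d804740b2f (.node 0x11e07620a95 .nil .nil) .nil))) (.node 0x1 (.node 0x2d60001 (.node 0x2ba (.node 0xa4a0b2f .nil .nil) (.node 0x27e0a95 .nil .nil)) (.node 0xcc0c67 (.node 0x2dc0a95 .nil .nil) .nil)) (.node 0x7a803740c67 (.node 0x36e (.node 0xb2f .nil .nil) (.node 0x3420a95 .nil .nil)) (.node 0x21400280b2f (.node 0x518017c0a95 .nil .nil) .nil))))) (.node 0x2d407ae0001 (.node 0x67405f00001 (.node 0x1 (.node 0x3c60001 (.node 0xc67 (.node 0x4e2 .nil .nil) (.node 0x768 .nil .nil)) (.node 0x2ac0c67 (.node 0x5a204d00b2f .nil .nil) .nil)) (.node 0x1ce008e0001 (.node 0x21409960c67 (.node 0x2c208a80b2f .nil .nil) (.node 0xa95 .nil .nil)) (.node 0xb2f (.node 0xa95 .nil .nil) .nil))) (.node 0x1880001 (.node 0x196 (.node 0x3d0045a0c67 (.node 0x53e .nil .nil) (.node 0xa95 .nil .nil)) (.node 0x410 (.node 0x9800a95 .nil .nil) .nil)) (.node 0x5d00c67 (.node 0x99e0c67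 (.node 0x43600700b2f .nil .nil) (.node 0x40807700a95 .nil .nil)) (.node 0x4a0 (.node 0x4060a95 .nil .nil) .nil)))) (.node 0x1e606b20001 (.node 0xa2 (.node 0x166 (.node 0xc67 (.node 0x2801d60b2f .nil .nil) (.node 0x5be0a95 .nil .nil)) (.node 0x43002dc0c67 (.node 0xb2f .nil .nil) .nil)) (.node 0x7dc0001 (.node 0x32001720c67 (.node 0x6720b2f .nil .nil) (.node 0xa95 .nil .nil)) (.node 0xb2f (.node 0x6e2 .nil .nil) .nil))) (.node 0x2b80a680001 (.node 0x74e0001 (.node 0xa000c67 (.node 0x7e806880b2f .nil .nil) (.node 0x5940a95 .nil .nil)) (.node 0x442 (.node 0x9c20a95 .nil .nil) .nil)) (.node 0x14409100c67 (.node 0x33204bc0c67 (.node 0xb2f .nil .nil) .nil) (.node 0x4c04360b2f (.node 0xa95 .nil .nil) .nil))))))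

/-- A part. -/
noncomputable def cand0_9 : Arr ℕ :=
  (.node 0x76006920001 cand0_7 cand0_8)

/-- A part. -/
noncomputable def cand0_10 : Arr ℕ :=
  (.node 0x4d80001 (.node 0x1 (.node 0x22 (.node 0x9740001 (.node 0x7d004380001 (.node 0xc67 (.node 0x7a087c0b2f .nil .nil) (.node 0x1ac02ba0a95 .nil .nil)) (.node 0x390 (.node 0x150098a0b2f .nil .nil) .nil)) (.node 0x7409dc0001 (.node 0xa400c67 (.node 0x57e .nil .nil) (.node 0x4d606460a95 .nil .nil)) (.node 0xb2f (.node 0xa95 .nil .nil) .nil))) (.node 0x17a0a500001 (.node 0x1980001 (.node 0x13202420c67 (.node 0x38c05b80b2f .nil .nil) (.node 0xa95 .nil .nil)) (.node 0x66e091e0c67 (.node 0x3a20a95 .nil .nil) .nil)) (.node 0xc67 (.node 0x33c (.node 0xb2f .nil .nil) (.node 0x21e07580a95 .nil .nil)) (.node 0x46608e80b2f (.node 0x5a00a95 .nil .nil) .nil)))) (.node 0x66a06900001 (.node 0x4360001 (.node 0x7e00001 (.node 0x26e (.node 0x65a02740b2f .nil .nil) (.node 0xa95 .nil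 .nil)) (.node 0x3b2 (.node 0x36a0b2f .nil .nil) .nil)) (.node 0xd605a20001 (.node 0x308 (.node 0xa206840b2f .nil .nil) (.node 0x3b00a95 .nil .nil)) (.node 0x62607ac0b2f (.node 0xa95 .nil .nil) .nil))) (.node 0xd6 (.node 0x1 (.node 0xc67 (.node 0xb2f .nil .nil) (.node 0x5c40a95 .nil .nil)) (.node 0xc67 (.node 0x688 .nil .nil) .nil)) (.node 0x94e0c67 (.node 0x366 (.node 0x36e0b2f .nil .nil) (.node 0x17e062c0a95 .nil .nil)) (.node 0x18000720b2f (.node 0x9d20a95 .nil .nil) .nil))))) (.node 0x18 (.node 0x4620001 (.node 0x1 (.node 0x1be07460001 (.node 0xc67 (.node 0xee0b2f .nil .nil) (.node 0xa95 .nil .nil)) (.node 0x67c06c80c67 (.node 0x14609460b2f .nil .nil) .nil)) (.node 0x1 (.node 0xa8c0c67 (.node 0x594 .nil .nil) (.node 0xa95 .nil .nil)) (.node 0xb2f (.node 0xa95 .nil .nil) .nil))) (.node 0x5be05740001 (.node 0x18e (.node 0x3f60c67 (.node 0x1e809fc0b2f .nil .nil) (.node 0xa95 .nil .nil)) (.node 0x6220c67 (.node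 0xa95 .nil .nil) .nil)) (.node 0xc67 (.node 0x34c (.node 0xb2f .nil .nil) (.node 0x46022c0a95 .nil .nil)) (.node 0x18804620b2f (.node 0x4e408ee0a95 .nil .nil) .nil)))) (.node 0x8e05fe0001 (.node 0x9a (.node 0x15e (.node 0x70601fa0c67 (.node 0x1f009940b2f .nil .nil) (.node 0x36e01340a95 .nil .nil)) (.node 0xc67 (.node 0x6ca02a00b2f .nil .nil) .nil)) (.node 0x68e09f80001 (.node 0xc67 (.node 0x840b2f .nil .nil) (.node 0x282092a0a95 .nil .nil)) (.node 0x3c40a320b2f (.node 0x79800ba0a95 .nil .nil) .nil))) (.node 0x9020001 (.node 0x3b004760001 (.node 0xc67 (.node 0x9e40b2f .nil .nil) (.node 0x69407200a95 .nil .nil)) (.node 0x6f806080c67 (.node 0x68606ac0a95 .nil .nil) .nil)) (.node 0x40a0c67 (.node 0x16000180c67 (.node 0xb2f .nil .nil) (.node 0x1680a95 .nil .nil)) (.node 0x65602460b2f (.node 0x6d20a160a95 .nil .nil) .nil))))))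

/-- A part. -/
noncomputable def cand0_11 : Arr ℕ :=
  (.node 0x26e0001 (.node 0x1 (.node 0xbc05520001 (.node 0x8fc0001 (.node 0x2a808600001 (.node 0xc67 (.node 0xb2f .nil .nil) (.node 0xa95 .nil .nil)) (.node 0x1b60c67 (.node 0x5b400920b2f .nil .nil) .nil)) (.node 0x3e8076a0001 (.node 0x58016c0c67 (.node 0x74c02ce0b2f .nil .nil) (.node 0x432067a0a95 .nil .nil)) (.node 0x1cc070c0b2f (.node 0x3180a95 .nil .nil) .nil))) (.node 0x48c0001 (.node 0x1 (.node 0xc67 (.node 0x2de06480b2f .nil .nil) (.node 0x7b4 .nil .nil)) (.node 0x66603a00c67 (.node 0xa600a95 .nil .nil) .nil)) (.node 0x18404c40c67 (.node 0x7de08140c67 (.node 0xb2f .nil .nil) (.node 0x27c06900a95 .nil .nil)) (.node 0x9980b2f (.node 0x13e05600a95 .nil .nil) .nil)))) (.node 0x1 (.node 0x23000ca0001 (.node 0x1 (.node 0xf008d40c67 (.node 0x74000520b2f .nil .nil) (.node 0xa95 .nil .nil)) (.node 0xc67 (.node 0xb2f .nil .nil) .nil)) (.node 0x208 (.node 0x7000c67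 (.node 0x52007ee0b2f .nil .nil) (.node 0xa95 .nil .nil)) (.node 0x7060b2f (.node 0x2d20a300a95 .nil .nil) .nil))) (.node 0x1860001 (.node 0x1 (.node 0xc67 (.node 0xa720b2f .nil .nil) (.node 0x7f0048a0a95 .nil .nil)) (.node 0x434 (.node 0x5720a95 .nil .nil) .nil)) (.node 0x3a0c67 (.node 0x22a01c80c67 (.node 0x2ea047e0b2f .nil .nil) (.node 0x4920a95 .nil .nil)) (.node 0x9208580b2f (.node 0xf004240a95 .nil .nil) .nil))))) (.node 0x1 (.node 0x28603f00001 (.node 0x1 (.node 0x1 (.node 0x6b4044c0c67 (.node 0x48e02ca0b2f .nil .nil) (.node 0xa4025c0a95 .nil .nil)) (.node 0x39c0c67 (.node 0xa3a0b2f .nil .nil) .nil)) (.node 0x58c04260001 (.node 0x7b008380c67 (.node 0x23a04cc0b2f .nil .nil) (.node 0x3920a95 .nil .nil)) (.node 0x8207860b2f (.node 0x6d0 .nil .nil) .nil))) (.node 0x4300001 (.node 0x19c (.node 0x300c67 (.node 0x5120b2f .nil .nil) (.node 0x7d2 .nil .nil)) (.node 0x62c01220c67 (.node 0x75e08480a95 .nil .nil) .nil))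 (.node 0x4000c67 (.node 0xc67 (.node 0x7ea06160b2f .nil .nil) (.node 0xa95 .nil .nil)) (.node 0xfc04660b2f (.node 0x6806160a95 .nil .nil) .nil)))) (.node 0x62 (.node 0x40e09cc0001 (.node 0xaa00001 (.node 0x3a206ba0c67 (.node 0x6a606460b2f .nil .nil) (.node 0x4ea00ee0a95 .nil .nil)) (.node 0x3de (.node 0x668 .nil .nil) .nil)) (.node 0x1 (.node 0x620a080c67 (.node 0x3be05fe0b2f .nil .nil) (.node 0xa95 .nil .nil)) (.node 0x2205320b2f (.node 0x6e4 .nil .nil) .nil))) (.node 0x1 (.node 0x52c06de0001 (.node 0xc67 (.node 0x7c607e00b2f .nil .nil) (.node 0x34a0a95 .nil .nil)) (.node 0xb2f (.node 0x74201580a95 .nil .nil) .nil)) (.node 0x250 (.node 0xc67 (.node 0x724086a0b2f .nil .nil) .nil) (.node 0x3602ae0b2f (.node 0x58406ea0a95 .nil .nil) .nil))))))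

/-- A part. -/
noncomputable def cand0_12 : Arr ℕ :=
  (.node 0x37e0001 cand0_10 cand0_11)

/-- A part. -/
noncomputable def cand0_13 : Arr ℕ :=
  (.node 0x39a04d20001 cand0_9 cand0_12)

/-- A part. -/
noncomputable def cand0_14 : Arr ℕ :=
  (.node 0x38c087c0001 cand0_6 cand0_13)

/-- The array. -/
noncomputable def cand0 : Arr ℕ := cand0_14

/-- A part. -/
noncomputable def cand1_0 : Arr ℕ :=
  (.node 0x2 (.node 0x9e0001 (.node 0x5fc04ea0001 (.node 0x44081a0001 (.node 0x1 (.node 0x5f60c67 (.node 0x9f80b2f .nil .nil) (.node 0x2040a95 .nil .nil)) (.node 0xc67 (.node 0x5f608060b2f .nil .nil) .nil)) (.node 0x2be09fa0001 (.node 0x2d4 (.node 0x2d803860b2f .nil .nil) (.node 0xde06760a95 .nil .nil)) (.node 0xc02360b2f (.node 0x5e201b20a95 .nil .nil) .nil))) (.node 0x48e0001 (.node 0x6200001 (.node 0x16407b20c67 (.node 0xb2f .nil .nil) (.node 0x3fc01e00a95 .nil .nil)) (.node 0x9a00c67 (.node 0x380a95 .nil .nil) .nil))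 (.node 0x3340a940c67 (.node 0xc67 (.node 0x5c6 .nil .nil) (.node 0xa95 .nil .nil)) (.node 0x25c04800b2f (.node 0x1b601ae0a95 .nil .nil) .nil)))) (.node 0x26e07b60001 (.node 0x74807840001 (.node 0x138 (.node 0x266 (.node 0xb2f .nil .nil) (.node 0xa95 .nil .nil)) (.node 0x3aa (.node 0x4da07d40b2f .nil .nil) .nil)) (.node 0x1 (.node 0x41a05700c67 (.node 0x700085e0b2f .nil .nil) (.node 0x13009ca0a95 .nil .nil)) (.node 0x40a0b2f (.node 0x37e09480a95 .nil .nil) .nil))) (.node 0x1 (.node 0x650030e0001 (.node 0x47a09ca0c67 (.node 0x2a606fa0b2f .nil .nil) (.node 0xa95 .nil .nil)) (.node 0xc67 (.node 0x1140a95 .nil .nil) .nil)) (.node 0x232 (.node 0x35e (.node 0xb2f .nil .nil) (.node 0xa95 .nil .nil)) (.node 0x4805c60b2f (.node 0x96e0a95 .nil .nil) .nil))))) (.node 0x14e0001 (.node 0x2c (.node 0x3809780001 (.node 0x2cc01220001 (.node 0x3b205300c67 (.node 0x1d206520b2f .nil .nil) (.node 0x1ac0a540a95 .nil .nil)) (.node 0x72e037e0c67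 (.node 0x18c0b2f .nil .nil) .nil)) (.node 0x1 (.node 0xc67 (.node 0x6f804540b2f .nil .nil) (.node 0x6ca09240a95 .nil .nil)) (.node 0x452 (.node 0x6b4 .nil .nil) .nil))) (.node 0x7d209f60001 (.node 0x1 (.node 0x9600420c67 (.node 0xb2f .nil .nil) (.node 0x5340a95 .nil .nil)) (.node 0x4e00c67 (.node 0x676 .nil .nil) .nil)) (.node 0x4cc0c67 (.node 0x7180c67 (.node 0x5d4 .nil .nil) (.node 0x7e20a95 .nil .nil)) (.node 0x4f00b2f (.node 0x45c09f20a95 .nil .nil) .nil)))) (.node 0x70e09340001 (.node 0x70009220001 (.node 0x1 (.node 0x3da001e0c67 (.node 0x4ac09f60b2f .nil .nil) (.node 0x786 .nil .nil)) (.node 0xc67 (.node 0xb2f .nil .nil) .nil)) (.node 0x27e019e0001 (.node 0x312 (.node 0xe80b2f .nil .nil) (.node 0xa95 .nil .nil)) (.node 0xb2f (.node 0x7c06e80a95 .nil .nil) .nil))) (.node 0x7fc0001 (.node 0x3cc0001 (.node 0x2c6 (.node 0x3be032a0b2f .nil .nil) (.node 0x7e4 .nil .nil)) (.node 0x34001340c67 (.node 0x72e0a95 .nil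 .nil) .nil)) (.node 0x60c67 (.node 0x79c00aa0c67 (.node 0xa640b2f .nil .nil) (.node 0x8404de0a95 .nil .nil)) (.node 0xb2f (.node 0xa95 .nil .nil) .nil))))))

/-- A part. -/
noncomputable def cand1_1 : Arr ℕ :=
  (.node 0x1 (.node 0x1ac06100001 (.node 0x11e099e0001 (.node 0x56207a00001 (.node 0xf20001 (.node 0xc67 (.node 0xb2f .nil .nil) (.node 0x4e004a20a95 .nil .nil)) (.node 0x6660c67 (.node 0x5b601880b2f .nil .nil) .nil)) (.node 0x6f003a20001 (.node 0xc67 (.node 0x22e0a3c0b2f .nil .nil) (.node 0xa95 .nil .nil)) (.node 0xb2f (.node 0x2b002c60a95 .nil .nil) .nil))) (.node 0x14201a60001 (.node 0x9940001 (.node 0x106009a0c67 (.node 0xb2f .nil .nil) (.node 0x42a02520a95 .nil .nil)) (.node 0x58001b00c67 (.node 0x74c093a0a95 .nil .nil) .nil)) (.node 0x42e0a980c67 (.node 0x22202d60c67 (.node 0xb2f .nil .nil) (.node 0x4a40a95 .nil .nil)) (.node 0xb2f (.node 0x6c40a95 .nil .nil) .nil)))) (.node 0xf800700001 (.node 0x4ee02460001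 (.node 0x1 (.node 0x73806240c67 (.node 0x4f2 .nil .nil) (.node 0x2fc017e0a95 .nil .nil)) (.node 0x5540c67 (.node 0xa2e0b2f .nil .nil) .nil)) (.node 0x2320001 (.node 0xc67 (.node 0xb2f .nil .nil) (.node 0x43200340a95 .nil .nil)) (.node 0x592077e0b2f (.node 0x21a05020a95 .nil .nil) .nil))) (.node 0x1 (.node 0x9580001 (.node 0x2b6 (.node 0x26606c80b2f .nil .nil) (.node 0x55c0a280a95 .nil .nil)) (.node 0x428 (.node 0x68a .nil .nil) .nil)) (.node 0x3d80c67 (.node 0x424025a0c67 (.node 0xb2f .nil .nil) (.node 0xa95 .nil .nil)) (.node 0x1ce01de0b2f (.node 0x71e .nil .nil) .nil))))) (.node 0x1 (.node 0x19c05120001 (.node 0x494016a0001 (.node 0x15a02b00001 (.node 0xc67 (.node 0xb2f .nil .nil) (.node 0xa95 .nil .nil)) (.node 0x1e05520c67 (.node 0x3b000760b2f .nil .nil) .nil)) (.node 0x23806480001 (.node 0x10807c60c67 (.node 0x7d409480b2f .nil .nil) (.node 0x91c0a95 .nil .nil)) (.node 0xb2f (.node 0x5ba01aa0a95 .nil .nil)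 .nil))) (.node 0x2cc0001 (.node 0x3ac04e20001 (.node 0x7000580c67 (.node 0x3a6080e0b2f .nil .nil) (.node 0xa95 .nil .nil)) (.node 0x47407460c67 (.node 0x27801ce0a95 .nil .nil) .nil)) (.node 0x9d40c67 (.node 0x116092a0c67 (.node 0x69c0b2f .nil .nil) (.node 0xa95 .nil .nil)) (.node 0xb2f (.node 0x5a60a95 .nil .nil) .nil)))) (.node 0x72408560001 (.node 0x2e40001 (.node 0x61807c00001 (.node 0x18602800c67 (.node 0xb2f .nil .nil) (.node 0x2ce00420a95 .nil .nil)) (.node 0x43805440c67 (.node 0x6fa0a2a0b2f .nil .nil) .nil)) (.node 0x1 (.node 0x4006a80c67 (.node 0xb2f .nil .nil) (.node 0x47408780a95 .nil .nil)) (.node 0x6ce06b40b2f (.node 0x5b408c20a95 .nil .nil) .nil))) (.node 0x314042c0001 (.node 0x1 (.node 0x3b00c67 (.node 0x234096a0b2f .nil .nil) (.node 0x4e40a8e0a95 .nil .nil)) (.node 0x67608ae0c67 (.node 0x6a0 .nil .nil) .nil)) (.node 0xa1c0c67 (.node 0x37e (.node 0xb2f .nil .nil) .nil) (.node 0x9880b2f (.node 0x9b80a95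 .nil .nil) .nil))))))

/-- A part. -/
noncomputable def cand1_2 : Arr ℕ :=
  (.node 0x7c804100001 cand1_0 cand1_1)

/-- A part. -/
noncomputable def cand1_3 : Arr ℕ :=
  (.node 0xa860001 (.node 0x61600c40001 (.node 0x45004500001 (.node 0x9c05ae0001 (.node 0x30201d00001 (.node 0xc67 (.node 0xb2f .nil .nil) (.node 0xa95 .nil .nil)) (.node 0xc67 (.node 0x27c007a0b2f .nil .nil) .nil)) (.node 0x1 (.node 0x2dc (.node 0x5ec03460b2f .nil .nil) (.node 0x5a0a95 .nil .nil)) (.node 0x6e00a860b2f (.node 0x3160a4c0a95 .nil .nil) .nil))) (.node 0x26604b40001 (.node 0x176 (.node 0x266093e0c67 (.node 0xb2f .nil .nil) (.node 0x6500a95 .nil .nil)) (.node 0x3e6 (.node 0x66c .nil .nil) .nil)) (.node 0x26a016e0c67 (.node 0xc67 (.node 0xb2f .nil .nil) (.node 0x68a042c0a95 .nil .nil)) (.node 0x1008b80b2f (.node 0x6720a95 .nil .nil) .nil)))) (.node 0x6b807400001 (.node 0x65e096e0001 (.node 0x2bc0001 (.node 0xc67 (.node 0x4002a20b2f .nil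 .nil) (.node 0x45405ae0a95 .nil .nil)) (.node 0x4f20c67 (.node 0xb2f .nil .nil) .nil)) (.node 0x1 (.node 0xc67 (.node 0xb2f .nil .nil) (.node 0xe05c20a95 .nil .nil)) (.node 0x89e0b2f (.node 0x5d209020a95 .nil .nil) .nil))) (.node 0x63007f40001 (.node 0x1a2 (.node 0xa20c67 (.node 0x1da0a6e0b2f .nil .nil) (.node 0x77a00180a95 .nil .nil)) (.node 0x41e (.node 0x1ac0a95 .nil .nil) .nil)) (.node 0xc67 (.node 0x34c0c67 (.node 0x5240b2f .nil .nil) (.node 0xb60a020a95 .nil .nil)) (.node 0x8280b2f (.node 0x1ea02820a95 .nil .nil) .nil))))) (.node 0x63e03880001 (.node 0x6e0094a0001 (.node 0x27a09640001 (.node 0x20c02520001 (.node 0xc67 (.node 0xb2f .nil .nil) (.node 0x51a04440a95 .nil .nil)) (.node 0x6e801780c67 (.node 0xb2f .nil .nil) .nil)) (.node 0x45404a20001 (.node 0x33409b80c67 (.node 0x70e09d20b2f .nil .nil) (.node 0x18606dc0a95 .nil .nil)) (.node 0x5aa01b80b2f (.node 0x6b8 .nil .nil) .nil))) (.node 0x390034a0001 (.node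 0x7fc00aa0001 (.node 0x6380c67 (.node 0x3001080b2f .nil .nil) (.node 0x7be .nil .nil)) (.node 0xcc03b80c67 (.node 0x5200a95 .nil .nil) .nil)) (.node 0xc67 (.node 0x34a (.node 0x6640a240b2f .nil .nil) (.node 0x68807900a95 .nil .nil)) (.node 0x13208bc0b2f (.node 0x6b403520a95 .nil .nil) .nil)))) (.node 0x1 (.node 0x1 (.node 0x77404720001 (.node 0x456081c0c67 (.node 0x70c09380b2f .nil .nil) (.node 0x16a09880a95 .nil .nil)) (.node 0x14401f40c67 (.node 0x1e03820b2f .nil .nil) .nil)) (.node 0x69809ac0001 (.node 0x3e0c67 (.node 0x73e04a20b2f .nil .nil) (.node 0x836 .nil .nil)) (.node 0x4440b2f (.node 0x29804760a95 .nil .nil) .nil))) (.node 0x8e0a140001 (.node 0xc2008a0001 (.node 0x17c04380c67 (.node 0x7a80b2f .nil .nil) (.node 0xa95 .nil .nil)) (.node 0xc67 (.node 0x8da0a95 .nil .nil) .nil)) (.node 0x1f006da0c67 (.node 0x5b809f00c67 (.node 0x60a .nil .nil) (.node 0xae0a95 .nil .nil)) (.node 0x4b006280b2f (.node 0x732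 .nil .nil) .nil))))))

/-- A part. -/
noncomputable def cand1_4 : Arr ℕ :=
  (.node 0x774051e0001 (.node 0x11e0001 (.node 0x72a07360001 (.node 0x74 (.node 0x12a02a60001 (.node 0x6f004c00c67 (.node 0x1e803500b2f .nil .nil) (.node 0x4540a95 .nil .nil)) (.node 0xce0c67 (.node 0xb2f .nil .nil) .nil)) (.node 0x14c03f20001 (.node 0x36c09320c67 (.node 0xb2f .nil .nil) (.node 0x4780a95 .nil .nil)) (.node 0x61408500b2f (.node 0xa95 .nil .nil) .nil))) (.node 0x69601160001 (.node 0x3900a9a0001 (.node 0xfc063c0c67 (.node 0x39e077c0b2f .nil .nil) (.node 0x8f00a95 .nil .nil)) (.node 0xc67 (.node 0x63a020e0a95 .nil .nil) .nil)) (.node 0xc67 (.node 0xc67 (.node 0x40a04ae0b2f .nil .nil) (.node 0x43c09380a95 .nil .nil)) (.node 0xb2f (.node 0x6080a95 .nil .nil) .nil)))) (.node 0x56 (.node 0x3005c60001 (.node 0x58403d60001 (.node 0xc67 (.node 0xb2f .nil .nil) (.node 0x5804b00a95 .nil .nil)) (.node 0x3ba (.node 0x1640b2f .nil .nil)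 .nil)) (.node 0x1 (.node 0x50e09360c67 (.node 0x10e029c0b2f .nil .nil) (.node 0x4dc0a95 .nil .nil)) (.node 0x64e03a20b2f (.node 0x60009500a95 .nil .nil) .nil))) (.node 0x1c407ec0001 (.node 0x25006800001 (.node 0x2bc (.node 0xb2f .nil .nil) (.node 0xa95 .nil .nil)) (.node 0x42c (.node 0x1da0a95 .nil .nil) .nil)) (.node 0xc67 (.node 0x372 (.node 0xb2f .nil .nil) (.node 0x6ce0a95 .nil .nil)) (.node 0xb2f (.node 0x7e068c0a95 .nil .nil) .nil))))) (.node 0x3ca0001 (.node 0x3e (.node 0x60e08260001 (.node 0x134 (.node 0x24c08640c67 (.node 0x45e06000b2f .nil .nil) (.node 0x770 .nil .nil)) (.node 0xc67 (.node 0xb2f .nil .nil) .nil)) (.node 0x1e6 (.node 0xc67 (.node 0x6ca08740b2f .nil .nil) (.node 0xa95 .nil .nil)) (.node 0x4bc03300b2f (.node 0x64c09f80a95 .nil .nil) .nil))) (.node 0x356036a0001 (.node 0x95a0001 (.node 0x43201620c67 (.node 0x544 .nil .nil) (.node 0x48800720a95 .nil .nil)) (.node 0x39a01d20c67 (.node 0xa95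 .nil .nil) .nil)) (.node 0x38e06840c67 (.node 0x358 (.node 0x6ec08cc0b2f .nil .nil) (.node 0x870 .nil .nil)) (.node 0x57406a40b2f (.node 0xa95 .nil .nil) .nil)))) (.node 0x1 (.node 0x94e0001 (.node 0x16a (.node 0xc070a0c67 (.node 0x512 .nil .nil) (.node 0xa95 .nil .nil)) (.node 0x3dc (.node 0xa8089c0a95 .nil .nil) .nil)) (.node 0x19e036c0001 (.node 0x11e01900c67 (.node 0x2c80b2f .nil .nil) (.node 0x840 .nil .nil)) (.node 0xb2f (.node 0x5c806920a95 .nil .nil) .nil))) (.node 0x59a0001 (.node 0xd60001 (.node 0xc67 (.node 0xb2f .nil .nil) (.node 0xa95 .nil .nil)) (.node 0x4d60c67 (.node 0x4540a040a95 .nil .nil) .nil)) (.node 0x24a (.node 0x384 (.node 0xb2f .nil .nil) .nil) (.node 0x7b008260b2f (.node 0xa0e0a95 .nil .nil) .nil))))))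

/-- A part. -/
noncomputable def cand1_5 : Arr ℕ :=
  (.node 0x7a401b60001 cand1_3 cand1_4)

/-- A part. -/
noncomputable def cand1_6 : Arr ℕ :=
  (.node 0x1 cand1_2 cand1_5)

/-- A part. -/
noncomputable def cand1_7 : Arr ℕ :=
  (.node 0x4 (.node 0xa5c0001 (.node 0x5b4001e0001 (.node 0x1ee043a0001 (.node 0x1 (.node 0x254 (.node 0x4c2001c0b2f .nil .nil) (.node 0x53a056e0a95 .nil .nil)) (.node 0x7380c67 (.node 0xb2f .nil .nil) .nil)) (.node 0x61c08220001 (.node 0x2d6 (.node 0xb2f .nil .nil) (.node 0xa95 .nil .nil)) (.node 0x1004b80b2f (.node 0xa95 .nil .nil) .nil))) (.node 0x2580001 (.node 0x53e004a0001 (.node 0x34002d20c67 (.node 0x1e030a0b2f .nil .nil) (.node 0xa95 .nil .nil)) (.node 0x782065e0c67 (.node 0x5e80a95 .nil .nil) .nil)) (.node 0xc67 (.node 0x49a00f20c67 (.node 0x48c0b2f .nil .nil) (.node 0x74602aa0a95 .nil .nil)) (.node 0xa520b2f (.node 0x6c807f80a95 .nil .nil) .nil)))) (.node 0x278010c0001 (.node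 0x56203740001 (.node 0x5de00580001 (.node 0x7f209c00c67 (.node 0xb2f .nil .nil) (.node 0x16a00fa0a95 .nil .nil)) (.node 0x38401700c67 (.node 0xb2f .nil .nil) .nil)) (.node 0x22090a0001 (.node 0x43809b20c67 (.node 0x3e404260b2f .nil .nil) (.node 0x814 .nil .nil)) (.node 0x8860b2f (.node 0xa95 .nil .nil) .nil))) (.node 0x6d005860001 (.node 0x1 (.node 0x5d209420c67 (.node 0x550 .nil .nil) (.node 0x13805a80a95 .nil .nil)) (.node 0x4b2038e0c67 (.node 0x73e05ba0a95 .nil .nil) .nil)) (.node 0x1600c67 (.node 0x360 (.node 0x75a05e80b2f .nil .nil) (.node 0xa95 .nil .nil)) (.node 0xb2f (.node 0xca000a0a95 .nil .nil) .nil))))) (.node 0x43e09900001 (.node 0x12c07d40001 (.node 0x60403b40001 (.node 0x52a08920001 (.node 0x40201b20c67 (.node 0x54a00ec0b2f .nil .nil) (.node 0x7dc0a95 .nil .nil)) (.node 0x398 (.node 0x4f6071c0b2f .nil .nil) .nil)) (.node 0x1ce01940001 (.node 0xd006160c67 (.node 0x58e .nil .nil) (.node 0x11e0a400a95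 .nil .nil)) (.node 0x456 (.node 0x6c00a95 .nil .nil) .nil))) (.node 0xa480001 (.node 0x18a (.node 0x77c07640c67 (.node 0x2e80b2f .nil .nil) (.node 0x409100a95 .nil .nil)) (.node 0x3f808d20c67 (.node 0xa95 .nil .nil) .nil)) (.node 0x1dc0c67 (.node 0x25e03600c67 (.node 0xfc04be0b2f .nil .nil) (.node 0x378020c0a95 .nil .nil)) (.node 0x12c0b2f (.node 0xa95 .nil .nil) .nil)))) (.node 0xfc0001 (.node 0x76a01e40001 (.node 0x1 (.node 0x27c (.node 0x502 .nil .nil) (.node 0x788 .nil .nil)) (.node 0x3ca (.node 0x662 .nil .nil) .nil)) (.node 0x12001e20001 (.node 0x318 (.node 0x67c0b2f .nil .nil) (.node 0x830 .nil .nil)) (.node 0x2cc08180b2f (.node 0x262080c0a95 .nil .nil) .nil))) (.node 0xb806620001 (.node 0x54a0001 (.node 0xc67 (.node 0x47804700b2f .nil .nil) (.node 0x7ea .nil .nil)) (.node 0x70408e20c67 (.node 0x4a06fc0a95 .nil .nil) .nil)) (.node 0xc67 (.node 0x1ce083a0c67 (.node 0x8620b2f .nil .nil) (.node 0x5f006e60a95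 .nil .nil)) (.node 0x7b008000b2f (.node 0x1f208de0a95 .nil .nil) .nil))))))

/-- A part. -/
noncomputable def cand1_8 : Arr ℕ :=
  (.node 0xea007c0001 (.node 0x1fe008c0001 (.node 0x17a0001 (.node 0x72 (.node 0x664082a0001 (.node 0x7800c67 (.node 0x4ce .nil .nil) (.node 0x752 .nil .nil)) (.node 0x50c0c67 (.node 0x62e .nil .nil) .nil)) (.node 0xae04c60001 (.node 0x7d8000e0c67 (.node 0x83c0b2f .nil .nil) (.node 0x38c054c0a95 .nil .nil)) (.node 0x86c0b2f (.node 0x35a05380a95 .nil .nil) .nil))) (.node 0x6560001 (.node 0x1dc0001 (.node 0x296 (.node 0xb2f .nil .nil) (.node 0xa95 .nil .nil)) (.node 0x3f0 (.node 0xa95 .nil .nil) .nil)) (.node 0xc67 (.node 0x342 (.node 0xb2f .nil .nil) (.node 0x16a0a95 .nil .nil)) (.node 0x48c (.node 0xa95 .nil .nil) .nil)))) (.node 0x5c03e00001 (.node 0x8e (.node 0x14a (.node 0x65a0c67 (.node 0x4f4 .nil .nil) (.node 0x4260a95 .nil .nil)) (.node 0x44a0a240c67 (.node 0x59c02680b2f .nil .nil)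 .nil)) (.node 0x202 (.node 0x54602de0c67 (.node 0xb2f .nil .nil) (.node 0x820 .nil .nil)) (.node 0x464 (.node 0x6a608760a95 .nil .nil) .nil))) (.node 0x4a045c0001 (.node 0xd809f40001 (.node 0x62801560c67 (.node 0xb2f .nil .nil) (.node 0x8009740a95 .nil .nil)) (.node 0xc67 (.node 0x35808a40a95 .nil .nil) .nil)) (.node 0xc67 (.node 0x8e015c0c67 (.node 0x5f6 .nil .nil) (.node 0x87c .nil .nil)) (.node 0x43a05c80b2f (.node 0x26802f60a95 .nil .nil) .nil))))) (.node 0x2860a220001 (.node 0x52004b00001 (.node 0x1 (.node 0x75e050c0001 (.node 0xc67 (.node 0xb2f .nil .nil) (.node 0x76a .nil .nil)) (.node 0x3a0 (.node 0x7260b2f .nil .nil) .nil)) (.node 0x1 (.node 0x7820c67 (.node 0xb2f .nil .nil) (.node 0x1540a95 .nil .nil)) (.node 0x9c20b2f (.node 0xa95 .nil .nil) .nil))) (.node 0xdc02760001 (.node 0x48403140001 (.node 0x55a04a40c67 (.node 0x540 .nil .nil) (.node 0x6a609840a95 .nil .nil)) (.node 0x5d409a20c67 (.node 0x8607e40a95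 .nil .nil) .nil)) (.node 0x6aa03ca0c67 (.node 0x1760c67 (.node 0x9820b2f .nil .nil) (.node 0xa95 .nil .nil)) (.node 0x60204000b2f (.node 0xac021c0a95 .nil .nil) .nil)))) (.node 0x34a03a40001 (.node 0x64c08a00001 (.node 0x1 (.node 0x72098a0c67 (.node 0x6360b2f .nil .nil) (.node 0x3940a2a0a95 .nil .nil)) (.node 0x4680c67 (.node 0x6fa06ca0b2f .nil .nil) .nil)) (.node 0xdc03640001 (.node 0x1cc06640c67 (.node 0x506097e0b2f .nil .nil) (.node 0x7920a95 .nil .nil)) (.node 0x75a08760b2f (.node 0x1ca07660a95 .nil .nil) .nil))) (.node 0x1 (.node 0x1 (.node 0xc67 (.node 0xb2f .nil .nil) (.node 0xa95 .nil .nil)) (.node 0xc67 (.node 0xa95 .nil .nil) .nil)) (.node 0x11a02a40c67 (.node 0xc67 (.node 0x13200980b2f .nil .nil) .nil) (.node 0x76c01da0b2f (.node 0xa95 .nil .nil) .nil))))))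

/-- A part. -/
noncomputable def cand1_9 : Arr ℕ :=
  (.node 0x4e006ac0001 cand1_7 cand1_8)

/-- A part. -/
noncomputable def cand1_10 : Arr ℕ :=
  (.node 0x1 (.node 0x706083c0001 (.node 0x420001 (.node 0x28a0001 (.node 0x91e0001 (.node 0x2ee0c67 (.node 0xb2f .nil .nil) (.node 0x9000440a95 .nil .nil)) (.node 0x40803340c67 (.node 0x2440a7e0b2f .nil .nil) .nil)) (.node 0x8c40001 (.node 0x3e40c67 (.node 0x580 .nil .nil) (.node 0x4c20a220a95 .nil .nil)) (.node 0xb2f (.node 0x86c0a95 .nil .nil) .nil))) (.node 0x1 (.node 0x17a (.node 0x7d207c40c67 (.node 0xb2f .nil .nil) (.node 0x13408c60a95 .nil .nil)) (.node 0x6207960c67 (.node 0x7be0a95 .nil .nil) .nil)) (.node 0x7a60c67 (.node 0x7080a120c67 (.node 0x5ca .nil .nil) (.node 0xbc06540a95 .nil .nil)) (.node 0xb2f (.node 0x6f2 .nil .nil) .nil)))) (.node 0x50 (.node 0xd406160001 (.node 0x1 (.node 0x90e0c67 (.node 0xb2f .nil .nil) (.node 0xa95 .nil .nil)) (.node 0x1000c67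 (.node 0x83a0b2f .nil .nil) .nil)) (.node 0x9a80001 (.node 0x30a (.node 0x690066a0b2f .nil .nil) (.node 0xa95 .nil .nil)) (.node 0xb2f (.node 0x67c03660a95 .nil .nil) .nil))) (.node 0x5220a2a0001 (.node 0x9380001 (.node 0x5f00c67 (.node 0x10607da0b2f .nil .nil) (.node 0x29c09e80a95 .nil .nil)) (.node 0xc67 (.node 0x42e07c60a95 .nil .nil) .nil)) (.node 0xc67 (.node 0x368 (.node 0xb2f .nil .nil) (.node 0x85a0a95 .nil .nil)) (.node 0x37e0b2f (.node 0x2a6062e0a95 .nil .nil) .nil))))) (.node 0x1 (.node 0x59003620001 (.node 0x7cc006a0001 (.node 0x120 (.node 0xc0a020c67 (.node 0x4240b2f .nil .nil) (.node 0xdc09640a95 .nil .nil)) (.node 0x39c (.node 0x63a .nil .nil) .nil)) (.node 0x8280001 (.node 0x800c67 (.node 0x596 .nil .nil) (.node 0xa95 .nil .nil)) (.node 0x6dc06d80b2f (.node 0x6bc .nil .nil) .nil))) (.node 0x504020e0001 (.node 0x4ec0001 (.node 0x32407300c67 (.node 0x6b406900b2f .nil .nil) (.node 0x7c0 .nil .nil))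 (.node 0x1240c67 (.node 0x8e0a95 .nil .nil) .nil)) (.node 0xc67 (.node 0x34e (.node 0x2d00b2f .nil .nil) (.node 0xa95 .nil .nil)) (.node 0xb2f (.node 0xa95 .nil .nil) .nil)))) (.node 0x7cc060a0001 (.node 0x1 (.node 0x5480001 (.node 0x280 (.node 0x74a0a080b2f .nil .nil) (.node 0xa95 .nil .nil)) (.node 0x462095c0c67 (.node 0x2d60b2f .nil .nil) .nil)) (.node 0x1 (.node 0x322 (.node 0x8800b2f .nil .nil) (.node 0xa95 .nil .nil)) (.node 0x182062c0b2f (.node 0x624016e0a95 .nil .nil) .nil))) (.node 0x7f200400001 (.node 0x16e08160001 (.node 0x19a07980c67 (.node 0xb2f .nil .nil) (.node 0x7ec .nil .nil)) (.node 0xc67 (.node 0xce0a95 .nil .nil) .nil)) (.node 0xc67 (.node 0x37a (.node 0x55407420b2f .nil .nil) (.node 0x7e20a860a95 .nil .nil)) (.node 0x27802880b2f (.node 0x7a80a95 .nil .nil) .nil))))))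

/-- A part. -/
noncomputable def cand1_11 : Arr ℕ :=
  (.node 0x55807b40001 (.node 0x1 (.node 0x570002a0001 (.node 0x1608be0001 (.node 0x27001300001 (.node 0x1a805660c67 (.node 0x67a04e20b2f .nil .nil) (.node 0x34e07880a95 .nil .nil)) (.node 0xc67 (.node 0x5b0079a0b2f .nil .nil) .nil)) (.node 0x3980001 (.node 0x2d405b40c67 (.node 0x4d408780b2f .nil .nil) (.node 0xa95 .nil .nil)) (.node 0xb2f (.node 0x23e0a95 .nil .nil) .nil))) (.node 0x42409720001 (.node 0x7d4049e0001 (.node 0x1e00c67 (.node 0xb2f .nil .nil) (.node 0xa95 .nil .nil)) (.node 0xc67 (.node 0xac0a95 .nil .nil) .nil)) (.node 0xe80c67 (.node 0x6020c67 (.node 0x9d00b2f .nil .nil) (.node 0xa95 .nil .nil)) (.node 0x91e0b2f (.node 0xa95 .nil .nil) .nil)))) (.node 0x58 (.node 0x1 (.node 0x1 (.node 0x7d209460c67 (.node 0xb2f .nil .nil) (.node 0x6a036c0a95 .nil .nil)) (.node 0x7fa0c67 (.node 0x3e008960b2f .nil .nil) .nil)) (.node 0x20a (.node 0x15005500c67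 (.node 0x5b6 .nil .nil) (.node 0x822 .nil .nil)) (.node 0xb2f (.node 0x6da .nil .nil) .nil))) (.node 0x1 (.node 0x1ae (.node 0x2c2 (.node 0x3140a840b2f .nil .nil) (.node 0x2f007440a95 .nil .nil)) (.node 0x436 (.node 0xa95 .nil .nil) .nil)) (.node 0x68c0c67 (.node 0x3fe076c0c67 (.node 0x5fa .nil .nil) (.node 0xa95 .nil .nil)) (.node 0x1a401680b2f (.node 0x5ae03f80a95 .nil .nil) .nil))))) (.node 0x9660001 (.node 0x6f205e40001 (.node 0x4e805a60001 (.node 0x56800c00001 (.node 0xc67 (.node 0x5400b2f .nil .nil) (.node 0x772 .nil .nil)) (.node 0xc67 (.node 0xb2f .nil .nil) .nil)) (.node 0x7b4023a0001 (.node 0x2fa (.node 0xb2f .nil .nil) (.node 0x28a03260a95 .nil .nil)) (.node 0x32c0b2f (.node 0x76207940a95 .nil .nil) .nil))) (.node 0x6b202780001 (.node 0x1 (.node 0x2ae (.node 0x6cc06e20b2f .nil .nil) (.node 0x2f409a80a95 .nil .nil)) (.node 0xc67 (.node 0x7d80a95 .nil .nil) .nil)) (.node 0x16209040c67 (.node 0x35c (.node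 0x55e0b2f .nil .nil) (.node 0xa95 .nil .nil)) (.node 0x88e0b2f (.node 0x1ea0a95 .nil .nil) .nil)))) (.node 0x3de08da0001 (.node 0xa8 (.node 0x6d8074c0001 (.node 0xc67 (.node 0x516 .nil .nil) (.node 0x4e40a95 .nil .nil)) (.node 0x36c099c0c67 (.node 0x2fa07320a95 .nil .nil) .nil)) (.node 0x7c2095c0001 (.node 0x32c (.node 0xb2f .nil .nil) (.node 0xa95 .nil .nil)) (.node 0x746008c0b2f (.node 0x6e6 .nil .nil) .nil))) (.node 0x56c00a20001 (.node 0x1 (.node 0x3100c67 (.node 0x570 .nil .nil) (.node 0x50008720a95 .nil .nil)) (.node 0xb2f (.node 0x7c804840a95 .nil .nil) .nil)) (.node 0xac0c67 (.node 0x67208680c67 (.node 0x61a .nil .nil) .nil) (.node 0x600ea0b2f (.node 0xa95 .nil .nil) .nil))))))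

/-- A part. -/
noncomputable def cand1_12 : Arr ℕ :=
  (.node 0xa900001 cand1_10 cand1_11)

/-- A part. -/
noncomputable def cand1_13 : Arr ℕ :=
  (.node 0x202071c0001 cand1_9 cand1_12)

/-- A part. -/
noncomputable def cand1_14 : Arr ℕ :=
  (.node 0x3f209a40001 cand1_6 cand1_13)

/-- The array. -/
noncomputable def cand1 : Arr ℕ := cand1_14

/-- A part. -/
noncomputable def cand2_0 : Arr ℕ :=
  (.node 0x2ba063e0001 (.node 0x1 (.node 0x7f207de0001 (.node 0x1 (.node 0x768040e0001 (.node 0x79c061c0c67 (.node 0x20c05540b2f .nil .nil) (.node 0x742 .nil .nil)) (.node 0x5de08440c67 (.node 0x314009c0b2f .nil .nil) .nil)) (.node 0x1c0 (.node 0x21a01ea0c67 (.node 0x578 .nil .nil) (.node 0xa95 .nil .nil)) (.node 0x446 (.node 0x10c07680a95 .nil .nil) .nil))) (.node 0x72a09760001 (.node 0x1 (.node 0x6a0c67 (.node 0xb2f .nil .nil) (.node 0x79c .nil .nil)) (.node 0xc67 (.node 0x62406ee0a95 .nil .nil) .nil)) (.node 0xc67 (.node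 0x4aa06d40c67 (.node 0x6a80b2f .nil .nil) (.node 0x84c .nil .nil)) (.node 0x6a007680b2f (.node 0x6ea .nil .nil) .nil)))) (.node 0x48 (.node 0x3b60001 (.node 0x19a00ce0001 (.node 0x6ee056c0c67 (.node 0x25407500b2f .nil .nil) (.node 0xa95 .nil .nil)) (.node 0x3cc09d20c67 (.node 0x47206380b2f .nil .nil) .nil)) (.node 0x1f2 (.node 0x43a0c67 (.node 0x7a605d00b2f .nil .nil) (.node 0x81c0a95 .nil .nil)) (.node 0x460 (.node 0x52e09920a95 .nil .nil) .nil))) (.node 0xca (.node 0x1 (.node 0x5a408ca0c67 (.node 0x5c009640b2f .nil .nil) (.node 0x60c0a95 .nil .nil)) (.node 0xc67 (.node 0x73a0a95 .nil .nil) .nil)) (.node 0x234 (.node 0x6da01740c67 (.node 0x2c20b2f .nil .nil) (.node 0xa95 .nil .nil)) (.node 0x4ae (.node 0xa95 .nil .nil) .nil))))) (.node 0x9f00001 (.node 0x29e04400001 (.node 0x3060001 (.node 0x114 (.node 0xc67 (.node 0x24600180b2f .nil .nil) (.node 0x4e208980a95 .nil .nil)) (.node 0xc67 (.node 0x636 .nil .nil) .nil))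 (.node 0x71e01440001 (.node 0xc67 (.node 0x178019e0b2f .nil .nil) (.node 0x15001480a95 .nil .nil)) (.node 0x96c0b2f (.node 0x6b6 .nil .nil) .nil))) (.node 0x57a027e0001 (.node 0x500001 (.node 0xc67 (.node 0xb2f .nil .nil) (.node 0x78e037e0a95 .nil .nil)) (.node 0x3fe (.node 0x69a0a95 .nil .nil) .nil)) (.node 0x27004de0c67 (.node 0x65801e60c67 (.node 0x72208300b2f .nil .nil) (.node 0xa95 .nil .nil)) (.node 0x42c0b2f (.node 0xa95 .nil .nil) .nil)))) (.node 0x1 (.node 0x3ec0001 (.node 0x1 (.node 0x5a408920c67 (.node 0x3006820b2f .nil .nil) (.node 0x402068a0a95 .nil .nil)) (.node 0x3aa00900c67 (.node 0xb2f .nil .nil) .nil)) (.node 0x1 (.node 0xc67 (.node 0x50a0b2f .nil .nil) (.node 0x88c0a95 .nil .nil)) (.node 0xb2f (.node 0x9e07100a95 .nil .nil) .nil))) (.node 0x6280001 (.node 0x1 (.node 0xc67 (.node 0xb2f .nil .nil) (.node 0xa95 .nil .nil)) (.node 0x3360c67 (.node 0x3f00a95 .nil .nil) .nil)) (.node 0xa680c67 (.node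 0x39a06120c67 (.node 0x9fe0b2f .nil .nil) (.node 0xa95 .nil .nil)) (.node 0xb2f (.node 0x3b80a9c0a95 .nil .nil) .nil))))))

/-- A part. -/
noncomputable def cand2_1 : Arr ℕ :=
  (.node 0x7806860001 (.node 0x1 (.node 0x3da01480001 (.node 0x32405180001 (.node 0x1 (.node 0x46e08a60c67 (.node 0x9580b2f .nil .nil) (.node 0x620a95 .nil .nil)) (.node 0x530031a0c67 (.node 0x2d0046c0b2f .nil .nil) .nil)) (.node 0xb604600001 (.node 0x3003d00c67 (.node 0x69a063c0b2f .nil .nil) (.node 0x41801920a95 .nil .nil)) (.node 0x7e40b2f (.node 0x6ac .nil .nil) .nil))) (.node 0xa420001 (.node 0x17c (.node 0x3a8040e0c67 (.node 0x14e06740b2f .nil .nil) (.node 0x6da0a95 .nil .nil)) (.node 0x7ba04240c67 (.node 0x2f000be0a95 .nil .nil) .nil)) (.node 0xc67 (.node 0x58009d00c67 (.node 0xc800060b2f .nil .nil) (.node 0x858 .nil .nil)) (.node 0x7cc00d60b2f (.node 0x6f6 .nil .nil) .nil)))) (.node 0x620010a0001 (.node 0x10205f80001 (.node 0x8a038a0001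 (.node 0x274 (.node 0xb2f .nil .nil) (.node 0x77c0a95 .nil .nil)) (.node 0x5ee0c67 (.node 0x62409900b2f .nil .nil) .nil)) (.node 0x1 (.node 0x12e0c67 (.node 0x6b20b2f .nil .nil) (.node 0xa95 .nil .nil)) (.node 0x70003b80b2f (.node 0x8c80a95 .nil .nil) .nil))) (.node 0x1 (.node 0x3f4033c0001 (.node 0x2b8 (.node 0x556 .nil .nil) (.node 0x5800a940a95 .nil .nil)) (.node 0x8580c67 (.node 0x7e601d60a95 .nil .nil) .nil)) (.node 0x7b803e20c67 (.node 0xc67 (.node 0x1d80b2f .nil .nil) (.node 0x6c606640a95 .nil .nil)) (.node 0x7c0093e0b2f (.node 0x720 .nil .nil) .nil))))) (.node 0x5fa0001 (.node 0x1c609300001 (.node 0x1 (.node 0x126 (.node 0xc67 (.node 0x2ce03440b2f .nil .nil) (.node 0x86026a0a95 .nil .nil)) (.node 0x4a809ce0c67 (.node 0x640 .nil .nil) .nil)) (.node 0x4c80001 (.node 0xc67 (.node 0x7b20a380b2f .nil .nil) (.node 0x73606020a95 .nil .nil)) (.node 0xb2f (.node 0x6c4 .nil .nil) .nil))) (.node 0x1 (.node 0x2407520001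 (.node 0xa180c67 (.node 0x20403d40b2f .nil .nil) (.node 0x9aa0a95 .nil .nil)) (.node 0x41204720c67 (.node 0x3060a95 .nil .nil) .nil)) (.node 0xc67 (.node 0x50006b80c67 (.node 0x61a0b2f .nil .nil) (.node 0x72a0a95 .nil .nil)) (.node 0xb2f (.node 0x2240a95 .nil .nil) .nil)))) (.node 0x1 (.node 0x39400100001 (.node 0x74a01be0001 (.node 0x7007260c67 (.node 0xb2f .nil .nil) (.node 0x790 .nil .nil)) (.node 0x25802140c67 (.node 0x70a0b2f .nil .nil) .nil)) (.node 0x4180a780001 (.node 0xc67 (.node 0x52803160b2f .nil .nil) (.node 0xa95 .nil .nil)) (.node 0x14000ae0b2f (.node 0x6e0 .nil .nil) .nil))) (.node 0x7fc04480001 (.node 0x22c09e00001 (.node 0x1fa050e0c67 (.node 0xb2f .nil .nil) (.node 0xa95 .nil .nil)) (.node 0x1ce04140c67 (.node 0x3b808fe0a95 .nil .nil) .nil)) (.node 0x50409f80c67 (.node 0xc67 (.node 0x610 .nil .nil) .nil) (.node 0xb2f (.node 0x7ba0a95 .nil .nil) .nil))))))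

/-- A part. -/
noncomputable def cand2_2 : Arr ℕ :=
  (.node 0x52404220001 cand2_0 cand2_1)

/-- A part. -/
noncomputable def cand2_3 : Arr ℕ :=
  (.node 0x3fc0001 (.node 0x53802920001 (.node 0x126059e0001 (.node 0x1 (.node 0x1e406080001 (.node 0x1540c67 (.node 0x1b0024e0b2f .nil .nil) (.node 0x40e06120a95 .nil .nil)) (.node 0x71602700c67 (.node 0xb2f .nil .nil) .nil)) (.node 0x1 (.node 0xc67 (.node 0x4c40b2f .nil .nil) (.node 0xa95 .nil .nil)) (.node 0xb2f (.node 0xa95 .nil .nil) .nil))) (.node 0x1 (.node 0x72608a40001 (.node 0xc67 (.node 0x5e001060b2f .nil .nil) (.node 0x7a2 .nil .nil)) (.node 0xc67 (.node 0x6a60a95 .nil .nil) .nil)) (.node 0x1c20c67 (.node 0x6560c67 (.node 0xb2f .nil .nil) (.node 0xa95 .nil .nil)) (.node 0x1ea028e0b2f (.node 0x4e401040a95 .nil .nil) .nil)))) (.node 0x7e800da0001 (.node 0x6dc039e0001 (.node 0x140 (.node 0x2b2036c0c67 (.node 0xb2f .nil .nil) (.node 0x2a400f80a95 .nil .nil)) (.node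 0xa6007c0c67 (.node 0x2fa0b2f .nil .nil) .nil)) (.node 0x5120a2c0001 (.node 0x4c20c67 (.node 0xb2f .nil .nil) (.node 0x19e06360a95 .nil .nil)) (.node 0x462 (.node 0x20a05dc0a95 .nil .nil) .nil))) (.node 0x1 (.node 0x1 (.node 0xc67 (.node 0x3480b2f .nil .nil) (.node 0x5d60a95 .nil .nil)) (.node 0x568043c0c67 (.node 0xa95 .nil .nil) .nil)) (.node 0x8260c67 (.node 0x60607740c67 (.node 0xb2f .nil .nil) (.node 0x876 .nil .nil)) (.node 0x53600d20b2f (.node 0x714 .nil .nil) .nil))))) (.node 0x49a0a700001 (.node 0x36 (.node 0x9c08c80001 (.node 0x74a029a0001 (.node 0x9c20c67 (.node 0x12405be0b2f .nil .nil) (.node 0x2660a95 .nil .nil)) (.node 0xc67 (.node 0x26c03320b2f .nil .nil) .nil)) (.node 0x3a80001 (.node 0x2a403a60c67 (.node 0x27a04600b2f .nil .nil) (.node 0x74a0a95 .nil .nil)) (.node 0x3240b2f (.node 0x384007c0a95 .nil .nil) .nil))) (.node 0x1de03760001 (.node 0x13a00c80001 (.node 0x2a4 (.node 0x32404ee0b2f .nil .nil)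 (.node 0x5a8031e0a95 .nil .nil)) (.node 0xd000640c67 (.node 0xa95 .nil .nil) .nil)) (.node 0x73a06420c67 (.node 0x53c0c67 (.node 0x5be09020b2f .nil .nil) (.node 0xa95 .nil .nil)) (.node 0x61e07b00b2f (.node 0x706 .nil .nil) .nil)))) (.node 0x4440001 (.node 0x98 (.node 0x1 (.node 0xc67 (.node 0x42204b40b2f .nil .nil) (.node 0x66e048c0a95 .nil .nil)) (.node 0x3d2 (.node 0xb2f .nil .nil) .nil)) (.node 0x1 (.node 0x75c02660c67 (.node 0xb2f .nil .nil) (.node 0x838 .nil .nil)) (.node 0x22801440b2f (.node 0xa95 .nil .nil) .nil))) (.node 0xe4 (.node 0x28e02ac0001 (.node 0x2ca (.node 0xb2f .nil .nil) (.node 0x4fe05460a95 .nil .nil)) (.node 0xc67 (.node 0x37605de0a95 .nil .nil) .nil)) (.node 0x4d204760c67 (.node 0x4ee0c67 (.node 0xf8034e0b2f .nil .nil) (.node 0x43c025e0a95 .nil .nil)) (.node 0x756073e0b2f (.node 0x4b003940a95 .nil .nil) .nil))))))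

/-- A part. -/
noncomputable def cand2_4 : Arr ℕ :=
  (.node 0x8740001 (.node 0x64a0a1a0001 (.node 0x24 (.node 0x1d6004e0001 (.node 0x28807b80001 (.node 0x47807ea0c67 (.node 0x7dc07440b2f .nil .nil) (.node 0x11208260a95 .nil .nil)) (.node 0x60a05b60c67 (.node 0xb2f .nil .nil) .nil)) (.node 0x1 (.node 0x2e4 (.node 0x2da081e0b2f .nil .nil) (.node 0x78c015e0a95 .nil .nil)) (.node 0xb2f (.node 0x1a05fe0a95 .nil .nil) .nil))) (.node 0x2a80001 (.node 0x1aa05c00001 (.node 0x1860c67 (.node 0xba049e0b2f .nil .nil) (.node 0xa95 .nil .nil)) (.node 0x8d00c67 (.node 0x244063c0a95 .nil .nil) .nil)) (.node 0x6fa09020c67 (.node 0x7d60c67 (.node 0x1da03260b2f .nil .nil) (.node 0x2cc03ea0a95 .nil .nil)) (.node 0x3ec056a0b2f (.node 0x1d2088e0a95 .nil .nil) .nil)))) (.node 0x80a0001 (.node 0x73a02f60001 (.node 0x14e (.node 0x56a07bc0c67 (.node 0xb2f .nil .nil) (.node 0x9ba0a95 .nil .nil)) (.node 0x3bc (.node 0xb2f .nil .nil) .nil))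 (.node 0x1 (.node 0xc67 (.node 0xb2f .nil .nil) (.node 0x564024a0a95 .nil .nil)) (.node 0xb2f (.node 0x412012c0a95 .nil .nil) .nil))) (.node 0xa4a0001 (.node 0x1f20001 (.node 0x23c042e0c67 (.node 0xb2f .nil .nil) (.node 0xa95 .nil .nil)) (.node 0xc67 (.node 0x4ca040c0a95 .nil .nil) .nil)) (.node 0x65405960c67 (.node 0x3e00c67 (.node 0x5f8 .nil .nil) (.node 0x2a00a95 .nil .nil)) (.node 0x9e07b80b2f (.node 0x4ea019e0a95 .nil .nil) .nil))))) (.node 0x5e4080c0001 (.node 0x2e602c20001 (.node 0x7b0097a0001 (.node 0x42e0001 (.node 0x46601ee0c67 (.node 0x44600100b2f .nil .nil) (.node 0x2c0024e0a95 .nil .nil)) (.node 0x3a4 (.node 0x76e06340b2f .nil .nil) .nil)) (.node 0x1 (.node 0x1b4087e0c67 (.node 0x20c0b2f .nil .nil) (.node 0x306057a0a95 .nil .nil)) (.node 0x26a0b2f (.node 0x22a080e0a95 .nil .nil) .nil))) (.node 0x1 (.node 0x1 (.node 0x2ac (.node 0x546 .nil .nil) (.node 0x7b60a95 .nil .nil)) (.node 0x418 (.node 0xa95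 .nil .nil) .nil)) (.node 0xc67 (.node 0x35a (.node 0xb2f .nil .nil) (.node 0x55403780a95 .nil .nil)) (.node 0x41804de0b2f (.node 0x41e04080a95 .nil .nil) .nil)))) (.node 0x70801d80001 (.node 0x5cc0001 (.node 0x2e002ca0001 (.node 0xc67 (.node 0x5203f60b2f .nil .nil) (.node 0xa95 .nil .nil)) (.node 0xc67 (.node 0x666 .nil .nil) .nil)) (.node 0x220 (.node 0x10006f80c67 (.node 0xb2f .nil .nil) (.node 0x39a010e0a95 .nil .nil)) (.node 0x29a0b2f (.node 0x8440a95 .nil .nil) .nil))) (.node 0x1 (.node 0x5d400900001 (.node 0x740019a0c67 (.node 0xb2f .nil .nil) (.node 0x7ee .nil .nil)) (.node 0x284072c0c67 (.node 0x20002ae0a95 .nil .nil) .nil)) (.node 0x400a460c67 (.node 0x7020c67 (.node 0x144044e0b2f .nil .nil) .nil) (.node 0x19c03540b2f (.node 0x736 .nil .nil) .nil))))))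

/-- A part. -/
noncomputable def cand2_5 : Arr ℕ :=
  (.node 0x1 cand2_3 cand2_4)

/-- A part. -/
noncomputable def cand2_6 : Arr ℕ :=
  (.node 0x1209a00001 cand2_2 cand2_5)

/-- A part. -/
noncomputable def cand2_7 : Arr ℕ :=
  (.node 0x7580001 (.node 0x7dc08480001 (.node 0x7bc0001 (.node 0x2d80001 (.node 0x1 (.node 0x50a01d60c67 (.node 0xb2f .nil .nil) (.node 0x2e004ae0a95 .nil .nil)) (.node 0x4c04f40c67 (.node 0x48000fe0b2f .nil .nil) .nil)) (.node 0x1 (.node 0x2d8 (.node 0x72e05d20b2f .nil .nil) (.node 0x9ec0a95 .nil .nil)) (.node 0x3ea0a400b2f (.node 0xa760a95 .nil .nil) .nil))) (.node 0x1 (.node 0x44801f00001 (.node 0x292 (.node 0x574005a0b2f .nil .nil) (.node 0xa95 .nil .nil)) (.node 0x3e4 (.node 0xb206780a95 .nil .nil) .nil)) (.node 0x38e01b80c67 (.node 0x336 (.node 0x2f003e60b2f .nil .nil) (.node 0x5580a95 .nil .nil)) (.node 0x15a0b2f (.node 0x6fa01b00a95 .nil .nil) .nil)))) (.node 0x1 (.node 0x1 (.node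 0x390091c0001 (.node 0x59406c40c67 (.node 0xb2f .nil .nil) (.node 0xa95 .nil .nil)) (.node 0x182031c0c67 (.node 0x4f40b2f .nil .nil) .nil)) (.node 0x1 (.node 0x2fe (.node 0x4b006be0b2f .nil .nil) (.node 0x3a40a95 .nil .nil)) (.node 0xb2f (.node 0x98c0a95 .nil .nil) .nil))) (.node 0x1 (.node 0x8bc0001 (.node 0x4a0c67 (.node 0x53805a80b2f .nil .nil) (.node 0x2f603ba0a95 .nil .nil)) (.node 0xc67 (.node 0xa95 .nil .nil) .nil)) (.node 0xc67 (.node 0x10000220c67 (.node 0x5ea .nil .nil) (.node 0x6ac00c60a95 .nil .nil)) (.node 0x8dc0b2f (.node 0xa95 .nil .nil) .nil))))) (.node 0x9409680001 (.node 0x32 (.node 0x1ec02f20001 (.node 0x38e0001 (.node 0x37a05de0c67 (.node 0xb2f .nil .nil) (.node 0x34c0a95 .nil .nil)) (.node 0x6bc05d20c67 (.node 0x5ea052c0b2f .nil .nil) .nil)) (.node 0x16208080001 (.node 0x408097e0c67 (.node 0xb2f .nil .nil) (.node 0x37205160a95 .nil .nil)) (.node 0x5f008080b2f (.node 0x1aa02180a95 .nil .nil)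 .nil))) (.node 0x2ce0a040001 (.node 0xe60001 (.node 0x25603580c67 (.node 0xf0037c0b2f .nil .nil) (.node 0xa95 .nil .nil)) (.node 0x402 (.node 0x3560a95 .nil .nil) .nil)) (.node 0x7de0c67 (.node 0xc67 (.node 0x5d201900b2f .nil .nil) (.node 0x70c07280a95 .nil .nil)) (.node 0x41201cc0b2f (.node 0xa95 .nil .nil) .nil)))) (.node 0x5a (.node 0x1 (.node 0x158 (.node 0xc67 (.node 0x504 .nil .nil) (.node 0xa95 .nil .nil)) (.node 0x68209060c67 (.node 0xb2f .nil .nil) .nil)) (.node 0x210 (.node 0xc67 (.node 0xb2f .nil .nil) (.node 0xa95 .nil .nil)) (.node 0x4e60b2f (.node 0x62600580a95 .nil .nil) .nil))) (.node 0x7d00001 (.node 0x71c00280001 (.node 0xc67 (.node 0x8fe0b2f .nil .nil) (.node 0x32045c0a95 .nil .nil)) (.node 0x7c607c20c67 (.node 0x3f801a00a95 .nil .nil) .nil)) (.node 0x6be020e0c67 (.node 0x1b6063a0c67 (.node 0x598048e0b2f .nil .nil) (.node 0xa95 .nil .nil)) (.node 0x76e01980b2f (.node 0x45c02440a95 .nil .nil)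 .nil))))))

/-- A part. -/
noncomputable def cand2_8 : Arr ℕ :=
  (.node 0x55c0001 (.node 0x59c05080001 (.node 0x540001 (.node 0x1 (.node 0x104 (.node 0x66009140c67 (.node 0x4c0b2f .nil .nil) (.node 0x55c07a20a95 .nil .nil)) (.node 0x5420c67 (.node 0xb2f .nil .nil) .nil)) (.node 0x69a0a6e0001 (.node 0x5d406140c67 (.node 0x3f805e20b2f .nil .nil) (.node 0x5603360a95 .nil .nil)) (.node 0x2a60b2f (.node 0x5ac04900a95 .nil .nil) .nil))) (.node 0xb2 (.node 0x39207880001 (.node 0x6a08e40c67 (.node 0xb2f .nil .nil) (.node 0x4180a95 .nil .nil)) (.node 0x38c03560c67 (.node 0x2b0028e0a95 .nil .nil) .nil)) (.node 0x98c0c67 (.node 0xc67 (.node 0xb2f .nil .nil) (.node 0x5520a95 .nil .nil)) (.node 0x4640b2f (.node 0xa95 .nil .nil) .nil)))) (.node 0x4d002e20001 (.node 0x2600001 (.node 0x1 (.node 0x5060c67 (.node 0x4f6 .nil .nil) (.node 0x5ce0a95 .nil .nil)) (.node 0x3b6 (.node 0x658 .nil .nil) .nil)) (.node 0x204 (.node 0xc67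 (.node 0x9b20b2f .nil .nil) (.node 0x1800980a95 .nil .nil)) (.node 0xb2f (.node 0x1380a95 .nil .nil) .nil))) (.node 0xca063c0001 (.node 0xaa60001 (.node 0x16202a00c67 (.node 0x41606b80b2f .nil .nil) (.node 0xa95 .nil .nil)) (.node 0x48008e0c67 (.node 0x68e .nil .nil) .nil)) (.node 0x48e0c67 (.node 0x370 (.node 0xb2f .nil .nil) (.node 0xa95 .nil .nil)) (.node 0xb2f (.node 0x64078e0a95 .nil .nil) .nil))))) (.node 0x59a075c0001 (.node 0x6a60001 (.node 0x4804280001 (.node 0x12c (.node 0x68c097c0c67 (.node 0xb2f .nil .nil) (.node 0xa95 .nil .nil)) (.node 0xc67 (.node 0x26009b80b2f .nil .nil) .nil)) (.node 0x1e2 (.node 0xc67 (.node 0x64c06320b2f .nil .nil) (.node 0x80c .nil .nil)) (.node 0xc00b2f (.node 0x45400e00a95 .nil .nil) .nil))) (.node 0x34c01bc0001 (.node 0x1 (.node 0x1c0043e0c67 (.node 0x16a0b2f .nil .nil) (.node 0xa95 .nil .nil)) (.node 0x62608500c67 (.node 0x6ac08560a95 .nil .nil) .nil)) (.node 0x71e0c67 (.node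 0x3960c67 (.node 0x4dc07c40b2f .nil .nil) (.node 0x2f40a95 .nil .nil)) (.node 0x4a2 (.node 0xa95 .nil .nil) .nil)))) (.node 0x28001580001 (.node 0x8e40001 (.node 0x1 (.node 0x42e02ea0c67 (.node 0xcc0b2f .nil .nil) (.node 0x794 .nil .nil)) (.node 0xc67 (.node 0xba00f40a95 .nil .nil) .nil)) (.node 0x2a201fe0001 (.node 0x61601ac0c67 (.node 0x5c0 .nil .nil) (.node 0xa95 .nil .nil)) (.node 0x476 (.node 0x60203000a95 .nil .nil) .nil))) (.node 0xec (.node 0x5fa09d40001 (.node 0xc67 (.node 0x69a080c0b2f .nil .nil) (.node 0x14e065c0a95 .nil .nil)) (.node 0x57c0c67 (.node 0x78207ee0a95 .nil .nil) .nil)) (.node 0x4f60c67 (.node 0x1980a7a0c67 (.node 0x614 .nil .nil) .nil) (.node 0x3a800880b2f (.node 0x73c076c0a95 .nil .nil) .nil))))))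

/-- A part. -/
noncomputable def cand2_9 : Arr ℕ :=
  (.node 0x1 cand2_7 cand2_8)

/-- A part. -/
noncomputable def cand2_10 : Arr ℕ :=
  (.node 0x1 (.node 0x1 (.node 0x1 (.node 0xfa06040001 (.node 0x3a805bc0001 (.node 0x9e00c67 (.node 0x6600b2f .nil .nil) (.node 0xa95 .nil .nil)) (.node 0x392 (.node 0x7408600b2f .nil .nil) .nil)) (.node 0x1 (.node 0x46007940c67 (.node 0xa607e20b2f .nil .nil) (.node 0x5660a95 .nil .nil)) (.node 0x7920b2f (.node 0x6a6 .nil .nil) .nil))) (.node 0x4a604d40001 (.node 0x3400001 (.node 0xc67 (.node 0x49007ca0b2f .nil .nil) (.node 0xa95 .nil .nil)) (.node 0x40006460c67 (.node 0x36a0a95 .nil .nil) .nil)) (.node 0xc67 (.node 0x33e (.node 0x3be0b2f .nil .nil) (.node 0x856 .nil .nil)) (.node 0xd801560b2f (.node 0x2a80a95 .nil .nil) .nil)))) (.node 0x52 (.node 0x57c028c0001 (.node 0x1 (.node 0xc67 (.node 0x47003960b2f .nil .nil) (.node 0x3a60a95 .nil .nil)) (.node 0xa160c67 (.node 0xb2f .nil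 .nil) .nil)) (.node 0x1fe (.node 0xc67 (.node 0x5a6 .nil .nil) (.node 0xa95 .nil .nil)) (.node 0xb2f (.node 0xa95 .nil .nil) .nil))) (.node 0x7ca0001 (.node 0x1c000360001 (.node 0x5a4080c0c67 (.node 0x554 .nil .nil) (.node 0x20603c00a95 .nil .nil)) (.node 0xc67 (.node 0x3d804480a95 .nil .nil) .nil)) (.node 0x8200c67 (.node 0x36a (.node 0x4e80b2f .nil .nil) (.node 0x87a .nil .nil)) (.node 0x5e40b2f (.node 0x20207b20a95 .nil .nil) .nil))))) (.node 0x58205920001 (.node 0xc006fe0001 (.node 0x324052e0001 (.node 0x122 (.node 0x25c (.node 0xb2f .nil .nil) (.node 0xa95 .nil .nil)) (.node 0x7b8062a0c67 (.node 0xb2f .nil .nil) .nil)) (.node 0x67400ae0001 (.node 0x2f2 (.node 0x2f603c80b2f .nil .nil) (.node 0x57a07f20a95 .nil .nil)) (.node 0x45a (.node 0x6be .nil .nil) .nil))) (.node 0xbe (.node 0x7800001 (.node 0x79a02560c67 (.node 0x77609be0b2f .nil .nil) (.node 0x15a0a95 .nil .nil)) (.node 0x71802f60c67 (.node 0x2360a95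 .nil .nil) .nil)) (.node 0x3520c67 (.node 0x51607880c67 (.node 0x6e60b2f .nil .nil) (.node 0x866 .nil .nil)) (.node 0x3fa03720b2f (.node 0xa95 .nil .nil) .nil)))) (.node 0x6ae0001 (.node 0x3c006ee0001 (.node 0x160 (.node 0xc67 (.node 0xb2f .nil .nil) (.node 0x91e0a95 .nil .nil)) (.node 0x25409c40c67 (.node 0x13e01700b2f .nil .nil) .nil)) (.node 0x1760001 (.node 0xc67 (.node 0xb2f .nil .nil) (.node 0x2a803ca0a95 .nil .nil)) (.node 0x13a0b2f (.node 0xa95 .nil .nil) .nil))) (.node 0x9b40001 (.node 0x58e0a620001 (.node 0x4ee00520c67 (.node 0x9760b2f .nil .nil) (.node 0xa900a95 .nil .nil)) (.node 0x5600c67 (.node 0xa95 .nil .nil) .nil)) (.node 0x9a40c67 (.node 0x2ae02920c67 (.node 0x38a00e60b2f .nil .nil) (.node 0x24403fc0a95 .nil .nil)) (.node 0xb2f (.node 0x6dc09680a95 .nil .nil) .nil))))))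

/-- A part. -/
noncomputable def cand2_11 : Arr ℕ :=
  (.node 0x12e05a00001 (.node 0x4c00001 (.node 0x6fe08ee0001 (.node 0x7cc0001 (.node 0x7e0001 (.node 0x1c002a80c67 (.node 0xb2f .nil .nil) (.node 0x3e0013e0a95 .nil .nil)) (.node 0xc67 (.node 0x630 .nil .nil) .nil)) (.node 0xf002c40001 (.node 0x37c09ea0c67 (.node 0x7440a440b2f .nil .nil) (.node 0x67e077e0a95 .nil .nil)) (.node 0x7c007c60b2f (.node 0xa95 .nil .nil) .nil))) (.node 0x1 (.node 0x21a035c0001 (.node 0x45608aa0c67 (.node 0xb2f .nil .nil) (.node 0xa95 .nil .nil)) (.node 0x5a800940c67 (.node 0x5080a95 .nil .nil) .nil)) (.node 0x11809080c67 (.node 0x8980c67 (.node 0x5840b2f .nil .nil) (.node 0xa95 .nil .nil)) (.node 0xb2f (.node 0x7ae0a95 .nil .nil) .nil)))) (.node 0x1 (.node 0x1 (.node 0x39e09320001 (.node 0xc67 (.node 0x5e009ce0b2f .nil .nil) (.node 0xa95 .nil .nil)) (.node 0xc67 (.node 0x65e .nil .nil) .nil)) (.node 0x1 (.node 0x4ce0c67 (.node 0x3100b2f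 .nil .nil) (.node 0x24050e0a95 .nil .nil)) (.node 0x466 (.node 0x8201c60a95 .nil .nil) .nil))) (.node 0x1 (.node 0x1 (.node 0xc67 (.node 0xb2f .nil .nil) (.node 0x40005b40a95 .nil .nil)) (.node 0xc67 (.node 0x3603dc0a95 .nil .nil) .nil)) (.node 0x500c67 (.node 0x4bc08740c67 (.node 0x11807480b2f .nil .nil) (.node 0x470087c0a95 .nil .nil)) (.node 0x9260b2f (.node 0x728 .nil .nil) .nil))))) (.node 0x1a (.node 0x1 (.node 0x86 (.node 0x66807a60001 (.node 0xc67 (.node 0xb2f .nil .nil) (.node 0x774 .nil .nil)) (.node 0x3a6 (.node 0x646 .nil .nil) .nil)) (.node 0x1ea (.node 0x2fc (.node 0x7ca06de0b2f .nil .nil) (.node 0x2260a95 .nil .nil)) (.node 0x45e (.node 0xa95 .nil .nil) .nil))) (.node 0x93e0001 (.node 0x2f402140001 (.node 0x31e024e0c67 (.node 0x27e05580b2f .nil .nil) (.node 0xa95 .nil .nil)) (.node 0x59808a20c67 (.node 0xa95 .nil .nil) .nil)) (.node 0x4a0034e0c67 (.node 0xc67 (.node 0xb2f .nil .nil) (.node 0xa95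 .nil .nil)) (.node 0x5fa07fc0b2f (.node 0x93c0a95 .nil .nil) .nil)))) (.node 0x53007ce0001 (.node 0x1 (.node 0x1da00d40001 (.node 0x7a00c67 (.node 0x1da033a0b2f .nil .nil) (.node 0xa95 .nil .nil)) (.node 0x3e0 (.node 0x5760a720a95 .nil .nil) .nil)) (.node 0x1a07700001 (.node 0x1d600480c67 (.node 0x7c80b2f .nil .nil) (.node 0x844 .nil .nil)) (.node 0x47e (.node 0x6d80a95 .nil .nil) .nil))) (.node 0xf4 (.node 0x1ba (.node 0x6080a5e0c67 (.node 0x7f400000b2f .nil .nil) (.node 0x6d60a95 .nil .nil)) (.node 0xb2f (.node 0x65e07240a95 .nil .nil) .nil)) (.node 0xc67 (.node 0xc67 (.node 0x3060b2f .nil .nil) .nil) (.node 0x1a023e0b2f (.node 0x73c .nil .nil) .nil))))))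

/-- A part. -/
noncomputable def cand2_12 : Arr ℕ :=
  (.node 0x4ea06b60001 cand2_10 cand2_11)

/-- A part. -/
noncomputable def cand2_13 : Arr ℕ :=
  (.node 0x60801e00001 cand2_9 cand2_12)

/-- A part. -/
noncomputable def cand2_14 : Arr ℕ :=
  (.node 0x5f803aa0001 cand2_6 cand2_13)

/-- The array. -/
noncomputable def cand2 : Arr ℕ := cand2_14

/-- A part. -/
noncomputable def cand3_0 : Arr ℕ :=
  (.node 0x3ba0001 (.node 0xc (.node 0x1 (.node 0x466071a0001 (.node 0x4360a300001 (.node 0x7ba03d60c67 (.node 0x4c4 .nil .nil) (.node 0x15202500a95 .nil .nil)) (.node 0x4cc06c60c67 (.node 0x620 .nil .nil) .nil)) (.node 0x7be0001 (.node 0x5f8082e0c67 (.node 0xb2f .nil .nil) (.node 0xa95 .nil .nil)) (.node 0x49c08ae0b2f (.node 0x34a06e00a95 .nil .nil) .nil))) (.node 0x6540001 (.node 0x23a05fc0001 (.node 0x94c0c67 (.node 0x39a01aa0b2f .nil .nil) (.node 0x3aa0a95 .nil .nil)) (.node 0x558030c0c67 (.node 0xa95 .nil .nil)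 .nil)) (.node 0xc67 (.node 0x330 (.node 0xb2f .nil .nil) (.node 0x2c409f00a95 .nil .nil)) (.node 0x486 (.node 0x6ec .nil .nil) .nil)))) (.node 0x1 (.node 0x7ce0a3c0001 (.node 0x20203ea0001 (.node 0x7d20c67 (.node 0xb2f .nil .nil) (.node 0x6980a95 .nil .nil)) (.node 0xc67 (.node 0x5408140b2f .nil .nil) .nil)) (.node 0x8860001 (.node 0x49803b60c67 (.node 0x5a0 .nil .nil) (.node 0x2a20a95 .nil .nil)) (.node 0x9960b2f (.node 0xa95 .nil .nil) .nil))) (.node 0x5da02ae0001 (.node 0x7c201000001 (.node 0x50a0c67 (.node 0x2e002ac0b2f .nil .nil) (.node 0x13c0a95 .nil .nil)) (.node 0x6c405be0c67 (.node 0x1f2029e0a95 .nil .nil) .nil)) (.node 0xc67 (.node 0x200c67 (.node 0x5f407c00b2f .nil .nil) (.node 0x9200a95 .nil .nil)) (.node 0xb2f (.node 0x6a401960a95 .nil .nil) .nil))))) (.node 0x1ca0001 (.node 0x35207260001 (.node 0x1 (.node 0x53a0001 (.node 0xc67 (.node 0x8240b2f .nil .nil) (.node 0xa95 .nil .nil)) (.node 0x3d40c67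 (.node 0x39a04400b2f .nil .nil) .nil)) (.node 0x4a006300001 (.node 0x2ea (.node 0x8220b2f .nil .nil) (.node 0xa95 .nil .nil)) (.node 0x6560b2f (.node 0x41406940a95 .nil .nil) .nil))) (.node 0x1 (.node 0x1 (.node 0x29c (.node 0xb2f .nil .nil) (.node 0xa95 .nil .nil)) (.node 0x400 (.node 0x340004a0a95 .nil .nil) .nil)) (.node 0xc67 (.node 0xc67 (.node 0x8f60b2f .nil .nil) (.node 0xa95 .nil .nil)) (.node 0x42a0b2f (.node 0xa95 .nil .nil) .nil)))) (.node 0x1 (.node 0x68a074a0001 (.node 0x156 (.node 0x250093a0c67 (.node 0xb2f .nil .nil) (.node 0xd601500a95 .nil .nil)) (.node 0x50202260c67 (.node 0x8f00b2f .nil .nil) .nil)) (.node 0x3fc06820001 (.node 0xc67 (.node 0x2e004140b2f .nil .nil) (.node 0x21c0a640a95 .nil .nil)) (.node 0x8c40b2f (.node 0x2de004e0a95 .nil .nil) .nil))) (.node 0x27005660001 (.node 0x1 (.node 0x7ee0c67 (.node 0x55e .nil .nil) (.node 0x4ce06240a95 .nil .nil)) (.node 0x438 (.node 0x2e804aa0a95 .nil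 .nil) .nil)) (.node 0x5aa07120c67 (.node 0x2c400a40c67 (.node 0x55605a60b2f .nil .nil) (.node 0xa95 .nil .nil)) (.node 0x6601840b2f (.node 0xa95 .nil .nil) .nil))))))

/-- A part. -/
noncomputable def cand3_1 : Arr ℕ :=
  (.node 0x27e023e0001 (.node 0x9a60001 (.node 0xa9e0001 (.node 0x1 (.node 0x1 (.node 0xc67 (.node 0xb2f .nil .nil) (.node 0x74a .nil .nil)) (.node 0x31201f20c67 (.node 0x62a .nil .nil) .nil)) (.node 0x26202a40001 (.node 0x5b408f20c67 (.node 0x582 .nil .nil) (.node 0x9d80a95 .nil .nil)) (.node 0x22a0b2f (.node 0x6ae .nil .nil) .nil))) (.node 0x1200001 (.node 0x34c0a0a0001 (.node 0x38e0a100c67 (.node 0xb2f .nil .nil) (.node 0xa95 .nil .nil)) (.node 0x7de04480c67 (.node 0x670 .nil .nil) .nil)) (.node 0xc67 (.node 0x33c012a0c67 (.node 0x5ce .nil .nil) (.node 0x22809a00a95 .nil .nil)) (.node 0xb2f (.node 0x44e096c0a95 .nil .nil) .nil)))) (.node 0x2c80001 (.node 0xa7e0001 (.node 0xda06c60001 (.node 0x720c67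 (.node 0x75e02400b2f .nil .nil) (.node 0xa95 .nil .nil)) (.node 0xc67 (.node 0xb2f .nil .nil) .nil)) (.node 0x1 (.node 0xc67 (.node 0x5ac .nil .nil) (.node 0xe40a95 .nil .nil)) (.node 0xb2f (.node 0x9c07060a95 .nil .nil) .nil))) (.node 0x1 (.node 0x9fc0001 (.node 0x5e000c20c67 (.node 0x46802700b2f .nil .nil) (.node 0x534018c0a95 .nil .nil)) (.node 0x85a0c67 (.node 0x1a0a95 .nil .nil) .nil)) (.node 0xc67 (.node 0xc67 (.node 0x5f4 .nil .nil) (.node 0x5a204e20a95 .nil .nil)) (.node 0x4b4 (.node 0x5b20a820a95 .nil .nil) .nil))))) (.node 0x8cc0001 (.node 0x1 (.node 0x154092a0001 (.node 0x128 (.node 0x1da0c67 (.node 0x1e602220b2f .nil .nil) (.node 0x72408080a95 .nil .nil)) (.node 0x4280c67 (.node 0x66202980b2f .nil .nil) .nil)) (.node 0x8c20001 (.node 0xc67 (.node 0x6ec001a0b2f .nil .nil) (.node 0x7f203de0a95 .nil .nil)) (.node 0x6860b2f (.node 0x6c6 .nil .nil) .nil))) (.node 0x2f80001 (.node 0x190 (.node 0xc67 (.node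 0xb2f .nil .nil) (.node 0x7c6 .nil .nil)) (.node 0x40c (.node 0x9da0a95 .nil .nil) .nil)) (.node 0x286071c0c67 (.node 0x15206720c67 (.node 0xb20b2f .nil .nil) (.node 0x2200a95 .nil .nil)) (.node 0x36602b00b2f (.node 0x6e0a920a95 .nil .nil) .nil)))) (.node 0x200940001 (.node 0xa0 (.node 0x1 (.node 0x282 (.node 0x3a80b2f .nil .nil) (.node 0x792 .nil .nil)) (.node 0xc67 (.node 0x6ac05180b2f .nil .nil) .nil)) (.node 0x1 (.node 0x600c67 (.node 0x3e606540b2f .nil .nil) (.node 0x2e207420a95 .nil .nil)) (.node 0x89a0b2f (.node 0x16202000a95 .nil .nil) .nil))) (.node 0xea (.node 0x1 (.node 0x43a05ce0c67 (.node 0xb2f .nil .nil) (.node 0x9160a95 .nil .nil)) (.node 0xc67 (.node 0x3be04140a95 .nil .nil) .nil)) (.node 0x1f608ce0c67 (.node 0xc67 (.node 0x1c40b2f .nil .nil) .nil) (.node 0x4bc (.node 0xa95 .nil .nil) .nil))))))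

/-- A part. -/
noncomputable def cand3_2 : Arr ℕ :=
  (.node 0x8440001 cand3_0 cand3_1)

/-- A part. -/
noncomputable def cand3_3 : Arr ℕ :=
  (.node 0x9200001 (.node 0x1 (.node 0x1bc04da0001 (.node 0x1 (.node 0x79209880001 (.node 0x80e0c67 (.node 0x4dc01920b2f .nil .nil) (.node 0x4e807740a95 .nil .nil)) (.node 0x6740c67 (.node 0x626 .nil .nil) .nil)) (.node 0x1 (.node 0x2de (.node 0x75e0b2f .nil .nil) (.node 0xa95 .nil .nil)) (.node 0x4960b2f (.node 0xa95 .nil .nil) .nil))) (.node 0x36408100001 (.node 0x6e40001 (.node 0x1c205bc0c67 (.node 0x522 .nil .nil) (.node 0xa95 .nil .nil)) (.node 0x25a03c20c67 (.node 0x19805f20a95 .nil .nil) .nil)) (.node 0x508025c0c67 (.node 0x174028c0c67 (.node 0x14405080b2f .nil .nil) (.node 0x21c07020a95 .nil .nil)) (.node 0x76c01e40b2f (.node 0x5f804fa0a95 .nil .nil) .nil)))) (.node 0x4c (.node 0x236086a0001 (.node 0x142 (.node 0x5580c67 (.node 0x64e05aa0b2f .nil .nil) (.node 0x77a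 .nil .nil)) (.node 0x3ac (.node 0x7d000f00b2f .nil .nil) .nil)) (.node 0x1fa (.node 0x306 (.node 0xb2f .nil .nil) (.node 0xa95 .nil .nil)) (.node 0x38605360b2f (.node 0x33200f60a95 .nil .nil) .nil))) (.node 0x1 (.node 0x4fc08d00001 (.node 0x38a04b20c67 (.node 0xb2f .nil .nil) (.node 0x1420a95 .nil .nil)) (.node 0x40c084c0c67 (.node 0x1a40a95 .nil .nil) .nil)) (.node 0x74c0c67 (.node 0xc67 (.node 0x5ee .nil .nil) (.node 0x5d803c80a95 .nil .nil)) (.node 0xb2f (.node 0x716 .nil .nil) .nil))))) (.node 0x65802980001 (.node 0x4aa06be0001 (.node 0x9404200001 (.node 0x7b008c60001 (.node 0x29c0c67 (.node 0x6002f80b2f .nil .nil) (.node 0xa95 .nil .nil)) (.node 0x24a041a0c67 (.node 0x638 .nil .nil) .nil)) (.node 0x47202260001 (.node 0xc67 (.node 0xb2f .nil .nil) (.node 0x1cc0a95 .nil .nil)) (.node 0xb2f (.node 0xa95 .nil .nil) .nil))) (.node 0xbc (.node 0x18c (.node 0x27a04900c67 (.node 0x3e802ec0b2f .nil .nil) (.node 0x338053c0a95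 .nil .nil)) (.node 0x408 (.node 0x26c06600a95 .nil .nil) .nil)) (.node 0x16a03a80c67 (.node 0x75e02220c67 (.node 0x5da .nil .nil) (.node 0x2860a260a95 .nil .nil)) (.node 0x7220b2f (.node 0x41600b80a95 .nil .nil) .nil)))) (.node 0x1 (.node 0x57200b60001 (.node 0x20a086c0001 (.node 0xc67 (.node 0xb2f .nil .nil) (.node 0x3540a95 .nil .nil)) (.node 0x48c0c67 (.node 0x242065c0b2f .nil .nil) .nil)) (.node 0x214 (.node 0x31c (.node 0x3009b00b2f .nil .nil) (.node 0xa95 .nil .nil)) (.node 0x5b8019c0b2f (.node 0x7980a95 .nil .nil) .nil))) (.node 0x356055a0001 (.node 0x7d4071e0001 (.node 0x4b003ba0c67 (.node 0xb2f .nil .nil) (.node 0x21209120a95 .nil .nil)) (.node 0x3aa07fe0c67 (.node 0xa95 .nil .nil) .nil)) (.node 0x5f2024c0c67 (.node 0x6360c67 (.node 0xb2f .nil .nil) (.node 0x12808660a95 .nil .nil)) (.node 0x68001500b2f (.node 0xa95 .nil .nil) .nil))))))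

/-- A part. -/
noncomputable def cand3_4 : Arr ℕ :=
  (.node 0x39803d20001 (.node 0x1a0001 (.node 0x3680001 (.node 0xe609ca0001 (.node 0x10e (.node 0x282042c0c67 (.node 0xb2f .nil .nil) (.node 0x578003c0a95 .nil .nil)) (.node 0x66058a0c67 (.node 0xb2f .nil .nil) .nil)) (.node 0x1ce (.node 0x4cc05c60c67 (.node 0xb2f .nil .nil) (.node 0xa95 .nil .nil)) (.node 0xb2f (.node 0x6b0 .nil .nil) .nil))) (.node 0x5e601e80001 (.node 0x8f60001 (.node 0x37c03ac0c67 (.node 0x534 .nil .nil) (.node 0xa95 .nil .nil)) (.node 0xc67 (.node 0xa95 .nil .nil) .nil)) (.node 0x160c67 (.node 0x4e40a780c67 (.node 0x5d2 .nil .nil) (.node 0x27a06820a95 .nil .nil)) (.node 0x492 (.node 0xa95 .nil .nil) .nil)))) (.node 0x5d00001 (.node 0x5603320001 (.node 0x496053e0001 (.node 0x16809e40c67 (.node 0x1b606ce0b2f .nil .nil) (.node 0x782 .nil .nil)) (.node 0x27a0aa00c67 (.node 0x65c .nil .nil) .nil)) (.node 0x60a006e0001 (.node 0x2120c67 (.node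 0x5b2 .nil .nil) (.node 0x3aa097e0a95 .nil .nil)) (.node 0x23c07040b2f (.node 0xa95 .nil .nil) .nil))) (.node 0x1 (.node 0x1ac (.node 0x2be (.node 0x7f60b2f .nil .nil) (.node 0xa95 .nil .nil)) (.node 0x60a057a0c67 (.node 0x696 .nil .nil) .nil)) (.node 0x58009f60c67 (.node 0xc67 (.node 0x62604880b2f .nil .nil) (.node 0xa95 .nil .nil)) (.node 0xb2f (.node 0x18a0a95 .nil .nil) .nil))))) (.node 0x71c01c80001 (.node 0x10806ec0001 (.node 0x1 (.node 0x6580001 (.node 0x7ba03660c67 (.node 0x79e09b60b2f .nil .nil) (.node 0x26603020a95 .nil .nil)) (.node 0x8480c67 (.node 0x7dc0b2f .nil .nil) .nil)) (.node 0x1 (.node 0x3d2047e0c67 (.node 0xb2f .nil .nil) (.node 0x20007bc0a95 .nil .nil)) (.node 0x40e006c0b2f (.node 0x1de099c0a95 .nil .nil) .nil))) (.node 0x6640001 (.node 0x1 (.node 0x20a02860c67 (.node 0x24800fc0b2f .nil .nil) (.node 0xa95 .nil .nil)) (.node 0xc67 (.node 0x28405f40a95 .nil .nil) .nil)) (.node 0x6180c67 (.node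 0x458046e0c67 (.node 0xa60b2f .nil .nil) (.node 0x3c60a95 .nil .nil)) (.node 0xb2f (.node 0x70e .nil .nil) .nil)))) (.node 0x750084e0001 (.node 0x1 (.node 0x7f802860001 (.node 0x36001c0c67 (.node 0xb2f .nil .nil) (.node 0x10208ea0a95 .nil .nil)) (.node 0x4aa05d40c67 (.node 0xa95 .nil .nil) .nil)) (.node 0x55602d20001 (.node 0xc67 (.node 0xe606f00b2f .nil .nil) (.node 0x142030c0a95 .nil .nil)) (.node 0xb2f (.node 0x518013a0a95 .nil .nil) .nil))) (.node 0x1 (.node 0x1 (.node 0x66e0c67 (.node 0x56e .nil .nil) (.node 0x1ee01780a95 .nil .nil)) (.node 0x256081a0c67 (.node 0x14006be0a95 .nil .nil) .nil)) (.node 0x548064e0c67 (.node 0xc67 (.node 0x9ee0b2f .nil .nil) .nil) (.node 0x17c02aa0b2f (.node 0x738 .nil .nil) .nil))))))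

/-- A part. -/
noncomputable def cand3_5 : Arr ℕ :=
  (.node 0x8820001 cand3_3 cand3_4)

/-- A part. -/
noncomputable def cand3_6 : Arr ℕ :=
  (.node 0x1 cand3_2 cand3_5)

/-- A part. -/
noncomputable def cand3_7 : Arr ℕ :=
  (.node 0x960001 (.node 0x7f8035e0001 (.node 0x1100001 (.node 0x1 (.node 0x48e073a0001 (.node 0x256 (.node 0x3de0aa60b2f .nil .nil) (.node 0xa95 .nil .nil)) (.node 0x38c (.node 0x1f00b2f .nil .nil) .nil)) (.node 0x8940001 (.node 0x1260c67 (.node 0x2b4097a0b2f .nil .nil) (.node 0xc20a95 .nil .nil)) (.node 0x3640b2f (.node 0x8e60a95 .nil .nil) .nil))) (.node 0x1 (.node 0x1 (.node 0x70c0c67 (.node 0xb2f .nil .nil) (.node 0x6d00a8a0a95 .nil .nil)) (.node 0x230028e0c67 (.node 0x66a .nil .nil) .nil)) (.node 0x4b405340c67 (.node 0x16e07080c67 (.node 0xb2f .nil .nil) (.node 0xa95 .nil .nil)) (.node 0x62400f20b2f (.node 0xa8012a0a95 .nil .nil) .nil)))) (.node 0x45a06d60001 (.node 0x38402a20001 (.node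 0x13a (.node 0x8e076a0c67 (.node 0x6760b2f .nil .nil) (.node 0x7bc035a0a95 .nil .nil)) (.node 0x11a00820c67 (.node 0x23a06220b2f .nil .nil) .nil)) (.node 0x47804ca0001 (.node 0x1207340c67 (.node 0x6ce01300b2f .nil .nil) (.node 0x17a033e0a95 .nil .nil)) (.node 0x1820b2f (.node 0x6d6 .nil .nil) .nil))) (.node 0x19403500001 (.node 0x40a020001 (.node 0x6700c67 (.node 0x11a0b2f .nil .nil) (.node 0x614014a0a95 .nil .nil)) (.node 0x71000c80c67 (.node 0xa95 .nil .nil) .nil)) (.node 0x1920c67 (.node 0xc67 (.node 0x5ec .nil .nil) (.node 0x37c001e0a95 .nil .nil)) (.node 0x4b0 (.node 0x710 .nil .nil) .nil))))) (.node 0x60c0001 (.node 0x34 (.node 0x7a (.node 0x5560001 (.node 0xc67 (.node 0x58608880b2f .nil .nil) (.node 0x75e .nil .nil)) (.node 0x75805e20c67 (.node 0x6a0b2f .nil .nil) .nil)) (.node 0x1060001 (.node 0x6a60c67 (.node 0x4220b2f .nil .nil) (.node 0x3c808d40a95 .nil .nil)) (.node 0x458 (.node 0xa95 .nil .nil) .nil)))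 (.node 0x35a0001 (.node 0x6d207860001 (.node 0x6e802b00c67 (.node 0x53a .nil .nil) (.node 0xa95 .nil .nil)) (.node 0x4b40c67 (.node 0x58402160a95 .nil .nil) .nil)) (.node 0x18802300c67 (.node 0x45e091a0c67 (.node 0x72209ae0b2f .nil .nil) (.node 0x87e0a95 .nil .nil)) (.node 0xb2f (.node 0x33a04200a95 .nil .nil) .nil)))) (.node 0x5c (.node 0x96 (.node 0x1cc04900001 (.node 0x14a04dc0c67 (.node 0x506 .nil .nil) (.node 0x34e02300a95 .nil .nil)) (.node 0xc67 (.node 0x664 .nil .nil) .nil)) (.node 0x3c008ca0001 (.node 0x1e60a5c0c67 (.node 0xb2f .nil .nil) (.node 0x5a001620a95 .nil .nil)) (.node 0x7720b2f (.node 0xae09c40a95 .nil .nil) .nil))) (.node 0xe0 (.node 0x70a0001 (.node 0x7ac047a0c67 (.node 0x51c02240b2f .nil .nil) (.node 0x52602d60a95 .nil .nil)) (.node 0xd608120c67 (.node 0x56a07b00a95 .nil .nil) .nil)) (.node 0x5c00440c67 (.node 0xc67 (.node 0xb2f .nil .nil) (.node 0xa95 .nil .nil)) (.node 0x5fa04d40b2f (.node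 0x37606100a95 .nil .nil) .nil))))))

/-- A part. -/
noncomputable def cand3_8 : Arr ℕ :=
  (.node 0x1 (.node 0x3fa0001 (.node 0xe04940001 (.node 0x47403c20001 (.node 0x106 (.node 0x7cc06100c67 (.node 0xb2f .nil .nil) (.node 0x5760a95 .nil .nil)) (.node 0x79206780c67 (.node 0x57e0b2f .nil .nil) .nil)) (.node 0x2ea02360001 (.node 0x6e20c67 (.node 0x586 .nil .nil) (.node 0x4407cc0a95 .nil .nil)) (.node 0x5a008340b2f (.node 0xa95 .nil .nil) .nil))) (.node 0xc0047a0001 (.node 0x9e60001 (.node 0x3ce0c67 (.node 0x52c .nil .nil) (.node 0x7ae .nil .nil)) (.node 0xc67 (.node 0x672 .nil .nil) .nil)) (.node 0x50603be0c67 (.node 0x50203bc0c67 (.node 0x2360a220b2f .nil .nil) (.node 0x1dc098e0a95 .nil .nil)) (.node 0x772053a0b2f (.node 0x184059e0a95 .nil .nil) .nil)))) (.node 0x14208400001 (.node 0x6d604560001 (.node 0x35809ee0001 (.node 0x50801200c67 (.node 0x7a403da0b2f .nil .nil) (.node 0xa95 .nil .nil)) (.node 0x3b8 (.node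 0x24205a40b2f .nil .nil) .nil)) (.node 0x206 (.node 0x310 (.node 0xb2f .nil .nil) (.node 0xa95 .nil .nil)) (.node 0x6d803700b2f (.node 0x1360a95 .nil .nil) .nil))) (.node 0x1 (.node 0x14a0001 (.node 0x1200b00c67 (.node 0xb2f .nil .nil) (.node 0x1f60a7e0a95 .nil .nil)) (.node 0x1f80c67 (.node 0x690 .nil .nil) .nil)) (.node 0x6ce023a0c67 (.node 0xc67 (.node 0x6fe090c0b2f .nil .nil) (.node 0x310035e0a95 .nil .nil)) (.node 0x11a052a0b2f (.node 0x6c6074c0a95 .nil .nil) .nil))))) (.node 0x6ca0001 (.node 0x38600f80001 (.node 0x80 (.node 0x12e (.node 0x1960c67 (.node 0x1420b2f .nil .nil) (.node 0x42c08220a95 .nil .nil)) (.node 0xc67 (.node 0x74401a40b2f .nil .nil) .nil)) (.node 0x71c05e80001 (.node 0x2f8 (.node 0x71807780b2f .nil .nil) (.node 0x1060a95 .nil .nil)) (.node 0xb2f (.node 0x59604500a95 .nil .nil) .nil))) (.node 0x63e08f80001 (.node 0x198 (.node 0x21809200c67 (.node 0x542 .nil .nil) (.node 0x51201d80a95 .nil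 .nil)) (.node 0x412 (.node 0x5480a95 .nil .nil) .nil)) (.node 0xc67 (.node 0xc67 (.node 0xa460b2f .nil .nil) (.node 0x86c .nil .nil)) (.node 0x3d6074e0b2f (.node 0x70c .nil .nil) .nil)))) (.node 0x1 (.node 0x2b60001 (.node 0x168 (.node 0xc67 (.node 0x9700b2f .nil .nil) (.node 0x15005640a95 .nil .nil)) (.node 0x3fa0c67 (.node 0x13a007e0a95 .nil .nil) .nil)) (.node 0x306024e0001 (.node 0x1cc00a00c67 (.node 0x5c2 .nil .nil) (.node 0x5da02ca0a95 .nil .nil)) (.node 0x478 (.node 0x58606fe0a95 .nil .nil) .nil))) (.node 0x22200820001 (.node 0x144026a0001 (.node 0xc67 (.node 0x568 .nil .nil) (.node 0x5400820a95 .nil .nil)) (.node 0x33a02c80c67 (.node 0x7f005b00a95 .nil .nil) .nil)) (.node 0x4f004ba0c67 (.node 0x380 (.node 0x50202a40b2f .nil .nil) .nil) (.node 0xb2f (.node 0xa95 .nil .nil) .nil))))))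

/-- A part. -/
noncomputable def cand3_9 : Arr ℕ :=
  (.node 0x79a097c0001 cand3_7 cand3_8)

/-- A part. -/
noncomputable def cand3_10 : Arr ℕ :=
  (.node 0xe80001 (.node 0x1560001 (.node 0x4ea00e00001 (.node 0x6e0069a0001 (.node 0x1 (.node 0xc67 (.node 0xb2f .nil .nil) (.node 0x77a0a8c0a95 .nil .nil)) (.node 0xc67 (.node 0x68203c60b2f .nil .nil) .nil)) (.node 0x1c6 (.node 0x65800780c67 (.node 0x91c0b2f .nil .nil) (.node 0x15406ec0a95 .nil .nil)) (.node 0x44a (.node 0x6a8 .nil .nil) .nil))) (.node 0x18001d20001 (.node 0x1 (.node 0x45c05800c67 (.node 0x9740b2f .nil .nil) (.node 0x4fc075a0a95 .nil .nil)) (.node 0x5e806cc0c67 (.node 0x2780a95 .nil .nil) .nil)) (.node 0x58c001a0c67 (.node 0xc67 (.node 0x1fc0b2f .nil .nil) (.node 0x8420a95 .nil .nil)) (.node 0x70005dc0b2f (.node 0x27c032a0a95 .nil .nil) .nil)))) (.node 0x19e04520001 (.node 0x1620001 (.node 0x5206e80001 (.node 0x79e0c67 (.node 0x4ec .nil .nil) (.node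 0x8be0a95 .nil .nil)) (.node 0x1820c67 (.node 0x652 .nil .nil) .nil)) (.node 0x63005ba0001 (.node 0x58a08800c67 (.node 0x5a8 .nil .nil) (.node 0xa95 .nil .nil)) (.node 0x3780b2f (.node 0x2ca02b80a95 .nil .nil) .nil))) (.node 0x1 (.node 0x1a4 (.node 0x5ae09aa0c67 (.node 0xb2f .nil .nil) (.node 0x7dc .nil .nil)) (.node 0x422 (.node 0xa95 .nil .nil) .nil)) (.node 0x6be0c67 (.node 0x48e0a0e0c67 (.node 0x3a805940b2f .nil .nil) (.node 0xa95 .nil .nil)) (.node 0x5cc085a0b2f (.node 0xa95 .nil .nil) .nil))))) (.node 0x21e08f40001 (.node 0x79c0001 (.node 0x1 (.node 0x11a0a580001 (.node 0xc67 (.node 0x58009420b2f .nil .nil) (.node 0x760 .nil .nil)) (.node 0x76a01a20c67 (.node 0x63c .nil .nil) .nil)) (.node 0x7ec093a0001 (.node 0x3bc02180c67 (.node 0x598 .nil .nil) (.node 0xa95 .nil .nil)) (.node 0xb2f (.node 0x77203400a95 .nil .nil) .nil))) (.node 0x27403940001 (.node 0x1 (.node 0x17c0c67 (.node 0x53a09c00b2f .nil .nil) (.node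 0x2808900a95 .nil .nil)) (.node 0x220a380c67 (.node 0x67c .nil .nil) .nil)) (.node 0x22c (.node 0x63608720c67 (.node 0x52a01320b2f .nil .nil) (.node 0x6ca003e0a95 .nil .nil)) (.node 0x51c07740b2f (.node 0x20602340a95 .nil .nil) .nil)))) (.node 0x1 (.node 0x738046e0001 (.node 0x4ca02040001 (.node 0x56e05760c67 (.node 0x38e00dc0b2f .nil .nil) (.node 0x4b808a20a95 .nil .nil)) (.node 0x2d802be0c67 (.node 0x3580b2f .nil .nil) .nil)) (.node 0x38806cc0001 (.node 0x4a60c67 (.node 0x5bc .nil .nil) (.node 0x83a .nil .nil)) (.node 0x76e0b2f (.node 0x2d604f20a95 .nil .nil) .nil))) (.node 0x3c80001 (.node 0x1b6 (.node 0x71800760c67 (.node 0x7500a280b2f .nil .nil) (.node 0x17607da0a95 .nil .nil)) (.node 0x440 (.node 0xa95 .nil .nil) .nil)) (.node 0xc67 (.node 0x37c (.node 0x60e .nil .nil) (.node 0xa95 .nil .nil)) (.node 0xfa08aa0b2f (.node 0xa95 .nil .nil) .nil))))))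

/-- A part. -/
noncomputable def cand3_11 : Arr ℕ :=
  (.node 0x63409d80001 (.node 0x18e0001 (.node 0x2d405b00001 (.node 0x1 (.node 0x3460001 (.node 0xc67 (.node 0x260b2f .nil .nil) (.node 0xa95 .nil .nil)) (.node 0xc67 (.node 0x632 .nil .nil) .nil)) (.node 0x51c0001 (.node 0xc67 (.node 0x9520b2f .nil .nil) (.node 0x7d20a95 .nil .nil)) (.node 0x71000b00b2f (.node 0xa95 .nil .nil) .nil))) (.node 0x19a00dc0001 (.node 0x62c0001 (.node 0x29a (.node 0x3fe0b2f .nil .nil) (.node 0xa95 .nil .nil)) (.node 0xd405fc0c67 (.node 0x1c609620a95 .nil .nil) .nil)) (.node 0xb208b80c67 (.node 0x346 (.node 0x80b2f .nil .nil) (.node 0x3e60a95 .nil .nil)) (.node 0x496 (.node 0xa95 .nil .nil) .nil)))) (.node 0x44006840001 (.node 0x77e06d40001 (.node 0x150 (.node 0xc67 (.node 0xb2f .nil .nil) (.node 0x30a04c60a95 .nil .nil)) (.node 0x7c2088a0c67 (.node 0x55c0b2f .nil .nil) .nil)) (.node 0x20c (.node 0x3401040c67 (.node 0xe202440b2f .nil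 .nil) (.node 0x824 .nil .nil)) (.node 0x2bc0b2f (.node 0x6dc .nil .nil) .nil))) (.node 0x51c08540001 (.node 0x1b0 (.node 0xc67 (.node 0x55a .nil .nil) (.node 0x4bc0a95 .nil .nil)) (.node 0x5120c67 (.node 0xa95 .nil .nil) .nil)) (.node 0x23c (.node 0x65e01ae0c67 (.node 0xb2f .nil .nil) (.node 0xa95 .nil .nil)) (.node 0x2ac09100b2f (.node 0xea03100a95 .nil .nil) .nil))))) (.node 0x45805040001 (.node 0x44 (.node 0x88 (.node 0x5ae0a180001 (.node 0xc67 (.node 0x15c0b2f .nil .nil) (.node 0xa95 .nil .nil)) (.node 0x3a8 (.node 0x648 .nil .nil) .nil)) (.node 0x1ec (.node 0x67205740c67 (.node 0x76809f20b2f .nil .nil) (.node 0xa95 .nil .nil)) (.node 0xb2f (.node 0x4e407820a95 .nil .nil) .nil))) (.node 0x2720001 (.node 0x1 (.node 0x41e03ec0c67 (.node 0xb2f .nil .nil) (.node 0x1600a95 .nil .nil)) (.node 0x4ac080a0c67 (.node 0x6380a6e0a95 .nil .nil) .nil)) (.node 0xc67 (.node 0x2fa070e0c67 (.node 0x5e2 .nil .nil) (.node 0xa95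 .nil .nil)) (.node 0xb2f (.node 0x6e208580a95 .nil .nil) .nil)))) (.node 0x1 (.node 0x1 (.node 0x16c (.node 0x28a (.node 0x8ee0b2f .nil .nil) (.node 0xa7c0a95 .nil .nil)) (.node 0xc67 (.node 0x4205260a95 .nil .nil) .nil)) (.node 0x58c0001 (.node 0x6400c67 (.node 0x18059c0b2f .nil .nil) (.node 0x4ea0a95 .nil .nil)) (.node 0x74e03a40b2f (.node 0x28c0a95 .nil .nil) .nil))) (.node 0xf6 (.node 0x1bc (.node 0x2d0 (.node 0x65808440b2f .nil .nil) (.node 0x7f2 .nil .nil)) (.node 0x51e00b80b2f (.node 0xa95 .nil .nil) .nil)) (.node 0x5260c67 (.node 0xc67 (.node 0x61c .nil .nil) .nil) (.node 0x4c0 (.node 0xa80a95 .nil .nil) .nil))))))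

/-- A part. -/
noncomputable def cand3_12 : Arr ℕ :=
  (.node 0x79c05440001 cand3_10 cand3_11)

/-- A part. -/
noncomputable def cand3_13 : Arr ℕ :=
  (.node 0x6f209240001 cand3_9 cand3_12)

/-- A part. -/
noncomputable def cand3_14 : Arr ℕ :=
  (.node 0x55806060001 cand3_6 cand3_13)

/-- The array. -/
noncomputable def cand3 : Arr ℕ := cand3_14

/-- A part. -/
noncomputable def cand4_0 : Arr ℕ :=
  (.node 0x1 (.node 0x36603040001 (.node 0x1 (.node 0x1 (.node 0x1be06ba0001 (.node 0x2e402e80c67 (.node 0xb2f .nil .nil) (.node 0xa95 .nil .nil)) (.node 0x9ee0c67 (.node 0x622 .nil .nil) .nil)) (.node 0x1 (.node 0x1720a360c67 (.node 0x79401740b2f .nil .nil) (.node 0x7f4 .nil .nil)) (.node 0x43c02180b2f (.node 0xa95 .nil .nil) .nil))) (.node 0x1 (.node 0x1 (.node 0x46006fc0c67 (.node 0x5b209220b2f .nil .nil) (.node 0x61004f00a95 .nil .nil)) (.node 0x1e20c67 (.node 0x59a07140a95 .nil .nil) .nil)) (.node 0xc67 (.node 0xc67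 (.node 0x1b40b2f .nil .nil) (.node 0x48e08b40a95 .nil .nil)) (.node 0x488 (.node 0x6ce09a20a95 .nil .nil) .nil)))) (.node 0x16e0001 (.node 0x51800560001 (.node 0x260001 (.node 0x1620a220c67 (.node 0xb2f .nil .nil) (.node 0xa95 .nil .nil)) (.node 0x7be027e0c67 (.node 0xb2f .nil .nil) .nil)) (.node 0x5b804680001 (.node 0x3f4059a0c67 (.node 0xb2f .nil .nil) (.node 0x812 .nil .nil)) (.node 0xb2f (.node 0x6d4 .nil .nil) .nil))) (.node 0x43c09ae0001 (.node 0x468047e0001 (.node 0x7a6020c0c67 (.node 0x71c0a3e0b2f .nil .nil) (.node 0x7d4 .nil .nil)) (.node 0x5b006060c67 (.node 0xa240a95 .nil .nil) .nil)) (.node 0x30e0a8e0c67 (.node 0x4bc019c0c67 (.node 0x2e00b2f .nil .nil) (.node 0x78c0a95 .nil .nil)) (.node 0x33e01800b2f (.node 0x3a2007a0a95 .nil .nil) .nil))))) (.node 0x1c60001 (.node 0x1 (.node 0x1 (.node 0x2100001 (.node 0x4da0c67 (.node 0x17e0b2f .nil .nil) (.node 0x27a0a95 .nil .nil)) (.node 0x94a0c67 (.node 0x38808ac0b2f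 .nil .nil) .nil)) (.node 0x59404ae0001 (.node 0x19a086e0c67 (.node 0x14a0a900b2f .nil .nil) (.node 0xa95 .nil .nil)) (.node 0x8d60b2f (.node 0x1de0a580a95 .nil .nil) .nil))) (.node 0x32400ee0001 (.node 0x114078c0001 (.node 0x4f80c67 (.node 0x244094e0b2f .nil .nil) (.node 0x9604ca0a95 .nil .nil)) (.node 0x17a057e0c67 (.node 0x1160a520a95 .nil .nil) .nil)) (.node 0xc67 (.node 0xc67 (.node 0x5d6 .nil .nil) (.node 0x2fe0a95 .nil .nil)) (.node 0x6ac0b2f (.node 0x63a0a95 .nil .nil) .nil)))) (.node 0x1 (.node 0x6bc03560001 (.node 0x1 (.node 0x5e40c67 (.node 0x41a045c0b2f .nil .nil) (.node 0x790090a0a95 .nil .nil)) (.node 0x3c6 (.node 0x660 .nil .nil) .nil)) (.node 0x20e (.node 0x7d60a1e0c67 (.node 0x2b609500b2f .nil .nil) (.node 0x12209420a95 .nil .nil)) (.node 0xb2f (.node 0x77c00f20a95 .nil .nil) .nil))) (.node 0xaa80001 (.node 0x1 (.node 0xc67 (.node 0x2060b2f .nil .nil) (.node 0x7e6 .nil .nil)) (.node 0x55606320c67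 (.node 0x1300a95 .nil .nil) .nil)) (.node 0x240 (.node 0xd80c67 (.node 0x602 .nil .nil) (.node 0x2e408c40a95 .nil .nil)) (.node 0xb2f (.node 0x72e .nil .nil) .nil))))))

/-- A part. -/
noncomputable def cand4_1 : Arr ℕ :=
  (.node 0x1 (.node 0x1 (.node 0x5de0001 (.node 0x352042a0001 (.node 0x2c203c40001 (.node 0x1803da0c67 (.node 0xb2f .nil .nil) (.node 0x74c .nil .nil)) (.node 0x7d40c67 (.node 0x770060e0b2f .nil .nil) .nil)) (.node 0x1c8 (.node 0x7fe06d20c67 (.node 0x2b001260b2f .nil .nil) (.node 0x59a0a95 .nil .nil)) (.node 0xb2f (.node 0xa95 .nil .nil) .nil))) (.node 0x7606260001 (.node 0x17e (.node 0x2c0c67 (.node 0xb2f .nil .nil) (.node 0x7aa .nil .nil)) (.node 0xc67 (.node 0x2460a5e0a95 .nil .nil) .nil)) (.node 0x67c0c67 (.node 0x13c06000c67 (.node 0xb2f .nil .nil) (.node 0x376082e0a95 .nil .nil)) (.node 0xc400140b2f (.node 0x6c20a95 .nil .nil) .nil)))) (.node 0x41a0001 (.node 0x69a05620001 (.node 0x65409840001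 (.node 0x40c0c67 (.node 0x50e06640b2f .nil .nil) (.node 0x1c20a95 .nil .nil)) (.node 0x740c67 (.node 0x406060a0b2f .nil .nil) .nil)) (.node 0x4c0001 (.node 0x30c (.node 0x5d400da0b2f .nil .nil) (.node 0x81c .nil .nil)) (.node 0xb2f (.node 0xcc0a95 .nil .nil) .nil))) (.node 0x37407620001 (.node 0x1360001 (.node 0xee00e60c67 (.node 0x9680b2f .nil .nil) (.node 0x37803d60a95 .nil .nil)) (.node 0x7460a9e0c67 (.node 0x1e20a95 .nil .nil) .nil)) (.node 0xc67 (.node 0x30e07280c67 (.node 0x5ee0b2f .nil .nil) (.node 0x1c405000a95 .nil .nil)) (.node 0x310079c0b2f (.node 0x960a95 .nil .nil) .nil))))) (.node 0x1740001 (.node 0x840a160001 (.node 0x62e05060001 (.node 0x1 (.node 0x66406820c67 (.node 0x860b2f .nil .nil) (.node 0x764 .nil .nil)) (.node 0xc67 (.node 0x642 .nil .nil) .nil)) (.node 0x2b80a880001 (.node 0x2f4 (.node 0xb2f .nil .nil) (.node 0x79a0a95 .nil .nil)) (.node 0x4080b2f (.node 0x66a03120a95 .nil .nil) .nil)))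 (.node 0x74602880001 (.node 0x608049a0001 (.node 0xc67 (.node 0xb2f .nil .nil) (.node 0x62e07f00a95 .nil .nil)) (.node 0x52a0c67 (.node 0xaa00a95 .nil .nil) .nil)) (.node 0x22e (.node 0x4f600a60c67 (.node 0x14207a40b2f .nil .nil) (.node 0x868 .nil .nil)) (.node 0x49e (.node 0x2b00a95 .nil .nil) .nil)))) (.node 0x27a0001 (.node 0x1 (.node 0x20008880001 (.node 0x5d608f40c67 (.node 0x50e .nil .nil) (.node 0xa95 .nil .nil)) (.node 0x60601b40c67 (.node 0xb2f .nil .nil) .nil)) (.node 0x64e0001 (.node 0xc67 (.node 0xb2f .nil .nil) (.node 0x400b20a95 .nil .nil)) (.node 0xb2f (.node 0x7a60a1a0a95 .nil .nil) .nil))) (.node 0x1 (.node 0x58054e0001 (.node 0xc67 (.node 0xb2f .nil .nil) (.node 0xa95 .nil .nil)) (.node 0xc67 (.node 0x2240a7a0a95 .nil .nil) .nil)) (.node 0x8c40c67 (.node 0x90c0c67 (.node 0x612 .nil .nil) .nil) (.node 0x57e06a20b2f (.node 0x70007f60a95 .nil .nil) .nil))))))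

/-- A part. -/
noncomputable def cand4_2 : Arr ℕ :=
  (.node 0x3aa05be0001 cand4_0 cand4_1)

/-- A part. -/
noncomputable def cand4_3 : Arr ℕ :=
  (.node 0x1 (.node 0x62e0001 (.node 0x1e (.node 0x28800cc0001 (.node 0x1 (.node 0x32e0c67 (.node 0xb2f .nil .nil) (.node 0xa95 .nil .nil)) (.node 0x77c044e0c67 (.node 0x8e0b2f .nil .nil) .nil)) (.node 0x2e405800001 (.node 0x28a03160c67 (.node 0x57e00820b2f .nil .nil) (.node 0xa95 .nil .nil)) (.node 0x8e04d60b2f (.node 0x5ae09e60a95 .nil .nil) .nil))) (.node 0x65803600001 (.node 0x41803240001 (.node 0x1680c67 (.node 0x3e809140b2f .nil .nil) (.node 0x7a4 .nil .nil)) (.node 0x3e8 (.node 0x64201940a95 .nil .nil) .nil)) (.node 0x79804ac0c67 (.node 0x60e03800c67 (.node 0x4100b2f .nil .nil) (.node 0xa95 .nil .nil)) (.node 0x960b2f (.node 0xa95 .nil .nil) .nil)))) (.node 0x4e (.node 0x63a0001 (.node 0x1 (.node 0x4ca0c67 (.node 0xb2f .nil .nil) (.node 0x5cc0a95 .nil .nil)) (.node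 0x3ae (.node 0x218064e0b2f .nil .nil) .nil)) (.node 0x8000001 (.node 0x4660a0a0c67 (.node 0x5a2 .nil .nil) (.node 0x4ac0a95 .nil .nil)) (.node 0x31804520b2f (.node 0xa95 .nil .nil) .nil))) (.node 0x234061c0001 (.node 0x5be02500001 (.node 0x9bc0c67 (.node 0x7500a7c0b2f .nil .nil) (.node 0x5cc01fa0a95 .nil .nil)) (.node 0xc67 (.node 0xa95 .nil .nil) .nil)) (.node 0x6560a700c67 (.node 0x364 (.node 0xb2f .nil .nil) (.node 0x94e0a95 .nil .nil)) (.node 0x5620b2f (.node 0xb40a3a0a95 .nil .nil) .nil))))) (.node 0x1 (.node 0x5c2052a0001 (.node 0x31809d60001 (.node 0x1 (.node 0x25a (.node 0x4e0a540b2f .nil .nil) (.node 0x53e09b00a95 .nil .nil)) (.node 0xc67 (.node 0x800aa80b2f .nil .nil) .nil)) (.node 0x1dc (.node 0x2f0 (.node 0xa040b2f .nil .nil) (.node 0xa95 .nil .nil)) (.node 0x75a0b2f (.node 0x49e009a0a95 .nil .nil) .nil))) (.node 0x39c06520001 (.node 0x2d805f20001 (.node 0x6c00c67 (.node 0xb2f .nil .nil) (.node 0x5740a95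 .nil .nil)) (.node 0x38a07be0c67 (.node 0x4ee0a95 .nil .nil) .nil)) (.node 0x1d809220c67 (.node 0x16c0a900c67 (.node 0x3ba01f20b2f .nil .nil) (.node 0x2ba08200a95 .nil .nil)) (.node 0x35404280b2f (.node 0x654099e0a95 .nil .nil) .nil)))) (.node 0x3360a3a0001 (.node 0xd806ea0001 (.node 0x1 (.node 0x628073e0c67 (.node 0x50a .nil .nil) (.node 0x78a .nil .nil)) (.node 0xc67 (.node 0x2960b2f .nil .nil) .nil)) (.node 0x216 (.node 0xc67 (.node 0x5ba .nil .nil) (.node 0x24008b80a95 .nil .nil)) (.node 0x472 (.node 0x2be086a0a95 .nil .nil) .nil))) (.node 0x61c038c0001 (.node 0x1 (.node 0x4f600080c67 (.node 0x60405460b2f .nil .nil) (.node 0x48a041c0a95 .nil .nil)) (.node 0x4a603080c67 (.node 0x39e06d20a95 .nil .nil) .nil)) (.node 0x4320c67 (.node 0xc67 (.node 0x9060b2f .nil .nil) (.node 0x1f807600a95 .nil .nil)) (.node 0x39a07380b2f (.node 0xa95 .nil .nil) .nil))))))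

/-- A part. -/
noncomputable def cand4_4 : Arr ℕ :=
  (.node 0x62a0001 (.node 0x6bc0001 (.node 0x56089e0001 (.node 0x1 (.node 0x61806a40001 (.node 0x2040c67 (.node 0x3d6016e0b2f .nil .nil) (.node 0x758 .nil .nil)) (.node 0x6f20a140c67 (.node 0xb2f .nil .nil) .nil)) (.node 0x18602680001 (.node 0x6ba02480c67 (.node 0x2800b2f .nil .nil) (.node 0x8ec0a95 .nil .nil)) (.node 0x3e0a5e0b2f (.node 0x6b2 .nil .nil) .nil))) (.node 0xb4 (.node 0xa7c0001 (.node 0xc67 (.node 0xb2f .nil .nil) (.node 0xa95 .nil .nil)) (.node 0x3fa (.node 0x1100a95 .nil .nil) .nil)) (.node 0xc67 (.node 0xea011a0c67 (.node 0x47805560b2f .nil .nil) (.node 0xaa80a95 .nil .nil)) (.node 0xb2f (.node 0x76409f60a95 .nil .nil) .nil)))) (.node 0x8ae0001 (.node 0x3c403800001 (.node 0x8608a80001 (.node 0xc67 (.node 0x4fa .nil .nil) (.node 0x4a404340a95 .nil .nil)) (.node 0x718010e0c67 (.node 0x1f40b2f .nil .nil) .nil)) (.node 0x502025c0001 (.node 0x28005fe0c67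 (.node 0xb2f .nil .nil) (.node 0x41e05c80a95 .nil .nil)) (.node 0x218018e0b2f (.node 0xa95 .nil .nil) .nil))) (.node 0x5940001 (.node 0x1bc08660001 (.node 0x2e808960c67 (.node 0xb2f .nil .nil) (.node 0x1c40a95 .nil .nil)) (.node 0xc67 (.node 0x698 .nil .nil) .nil)) (.node 0x70e03de0c67 (.node 0xc67 (.node 0xb2f .nil .nil) (.node 0x33602580a95 .nil .nil)) (.node 0xb2f (.node 0x726 .nil .nil) .nil))))) (.node 0x1 (.node 0x40 (.node 0x740069c0001 (.node 0x51a0001 (.node 0x260 (.node 0x194081a0b2f .nil .nil) (.node 0x9040a95 .nil .nil)) (.node 0x31a08b40c67 (.node 0xb2f .nil .nil) .nil)) (.node 0x61c08360001 (.node 0xa0c67 (.node 0x19c09bc0b2f .nil .nil) (.node 0x2ee06d00a95 .nil .nil)) (.node 0x7660a9a0b2f (.node 0x6d407fc0a95 .nil .nil) .nil))) (.node 0x2300001 (.node 0x6880001 (.node 0x4940c67 (.node 0x4a01ba0b2f .nil .nil) (.node 0x73e07960a95 .nil .nil)) (.node 0x200085c0c67 (.node 0x14009280a95 .nil .nil) .nil))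 (.node 0x84a0c67 (.node 0xc67 (.node 0x66203ce0b2f .nil .nil) (.node 0x1c600d00a95 .nil .nil)) (.node 0x14c00e00b2f (.node 0x334066a0a95 .nil .nil) .nil)))) (.node 0x1 (.node 0x71009980001 (.node 0x6d004180001 (.node 0x2f801ba0c67 (.node 0x514 .nil .nil) (.node 0x22403320a95 .nil .nil)) (.node 0x14409e60c67 (.node 0x5f402980a95 .nil .nil) .nil)) (.node 0x1 (.node 0x328 (.node 0xb2f .nil .nil) (.node 0xa95 .nil .nil)) (.node 0x664079e0b2f (.node 0x26202100a95 .nil .nil) .nil))) (.node 0xf0 (.node 0x3b20001 (.node 0x6760c67 (.node 0x44c049c0b2f .nil .nil) (.node 0x7f0 .nil .nil)) (.node 0x54a07140b2f (.node 0x6a2 .nil .nil) .nil)) (.node 0x24c (.node 0x386 (.node 0x4c08d00b2f .nil .nil) .nil) (.node 0xb2f (.node 0x73a .nil .nil) .nil))))))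

/-- A part. -/
noncomputable def cand4_5 : Arr ℕ :=
  (.node 0x1c40001 cand4_3 cand4_4)

/-- A part. -/
noncomputable def cand4_6 : Arr ℕ :=
  (.node 0x1 cand4_2 cand4_5)

/-- A part. -/
noncomputable def cand4_7 : Arr ℕ :=
  (.node 0x11e00b40001 (.node 0x45a09800001 (.node 0x4fc08b80001 (.node 0x1 (.node 0xfc (.node 0xc67 (.node 0x2be038c0b2f .nil .nil) (.node 0x2c602ce0a95 .nil .nil)) (.node 0x1e80c67 (.node 0x7602b60b2f .nil .nil) .nil)) (.node 0x20008a60001 (.node 0x6ee063e0c67 (.node 0x50a05ac0b2f .nil .nil) (.node 0x2c6080a0a95 .nil .nil)) (.node 0x77c00580b2f (.node 0x540a95 .nil .nil) .nil))) (.node 0x1 (.node 0x44007fa0001 (.node 0xc67 (.node 0xb2f .nil .nil) (.node 0xa95 .nil .nil)) (.node 0x49c00320c67 (.node 0xa95 .nil .nil) .nil)) (.node 0x34a04d80c67 (.node 0xc67 (.node 0x6602fe0b2f .nil .nil) (.node 0x850 .nil .nil)) (.node 0x7c08680b2f (.node 0x3bc0a95 .nil .nil) .nil)))) (.node 0x2a204f80001 (.node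 0x6ba06380001 (.node 0x13c (.node 0x26806a20c67 (.node 0x4e8 .nil .nil) (.node 0x62403e00a95 .nil .nil)) (.node 0x12c0c67 (.node 0x2bc02640b2f .nil .nil) .nil)) (.node 0x4e60001 (.node 0x300 (.node 0xb2f .nil .nil) (.node 0x8bc0a95 .nil .nil)) (.node 0x9da0b2f (.node 0xa95 .nil .nil) .nil))) (.node 0x5000001 (.node 0x206680001 (.node 0x92005e0c67 (.node 0x552 .nil .nil) (.node 0x76803b80a95 .nil .nil)) (.node 0xa580c67 (.node 0x686 .nil .nil) .nil)) (.node 0x5a008e60c67 (.node 0x762087a0c67 (.node 0x53e0b2f .nil .nil) (.node 0x17806960a95 .nil .nil)) (.node 0x4b2 (.node 0x49e0a95 .nil .nil) .nil))))) (.node 0x8aa0001 (.node 0x8840001 (.node 0x7c (.node 0x44807ea0001 (.node 0x1840c67 (.node 0x4d6 .nil .nil) (.node 0x71e066c0a95 .nil .nil)) (.node 0xc67 (.node 0x19e05fc0b2f .nil .nil) .nil)) (.node 0x1d4 (.node 0x35607e40c67 (.node 0x590 .nil .nil) (.node 0x806 .nil .nil)) (.node 0x2840b2f (.node 0x5de011e0a95 .nil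 .nil) .nil))) (.node 0xba (.node 0x10207320001 (.node 0x29e (.node 0xb2f .nil .nil) (.node 0x7ba .nil .nil)) (.node 0x404 (.node 0x3ac0a95 .nil .nil) .nil)) (.node 0xc67 (.node 0x49c06980c67 (.node 0x5d8 .nil .nil) (.node 0x174090e0a95 .nil .nil)) (.node 0x70405480b2f (.node 0xa95 .nil .nil) .nil)))) (.node 0x6660a720001 (.node 0x68200440001 (.node 0x1 (.node 0xc67 (.node 0x62602520b2f .nil .nil) (.node 0xa95 .nil .nil)) (.node 0x7840c67 (.node 0x82e0b2f .nil .nil) .nil)) (.node 0x7940001 (.node 0xc67 (.node 0x4a009b40b2f .nil .nil) (.node 0x6b00a95 .nil .nil)) (.node 0xb2f (.node 0x64a08740a95 .nil .nil) .nil))) (.node 0x1 (.node 0x1 (.node 0x23802320c67 (.node 0x560 .nil .nil) (.node 0x4ac068e0a95 .nil .nil)) (.node 0x7580c67 (.node 0x72005f00a95 .nil .nil) .nil)) (.node 0xae0c67 (.node 0xc67 (.node 0x67e0b2f .nil .nil) (.node 0x6ba02ec0a95 .nil .nil)) (.node 0x880a500b2f (.node 0xa95 .nil .nil) .nil))))))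

/-- A part. -/
noncomputable def cand4_8 : Arr ℕ :=
  (.node 0x7f80001 (.node 0x22e06f00001 (.node 0x1 (.node 0x1 (.node 0x108 (.node 0xc67 (.node 0x4d0 .nil .nil) (.node 0x754 .nil .nil)) (.node 0x692074e0c67 (.node 0x4de03d80b2f .nil .nil) .nil)) (.node 0x1 (.node 0x76802280c67 (.node 0x620b2f .nil .nil) (.node 0x6040a95 .nil .nil)) (.node 0x418068e0b2f (.node 0x11602b20a95 .nil .nil) .nil))) (.node 0x72c083e0001 (.node 0x180 (.node 0xc67 (.node 0x2600b2f .nil .nil) (.node 0x7d60a95 .nil .nil)) (.node 0x3f2 (.node 0x3da0a95 .nil .nil) .nil)) (.node 0xf00c67 (.node 0x6580a6e0c67 (.node 0x2dc03ac0b2f .nil .nil) (.node 0x23605240a95 .nil .nil)) (.node 0x48e (.node 0x1b806700a95 .nil .nil) .nil)))) (.node 0x5007720001 (.node 0x37201400001 (.node 0x4f60001 (.node 0x73206de0c67 (.node 0x57c04860b2f .nil .nil) (.node 0xa95 .nil .nil)) (.node 0x72a0c67 (.node 0xb2f .nil .nil) .nil)) (.node 0x8140001 (.node 0x52600dc0c67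 (.node 0x46807580b2f .nil .nil) (.node 0x64e02de0a95 .nil .nil)) (.node 0x4f2099e0b2f (.node 0x740a060a95 .nil .nil) .nil))) (.node 0x68a0001 (.node 0x8300001 (.node 0xa2e0c67 (.node 0x9a20b2f .nil .nil) (.node 0x7e0 .nil .nil)) (.node 0x18007780c67 (.node 0x692 .nil .nil) .nil)) (.node 0x23a (.node 0x4920c67 (.node 0xb2f .nil .nil) (.node 0x87e .nil .nil)) (.node 0x41c0b2f (.node 0xa95 .nil .nil) .nil))))) (.node 0x1 (.node 0x7603520001 (.node 0x1 (.node 0x130 (.node 0x2640c67 (.node 0x7e80b2f .nil .nil) (.node 0x6d803620a95 .nil .nil)) (.node 0x2580c67 (.node 0x25e0b2f .nil .nil) .nil)) (.node 0x1e4 (.node 0xc67 (.node 0x6f60b2f .nil .nil) (.node 0x8320a95 .nil .nil)) (.node 0xa000b2f (.node 0xa95 .nil .nil) .nil))) (.node 0xc4 (.node 0x33c07b20001 (.node 0x2a8 (.node 0xb2f .nil .nil) (.node 0x7ca .nil .nil)) (.node 0x414 (.node 0xa95 .nil .nil) .nil)) (.node 0x8ee0c67 (.node 0xc67 (.node 0x7b202f00b2f .nil .nil)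 (.node 0x9c0a95 .nil .nil)) (.node 0x73003840b2f (.node 0x5a40a95 .nil .nil) .nil)))) (.node 0x1 (.node 0xa4 (.node 0x1 (.node 0xc67 (.node 0x480b2f .nil .nil) (.node 0x5c608c00a95 .nil .nil)) (.node 0x3d6 (.node 0x40605f60a95 .nil .nil) .nil)) (.node 0x1 (.node 0x692055c0c67 (.node 0x1600b2f .nil .nil) (.node 0x188087a0a95 .nil .nil)) (.node 0xb2f (.node 0x2bc0a95 .nil .nil) .nil))) (.node 0x45a0001 (.node 0x1 (.node 0x2cc (.node 0x20c010c0b2f .nil .nil) (.node 0x4d2061a0a95 .nil .nil)) (.node 0x8180c67 (.node 0xa95 .nil .nil) .nil)) (.node 0x61205240c67 (.node 0xc67 (.node 0x616 .nil .nil) .nil) (.node 0x7c800d80b2f (.node 0x9300a95 .nil .nil) .nil))))))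

/-- A part. -/
noncomputable def cand4_9 : Arr ℕ :=
  (.node 0x1 cand4_7 cand4_8)

/-- A part. -/
noncomputable def cand4_10 : Arr ℕ :=
  (.node 0x8 (.node 0x920001 (.node 0xd00001 (.node 0x66203dc0001 (.node 0x1 (.node 0x61203ea0c67 (.node 0xb2f .nil .nil) (.node 0x748 .nil .nil)) (.node 0xc67 (.node 0x1f80b2f .nil .nil) .nil)) (.node 0x73e0001 (.node 0x7a003a40c67 (.node 0x61a05a00b2f .nil .nil) (.node 0x75005ec0a95 .nil .nil)) (.node 0x1b60b2f (.node 0x13e0a360a95 .nil .nil) .nil))) (.node 0x57c007a0001 (.node 0x73603300001 (.node 0x59806860c67 (.node 0xb2f .nil .nil) (.node 0xa95 .nil .nil)) (.node 0x25404160c67 (.node 0x66e .nil .nil) .nil)) (.node 0xc67 (.node 0x38a0c67 (.node 0x380b2f .nil .nil) (.node 0x3d6055e0a95 .nil .nil)) (.node 0x5220b2f (.node 0x7d402220a95 .nil .nil) .nil)))) (.node 0x36802da0001 (.node 0x1 (.node 0x1 (.node 0xc67 (.node 0x3d2086e0b2f .nil .nil) (.node 0xa95 .nil .nil)) (.node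 0xc67 (.node 0x2be08420b2f .nil .nil) .nil)) (.node 0x1 (.node 0x2ec0c67 (.node 0x1c805b00b2f .nil .nil) (.node 0x816 .nil .nil)) (.node 0xb2f (.node 0xa95 .nil .nil) .nil))) (.node 0x3100001 (.node 0x1a6 (.node 0xc67 (.node 0x5d4044a0b2f .nil .nil) (.node 0xa95 .nil .nil)) (.node 0x9ae0c67 (.node 0x30e0a95 .nil .nil) .nil)) (.node 0x98007e0c67 (.node 0x5b401320c67 (.node 0x5f0 .nil .nil) (.node 0x6de07040a95 .nil .nil)) (.node 0x1e0008a0b2f (.node 0xa95 .nil .nil) .nil))))) (.node 0x2405ca0001 (.node 0x1 (.node 0x7e (.node 0x1 (.node 0x15a029e0c67 (.node 0x1ce09d60b2f .nil .nil) (.node 0xa95 .nil .nil)) (.node 0x2ec02820c67 (.node 0x63e .nil .nil) .nil)) (.node 0x34601800001 (.node 0x29e00980c67 (.node 0x2740a5a0b2f .nil .nil) (.node 0xa95 .nil .nil)) (.node 0xb2f (.node 0xa95 .nil .nil) .nil))) (.node 0x5a607480001 (.node 0x5260001 (.node 0x18a02a60c67 (.node 0x6ec0b2f .nil .nil) (.node 0x39408f40a95 .nil .nil))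 (.node 0x474075a0c67 (.node 0x62a01220a95 .nil .nil) .nil)) (.node 0x4be0c67 (.node 0x1ce05720c67 (.node 0xb2f .nil .nil) (.node 0x25407e60a95 .nil .nil)) (.node 0x21007100b2f (.node 0x70a .nil .nil) .nil)))) (.node 0x3e800180001 (.node 0x9c (.node 0x8200001 (.node 0x56404660c67 (.node 0x50c .nil .nil) (.node 0xa95 .nil .nil)) (.node 0xc67 (.node 0x4d206c20b2f .nil .nil) .nil)) (.node 0x3200001 (.node 0x41e0c67 (.node 0x23008900b2f .nil .nil) (.node 0x28402e00a95 .nil .nil)) (.node 0x6c403c00b2f (.node 0xa95 .nil .nil) .nil))) (.node 0x92076e0001 (.node 0x5fe091a0001 (.node 0xf006620c67 (.node 0x564 .nil .nil) (.node 0x6a00a120a95 .nil .nil)) (.node 0x40c07200c67 (.node 0x5b809400a95 .nil .nil) .nil)) (.node 0xde00de0c67 (.node 0x79809cc0c67 (.node 0x4f406620b2f .nil .nil) (.node 0x70001980a95 .nil .nil)) (.node 0x30007f80b2f (.node 0x734 .nil .nil) .nil))))))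

/-- A part. -/
noncomputable def cand4_11 : Arr ℕ :=
  (.node 0xe40001 (.node 0x1 (.node 0x26 (.node 0x1 (.node 0x1 (.node 0x4d006540c67 (.node 0xb2f .nil .nil) (.node 0x75c .nil .nil)) (.node 0x13c03780c67 (.node 0x6a09ba0b2f .nil .nil) .nil)) (.node 0x1 (.node 0x2e6 (.node 0x24a0b2f .nil .nil) (.node 0x9960a95 .nil .nil)) (.node 0x7aa05600b2f (.node 0xa95 .nil .nil) .nil))) (.node 0xb6 (.node 0x184 (.node 0xc67 (.node 0xb2f .nil .nil) (.node 0x4c002940a95 .nil .nil)) (.node 0xc67 (.node 0x2b402600a95 .nil .nil) .nil)) (.node 0x2540c67 (.node 0x5d802f80c67 (.node 0xaa04900b2f .nil .nil) (.node 0x85e .nil .nil)) (.node 0xb2f (.node 0x700 .nil .nil) .nil)))) (.node 0x58409560001 (.node 0x1 (.node 0x1 (.node 0xe004400c67 (.node 0x3006e40b2f .nil .nil) (.node 0x5820a95 .nil .nil)) (.node 0x3c0 (.node 0x560b2f .nil .nil) .nil)) (.node 0xa40001 (.node 0x3640c67 (.node 0xaa08e00b2f .nil .nil) (.node 0x1a206c80a95 .nil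 .nil)) (.node 0x5ba03920b2f (.node 0x1c0a95 .nil .nil) .nil))) (.node 0x1 (.node 0x1 (.node 0x2c01360c67 (.node 0x1e05e60b2f .nil .nil) (.node 0x7e2 .nil .nil)) (.node 0xba0c67 (.node 0x69a .nil .nil) .nil)) (.node 0x68a0c67 (.node 0xc67 (.node 0x5fc .nil .nil) (.node 0x9b40a95 .nil .nil)) (.node 0xb2f (.node 0x72a .nil .nil) .nil))))) (.node 0x3d608d40001 (.node 0x46 (.node 0x36c0a440001 (.node 0x78405380001 (.node 0x714022a0c67 (.node 0xb2f .nil .nil) (.node 0x6aa0a95 .nil .nil)) (.node 0x5b80c67 (.node 0x3fc00b40b2f .nil .nil) .nil)) (.node 0x1ee (.node 0x51805900c67 (.node 0xb2f .nil .nil) (.node 0x810 .nil .nil)) (.node 0x39406040b2f (.node 0x3300a780a95 .nil .nil) .nil))) (.node 0x60c056e0001 (.node 0x6ba05c80001 (.node 0xc67 (.node 0x54a .nil .nil) (.node 0x2808500a95 .nil .nil)) (.node 0xc67 (.node 0x5e205e40a95 .nil .nil) .nil)) (.node 0x4c0c67 (.node 0x5a20c67 (.node 0x5e4 .nil .nil) (.node 0x204da0a95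 .nil .nil)) (.node 0xb2f (.node 0xa95 .nil .nil) .nil)))) (.node 0x66a06a00001 (.node 0x19206360001 (.node 0x4ee0001 (.node 0x4f802d80c67 (.node 0x518 .nil .nil) (.node 0x798 .nil .nil)) (.node 0x33804620c67 (.node 0xa95 .nil .nil) .nil)) (.node 0x77e05140001 (.node 0xc67 (.node 0x44a03e20b2f .nil .nil) (.node 0x846 .nil .nil)) (.node 0x6ec073c0b2f (.node 0x59c09f40a95 .nil .nil) .nil))) (.node 0x1 (.node 0x84a0001 (.node 0x5ce09840c67 (.node 0x572 .nil .nil) (.node 0x3860a95 .nil .nil)) (.node 0x444 (.node 0xa95 .nil .nil) .nil)) (.node 0x8760c67 (.node 0xa040c67 (.node 0x5a027c0b2f .nil .nil) .nil) (.node 0x4fa0b2f (.node 0xa95 .nil .nil) .nil))))))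

/-- A part. -/
noncomputable def cand4_12 : Arr ℕ :=
  (.node 0x32203260001 cand4_10 cand4_11)

/-- A part. -/
noncomputable def cand4_13 : Arr ℕ :=
  (.node 0x15a0001 cand4_9 cand4_12)

/-- A part. -/
noncomputable def cand4_14 : Arr ℕ :=
  (.node 0x1 cand4_6 cand4_13)

/-- The array. -/
noncomputable def cand4 : Arr ℕ := cand4_14

/-- A part. -/
noncomputable def cand5_0 : Arr ℕ :=
  (.node 0x32c08d60001 (.node 0x3be0001 (.node 0x1 (.node 0x66 (.node 0x5360001 (.node 0xc67 (.node 0xb2f .nil .nil) (.node 0xa95 .nil .nil)) (.node 0xc67 (.node 0xa1e0b2f .nil .nil) .nil)) (.node 0x52c0001 (.node 0x5780c67 (.node 0xa00b2f .nil .nil) (.node 0xfa0a3e0a95 .nil .nil)) (.node 0x7b206800b2f (.node 0x4f60a95 .nil .nil) .nil))) (.node 0xcc09400001 (.node 0x1 (.node 0x28e (.node 0x9040b2f .nil .nil) (.node 0x3560aa40a95 .nil .nil)) (.node 0x34608b60c67 (.node 0x2e0a95 .nil .nil) .nil)) (.node 0x34a045c0c67 (.node 0x76a05400c67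 (.node 0x60c02160b2f .nil .nil) (.node 0x84e .nil .nil)) (.node 0x3d20b2f (.node 0x6ee08040a95 .nil .nil) .nil)))) (.node 0x1 (.node 0x45c003e0001 (.node 0x5b804740001 (.node 0x6600c67 (.node 0x5e2084a0b2f .nil .nil) (.node 0x45c04c40a95 .nil .nil)) (.node 0xc67 (.node 0x8940b2f .nil .nil) .nil)) (.node 0x5da0a060001 (.node 0xc67 (.node 0xb2f .nil .nil) (.node 0xa95 .nil .nil)) (.node 0x58c036c0b2f (.node 0xca0a95 .nil .nil) .nil))) (.node 0x1 (.node 0x6a209ea0001 (.node 0xc67 (.node 0x61c05fa0b2f .nil .nil) (.node 0x7d6 .nil .nil)) (.node 0xa8014e0c67 (.node 0xa95 .nil .nil) .nil)) (.node 0xc67 (.node 0xc67 (.node 0x5820b2f .nil .nil) (.node 0x8e20a95 .nil .nil)) (.node 0x49c06140b2f (.node 0x4be0a95 .nil .nil) .nil))))) (.node 0x24c07960001 (.node 0x1 (.node 0x78 (.node 0x12804cc0001 (.node 0x78804ae0c67 (.node 0x7940a1a0b2f .nil .nil) (.node 0x1020a95 .nil .nil)) (.node 0xc67 (.node 0x12e0b2f .nil .nil) .nil))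 (.node 0x4603220001 (.node 0xc67 (.node 0x18e06f80b2f .nil .nil) (.node 0x1a008e80a95 .nil .nil)) (.node 0xa006bc0b2f (.node 0x72e02140a95 .nil .nil) .nil))) (.node 0x4004be0001 (.node 0x65e08020001 (.node 0x7fc0c67 (.node 0x7ea07a20b2f .nil .nil) (.node 0x2f402020a95 .nil .nil)) (.node 0x71c071a0c67 (.node 0x3a804a00a95 .nil .nil) .nil)) (.node 0x31803680c67 (.node 0x29a0c67 (.node 0x2e40b2f .nil .nil) (.node 0x4c20a95 .nil .nil)) (.node 0x2ea04ce0b2f (.node 0x702 .nil .nil) .nil)))) (.node 0x1 (.node 0x49e04ce0001 (.node 0x540030c0001 (.node 0x62404e20c67 (.node 0x4fc .nil .nil) (.node 0x3800640a95 .nil .nil)) (.node 0x9120c67 (.node 0x38e0b2f .nil .nil) .nil)) (.node 0x1 (.node 0x30600000c67 (.node 0xb2f .nil .nil) (.node 0x2d200b00a95 .nil .nil)) (.node 0xb2f (.node 0xa02ea0a95 .nil .nil) .nil))) (.node 0x418080e0001 (.node 0x420045e0001 (.node 0x5d6018e0c67 (.node 0xb2f .nil .nil) (.node 0x6c046c0a95 .nil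 .nil)) (.node 0xc67 (.node 0xa95 .nil .nil) .nil)) (.node 0x8a00c67 (.node 0x376 (.node 0x6f0021a0b2f .nil .nil) (.node 0xa95 .nil .nil)) (.node 0x1d207fe0b2f (.node 0x7b600300a95 .nil .nil) .nil))))))

/-- A part. -/
noncomputable def cand5_1 : Arr ℕ :=
  (.node 0x16805960001 (.node 0x8900001 (.node 0x34c0001 (.node 0x490081c0001 (.node 0x6ae03fe0001 (.node 0xc67 (.node 0xb2f .nil .nil) (.node 0xae06f00a95 .nil .nil)) (.node 0xc67 (.node 0xb2f .nil .nil) .nil)) (.node 0x1 (.node 0xd40c67 (.node 0x584 .nil .nil) (.node 0x6200a95 .nil .nil)) (.node 0x7940b2f (.node 0x476071c0a95 .nil .nil) .nil))) (.node 0xae (.node 0x1 (.node 0x6d60c67 (.node 0x52a .nil .nil) (.node 0xa95 .nil .nil)) (.node 0xc67 (.node 0x3a80a95 .nil .nil) .nil)) (.node 0x226 (.node 0xc67 (.node 0xb2f .nil .nil) (.node 0x13c06380a95 .nil .nil)) (.node 0x57404fc0b2f (.node 0x9580a95 .nil .nil) .nil)))) (.node 0x1420001 (.node 0x23406180001 (.node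 0x66c07180001 (.node 0xd205dc0c67 (.node 0xb2f .nil .nil) (.node 0x77e .nil .nil)) (.node 0xc67 (.node 0x7b60a620b2f .nil .nil) .nil)) (.node 0x1 (.node 0xc67 (.node 0x350072c0b2f .nil .nil) (.node 0x95c0a95 .nil .nil)) (.node 0xb2f (.node 0x59003b20a95 .nil .nil) .nil))) (.node 0xae033e0001 (.node 0x1720001 (.node 0x15a05ec0c67 (.node 0xb2f .nil .nil) (.node 0x6d202460a95 .nil .nil)) (.node 0x42a (.node 0x8ca0a95 .nil .nil) .nil)) (.node 0x6960c67 (.node 0x528032a0c67 (.node 0x5a20a820b2f .nil .nil) (.node 0xa95 .nil .nil)) (.node 0x4b6 (.node 0x49e00480a95 .nil .nil) .nil))))) (.node 0x1020001 (.node 0xf209b80001 (.node 0x70e0001 (.node 0x1 (.node 0x5a07620c67 (.node 0x1d0069e0b2f .nil .nil) (.node 0xa95 .nil .nil)) (.node 0xc67 (.node 0xb2f .nil .nil) .nil)) (.node 0x186095e0001 (.node 0x2f6 (.node 0x59a .nil .nil) (.node 0x15e00e60a95 .nil .nil)) (.node 0x26e0a920b2f (.node 0x7ca08600a95 .nil .nil) .nil)))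 (.node 0x49605ee0001 (.node 0x192 (.node 0x52805d80c67 (.node 0xb2f .nil .nil) (.node 0x7c8 .nil .nil)) (.node 0xc67 (.node 0x76097c0a95 .nil .nil) .nil)) (.node 0xd00c67 (.node 0x56a07100c67 (.node 0x8fa0b2f .nil .nil) (.node 0x9e40a95 .nil .nil)) (.node 0xb2f (.node 0x32c061c0a95 .nil .nil) .nil)))) (.node 0x1 (.node 0x1 (.node 0x162 (.node 0xc67 (.node 0x8208ec0b2f .nil .nil) (.node 0x27205e60a95 .nil .nil)) (.node 0x5609620c67 (.node 0x6c200460b2f .nil .nil) .nil)) (.node 0x21c (.node 0x4c400b80c67 (.node 0x5be .nil .nil) (.node 0xa95 .nil .nil)) (.node 0xb2f (.node 0x4c401d20a95 .nil .nil) .nil))) (.node 0x1 (.node 0x61c0a9c0001 (.node 0x68805b20c67 (.node 0xb2f .nil .nil) (.node 0x356050a0a95 .nil .nil)) (.node 0x4780c67 (.node 0x6740a95 .nil .nil) .nil)) (.node 0x3f80c67 (.node 0xc67 (.node 0x4606580b2f .nil .nil) .nil) (.node 0x4be (.node 0xa95 .nil .nil) .nil))))))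

/-- A part. -/
noncomputable def cand5_2 : Arr ℕ :=
  (.node 0x1 cand5_0 cand5_1)

/-- A part. -/
noncomputable def cand5_3 : Arr ℕ :=
  (.node 0x6 (.node 0x4420001 (.node 0x20 (.node 0x4160001 (.node 0xfe (.node 0x22005980c67 (.node 0x4ca .nil .nil) (.node 0x744 .nil .nil)) (.node 0x6a003220c67 (.node 0x33402ba0b2f .nil .nil) .nil)) (.node 0x1c4 (.node 0xc67 (.node 0x6b801520b2f .nil .nil) (.node 0x6660a95 .nil .nil)) (.node 0x448 (.node 0xa95 .nil .nil) .nil))) (.node 0xe0001 (.node 0x178 (.node 0xc67 (.node 0x2660b2f .nil .nil) (.node 0x1de08d20a95 .nil .nil)) (.node 0xa7e0c67 (.node 0x8f80a95 .nil .nil) .nil)) (.node 0x4340c67 (.node 0x338 (.node 0x54c0b2f .nil .nil) (.node 0x852 .nil .nil)) (.node 0x33e0b2f (.node 0x6f0 .nil .nil) .nil)))) (.node 0x1 (.node 0x8060001 (.node 0x1c20001 (.node 0x3e800f60c67 (.node 0x32801340b2f .nil .nil) (.node 0x7ec0a980a95 .nil .nil)) (.node 0x3b0 (.node 0x64c .nil .nil)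 .nil)) (.node 0x1fc (.node 0xc67 (.node 0x16e02420b2f .nil .nil) (.node 0xa95 .nil .nil)) (.node 0x16006400b2f (.node 0x9ce0a95 .nil .nil) .nil))) (.node 0x1 (.node 0x2f405160001 (.node 0xc67 (.node 0x64601160b2f .nil .nil) (.node 0xa95 .nil .nil)) (.node 0x420 (.node 0xa000a95 .nil .nil) .nil)) (.node 0x7d80c67 (.node 0x11000fe0c67 (.node 0xb2f .nil .nil) (.node 0x2d405e20a95 .nil .nil)) (.node 0x170001e0b2f (.node 0x21208280a95 .nil .nil) .nil))))) (.node 0x1 (.node 0x41e0001 (.node 0x27202060001 (.node 0x11c (.node 0xc67 (.node 0x4da .nil .nil) (.node 0xa95 .nil .nil)) (.node 0xc67 (.node 0xb2f .nil .nil) .nil)) (.node 0x2160001 (.node 0x27e07480c67 (.node 0xb2f .nil .nil) (.node 0x75e06440a95 .nil .nil)) (.node 0x37e04b60b2f (.node 0x394071e0a95 .nil .nil) .nil))) (.node 0x8240001 (.node 0x3300a660001 (.node 0x3be08ea0c67 (.node 0x53c .nil .nil) (.node 0x9ee0a95 .nil .nil)) (.node 0x98e0c67 (.node 0x6ce03d20a95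 .nil .nil) .nil)) (.node 0x22a (.node 0xc67 (.node 0x5dc .nil .nil) (.node 0x864 .nil .nil)) (.node 0x3607360b2f (.node 0x7d4052c0a95 .nil .nil) .nil)))) (.node 0x3a4049c0001 (.node 0x1 (.node 0x1 (.node 0x31e07a40c67 (.node 0xb2f .nil .nil) (.node 0xa95 .nil .nil)) (.node 0x18009b40c67 (.node 0x73805e00b2f .nil .nil) .nil)) (.node 0x218 (.node 0xc67 (.node 0xee03dc0b2f .nil .nil) (.node 0xa95 .nil .nil)) (.node 0x25607180b2f (.node 0xa95 .nil .nil) .nil))) (.node 0x23e098c0001 (.node 0x8b20001 (.node 0xc67 (.node 0x3d204720b2f .nil .nil) (.node 0x69601ec0a95 .nil .nil)) (.node 0x43e (.node 0xe804640a95 .nil .nil) .nil)) (.node 0x4260c67 (.node 0x2f806a40c67 (.node 0xb2f .nil .nil) (.node 0x5ea08a00a95 .nil .nil)) (.node 0x3fe02cc0b2f (.node 0x3e004e80a95 .nil .nil) .nil))))))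

/-- A part. -/
noncomputable def cand5_4 : Arr ℕ :=
  (.node 0x1520001 (.node 0x1 (.node 0x17a017c0001 (.node 0x19c0001 (.node 0x110 (.node 0xc67 (.node 0x4ea09660b2f .nil .nil) (.node 0x75a .nil .nil)) (.node 0xc67 (.node 0xb2f .nil .nil) .nil)) (.node 0x1d0 (.node 0x414010c0c67 (.node 0x11208160b2f .nil .nil) (.node 0x5f605880a95 .nil .nil)) (.node 0x450 (.node 0xa95 .nil .nil) .nil))) (.node 0xaa07e20001 (.node 0x1 (.node 0x7e60c67 (.node 0x200b2f .nil .nil) (.node 0x7b0 .nil .nil)) (.node 0xc67 (.node 0x5b80a95 .nil .nil) .nil)) (.node 0x6fe08dc0c67 (.node 0xc67 (.node 0x44808560b2f .nil .nil) (.node 0xa95 .nil .nil)) (.node 0x5ac01620b2f (.node 0x6fc .nil .nil) .nil)))) (.node 0x1 (.node 0x3ce09040001 (.node 0x7040001 (.node 0x45207cc0c67 (.node 0x7de04c00b2f .nil .nil) (.node 0x304035c0a95 .nil .nil)) (.node 0xc67 (.node 0x6c402380b2f .nil .nil) .nil)) (.node 0x1 (.node 0x4460a280c67 (.node 0x5b4 .nil .nil)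 (.node 0x68c09a40a95 .nil .nil)) (.node 0x4e609840b2f (.node 0xa95 .nil .nil) .nil))) (.node 0xdc (.node 0x1 (.node 0x2c0 (.node 0x43206200b2f .nil .nil) (.node 0xa95 .nil .nil)) (.node 0x42e (.node 0x6c804cc0a95 .nil .nil) .nil)) (.node 0xc67 (.node 0xc67 (.node 0x7620b2f .nil .nil) (.node 0x882 .nil .nil)) (.node 0x440b2f (.node 0x3e8075c0a95 .nil .nil) .nil))))) (.node 0x1 (.node 0x43c0001 (.node 0x26006220001 (.node 0x76408b00001 (.node 0x262 (.node 0x5e409180b2f .nil .nil) (.node 0xa95 .nil .nil)) (.node 0x5ea0c67 (.node 0x2e003140b2f .nil .nil) .nil)) (.node 0x1e8 (.node 0xc67 (.node 0x16e06ee0b2f .nil .nil) (.node 0x7ca04040a95 .nil .nil)) (.node 0x4120b2f (.node 0x6cc .nil .nil) .nil))) (.node 0xc8 (.node 0x75008720001 (.node 0x4460c67 (.node 0xb2f .nil .nil) (.node 0x78e01fc0a95 .nil .nil)) (.node 0x30806500c67 (.node 0x54a0a95 .nil .nil) .nil)) (.node 0x1ae079c0c67 (.node 0xc67 (.node 0x1220b2f .nil .nil)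 (.node 0x872 .nil .nil)) (.node 0x30c0a420b2f (.node 0xa95 .nil .nil) .nil)))) (.node 0x9b00001 (.node 0x4bc0001 (.node 0x58401240001 (.node 0xc67 (.node 0xf40b2f .nil .nil) (.node 0xbe026e0a95 .nil .nil)) (.node 0x3e000700c67 (.node 0xa95 .nil .nil) .nil)) (.node 0x10404460001 (.node 0x32a (.node 0x76e01fe0b2f .nil .nil) (.node 0xa95 .nil .nil)) (.node 0x11804560b2f (.node 0x6e401fe0a95 .nil .nil) .nil))) (.node 0xf2 (.node 0x55e0001 (.node 0x25e0c67 (.node 0x6a808d80b2f .nil .nil) (.node 0xa95 .nil .nil)) (.node 0x34603ee0b2f (.node 0x6a4 .nil .nil) .nil)) (.node 0x1da05c00c67 (.node 0x388 (.node 0xb2f .nil .nil) .nil) (.node 0xe600340b2f (.node 0x6407080a95 .nil .nil) .nil))))))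

/-- A part. -/
noncomputable def cand5_5 : Arr ℕ :=
  (.node 0x1 cand5_3 cand5_4)

/-- A part. -/
noncomputable def cand5_6 : Arr ℕ :=
  (.node 0x1 cand5_2 cand5_5)

/-- A part. -/
noncomputable def cand5_7 : Arr ℕ :=
  (.node 0x3280001 (.node 0x29e0001 (.node 0x72a01b00001 (.node 0x1 (.node 0x33a00840001 (.node 0x5a206ac0c67 (.node 0x4c6 .nil .nil) (.node 0x7e203ec0a95 .nil .nil)) (.node 0x2960a640c67 (.node 0x1ac09d40b2f .nil .nil) .nil)) (.node 0x5a602a00001 (.node 0x74000400c67 (.node 0xb2f .nil .nil) (.node 0x3340a95 .nil .nil)) (.node 0xb2f (.node 0xa95 .nil .nil) .nil))) (.node 0x35e0a5e0001 (.node 0x172 (.node 0x510006e0c67 (.node 0x328045a0b2f .nil .nil) (.node 0x560055c0a95 .nil .nil)) (.node 0xca064a0c67 (.node 0x4c2092c0a95 .nil .nil) .nil)) (.node 0x17009740c67 (.node 0xc67 (.node 0x2580b2f .nil .nil) (.node 0x29c01700a95 .nil .nil)) (.node 0x57a058a0b2f (.node 0x2dc02760a95 .nil .nil) .nil)))) (.node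 0x7100001 (.node 0x89c0001 (.node 0x1b20001 (.node 0x22e08620c67 (.node 0xb2f .nil .nil) (.node 0xa95 .nil .nil)) (.node 0x62e01300c67 (.node 0x16c0b2f .nil .nil) .nil)) (.node 0x1f6 (.node 0x302 (.node 0x9e00b2f .nil .nil) (.node 0xfe0a95 .nil .nil)) (.node 0x30204ba0b2f (.node 0x3c0a840a95 .nil .nil) .nil))) (.node 0x58c0a2e0001 (.node 0xa409be0001 (.node 0xc67 (.node 0x4aa0b2f .nil .nil) (.node 0x70e089e0a95 .nil .nil)) (.node 0x528073c0c67 (.node 0x51e0a95 .nil .nil) .nil)) (.node 0xa7c0c67 (.node 0x362 (.node 0x3aa0b2f .nil .nil) (.node 0x68e08140a95 .nil .nil)) (.node 0x5c08be0b2f (.node 0x6604280a95 .nil .nil) .nil))))) (.node 0x1 (.node 0x13e0001 (.node 0x6cc01320001 (.node 0x11a (.node 0x7ca0c67 (.node 0xb2f .nil .nil) (.node 0x6f60a9e0a95 .nil .nil)) (.node 0xc0096c0c67 (.node 0x70e07ea0b2f .nil .nil) .nil)) (.node 0x1d6 (.node 0x4f007ce0c67 (.node 0x592 .nil .nil) (.node 0xf004ec0a95 .nil .nil)) (.node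 0x3001e60b2f (.node 0x34a0a1e0a95 .nil .nil) .nil))) (.node 0x1 (.node 0x4980001 (.node 0xc67 (.node 0x82c0b2f .nil .nil) (.node 0x7bc .nil .nil)) (.node 0x35e07b60c67 (.node 0x94a0a95 .nil .nil) .nil)) (.node 0x2240c67 (.node 0x69e0c67 (.node 0xb2f .nil .nil) (.node 0x35c04d80a95 .nil .nil)) (.node 0x4b007200b2f (.node 0x41404a60a95 .nil .nil) .nil)))) (.node 0x20e025a0001 (.node 0x1 (.node 0x15a (.node 0xc67 (.node 0xb2f .nil .nil) (.node 0x772067c0a95 .nil .nil)) (.node 0x3cc (.node 0xd008380b2f .nil .nil) .nil)) (.node 0x212 (.node 0x31a (.node 0x5cc06420b2f .nil .nil) (.node 0x832 .nil .nil)) (.node 0x470 (.node 0x6de .nil .nil) .nil))) (.node 0x1 (.node 0x3c0058a0001 (.node 0x2c8 (.node 0x562 .nil .nil) (.node 0x55001080a95 .nil .nil)) (.node 0x7500c67 (.node 0x3fa0a95 .nil .nil) .nil)) (.node 0xc67 (.node 0xc67 (.node 0x52e01ee0b2f .nil .nil) (.node 0xa95 .nil .nil)) (.node 0x30408720b2f (.node 0xa95 .nil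 .nil) .nil))))))

/-- A part. -/
noncomputable def cand5_8 : Arr ℕ :=
  (.node 0x35e09420001 (.node 0x1 (.node 0x1 (.node 0x64e00200001 (.node 0x1 (.node 0x4c60c67 (.node 0x1fe06aa0b2f .nil .nil) (.node 0x660a95 .nil .nil)) (.node 0x394 (.node 0x1f601540b2f .nil .nil) .nil)) (.node 0xbc06f40001 (.node 0x95e0c67 (.node 0x22805060b2f .nil .nil) (.node 0xa95 .nil .nil)) (.node 0x44e (.node 0x1405fc0a95 .nil .nil) .nil))) (.node 0x672041c0001 (.node 0x53e00720001 (.node 0x33a075c0c67 (.node 0x52e .nil .nil) (.node 0x40a0a95 .nil .nil)) (.node 0x3f4 (.node 0x360a95 .nil .nil) .nil)) (.node 0x9640c67 (.node 0xc67 (.node 0x900b2f .nil .nil) (.node 0x47e0a95 .nil .nil)) (.node 0x490 (.node 0x6f8 .nil .nil) .nil)))) (.node 0x1 (.node 0x90 (.node 0x42e07da0001 (.node 0x278 (.node 0xb2f .nil .nil) (.node 0x780 .nil .nil)) (.node 0xc67 (.node 0x65a .nil .nil) .nil)) (.node 0x1 (.node 0xc67 (.node 0x5ae .nil .nil) (.node 0x8a0a95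 .nil .nil)) (.node 0x2e20b2f (.node 0x35807800a95 .nil .nil) .nil))) (.node 0x458087e0001 (.node 0x1 (.node 0xc67 (.node 0x8040b2f .nil .nil) (.node 0xa95 .nil .nil)) (.node 0x5a00c67 (.node 0x2cc0a95 .nil .nil) .nil)) (.node 0x38208c60c67 (.node 0xc67 (.node 0x9920b2f .nil .nil) (.node 0x880 .nil .nil)) (.node 0xb2f (.node 0xda09d40a95 .nil .nil) .nil))))) (.node 0x48e02b40001 (.node 0x1 (.node 0x1460001 (.node 0x132 (.node 0x4e2000c0c67 (.node 0xb2f .nil .nil) (.node 0x76c .nil .nil)) (.node 0x75809500c67 (.node 0x3b00b2f .nil .nil) .nil)) (.node 0x6f206b00001 (.node 0x2f403480c67 (.node 0x47402b20b2f .nil .nil) (.node 0x80e .nil .nil)) (.node 0xaa0b2f (.node 0x6ca .nil .nil) .nil))) (.node 0x1 (.node 0x1 (.node 0xc67 (.node 0x1c6017a0b2f .nil .nil) (.node 0x4dc029c0a95 .nil .nil)) (.node 0x5f2049a0c67 (.node 0x67e .nil .nil) .nil)) (.node 0xbc0c67 (.node 0x8605100c67 (.node 0xb2f .nil .nil) (.node 0x86e .nil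 .nil)) (.node 0x79e023a0b2f (.node 0x1de04720a95 .nil .nil) .nil)))) (.node 0x60 (.node 0x1 (.node 0x7d60001 (.node 0x284 (.node 0x8460b2f .nil .nil) (.node 0x7ce000c0a95 .nil .nil)) (.node 0xc67 (.node 0x51002f80a95 .nil .nil) .nil)) (.node 0x13c0001 (.node 0x326 (.node 0x3560b2f .nil .nil) (.node 0x840a95 .nil .nil)) (.node 0x47a (.node 0x7a2049c0a95 .nil .nil) .nil))) (.node 0x1 (.node 0x44201e60001 (.node 0x66a0c67 (.node 0x24c09300b2f .nil .nil) (.node 0xa500a95 .nil .nil)) (.node 0x63c035e0c67 (.node 0x65e0a95 .nil .nil) .nil)) (.node 0xc67 (.node 0x382 (.node 0xb2f .nil .nil) .nil) (.node 0xb2f (.node 0x2b8033c0a95 .nil .nil) .nil))))))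

/-- A part. -/
noncomputable def cand5_9 : Arr ℕ :=
  (.node 0x90c0001 cand5_7 cand5_8)

/-- A part. -/
noncomputable def cand5_10 : Arr ℕ :=
  (.node 0xa (.node 0x8620001 (.node 0x1 (.node 0x1 (.node 0x5e809ba0001 (.node 0xdc08400c67 (.node 0x4cc .nil .nil) (.node 0x6e601200a95 .nil .nil)) (.node 0x1bc00560c67 (.node 0xb2f .nil .nil) .nil)) (.node 0x3d8024a0001 (.node 0x5e602cc0c67 (.node 0xb2f .nil .nil) (.node 0x2700a95 .nil .nil)) (.node 0x59002d80b2f (.node 0x42802ee0a95 .nil .nil) .nil))) (.node 0x62a00a00001 (.node 0x1fa0001 (.node 0xc67 (.node 0x526 .nil .nil) (.node 0xa95 .nil .nil)) (.node 0x23001440c67 (.node 0xec07480a95 .nil .nil) .nil)) (.node 0x860c67 (.node 0x1460c67 (.node 0x5cc .nil .nil) (.node 0x8a60a95 .nil .nil)) (.node 0x3e60a120b2f (.node 0x4ca00140a95 .nil .nil) .nil)))) (.node 0x1 (.node 0x77003b80001 (.node 0x146 (.node 0xc67 (.node 0x4ee .nil .nil) (.node 0x19a032e0a95 .nil .nil)) (.node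 0x7dc09540c67 (.node 0x3420b2f .nil .nil) .nil)) (.node 0x200 (.node 0x2c605d60c67 (.node 0xb2f .nil .nil) (.node 0x3d4083c0a95 .nil .nil)) (.node 0xb60b2f (.node 0x36203280a95 .nil .nil) .nil))) (.node 0xd8 (.node 0x1a8 (.node 0x6d8004e0c67 (.node 0x3c403bc0b2f .nil .nil) (.node 0x42a03580a95 .nil .nil)) (.node 0x63206e60c67 (.node 0xa95 .nil .nil) .nil)) (.node 0x23c08300c67 (.node 0xc67 (.node 0x51a078a0b2f .nil .nil) (.node 0x7a404d00a95 .nil .nil)) (.node 0x41609a00b2f (.node 0x71a .nil .nil) .nil))))) (.node 0x6c0015e0001 (.node 0x1 (.node 0x324099c0001 (.node 0x7dc01680001 (.node 0x6ce0c67 (.node 0x3620a7a0b2f .nil .nil) (.node 0x5440a95 .nil .nil)) (.node 0xc67 (.node 0xd801940b2f .nil .nil) .nil)) (.node 0x1e0 (.node 0xc67 (.node 0x44c09600b2f .nil .nil) (.node 0x3d0084e0a95 .nil .nil)) (.node 0x2e409f40b2f (.node 0x6c0 .nil .nil) .nil))) (.node 0x1 (.node 0x1c000fa0001 (.node 0x57a09000c67 (.node 0x8601a80b2f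 .nil .nil) (.node 0x7c2 .nil .nil)) (.node 0xc67 (.node 0x688037a0a95 .nil .nil) .nil)) (.node 0xc67 (.node 0x58a04820c67 (.node 0xb2f .nil .nil) (.node 0xa95 .nil .nil)) (.node 0xa6052e0b2f (.node 0x51609a60a95 .nil .nil) .nil)))) (.node 0x49604120001 (.node 0x9e (.node 0x1a80001 (.node 0x69007ec0c67 (.node 0x3880b2f .nil .nil) (.node 0x714025a0a95 .nil .nil)) (.node 0x1fc0a3a0c67 (.node 0x44401e00b2f .nil .nil) .nil)) (.node 0x77206fa0001 (.node 0x14204300c67 (.node 0x58c01860b2f .nil .nil) (.node 0x11a08ac0a95 .nil .nil)) (.node 0xb2f (.node 0x7fc04000a95 .nil .nil) .nil))) (.node 0xe8 (.node 0x1 (.node 0x4a807aa0c67 (.node 0xb2f .nil .nil) (.node 0x3c009ac0a95 .nil .nil)) (.node 0x7800a0c0c67 (.node 0x22207aa0a95 .nil .nil) .nil)) (.node 0x66a02e40c67 (.node 0x26601660c67 (.node 0x1720b2f .nil .nil) (.node 0x82c0a95 .nil .nil)) (.node 0xb2f (.node 0x6dc09fc0a95 .nil .nil) .nil))))))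

/-- A part. -/
noncomputable def cand5_11 : Arr ℕ :=
  (.node 0x1 (.node 0x16 (.node 0x28 (.node 0x72c05340001 (.node 0x1 (.node 0x37203dc0c67 (.node 0x7980b2f .nil .nil) (.node 0xa95 .nil .nil)) (.node 0x3c006800c67 (.node 0x462013c0b2f .nil .nil) .nil)) (.node 0x1be02de0001 (.node 0x2b803060c67 (.node 0x2ea01460b2f .nil .nil) (.node 0x7fe .nil .nil)) (.node 0x3080b2f (.node 0xa95 .nil .nil) .nil))) (.node 0x1f401de0001 (.node 0x22409920001 (.node 0xa960c67 (.node 0x538 .nil .nil) (.node 0xa95 .nil .nil)) (.node 0xc67 (.node 0x1660a95 .nil .nil) .nil)) (.node 0xc67 (.node 0x35e00ee0c67 (.node 0xd807ba0b2f .nil .nil) (.node 0xa95 .nil .nil)) (.node 0x498 (.node 0x2e80a95 .nil .nil) .nil)))) (.node 0x56407b00001 (.node 0x38403da0001 (.node 0xce07240001 (.node 0x126079a0c67 (.node 0x25c0b2f .nil .nil) (.node 0x1f00a95 .nil .nil)) (.node 0x3c2 (.node 0x364065a0b2f .nil .nil) .nil)) (.node 0x1 (.node 0x8100c67 (.node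 0x332051e0b2f .nil .nil) (.node 0x826 .nil .nil)) (.node 0x468 (.node 0xa95 .nil .nil) .nil))) (.node 0x77a0001 (.node 0x39609280001 (.node 0xc67 (.node 0x1f405a20b2f .nil .nil) (.node 0x46a04980a95 .nil .nil)) (.node 0x142052e0c67 (.node 0xa95 .nil .nil) .nil)) (.node 0x1e6095a0c67 (.node 0x374 (.node 0x5fe .nil .nil) (.node 0x66402c20a95 .nil .nil)) (.node 0x4a60b2f (.node 0x72c .nil .nil) .nil))))) (.node 0x98078a0001 (.node 0x1 (.node 0x19e044e0001 (.node 0x1ac0001 (.node 0x40005aa0c67 (.node 0x4e6 .nil .nil) (.node 0x4320a95 .nil .nil)) (.node 0xc67 (.node 0x3040b2f .nil .nil) .nil)) (.node 0x148093c0001 (.node 0x4a2039e0c67 (.node 0x47c0b2f .nil .nil) (.node 0xa95 .nil .nil)) (.node 0x664038a0b2f (.node 0x2a804600a95 .nil .nil) .nil))) (.node 0x56e01aa0001 (.node 0x1 (.node 0x2b0 (.node 0x54c .nil .nil) (.node 0xa95 .nil .nil)) (.node 0x75e0c67 (.node 0x9460a95 .nil .nil) .nil)) (.node 0xc67 (.node 0x2a8008a0c67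 (.node 0x5e6 .nil .nil) (.node 0xa95 .nil .nil)) (.node 0xb2f (.node 0x9fe0a95 .nil .nil) .nil)))) (.node 0x1 (.node 0x1 (.node 0x1 (.node 0x65807c80c67 (.node 0x51a .nil .nil) (.node 0x2860a95 .nil .nil)) (.node 0xc67 (.node 0xc401800a95 .nil .nil) .nil)) (.node 0x654031c0001 (.node 0x32e (.node 0xb2f .nil .nil) (.node 0x2e803ee0a95 .nil .nil)) (.node 0x2a407760b2f (.node 0x6e8 .nil .nil) .nil))) (.node 0x3820001 (.node 0x486057a0001 (.node 0x2d2 (.node 0x574 .nil .nil) (.node 0x3ea085c0a95 .nil .nil)) (.node 0xb2f (.node 0x3c809b60a95 .nil .nil) .nil)) (.node 0xc67 (.node 0x67402d40c67 (.node 0x7840b2f .nil .nil) .nil) (.node 0xb2f (.node 0x73e .nil .nil) .nil))))))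

/-- A part. -/
noncomputable def cand5_12 : Arr ℕ :=
  (.node 0x2340001 cand5_10 cand5_11)

/-- A part. -/
noncomputable def cand5_13 : Arr ℕ :=
  (.node 0x1ba012e0001 cand5_9 cand5_12)

/-- A part. -/
noncomputable def cand5_14 : Arr ℕ :=
  (.node 0x1 cand5_6 cand5_13)

/-- The array. -/
noncomputable def cand5 : Arr ℕ := cand5_14

/-- A part. -/
noncomputable def cand6_0 : Arr ℕ :=
  (.node 0x1 (.node 0x4e40001 (.node 0x3e80001 (.node 0x68 (.node 0x1a408460001 (.node 0xc67 (.node 0x25c06da0b2f .nil .nil) (.node 0xa95 .nil .nil)) (.node 0x38a (.node 0x75607a60b2f .nil .nil) .nil)) (.node 0x12400620001 (.node 0x5c0036a0c67 (.node 0x57a .nil .nil) (.node 0x50c04740a95 .nil .nil)) (.node 0xb2f (.node 0x920a95 .nil .nil) .nil))) (.node 0x4209e40001 (.node 0x40c0001 (.node 0x1080c67 (.node 0x520 .nil .nil) (.node 0x79e .nil .nil)) (.node 0x3e2 (.node 0x2bc02900a95 .nil .nil) .nil)) (.node 0x222 (.node 0x3a408460c67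 (.node 0x5880b2f .nil .nil) (.node 0x2e404d60a95 .nil .nil)) (.node 0xb2f (.node 0x414067e0a95 .nil .nil) .nil)))) (.node 0x4a (.node 0x1 (.node 0x1 (.node 0x20c026a0c67 (.node 0x6a005760b2f .nil .nil) (.node 0x776 .nil .nil)) (.node 0x73208c20c67 (.node 0x64a .nil .nil) .nil)) (.node 0x1f4 (.node 0xba0a800c67 (.node 0xb2f .nil .nil) (.node 0x1a20a95 .nil .nil)) (.node 0x6c401280b2f (.node 0x23a0a95 .nil .nil) .nil))) (.node 0x1d805f40001 (.node 0x1ec0001 (.node 0x1f8084e0c67 (.node 0xb2f .nil .nil) (.node 0xa95 .nil .nil)) (.node 0x41c (.node 0xa95 .nil .nil) .nil)) (.node 0x236 (.node 0x9800c67 (.node 0x5e8 .nil .nil) (.node 0xdc0a95 .nil .nil)) (.node 0x122053c0b2f (.node 0x71401860a95 .nil .nil) .nil))))) (.node 0x7440001 (.node 0x1 (.node 0x4a202f00001 (.node 0x116 (.node 0x32208f60c67 (.node 0x2205640b2f .nil .nil) (.node 0xa95 .nil .nil)) (.node 0xc67 (.node 0x34c03740b2f .nil .nil) .nil)) (.node 0x1 (.node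 0xc042a0c67 (.node 0x58c .nil .nil) (.node 0x800 .nil .nil)) (.node 0x7ea094a0b2f (.node 0x69404100a95 .nil .nil) .nil))) (.node 0x5f807f60001 (.node 0x1 (.node 0xe805920c67 (.node 0xe047a0b2f .nil .nil) (.node 0x34801760a95 .nil .nil)) (.node 0x19e060a0c67 (.node 0x2fc0a95 .nil .nil) .nil)) (.node 0x27803aa0c67 (.node 0x6b60c67 (.node 0xbe0b2f .nil .nil) (.node 0xa95 .nil .nil)) (.node 0x54203760b2f (.node 0x704 .nil .nil) .nil)))) (.node 0x52e097e0001 (.node 0x94 (.node 0x64c05760001 (.node 0x4da086c0c67 (.node 0x4fe .nil .nil) (.node 0x8aa0a95 .nil .nil)) (.node 0x5e00a420c67 (.node 0xb2f .nil .nil) .nil)) (.node 0x5b60001 (.node 0x5c60a320c67 (.node 0x25001ec0b2f .nil .nil) (.node 0x82a .nil .nil)) (.node 0x46c (.node 0xa95 .nil .nil) .nil))) (.node 0xa460001 (.node 0x47a04820001 (.node 0xc67 (.node 0x4480b2f .nil .nil) (.node 0xa95 .nil .nil)) (.node 0x56a0c67 (.node 0xa95 .nil .nil) .nil)) (.node 0x1e602680c67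 (.node 0x65601ce0c67 (.node 0x604 .nil .nil) (.node 0x7c20a95 .nil .nil)) (.node 0x28a0b2f (.node 0x38209de0a95 .nil .nil) .nil))))))

/-- A part. -/
noncomputable def cand6_1 : Arr ℕ :=
  (.node 0x8e60001 (.node 0x12 (.node 0x3ee03ae0001 (.node 0x6e (.node 0x1 (.node 0xc67 (.node 0xb2f .nil .nil) (.node 0x74e .nil .nil)) (.node 0xa4c0c67 (.node 0x62c .nil .nil) .nil)) (.node 0x7700a1e0001 (.node 0x9720c67 (.node 0x3e80b2f .nil .nil) (.node 0x724083a0a95 .nil .nil)) (.node 0x44c (.node 0x11c06580a95 .nil .nil) .nil))) (.node 0x436013a0001 (.node 0x1 (.node 0x4809d60c67 (.node 0xf001240b2f .nil .nil) (.node 0x6b40a95 .nil .nil)) (.node 0x5020c67 (.node 0x2806fa0a95 .nil .nil) .nil)) (.node 0x3140c67 (.node 0x3fc07160c67 (.node 0xb2f .nil .nil) (.node 0x1dc021a0a95 .nil .nil)) (.node 0xb2f (.node 0x72e03500a95 .nil .nil) .nil)))) (.node 0x3fc003c0001 (.node 0x1 (.node 0x1 (.node 0xc67 (.node 0xb2f .nil .nil) (.node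 0xa95 .nil .nil)) (.node 0x3b4 (.node 0x656 .nil .nil) .nil)) (.node 0x6140001 (.node 0xc67 (.node 0x1a806b60b2f .nil .nil) (.node 0x9bc0a95 .nil .nil)) (.node 0x4680b2f (.node 0xa95 .nil .nil) .nil))) (.node 0xaa40001 (.node 0x3de0001 (.node 0xc67 (.node 0xba089c0b2f .nil .nil) (.node 0x18001ca0a95 .nil .nil)) (.node 0x7da05e60c67 (.node 0x6880a95 .nil .nil) .nil)) (.node 0x21c0c67 (.node 0xc67 (.node 0xb2f .nil .nil) (.node 0x28c003a0a95 .nil .nil)) (.node 0xb2f (.node 0x722 .nil .nil) .nil))))) (.node 0x1 (.node 0x3a (.node 0x1 (.node 0x12a (.node 0x5a4033e0c67 (.node 0x24205c00b2f .nil .nil) (.node 0x766 .nil .nil)) (.node 0x7f40c67 (.node 0x41806a00b2f .nil .nil) .nil)) (.node 0x1 (.node 0xc67 (.node 0xb2f .nil .nil) (.node 0x80a .nil .nil)) (.node 0x360059e0b2f (.node 0xa95 .nil .nil) .nil))) (.node 0x65c0a1c0001 (.node 0x194 (.node 0x1aa073a0c67 (.node 0xb2f .nil .nil) (.node 0x3680a95 .nil .nil)) (.node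 0x43e0aa80c67 (.node 0xa95 .nil .nil) .nil)) (.node 0x76e04d00c67 (.node 0xc67 (.node 0x5e0 .nil .nil) (.node 0x86a .nil .nil)) (.node 0x3a407ec0b2f (.node 0x39004d40a95 .nil .nil) .nil)))) (.node 0x68e06740001 (.node 0x1 (.node 0x424065a0001 (.node 0x33a04880c67 (.node 0x1f200c80b2f .nil .nil) (.node 0xa95 .nil .nil)) (.node 0x3d4 (.node 0xb2f .nil .nil) .nil)) (.node 0x36803f40001 (.node 0x9000620c67 (.node 0x47006300b2f .nil .nil) (.node 0x38c02620a95 .nil .nil)) (.node 0x474 (.node 0x6680a95 .nil .nil) .nil))) (.node 0x9600001 (.node 0x50e0a280001 (.node 0xc67 (.node 0xb2f .nil .nil) (.node 0x5ea0a95 .nil .nil)) (.node 0x65607da0c67 (.node 0xa95 .nil .nil) .nil)) (.node 0x4a8017e0c67 (.node 0x7300a600c67 (.node 0x7c201040b2f .nil .nil) .nil) (.node 0x20207de0b2f (.node 0x5c401bc0a95 .nil .nil) .nil))))))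

/-- A part. -/
noncomputable def cand6_2 : Arr ℕ :=
  (.node 0x1 cand6_0 cand6_1)

/-- A part. -/
noncomputable def cand6_3 : Arr ℕ :=
  (.node 0x86e0001 (.node 0x10 (.node 0x1b600880001 (.node 0x1 (.node 0xc000fe0001 (.node 0x66002200c67 (.node 0xb2f .nil .nil) (.node 0x746 .nil .nil)) (.node 0x30c04200c67 (.node 0x77803ae0b2f .nil .nil) .nil)) (.node 0x2f20a120001 (.node 0x56e054c0c67 (.node 0x5da030e0b2f .nil .nil) (.node 0x4820a95 .nil .nil)) (.node 0xb2f (.node 0x49203480a95 .nil .nil) .nil))) (.node 0xf009260001 (.node 0x4ba0001 (.node 0x2c08c80c67 (.node 0x524 .nil .nil) (.node 0x522042a0a95 .nil .nil)) (.node 0x3ea (.node 0x5060a95 .nil .nil) .nil)) (.node 0xc67 (.node 0x33a (.node 0xb2f .nil .nil) (.node 0x854 .nil .nil)) (.node 0x20e0b2f (.node 0x12e07a40a95 .nil .nil) .nil)))) (.node 0x4ce09100001 (.node 0x1 (.node 0x144 (.node 0x6d201a00c67 (.node 0xb2f .nil .nil) (.node 0xa95 .nil .nil)) (.node 0x2a0c67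 (.node 0x64e .nil .nil) .nil)) (.node 0x1 (.node 0x77003980c67 (.node 0x5a4 .nil .nil) (.node 0x35e07360a95 .nil .nil)) (.node 0x2fa01a20b2f (.node 0x3ae0a95 .nil .nil) .nil))) (.node 0xd2 (.node 0x1 (.node 0x77a030a0c67 (.node 0x25008700b2f .nil .nil) (.node 0x8805c00a95 .nil .nil)) (.node 0x5be078c0c67 (.node 0x19a0a95 .nil .nil) .nil)) (.node 0xc67 (.node 0x9a60c67 (.node 0x95c0b2f .nil .nil) (.node 0x878 .nil .nil)) (.node 0x58409dc0b2f (.node 0xa95 .nil .nil) .nil))))) (.node 0x1780001 (.node 0x4320001 (.node 0x1 (.node 0x11e (.node 0x29e07c00c67 (.node 0x298021c0b2f .nil .nil) (.node 0x2c40a95 .nil .nil)) (.node 0xc67 (.node 0x7800f60b2f .nil .nil) .nil)) (.node 0x1de (.node 0x44a05a80c67 (.node 0xc08fc0b2f .nil .nil) (.node 0x23c0a95 .nil .nil)) (.node 0x80a0b2f (.node 0x6ba .nil .nil) .nil))) (.node 0x800001 (.node 0x1a602420001 (.node 0xb60a3e0c67 (.node 0x7aa00740b2f .nil .nil) (.node 0xa95 .nil .nil))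 (.node 0x6ae01bc0c67 (.node 0x7380a95 .nil .nil) .nil)) (.node 0x8a40c67 (.node 0x20607680c67 (.node 0x71801ca0b2f .nil .nil) (.node 0xa95 .nil .nil)) (.node 0xb2f (.node 0x708 .nil .nil) .nil)))) (.node 0x5e (.node 0x1 (.node 0x1 (.node 0x2f202980c67 (.node 0x4c80b2f .nil .nil) (.node 0x78c .nil .nil)) (.node 0x4b80c67 (.node 0xb2f .nil .nil) .nil)) (.node 0x81e0001 (.node 0x31e (.node 0x66401dc0b2f .nil .nil) (.node 0x1280a95 .nil .nil)) (.node 0x5a802b40b2f (.node 0x4b8006c0a95 .nil .nil) .nil))) (.node 0x1 (.node 0x7e40001 (.node 0x74091c0c67 (.node 0x7ba09560b2f .nil .nil) (.node 0x72a05300a95 .nil .nil)) (.node 0xc67 (.node 0xa95 .nil .nil) .nil)) (.node 0x1580c67 (.node 0x430077a0c67 (.node 0xb2f .nil .nil) (.node 0x1e40a95 .nil .nil)) (.node 0x35600ce0b2f (.node 0x2009e0a95 .nil .nil) .nil))))))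

/-- A part. -/
noncomputable def cand6_4 : Arr ℕ :=
  (.node 0x1 (.node 0x6e06320001 (.node 0x2540001 (.node 0x1 (.node 0xa2058e0001 (.node 0x1420a200c67 (.node 0xb2f .nil .nil) (.node 0xa95 .nil .nil)) (.node 0xc67 (.node 0x70e05740b2f .nil .nil) .nil)) (.node 0x1d2 (.node 0xc67 (.node 0xb2f .nil .nil) (.node 0xa95 .nil .nil)) (.node 0x2140b2f (.node 0x2b405b20a95 .nil .nil) .nil))) (.node 0x1 (.node 0x358056c0001 (.node 0x3a601be0c67 (.node 0x536 .nil .nil) (.node 0x3b806f60a95 .nil .nil)) (.node 0x3fc (.node 0x560a95 .nil .nil) .nil)) (.node 0x42e07e20c67 (.node 0xc67 (.node 0xb2f .nil .nil) (.node 0x20207de0a95 .nil .nil)) (.node 0xb2f (.node 0x6fe .nil .nil) .nil)))) (.node 0x48c08760001 (.node 0x77e0001 (.node 0x1 (.node 0xc67 (.node 0x11e0b2f .nil .nil) (.node 0x578088a0a95 .nil .nil)) (.node 0x3be (.node 0x32805000b2f .nil .nil) .nil)) (.node 0x1 (.node 0x9ac0c67 (.node 0x7ba09a40b2f .nil .nil) (.node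 0x14a044a0a95 .nil .nil)) (.node 0x65e02260b2f (.node 0x78a05ac0a95 .nil .nil) .nil))) (.node 0x26068c0001 (.node 0x1 (.node 0x53a06940c67 (.node 0x1c80b2f .nil .nil) (.node 0x67c01be0a95 .nil .nil)) (.node 0x430 (.node 0x42801de0a95 .nil .nil) .nil)) (.node 0x35209c60c67 (.node 0xc67 (.node 0xb2f .nil .nil) (.node 0xa95 .nil .nil)) (.node 0xb2f (.node 0x7ae05280a95 .nil .nil) .nil))))) (.node 0x2ee08520001 (.node 0x1 (.node 0x1 (.node 0xa0001 (.node 0x264 (.node 0xb2f .nil .nil) (.node 0xa95 .nil .nil)) (.node 0x19204d20c67 (.node 0x4340b2f .nil .nil) .nil)) (.node 0x57806da0001 (.node 0x56807220c67 (.node 0xb2f .nil .nil) (.node 0x7806480a95 .nil .nil)) (.node 0xb2f (.node 0x6ce .nil .nil) .nil))) (.node 0x1 (.node 0x740001 (.node 0xa060c67 (.node 0x3a409540b2f .nil .nil) (.node 0x7d0 .nil .nil)) (.node 0xc67 (.node 0x4c00a95 .nil .nil) .nil)) (.node 0x8280c67 (.node 0xc67 (.node 0xb2f .nil .nil) (.node 0xa95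 .nil .nil)) (.node 0xb2f (.node 0x9220a95 .nil .nil) .nil)))) (.node 0x1cc0001 (.node 0x79c078e0001 (.node 0x3fa07420001 (.node 0x286 (.node 0x40c0b2f .nil .nil) (.node 0x50c09d60a95 .nil .nil)) (.node 0x1006880c67 (.node 0x42a00600a95 .nil .nil) .nil)) (.node 0x8ec0001 (.node 0x71a09fc0c67 (.node 0x7a2014e0b2f .nil .nil) (.node 0x218027c0a95 .nil .nil)) (.node 0xb2f (.node 0x18e09ae0a95 .nil .nil) .nil))) (.node 0x21a0a260001 (.node 0x76e06e00001 (.node 0x3ee0c67 (.node 0x3aa09fa0b2f .nil .nil) (.node 0x1c00a080a95 .nil .nil)) (.node 0x614005c0b2f (.node 0x2ac022a0a95 .nil .nil) .nil)) (.node 0xc67 (.node 0x9d80c67 (.node 0x618 .nil .nil) .nil) (.node 0xb2f (.node 0x59800d60a95 .nil .nil) .nil))))))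

/-- A part. -/
noncomputable def cand6_5 : Arr ℕ :=
  (.node 0x1 cand6_3 cand6_4)

/-- A part. -/
noncomputable def cand6_6 : Arr ℕ :=
  (.node 0x0 cand6_2 cand6_5)

/-- A part. -/
noncomputable def cand6_7 : Arr ℕ :=
  (.node 0x7d0023c0001 (.node 0xe (.node 0x1 (.node 0x6a (.node 0x1 (.node 0x44c00380c67 (.node 0xb2f .nil .nil) (.node 0xa95 .nil .nil)) (.node 0x2740c67 (.node 0xb2f .nil .nil) .nil)) (.node 0x660001 (.node 0x2da (.node 0xb2f .nil .nil) (.node 0x31e069e0a95 .nil .nil)) (.node 0x45607300b2f (.node 0x1a401740a95 .nil .nil) .nil))) (.node 0x7fa06460001 (.node 0x6240001 (.node 0xc67 (.node 0xb2f .nil .nil) (.node 0x6ce036e0a95 .nil .nil)) (.node 0x65c02d00c67 (.node 0xa95 .nil .nil) .nil)) (.node 0x7ea08660c67 (.node 0x1be03380c67 (.node 0x34e07880b2f .nil .nil) (.node 0x2b800200a95 .nil .nil)) (.node 0x37a0b2f (.node 0x38c07760a95 .nil .nil) .nil)))) (.node 0x1 (.node 0x8c (.node 0x13e (.node 0x268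 (.node 0x190043a0b2f .nil .nil) (.node 0xa95 .nil .nil)) (.node 0x4aa0c67 (.node 0xb2f .nil .nil) .nil)) (.node 0x3e609540001 (.node 0x304 (.node 0xc007340b2f .nil .nil) (.node 0x38c0a95 .nil .nil)) (.node 0x6d20b2f (.node 0x6d8 .nil .nil) .nil))) (.node 0xce (.node 0x19e (.node 0x6ea0c67 (.node 0x205900b2f .nil .nil) (.node 0xa95 .nil .nil)) (.node 0x2ca0c67 (.node 0x9a05d80a95 .nil .nil) .nil)) (.node 0x90a0c67 (.node 0x2fe0c67 (.node 0xd200fa0b2f .nil .nil) (.node 0x42e0a95 .nil .nil)) (.node 0x28604780b2f (.node 0x712 .nil .nil) .nil))))) (.node 0x53a01640001 (.node 0x1 (.node 0x1 (.node 0x5aa05a40001 (.node 0xc67 (.node 0x4ac0b2f .nil .nil) (.node 0x62a07300a95 .nil .nil)) (.node 0x4120a820c67 (.node 0x75c0b2f .nil .nil) .nil)) (.node 0x1d8 (.node 0xc67 (.node 0x46054a0b2f .nil .nil) (.node 0x1e802f20a95 .nil .nil)) (.node 0x20a02200b2f (.node 0x6b404d20a95 .nil .nil) .nil))) (.node 0x4ee09140001 (.node 0x46a0001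 (.node 0x1520c67 (.node 0x6fe0b2f .nil .nil) (.node 0x12e07ec0a95 .nil .nil)) (.node 0xc67 (.node 0xa95 .nil .nil) .nil)) (.node 0x8ac0c67 (.node 0x188027a0c67 (.node 0x45407bc0b2f .nil .nil) (.node 0x862 .nil .nil)) (.node 0x3fe09a80b2f (.node 0x4fe0a95 .nil .nil) .nil)))) (.node 0x8380001 (.node 0x7bc06500001 (.node 0x1d40001 (.node 0x770013a0c67 (.node 0xb2f .nil .nil) (.node 0x5500a95 .nil .nil)) (.node 0xc67 (.node 0x56c08ea0b2f .nil .nil) .nil)) (.node 0x34608680001 (.node 0x8c0c67 (.node 0x5b8 .nil .nil) (.node 0x7a00a95 .nil .nil)) (.node 0x6cc0b2f (.node 0x77402d20a95 .nil .nil) .nil))) (.node 0x442039a0001 (.node 0x1b2 (.node 0x27802b40c67 (.node 0x5ca00800b2f .nil .nil) (.node 0x5f80a95 .nil .nil)) (.node 0x43c (.node 0x29a0a460a95 .nil .nil) .nil)) (.node 0xc67 (.node 0x378 (.node 0x158000a0b2f .nil .nil) (.node 0x13602a40a95 .nil .nil)) (.node 0x36a076c0b2f (.node 0x730 .nil .nil) .nil))))))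

/-- A part. -/
noncomputable def cand6_8 : Arr ℕ :=
  (.node 0x62805100001 (.node 0x6400001 (.node 0x27e0a380001 (.node 0x1 (.node 0x10a (.node 0xc67 (.node 0x9340b2f .nil .nil) (.node 0x52801180a95 .nil .nil)) (.node 0xc67 (.node 0xb2f .nil .nil) .nil)) (.node 0x1cc (.node 0x38c0c67 (.node 0x620a180b2f .nil .nil) (.node 0x7fa .nil .nil)) (.node 0x40e03600b2f (.node 0x5780a95 .nil .nil) .nil))) (.node 0x1 (.node 0x94c0001 (.node 0x2440c67 (.node 0x530 .nil .nil) (.node 0x3f603300a95 .nil .nil)) (.node 0x3f6 (.node 0x47802960a95 .nil .nil) .nil)) (.node 0x9f40c67 (.node 0x1e401640c67 (.node 0xb2f .nil .nil) (.node 0x85a .nil .nil)) (.node 0xb2f (.node 0x2f6052a0a95 .nil .nil) .nil)))) (.node 0x1 (.node 0x3c207900001 (.node 0x4204040001 (.node 0x27a (.node 0x2f20b2f .nil .nil) (.node 0xa95 .nil .nil)) (.node 0x3440c67 (.node 0x3d607ce0b2f .nil .nil) .nil)) (.node 0x77202d00001 (.node 0x8fa0c67 (.node 0x20a06f20b2f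 .nil .nil) (.node 0x46608860a95 .nil .nil)) (.node 0x1ac0b2f (.node 0xa95 .nil .nil) .nil))) (.node 0x2fa088a0001 (.node 0x8700001 (.node 0x7d8066c0c67 (.node 0xb2f .nil .nil) (.node 0x52804a80a95 .nil .nil)) (.node 0x3a008560c67 (.node 0x8ba0a95 .nil .nil) .nil)) (.node 0x3720c67 (.node 0x7c402900c67 (.node 0x5e401a60b2f .nil .nil) (.node 0x54e0a95 .nil .nil)) (.node 0xb2f (.node 0x55a04e00a95 .nil .nil) .nil))))) (.node 0xa800001 (.node 0x71802280001 (.node 0x1 (.node 0x738099a0001 (.node 0x39408a80c67 (.node 0x5b20b2f .nil .nil) (.node 0xa95 .nil .nil)) (.node 0x3a2 (.node 0x31a04940b2f .nil .nil) .nil)) (.node 0x77c0001 (.node 0x66e00ca0c67 (.node 0x59c .nil .nil) (.node 0xa95 .nil .nil)) (.node 0x9c60b2f (.node 0x7be041a0a95 .nil .nil) .nil))) (.node 0x1 (.node 0x1 (.node 0xc67 (.node 0x12009860b2f .nil .nil) (.node 0x7cc .nil .nil)) (.node 0x1ce00ea0c67 (.node 0x680 .nil .nil) .nil)) (.node 0x7d00c67 (.node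 0x3280c67 (.node 0x8120b2f .nil .nil) (.node 0x58c0a95 .nil .nil)) (.node 0x4a4 (.node 0x74201560a95 .nil .nil) .nil)))) (.node 0x1760a3e0001 (.node 0x6e404340001 (.node 0x1ae0001 (.node 0x696053e0c67 (.node 0x4340a8c0b2f .nil .nil) (.node 0xa95 .nil .nil)) (.node 0x3d8 (.node 0xa95 .nil .nil) .nil)) (.node 0x21e (.node 0x3d20c67 (.node 0x66e0b2f .nil .nil) (.node 0x83c .nil .nil)) (.node 0x47c (.node 0xa95 .nil .nil) .nil))) (.node 0x2e0001 (.node 0x1b8 (.node 0x2ce (.node 0x48002c00b2f .nil .nil) (.node 0x8209ea0a95 .nil .nil)) (.node 0xc67 (.node 0x71403e40a95 .nil .nil) .nil)) (.node 0x1ca0c67 (.node 0x4e60c67 (.node 0x13a05140b2f .nil .nil) .nil) (.node 0x406a60b2f (.node 0x3ee04220a95 .nil .nil) .nil))))))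

/-- A part. -/
noncomputable def cand6_9 : Arr ℕ :=
  (.node 0x6dc0001 cand6_7 cand6_8)

/-- A part. -/
noncomputable def cand6_10 : Arr ℕ :=
  (.node 0x18a032a0001 (.node 0xd201fc0001 (.node 0x600001 (.node 0x60001 (.node 0x100 (.node 0x6280c67 (.node 0xb2f .nil .nil) (.node 0x3e005560a95 .nil .nil)) (.node 0x2aa0c67 (.node 0x58e0b2f .nil .nil) .nil)) (.node 0x134059c0001 (.node 0xc67 (.node 0x6a069a0b2f .nil .nil) (.node 0x9c014c0a95 .nil .nil)) (.node 0x4fe07b40b2f (.node 0x13405ee0a95 .nil .nil) .nil))) (.node 0x2e803860001 (.node 0x5b609c20001 (.node 0x2d8074a0c67 (.node 0x72e0b2f .nil .nil) (.node 0x9e00a95 .nil .nil)) (.node 0x7f00c67 (.node 0x13603760a95 .nil .nil) .nil)) (.node 0xd205e80c67 (.node 0x6da05ac0c67 (.node 0x410084c0b2f .nil .nil) (.node 0xa95 .nil .nil)) (.node 0xb2f (.node 0xa95 .nil .nil) .nil)))) (.node 0x3e40001 (.node 0x3a0001 (.node 0x148 (.node 0x2600c67 (.node 0x4f0 .nil .nil) (.node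 0x5d40a95 .nil .nil)) (.node 0x8b00c67 (.node 0x1f60b2f .nil .nil) .nil)) (.node 0x3e60001 (.node 0xc67 (.node 0x47a03ba0b2f .nil .nil) (.node 0x38c04560a95 .nil .nil)) (.node 0x1aa06fc0b2f (.node 0xec0a0c0a95 .nil .nil) .nil))) (.node 0x4c200640001 (.node 0x2dc07780001 (.node 0xc67 (.node 0xb2f .nil .nil) (.node 0xa95 .nil .nil)) (.node 0x25c060e0c67 (.node 0x74c01900a95 .nil .nil) .nil)) (.node 0x6a008f80c67 (.node 0x8204800c67 (.node 0xb2f .nil .nil) (.node 0x2e40a95 .nil .nil)) (.node 0x8540b2f (.node 0x71c .nil .nil) .nil))))) (.node 0x2960001 (.node 0x1bc06980001 (.node 0x79401080001 (.node 0x11a07d80001 (.node 0xc67 (.node 0xb2f .nil .nil) (.node 0xa95 .nil .nil)) (.node 0xc67 (.node 0x34807000b2f .nil .nil) .nil)) (.node 0x1e600b20001 (.node 0x8f00c67 (.node 0xb2f .nil .nil) (.node 0x808 .nil .nil)) (.node 0x6e0b2f (.node 0x6c2 .nil .nil) .nil))) (.node 0xc0 (.node 0x15a022c0001 (.node 0x2a6 (.node 0x1ce00120b2f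 .nil .nil) (.node 0x7c4 .nil .nil)) (.node 0xc67 (.node 0xa95 .nil .nil) .nil)) (.node 0x8d60c67 (.node 0xa4a0c67 (.node 0x9cc0b2f .nil .nil) (.node 0x1a8079c0a95 .nil .nil)) (.node 0x17c03000b2f (.node 0x16091a0a95 .nil .nil) .nil)))) (.node 0x3d203360001 (.node 0x1 (.node 0x7380001 (.node 0xc67 (.node 0x7c20b2f .nil .nil) (.node 0x27c05100a95 .nil .nil)) (.node 0x8de0c67 (.node 0x7f204dc0b2f .nil .nil) .nil)) (.node 0x39401140001 (.node 0x4de010a0c67 (.node 0xb2f .nil .nil) (.node 0x44e01e60a95 .nil .nil)) (.node 0x350060c0b2f (.node 0x61208880a95 .nil .nil) .nil))) (.node 0x1 (.node 0x1b4027c0001 (.node 0xe60a8a0c67 (.node 0x73203c20b2f .nil .nil) (.node 0x20a95 .nil .nil)) (.node 0xa340c67 (.node 0x78206e20a95 .nil .nil) .nil)) (.node 0x248 (.node 0x17802940c67 (.node 0xb2f .nil .nil) (.node 0x12e08000a95 .nil .nil)) (.node 0x15002f60b2f (.node 0xa95 .nil .nil) .nil))))))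

/-- A part. -/
noncomputable def cand6_11 : Arr ℕ :=
  (.node 0x1 (.node 0x1e806d00001 (.node 0x460001 (.node 0x1c00001 (.node 0x112 (.node 0x3600a480c67 (.node 0x20a067a0b2f .nil .nil) (.node 0x41a0a700a95 .nil .nil)) (.node 0x47004c80c67 (.node 0x20a0b2f .nil .nil) .nil)) (.node 0x1 (.node 0x2e8 (.node 0x2ea05260b2f .nil .nil) (.node 0xa420a95 .nil .nil)) (.node 0x2900b2f (.node 0xa95 .nil .nil) .nil))) (.node 0x37c0001 (.node 0x1 (.node 0x6240a920c67 (.node 0x3ec099c0b2f .nil .nil) (.node 0xa95 .nil .nil)) (.node 0xc67 (.node 0x44a063e0a95 .nil .nil) .nil)) (.node 0x7cc002e0c67 (.node 0x24a0c67 (.node 0xb2f .nil .nil) (.node 0x7d4038e0a95 .nil .nil)) (.node 0x49a (.node 0x55600000a95 .nil .nil) .nil)))) (.node 0x1 (.node 0x1 (.node 0x1 (.node 0x5c4099a0c67 (.node 0x30e02780b2f .nil .nil) (.node 0xfa079e0a95 .nil .nil)) (.node 0x3c4 (.node 0x66200ac0b2f .nil .nil) .nil)) (.node 0x34a053c0001 (.node 0xc67 (.node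 0xb2f .nil .nil) (.node 0x79806320a95 .nil .nil)) (.node 0x46a (.node 0xaa06060a95 .nil .nil) .nil))) (.node 0x662050a0001 (.node 0x59003f80001 (.node 0x2c4 (.node 0x536056c0b2f .nil .nil) (.node 0x500a95 .nil .nil)) (.node 0x89c0c67 (.node 0x69c .nil .nil) .nil)) (.node 0xc67 (.node 0x1c60c67 (.node 0x44601c00b2f .nil .nil) (.node 0x3be0a95 .nil .nil)) (.node 0xb2f (.node 0x5aa06560a95 .nil .nil) .nil))))) (.node 0x2a204000001 (.node 0x41800f60001 (.node 0x9a0001 (.node 0x66809960001 (.node 0xc67 (.node 0xb2f .nil .nil) (.node 0x3e80a95 .nil .nil)) (.node 0x2ee01100c67 (.node 0xb2f .nil .nil) .nil)) (.node 0x1f0 (.node 0x1d60a6c0c67 (.node 0x59e .nil .nil) (.node 0x304064a0a95 .nil .nil)) (.node 0x4b0024c0b2f (.node 0x6d2 .nil .nil) .nil))) (.node 0x1 (.node 0x1 (.node 0x59201060c67 (.node 0x7d60b2f .nil .nil) (.node 0x6c207d40a95 .nil .nil)) (.node 0x38208e00c67 (.node 0x2be0a95 .nil .nil) .nil)) (.node 0xc67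 (.node 0x4d409600c67 (.node 0x21c063e0b2f .nil .nil) (.node 0x14607120a95 .nil .nil)) (.node 0x1a802560b2f (.node 0xa95 .nil .nil) .nil)))) (.node 0x7ea03160001 (.node 0x5c40001 (.node 0x16e (.node 0x28c (.node 0x6b80aa40b2f .nil .nil) (.node 0xa95 .nil .nil)) (.node 0x29200920c67 (.node 0xa620a95 .nil .nil) .nil)) (.node 0x7b0060c0c67 (.node 0x9803300c67 (.node 0x5c4 .nil .nil) (.node 0xd40a95 .nil .nil)) (.node 0x480 (.node 0x49004420a95 .nil .nil) .nil))) (.node 0xf8 (.node 0x1be (.node 0x6ea01ec0c67 (.node 0x576 .nil .nil) (.node 0x5ec05120a95 .nil .nil)) (.node 0x3b803120b2f (.node 0x4520a95 .nil .nil) .nil)) (.node 0xda08c00c67 (.node 0xc67 (.node 0xa4c0b2f .nil .nil) .nil) (.node 0x12806680b2f (.node 0x6ac07c00a95 .nil .nil) .nil))))))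

/-- A part. -/
noncomputable def cand6_12 : Arr ℕ :=
  (.node 0x85a0001 cand6_10 cand6_11)

/-- A part. -/
noncomputable def cand6_13 : Arr ℕ :=
  (.node 0x4ae00120001 cand6_9 cand6_12)

/-- A part. -/
noncomputable def cand6_14 : Arr ℕ :=
  (.node 0x1 cand6_6 cand6_13)

/-- The array. -/
noncomputable def cand6 : Arr ℕ := cand6_14

/-- A part. -/
noncomputable def cand7_0 : Arr ℕ :=
  (.node 0x8604580001 (.node 0x1b207600001 (.node 0x2f208e00001 (.node 0x1 (.node 0x35c05280001 (.node 0x2fe06440c67 (.node 0xb2f .nil .nil) (.node 0xa95 .nil .nil)) (.node 0x6e001f60c67 (.node 0x4017c0b2f .nil .nil) .nil)) (.node 0x7680001 (.node 0x4a8088e0c67 (.node 0x658004a0b2f .nil .nil) (.node 0x81a0a95 .nil .nil)) (.node 0x618093a0b2f (.node 0xa95 .nil .nil) .nil))) (.node 0x64202400001 (.node 0x4208960001 (.node 0x290 (.node 0x536051a0b2f .nil .nil) (.node 0x3c802720a95 .nil .nil)) (.node 0xc67 (.node 0x7a403d00a95 .nil .nil)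 .nil)) (.node 0xc67 (.node 0x332 (.node 0xb2f .nil .nil) (.node 0x7b0045e0a95 .nil .nil)) (.node 0x12e0a140b2f (.node 0x7ca06a40a95 .nil .nil) .nil)))) (.node 0x1 (.node 0x8a (.node 0x5700a600001 (.node 0x6aa09240c67 (.node 0x5f00b2f .nil .nil) (.node 0xa95 .nil .nil)) (.node 0x1b8093c0c67 (.node 0xb2f .nil .nil) .nil)) (.node 0x1040001 (.node 0xc67 (.node 0xb2f .nil .nil) (.node 0x8680a95 .nil .nil)) (.node 0x87a0b2f (.node 0x78a0a95 .nil .nil) .nil))) (.node 0xcc (.node 0x7e60001 (.node 0x5fc01800c67 (.node 0xb2f .nil .nil) (.node 0xde038a0a95 .nil .nil)) (.node 0x39a0c67 (.node 0xa95 .nil .nil) .nil)) (.node 0xc67 (.node 0x6f60c67 (.node 0xb2f .nil .nil) (.node 0x5860aa20a95 .nil .nil)) (.node 0xfe042e0b2f (.node 0xa95 .nil .nil) .nil))))) (.node 0x1 (.node 0x2e (.node 0x20048a0001 (.node 0x118 (.node 0x47009b00c67 (.node 0x77a0b2f .nil .nil) (.node 0xa95 .nil .nil)) (.node 0x1c409b60c67 (.node 0x66e00780b2f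 .nil .nil) .nil)) (.node 0x1 (.node 0x2ec (.node 0x3f8092e0b2f .nil .nil) (.node 0x802 .nil .nil)) (.node 0x6260b2f (.node 0x702039a0a95 .nil .nil) .nil))) (.node 0x564056a0001 (.node 0x188 (.node 0xc67 (.node 0x7f409360b2f .nil .nil) (.node 0x2b403820a95 .nil .nil)) (.node 0x7e601f00c67 (.node 0x678 .nil .nil) .nil)) (.node 0x9700c67 (.node 0x47c02ba0c67 (.node 0x12e00040b2f .nil .nil) (.node 0x2d806140a95 .nil .nil)) (.node 0x3e00b2f (.node 0xa95 .nil .nil) .nil)))) (.node 0x12c04840001 (.node 0x19604960001 (.node 0x66e06e60001 (.node 0xc67 (.node 0x500 .nil .nil) (.node 0x4b20a95 .nil .nil)) (.node 0x3c8 (.node 0x2a0a760b2f .nil .nil) .nil)) (.node 0x4f407820001 (.node 0x314 (.node 0xb2f .nil .nil) (.node 0x82c .nil .nil)) (.node 0x5603ca0b2f (.node 0x69c044c0a95 .nil .nil) .nil))) (.node 0x680001 (.node 0x75402180001 (.node 0x51e0c67 (.node 0x3d60b2f .nil .nil) (.node 0x17200900a95 .nil .nil)) (.node 0x2a8013e0c67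 (.node 0x2280a95 .nil .nil) .nil)) (.node 0x242 (.node 0x4fa08320c67 (.node 0x5be0a740b2f .nil .nil) (.node 0x886 .nil .nil)) (.node 0xb2f (.node 0x1f407640a95 .nil .nil) .nil))))))

/-- A part. -/
noncomputable def cand7_1 : Arr ℕ :=
  (.node 0x9c80001 (.node 0x31c0a840001 (.node 0x6f8083a0001 (.node 0x70 (.node 0xa7a0001 (.node 0x6e007ac0c67 (.node 0x51e03680b2f .nil .nil) (.node 0x78800280a95 .nil .nil)) (.node 0x2620c67 (.node 0xb2f .nil .nil) .nil)) (.node 0x1ca (.node 0x2e0 (.node 0x1780b2f .nil .nil) (.node 0x27e08d00a95 .nil .nil)) (.node 0x4ba07560b2f (.node 0xa95 .nil .nil) .nil))) (.node 0xb0 (.node 0x6006c20001 (.node 0x35402100c67 (.node 0xb2f .nil .nil) (.node 0x2a0006a0a95 .nil .nil)) (.node 0x298054a0c67 (.node 0x3d407840a95 .nil .nil) .nil)) (.node 0x39c04060c67 (.node 0x3400c67 (.node 0x31e0b2f .nil .nil) (.node 0x51e07860a95 .nil .nil)) (.node 0xb2f (.node 0x24001160a95 .nil .nil) .nil)))) (.node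 0x1 (.node 0x49e00d80001 (.node 0x5b20001 (.node 0x276 (.node 0x2f606980b2f .nil .nil) (.node 0x13402c80a95 .nil .nil)) (.node 0x21c05320c67 (.node 0x19001e20b2f .nil .nil) .nil)) (.node 0x3c605460001 (.node 0x30e (.node 0x23a07020b2f .nil .nil) (.node 0x81e .nil .nil)) (.node 0xb2f (.node 0x15c0a95 .nil .nil) .nil))) (.node 0x71a04020001 (.node 0x1fa03d40001 (.node 0x72e06dc0c67 (.node 0xb2f .nil .nil) (.node 0xa95 .nil .nil)) (.node 0xc67 (.node 0x68c .nil .nil) .nil)) (.node 0x5fa0c67 (.node 0xc67 (.node 0x25603220b2f .nil .nil) (.node 0xa95 .nil .nil)) (.node 0x444039a0b2f (.node 0x724 .nil .nil) .nil))))) (.node 0x1 (.node 0x5900001 (.node 0x20a092c0001 (.node 0x53800080001 (.node 0x62001d00c67 (.node 0x4e0 .nil .nil) (.node 0x48400160a95 .nil .nil)) (.node 0x2c40c67 (.node 0xb2f .nil .nil) .nil)) (.node 0x4be07220001 (.node 0xc0006c0c67 (.node 0x1a200320b2f .nil .nil) (.node 0xa95 .nil .nil)) (.node 0x40e05f60b2f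 (.node 0x6c8 .nil .nil) .nil))) (.node 0x1 (.node 0xc404b80001 (.node 0xc67 (.node 0x1020b2f .nil .nil) (.node 0xa95 .nil .nil)) (.node 0x40e (.node 0xa95 .nil .nil) .nil)) (.node 0xc67 (.node 0x352 (.node 0x6080b2f .nil .nil) (.node 0x7960a100a95 .nil .nil)) (.node 0x3d002ee0b2f (.node 0xa95 .nil .nil) .nil)))) (.node 0x1 (.node 0x33407120001 (.node 0x164 (.node 0x4b00c67 (.node 0x510 .nil .nil) (.node 0x3440a95 .nil .nil)) (.node 0x3c40c67 (.node 0xa100b2f .nil .nil) .nil)) (.node 0x5d6011a0001 (.node 0x6900c67 (.node 0x2c8007c0b2f .nil .nil) (.node 0x4e005540a95 .nil .nil)) (.node 0xb2f (.node 0x36005140a95 .nil .nil) .nil))) (.node 0x1 (.node 0x4c068e0001 (.node 0xc67 (.node 0x566 .nil .nil) (.node 0xa95 .nil .nil)) (.node 0xc67 (.node 0xa95 .nil .nil) .nil)) (.node 0xc67 (.node 0xc67 (.node 0x6c8073a0b2f .nil .nil) .nil) (.node 0x3a802b80b2f (.node 0x55406ca0a95 .nil .nil) .nil))))))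

/-- A part. -/
noncomputable def cand7_2 : Arr ℕ :=
  (.node 0x1 cand7_0 cand7_1)

/-- A part. -/
noncomputable def cand7_3 : Arr ℕ :=
  (.node 0x37a0001 (.node 0x1 (.node 0x1 (.node 0x5a408ac0001 (.node 0x3f802620001 (.node 0xc67 (.node 0xb2f .nil .nil) (.node 0xa95 .nil .nil)) (.node 0x2f40c67 (.node 0xb2f .nil .nil) .nil)) (.node 0x516018c0001 (.node 0xc67 (.node 0x57c .nil .nil) (.node 0x7f8 .nil .nil)) (.node 0x18c033c0b2f (.node 0x1f805900a95 .nil .nil) .nil))) (.node 0xac (.node 0x37804080001 (.node 0x49e05280c67 (.node 0x62004460b2f .nil .nil) (.node 0x7a6 .nil .nil)) (.node 0xc67 (.node 0xa95 .nil .nil) .nil)) (.node 0xc67 (.node 0x59c0c67 (.node 0x6b00b2f .nil .nil) (.node 0xd808d80a95 .nil .nil)) (.node 0xb2f (.node 0x7b40a95 .nil .nil) .nil)))) (.node 0x55a01ba0001 (.node 0x1 (.node 0x7fc006c0001 (.node 0x43400be0c67 (.node 0x4ea .nil .nil) (.node 0x77c .nil .nil)) (.node 0x8020c67 (.node 0x650 .nil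 .nil) .nil)) (.node 0x55009aa0001 (.node 0xc67 (.node 0xb2f .nil .nil) (.node 0x64c03720a95 .nil .nil)) (.node 0x6100b2f (.node 0x57c01880a95 .nil .nil) .nil))) (.node 0xd4 (.node 0x1 (.node 0x31809180c67 (.node 0x4a40b2f .nil .nil) (.node 0x3e20a95 .nil .nil)) (.node 0x49e0c67 (.node 0x1d406400a95 .nil .nil) .nil)) (.node 0x21205480c67 (.node 0x8040c67 (.node 0x3de0b2f .nil .nil) (.node 0xa95 .nil .nil)) (.node 0xb2f (.node 0x718 .nil .nil) .nil))))) (.node 0x3660001 (.node 0x7540001 (.node 0x17200f00001 (.node 0x5680001 (.node 0xc67 (.node 0x4dc .nil .nil) (.node 0x3b602d80a95 .nil .nil)) (.node 0x39a (.node 0xb2f .nil .nil) .nil)) (.node 0x1d802aa0001 (.node 0xc67 (.node 0x63807fa0b2f .nil .nil) (.node 0xa95 .nil .nil)) (.node 0x3cc0b2f (.node 0x6620a95 .nil .nil) .nil))) (.node 0xb6096c0001 (.node 0x1 (.node 0x2500c67 (.node 0xb2f .nil .nil) (.node 0x4da01000a95 .nil .nil)) (.node 0x2a400140c67 (.node 0xa95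 .nil .nil) .nil)) (.node 0x3f6058c0c67 (.node 0xc67 (.node 0x5de .nil .nil) (.node 0x272000e0a95 .nil .nil)) (.node 0x6dc09f00b2f (.node 0x1fc02fa0a95 .nil .nil) .nil)))) (.node 0x34009e20001 (.node 0x1a208120001 (.node 0x15c (.node 0x5a068e0c67 (.node 0x4f20b2f .nil .nil) (.node 0x78e .nil .nil)) (.node 0x7dc02ae0c67 (.node 0x56e003a0b2f .nil .nil) .nil)) (.node 0xac0001 (.node 0x320 (.node 0x2405040b2f .nil .nil) (.node 0x7500a95 .nil .nil)) (.node 0x35e0b2f (.node 0x26c0a95 .nil .nil) .nil))) (.node 0xe6 (.node 0x5760a0c0001 (.node 0x2020c67 (.node 0x69e09e60b2f .nil .nil) (.node 0x50600e80a95 .nil .nil)) (.node 0xc67 (.node 0x48c08360a95 .nil .nil) .nil)) (.node 0x39808360c67 (.node 0xc67 (.node 0x60c .nil .nil) (.node 0xa95 .nil .nil)) (.node 0x2000a6a0b2f (.node 0x4a005360a95 .nil .nil) .nil))))))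

/-- A part. -/
noncomputable def cand7_4 : Arr ℕ :=
  (.node 0x1 (.node 0x7d205da0001 (.node 0xa760001 (.node 0x1 (.node 0x60c005c0001 (.node 0x35007ba0c67 (.node 0x4001000b2f .nil .nil) (.node 0xa95 .nil .nil)) (.node 0x680c67 (.node 0x1b20b2f .nil .nil) .nil)) (.node 0x14c08f20001 (.node 0x7800ec0c67 (.node 0x8100b2f .nil .nil) (.node 0x7fc .nil .nil)) (.node 0x2d40b2f (.node 0xa95 .nil .nil) .nil))) (.node 0x1 (.node 0x182 (.node 0x5fe06b40c67 (.node 0x5f80b2f .nil .nil) (.node 0x7b2 .nil .nil)) (.node 0x40409820c67 (.node 0x74c041e0a95 .nil .nil) .nil)) (.node 0x6600a500c67 (.node 0x58a08700c67 (.node 0x29202080b2f .nil .nil) (.node 0x1f20a95 .nil .nil)) (.node 0x494 (.node 0xa95 .nil .nil) .nil)))) (.node 0x6ca07000001 (.node 0x42800ba0001 (.node 0x4e6098e0001 (.node 0x9e02da0c67 (.node 0x50a01140b2f .nil .nil) (.node 0x4be05bc0a95 .nil .nil)) (.node 0xc67 (.node 0xb2f .nil .nil) .nil)) (.node 0x32e0001 (.node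 0x6c20c67 (.node 0x5ee03a60b2f .nil .nil) (.node 0x8e00a95 .nil .nil)) (.node 0xb2f (.node 0x56a062a0a95 .nil .nil) .nil))) (.node 0xde (.node 0x60001d60001 (.node 0x3009e20c67 (.node 0x69003200b2f .nil .nil) (.node 0x53609d00a95 .nil .nil)) (.node 0x432 (.node 0x3200a95 .nil .nil) .nil)) (.node 0xc67 (.node 0xce078e0c67 (.node 0x4060b2f .nil .nil) (.node 0x54e00de0a95 .nil .nil)) (.node 0x4b8 (.node 0x49c05b60a95 .nil .nil) .nil))))) (.node 0x7ba0001 (.node 0x42 (.node 0x84 (.node 0x136 (.node 0xc67 (.node 0x31e01b00b2f .nil .nil) (.node 0x49404460a95 .nil .nil)) (.node 0x35005840c67 (.node 0x1c08e60b2f .nil .nil) .nil)) (.node 0x33a00de0001 (.node 0x9207720c67 (.node 0x1e4068a0b2f .nil .nil) (.node 0x6ec03800a95 .nil .nil)) (.node 0x62007f40b2f (.node 0x3760a380a95 .nil .nil) .nil))) (.node 0x66805640001 (.node 0x1 (.node 0x45004500c67 (.node 0x548 .nil .nil) (.node 0xa95 .nil .nil)) (.node 0x62e0c67 (.node 0x2120a95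 .nil .nil) .nil)) (.node 0xc67 (.node 0x5fe015e0c67 (.node 0x7de01580b2f .nil .nil) (.node 0x874 .nil .nil)) (.node 0x4a8 (.node 0xaa0a95 .nil .nil) .nil)))) (.node 0x52202560001 (.node 0x1 (.node 0x6ee03ce0001 (.node 0x288 (.node 0x6b202320b2f .nil .nil) (.node 0x796 .nil .nil)) (.node 0x4f20a760c67 (.node 0x7ee04860a95 .nil .nil) .nil)) (.node 0x62805220001 (.node 0x2006e40c67 (.node 0xb2f .nil .nil) (.node 0x842 .nil .nil)) (.node 0x8a20b2f (.node 0xa95 .nil .nil) .nil))) (.node 0x494085c0001 (.node 0x17e02b20001 (.node 0x8b20c67 (.node 0x20e09240b2f .nil .nil) (.node 0x7e600880a95 .nil .nil)) (.node 0x50209620b2f (.node 0x7c80a1c0a95 .nil .nil) .nil)) (.node 0x24e (.node 0x49c0c67 (.node 0xb2f .nil .nil) .nil) (.node 0x24009280b2f (.node 0x2800a95 .nil .nil) .nil))))))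

/-- A part. -/
noncomputable def cand7_5 : Arr ℕ :=
  (.node 0x5400001 cand7_3 cand7_4)

/-- A part. -/
noncomputable def cand7_6 : Arr ℕ :=
  (.node 0x1 cand7_2 cand7_5)

/-- A part. -/
noncomputable def cand7_7 : Arr ℕ :=
  (.node 0x1 (.node 0x5020001 (.node 0x11607f00001 (.node 0x430072e0001 (.node 0x67600040001 (.node 0x3920c67 (.node 0x4c8 .nil .nil) (.node 0x1c0012e0a95 .nil .nil)) (.node 0x38e (.node 0xb2f .nil .nil) .nil)) (.node 0x2d008fa0001 (.node 0xc67 (.node 0xe806020b2f .nil .nil) (.node 0x7f6 .nil .nil)) (.node 0x94c0b2f (.node 0xa95 .nil .nil) .nil))) (.node 0x1 (.node 0x174 (.node 0x77c0c67 (.node 0x9800b2f .nil .nil) (.node 0xaa089a0a95 .nil .nil)) (.node 0xc67 (.node 0xa95 .nil .nil) .nil)) (.node 0x50001e40c67 (.node 0xc67 (.node 0xb2f .nil .nil) (.node 0xa95 .nil .nil)) (.node 0xb2f (.node 0x6ec08160a95 .nil .nil) .nil)))) (.node 0x1 (.node 0x1 (.node 0x50002c00001 (.node 0x26a (.node 0x5700b2f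 .nil .nil) (.node 0x778 .nil .nil)) (.node 0x9be0c67 (.node 0xb2f .nil .nil) .nil)) (.node 0x2801960001 (.node 0x70e03f40c67 (.node 0x2f2061e0b2f .nil .nil) (.node 0x6a00a95 .nil .nil)) (.node 0xb2f (.node 0x1f60a95 .nil .nil) .nil))) (.node 0x21802e80001 (.node 0x77e011c0001 (.node 0x7b407b00c67 (.node 0x70000a40b2f .nil .nil) (.node 0x2660a2e0a95 .nil .nil)) (.node 0x5080c67 (.node 0xa95 .nil .nil) .nil)) (.node 0x614009e0c67 (.node 0x7cc07f60c67 (.node 0x58c0b2f .nil .nil) (.node 0x6f40a95 .nil .nil)) (.node 0x22c0b2f (.node 0x20400260a95 .nil .nil) .nil))))) (.node 0x5840001 (.node 0x1 (.node 0x1 (.node 0x2840001 (.node 0x2a00a3c0c67 (.node 0xb2f .nil .nil) (.node 0x2400a95 .nil .nil)) (.node 0xc67 (.node 0xb2f .nil .nil) .nil)) (.node 0x1da (.node 0x50204f00c67 (.node 0x6ca05780b2f .nil .nil) (.node 0x9dc0a95 .nil .nil)) (.node 0x10e015e0b2f (.node 0xa95 .nil .nil) .nil))) (.node 0x7300001 (.node 0x9c60001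 (.node 0x2a0 (.node 0xb2f .nil .nil) (.node 0x7e208700a95 .nil .nil)) (.node 0xaa60c67 (.node 0x7c201b60a95 .nil .nil) .nil)) (.node 0xa019e0c67 (.node 0xc67 (.node 0x53605920b2f .nil .nil) (.node 0x7fe072c0a95 .nil .nil)) (.node 0x19a0a5c0b2f (.node 0x6300a95 .nil .nil) .nil)))) (.node 0x1de08800001 (.node 0x19008780001 (.node 0x1 (.node 0x27e (.node 0x508 .nil .nil) (.node 0x8b60a95 .nil .nil)) (.node 0x3ce (.node 0x22e0b2f .nil .nil) .nil)) (.node 0x1500001 (.node 0x37606b20c67 (.node 0x25402ea0b2f .nil .nil) (.node 0x7a4047c0a95 .nil .nil)) (.node 0xb2f (.node 0x636017a0a95 .nil .nil) .nil))) (.node 0xe2 (.node 0x9b60001 (.node 0xc67 (.node 0x21a061c0b2f .nil .nil) (.node 0x3040a95 .nil .nil)) (.node 0x6bc0c67 (.node 0xa95 .nil .nil) .nil)) (.node 0x6260c67 (.node 0xc67 (.node 0x606 .nil .nil) (.node 0xa880a95 .nil .nil)) (.node 0x4ba (.node 0x17c00d80a95 .nil .nil) .nil))))))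

/-- A part. -/
noncomputable def cand7_8 : Arr ℕ :=
  (.node 0x1380001 (.node 0x7980001 (.node 0x38808e20001 (.node 0x2b80001 (.node 0x1 (.node 0x258 (.node 0x5300b2f .nil .nil) (.node 0x41c05aa0a95 .nil .nil)) (.node 0x3ca09da0c67 (.node 0x4d205160b2f .nil .nil) .nil)) (.node 0x5980a6a0001 (.node 0x2e2 (.node 0x1480b2f .nil .nil) (.node 0xa95 .nil .nil)) (.node 0x88c0b2f (.node 0xaa60a95 .nil .nil) .nil))) (.node 0xc20001 (.node 0x1 (.node 0x298 (.node 0x7401c60b2f .nil .nil) (.node 0xc200040a95 .nil .nil)) (.node 0xc67 (.node 0xa95 .nil .nil) .nil)) (.node 0x880c67 (.node 0x344 (.node 0x78e0b2f .nil .nil) (.node 0x85c .nil .nil)) (.node 0x34e039c0b2f (.node 0x6fa .nil .nil) .nil)))) (.node 0x43802200001 (.node 0x92 (.node 0x14c (.node 0x508003c0c67 (.node 0x4f8 .nil .nil) (.node 0xa95 .nil .nil)) (.node 0xc67 (.node 0xc005960b2f .nil .nil) .nil)) (.node 0x44209160001 (.node 0xc67 (.node 0x5b0 .nil .nil) (.node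 0xa95 .nil .nil)) (.node 0x8980b2f (.node 0xa95 .nil .nil) .nil))) (.node 0xda (.node 0x28806440001 (.node 0xc67 (.node 0x558 .nil .nil) (.node 0x4dc00da0a95 .nil .nil)) (.node 0x588023c0c67 (.node 0xa95 .nil .nil) .nil)) (.node 0x7140c67 (.node 0xc67 (.node 0x2e60b2f .nil .nil) (.node 0x43806180a95 .nil .nil)) (.node 0x67a09080b2f (.node 0x1a80a95 .nil .nil) .nil))))) (.node 0x5980001 (.node 0x3c (.node 0x41603960001 (.node 0x42a08ba0001 (.node 0x6b6086a0c67 (.node 0x4e4 .nil .nil) (.node 0x22809180a95 .nil .nil)) (.node 0x5d007440c67 (.node 0x6920b2f .nil .nil) .nil)) (.node 0x1 (.node 0x18202fa0c67 (.node 0xbe04180b2f .nil .nil) (.node 0xa95 .nil .nil)) (.node 0x45c (.node 0xa95 .nil .nil) .nil))) (.node 0xc6 (.node 0x19a (.node 0x76e07600c67 (.node 0x614014c0b2f .nil .nil) (.node 0x7460a95 .nil .nil)) (.node 0x52003240c67 (.node 0x2f00a95 .nil .nil) .nil)) (.node 0x230 (.node 0x354 (.node 0x40601360b2f .nil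 .nil) (.node 0xa95 .nil .nil)) (.node 0x4a6 (.node 0xa95 .nil .nil) .nil)))) (.node 0x4fa00a80001 (.node 0xa6 (.node 0x7a04a60001 (.node 0xc67 (.node 0xca0b2f .nil .nil) (.node 0x2b401720a95 .nil .nil)) (.node 0xc67 (.node 0xa95 .nil .nil) .nil)) (.node 0x1 (.node 0x7260a520c67 (.node 0xd201ea0b2f .nil .nil) (.node 0x83e .nil .nil)) (.node 0xb2f (.node 0xa95 .nil .nil) .nil))) (.node 0x1 (.node 0x38a08420001 (.node 0x49a067e0c67 (.node 0x56a .nil .nil) (.node 0x43e08f20a95 .nil .nil)) (.node 0x79606d80c67 (.node 0xa95 .nil .nil) .nil)) (.node 0xc67 (.node 0xc67 (.node 0xb2f .nil .nil) .nil) (.node 0x1ca08820b2f (.node 0xa95 .nil .nil) .nil))))))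

/-- A part. -/
noncomputable def cand7_9 : Arr ℕ :=
  (.node 0x4f607500001 cand7_7 cand7_8)

/-- A part. -/
noncomputable def cand7_10 : Arr ℕ :=
  (.node 0x7b008a20001 (.node 0x7ac0001 (.node 0x1 (.node 0x16c05780001 (.node 0x102 (.node 0x6f20c67 (.node 0x48c07d20b2f .nil .nil) (.node 0x13e01820a95 .nil .nil)) (.node 0x5940c67 (.node 0x31405de0b2f .nil .nil) .nil)) (.node 0x9620001 (.node 0x48a0c67 (.node 0x41607120b2f .nil .nil) (.node 0x290056a0a95 .nil .nil)) (.node 0x4e00b2f (.node 0x6aa .nil .nil) .nil))) (.node 0x4aa0001 (.node 0x1b400300001 (.node 0x5b803840c67 (.node 0x528 .nil .nil) (.node 0xa95 .nil .nil)) (.node 0x3ec (.node 0x45a0a95 .nil .nil) .nil)) (.node 0x224 (.node 0xc67 (.node 0x3f80b2f .nil .nil) (.node 0x3f209340a95 .nil .nil)) (.node 0x96e0b2f (.node 0x6f4 .nil .nil) .nil)))) (.node 0x1 (.node 0x1 (.node 0x1f6015c0001 (.node 0x270 (.node 0xb2f .nil .nil) (.node 0x93e0a95 .nil .nil)) (.node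 0x2b201d80c67 (.node 0x5c808360b2f .nil .nil) .nil)) (.node 0x7ba087a0001 (.node 0x48208540c67 (.node 0x46004580b2f .nil .nil) (.node 0x818 .nil .nil)) (.node 0x9e80b2f (.node 0x48207720a95 .nil .nil) .nil))) (.node 0x1 (.node 0x1aa (.node 0x2b4 (.node 0x1b200c40b2f .nil .nil) (.node 0x7de .nil .nil)) (.node 0x424 (.node 0x78e07ce0a95 .nil .nil) .nil)) (.node 0x10e055e0c67 (.node 0x36c (.node 0xb2f .nil .nil) (.node 0x16e05420a95 .nil .nil)) (.node 0x5660b2f (.node 0x634010a0a95 .nil .nil) .nil))))) (.node 0x33a0001 (.node 0x44a07160001 (.node 0x1 (.node 0x9f20001 (.node 0xe608240c67 (.node 0x4c02480b2f .nil .nil) (.node 0x762 .nil .nil)) (.node 0x39e (.node 0x4d008400b2f .nil .nil) .nil)) (.node 0x3180001 (.node 0x6000a2a0c67 (.node 0xa360b2f .nil .nil) (.node 0x8120a95 .nil .nil)) (.node 0x6f402620b2f (.node 0x782031c0a95 .nil .nil) .nil))) (.node 0xc2 (.node 0x126025e0001 (.node 0x9e07520c67 (.node 0x7240b2f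 .nil .nil) (.node 0xa95 .nil .nil)) (.node 0x2520c67 (.node 0xa6c0a95 .nil .nil) .nil)) (.node 0xc67 (.node 0x350 (.node 0x69207600b2f .nil .nil) (.node 0xa95 .nil .nil)) (.node 0x22600160b2f (.node 0x11c046e0a95 .nil .nil) .nil)))) (.node 0x24405500001 (.node 0x10807020001 (.node 0x1 (.node 0xc67 (.node 0xb2f .nil .nil) (.node 0x780a95 .nil .nil)) (.node 0x280c67 (.node 0x17a0a4e0b2f .nil .nil) .nil)) (.node 0x21a (.node 0x324 (.node 0x22c031a0b2f .nil .nil) (.node 0xa95 .nil .nil)) (.node 0xb2f (.node 0x79805680a95 .nil .nil) .nil))) (.node 0x7be07ee0001 (.node 0x2d40001 (.node 0x44a03880c67 (.node 0x4420b2f .nil .nil) (.node 0xa95 .nil .nil)) (.node 0x1f809260c67 (.node 0x39609540a95 .nil .nil) .nil)) (.node 0x33600540c67 (.node 0x49400fa0c67 (.node 0x63e071a0b2f .nil .nil) (.node 0xa95 .nil .nil)) (.node 0x4e205100b2f (.node 0xa95 .nil .nil) .nil))))))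

/-- A part. -/
noncomputable def cand7_11 : Arr ℕ :=
  (.node 0x6aa06700001 (.node 0x64e03700001 (.node 0x2b608180001 (.node 0x24c0001 (.node 0xea04de0001 (.node 0x498016a0c67 (.node 0x4d2 .nil .nil) (.node 0x4a032c0a95 .nil .nil)) (.node 0x396 (.node 0x51a01120b2f .nil .nil) .nil)) (.node 0x9700001 (.node 0xc67 (.node 0x588 .nil .nil) (.node 0xa95 .nil .nil)) (.node 0x3f40b2f (.node 0x7c40a95 .nil .nil) .nil))) (.node 0xb8 (.node 0x186 (.node 0xc67 (.node 0x6cc02a80b2f .nil .nil) (.node 0x7b6 .nil .nil)) (.node 0x3d80a660c67 (.node 0x674 .nil .nil) .nil)) (.node 0x1da035a0c67 (.node 0x348 (.node 0x6a008d20b2f .nil .nil) (.node 0x860 .nil .nil)) (.node 0xee03a00b2f (.node 0xa95 .nil .nil) .nil)))) (.node 0xac03a00001 (.node 0x240030a0001 (.node 0x152 (.node 0xc67 (.node 0x3ca00020b2f .nil .nil) (.node 0x784 .nil .nil)) (.node 0xb20c67 (.node 0xda0a680b2f .nil .nil) .nil)) (.node 0xec04060001 (.node 0x23c09980c67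 (.node 0x6320a660b2f .nil .nil) (.node 0xa480a95 .nil .nil)) (.node 0x6a01180b2f (.node 0x7ca010c0a95 .nil .nil) .nil))) (.node 0x3f606e20001 (.node 0x14406760001 (.node 0xc67 (.node 0x55c .nil .nil) (.node 0x3cc0a95 .nil .nil)) (.node 0xc67 (.node 0x47c01e80a95 .nil .nil) .nil)) (.node 0xc67 (.node 0x6d200da0c67 (.node 0x600 .nil .nil) (.node 0x884 .nil .nil)) (.node 0x77a064c0b2f (.node 0x2c008a80a95 .nil .nil) .nil))))) (.node 0x59405aa0001 (.node 0x1 (.node 0x3b00001 (.node 0x2800001 (.node 0x53002760c67 (.node 0x77209780b2f .nil .nil) (.node 0x1f609140a95 .nil .nil)) (.node 0x7920c67 (.node 0x63a00660b2f .nil .nil) .nil)) (.node 0x614061e0001 (.node 0x1b805360c67 (.node 0x45605500b2f .nil .nil) (.node 0x71803b40a95 .nil .nil)) (.node 0x2920b2f (.node 0x602043c0a95 .nil .nil) .nil))) (.node 0x768043e0001 (.node 0x1 (.node 0x2b2 (.node 0x54e .nil .nil) (.node 0xa95 .nil .nil)) (.node 0x41a (.node 0x8620a95 .nil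 .nil) .nil)) (.node 0x4960c67 (.node 0xc67 (.node 0xb2f .nil .nil) (.node 0x3e0039c0a95 .nil .nil)) (.node 0x4aa (.node 0x3ea0a200a95 .nil .nil) .nil)))) (.node 0x64 (.node 0x860001 (.node 0x170 (.node 0xc67 (.node 0x51c .nil .nil) (.node 0x74a09900a95 .nil .nil)) (.node 0x45803860c67 (.node 0x73007ac0a95 .nil .nil) .nil)) (.node 0x70c0aa40c67 (.node 0x39803b20c67 (.node 0xb2f .nil .nil) (.node 0x848 .nil .nil)) (.node 0x482 (.node 0x22077a0a95 .nil .nil) .nil))) (.node 0x1c800b80001 (.node 0x1 (.node 0x5c0c67 (.node 0xb2f .nil .nil) (.node 0xa95 .nil .nil)) (.node 0xb2f (.node 0x8b00a95 .nil .nil) .nil)) (.node 0x63409660c67 (.node 0x2ce08600c67 (.node 0x61e .nil .nil) .nil) (.node 0x20608840b2f (.node 0x740 .nil .nil) .nil))))))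

/-- A part. -/
noncomputable def cand7_12 : Arr ℕ :=
  (.node 0x1 cand7_10 cand7_11)

/-- A part. -/
noncomputable def cand7_13 : Arr ℕ :=
  (.node 0x1 cand7_9 cand7_12)

/-- A part. -/
noncomputable def cand7_14 : Arr ℕ :=
  (.node 0x74a00340001 cand7_6 cand7_13)

/-- The array. -/
noncomputable def cand7 : Arr ℕ := cand7_14

/-- The candidates. -/
noncomputable def candTab : List (Arr ℕ) := [cand0, cand1, cand2, cand3, cand4, cand5, cand6, cand7]

/-- A part. -/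
noncomputable def els_0 : Arr (List ℕ) :=
  (.node [41,33,37,34,38,40,37,37,35,39,41,39,41,39,40,39,41] (.node [40,33,33,1,1,39,37,37,36,36,41,39,40,39,41,39,41,39,41] (.node [39,35,34,38,36,38,35,39,40,39,41,39,41,39,41,39,40] (.node [37,36,33,41,35,39,37,39,41,39,41,39,41,39] (.node [41,37,40,1,40,39,38,38,35,40,39,40,39,40,39,40,39,41,39] (.node [33,1,39,33,35,35,39,37,36,40,39,40,39,40,39,41,39,41,39] (.node [0,38,0,37,0,41,37,1,37,41,35,35,35,39,41,39,41,39,41] (.node [0,40,0,33,0,1,35,1,39,41,36,37,40] .nil .nil) .nil) (.node [0,33,39,33,0,36,39,1,1,33,35,41,36,39,38,39,40,39,40,39,40,39,40] .nil .nil)) (.node [0,38,0,37,0,35,33,38,34,36,38,40,39,36,40,39,40,39,40] (.node [0,33,39,33,0,33,40,36,1,36,36,38,39,36,40,39,41,39,41,39,41,39] .nil .nil) (.node [0,40,0,33,0,38,33,33,1,36,39,36,37,40,39,41,39,41,39,40] .nil .nil))) (.node [35,34,35,34,35,37,41,38,39,41,39,40,39,41,39,40,39,40] (.node [0,38,0,37,0,34,1,40,34,38,40,39,41,38,40,39,40,39,40,39,41]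 (.node [0,33,39,33,0,34,41,37,34,38,35,35,37,35,40,39,40] (.node [0,40,0,33,0,1,39,38,33,41,37,37,39,37,39,40,39,40] .nil .nil) .nil) (.node [0,40,0,33,0,34,39,35,41,37,35,39,40,39,41,39,41,39,41,39,40,39] .nil .nil)) (.node [0,38,0,37,0,37,35,1,38,1,37,37,35,35,35,39,41,39,40,39,40,39,40,39,41,39] (.node [0,33,39,33,0,40,35,1,1,36,37,37,41,35,41,39,41,39,40,39,41,39,40] .nil .nil) (.node [0,40,0,33,0,40,35,1,33,35,38,41,38,35,35,40,39,40,39,40,39,40] .nil .nil)))) (.node [40,39,1,1,35,37,39,41,35,35,41,39,40,39,40,39,41,39,41,39,40] (.node [34,35,34,38,40,36,36,39,40,39,40,39,40] (.node [0,38,0,37,0,38,1,38,1,38,38,35,35,41,39,40,39,41,39,40] (.node [0,38,0,37,0,36,1,35,38,1,40,36,38,38,36,39,40,39,41,39,41,39,40] (.node [0,40,0,33,0,36,40,38,33,1,38,41,38,39,41,39,41,39,41,39] .nil .nil) .nil) (.node [0,33,39,33,0,40,33,38,39,37,37,39,40,39,41,39,40,39,41,39,41] .nil .nil)) (.node [0,38,0,37,0,37,34,35,33,36,40,38,36,36,39,40,39,41,39,41,39,41]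 (.node [0,33,39,33,0,35,1,1,34,36,37,35,38,39,40,39,40,39,41,39,40] .nil .nil) (.node [0,40,0,33,0,34,39,41,33,41,38,39,35,41,39,41,39,41,39,41,39,40,39] .nil .nil))) (.node [35,41,39,1,38,35,39,37,40,39,40,39,41,39,41,39] (.node [0,38,0,37,0,33,1,36,1,35,41,37,40,38,41,39,41,39,41] (.node [0,33,39,33,0,1,34,36,34,40,39,40,35,38,39,41,39,41,39,40,39,41,39] .nil .nil) (.node [0,40,0,33,0,37,35,34,34,1,37,36,36,39,36,40,39,40,39,40,39,41] .nil .nil)) (.node [0,38,0,37,0,37,34,41,33,41,38,38,41,39,41,39,41,39,41,39] (.node [0,33,39,33,0,35,34,35,33,1,38,38,41,39,41,39,41,39,40,39,40,39] .nil .nil) (.node [0,40,0,33,0,38,38,39,33,1,39,37,36,40,39,40,39,40] .nil .nil))))) (.node [39,38,1,1,41,37,39,37,39,40,39,40,39,40,39,41] (.node [34,41,34,1,37,35,38,35,41,39,40,39,40,39] (.node [35,33,36,36,1,39,38,39,38,36,39,41,39,41,39,41,39,41,39] (.node [39,37,34,1,37,37,37,37,39,41,39,40,39,40,39,40,39,41] (.node [0,38,0,37,0,1,35,1,33,40,38,40,37,37,39,41,39,40,39,41,39,40,39]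 (.node [0,40,0,33,0,37,33,41,36,39,35,35,39,40,39,40,39,40,39,41] .nil .nil) .nil) (.node [0,33,39,33,0,35,33,35,1,40,36,37,37,41,39,40,39,41,39,40,39,40] .nil .nil)) (.node [0,38,0,37,0,40,37,35,1,39,35,38,38,36,39,41,39,40,39,40,39,41] (.node [0,33,39,33,0,41,37,35,33,1,38,41,39,36,41,39,40,39,40,39,41,39,41,39] .nil .nil) (.node [0,40,0,33,0,34,38,39,1,41,38,35,39,35,41,39,40,39,40,39,40,39,40,39] .nil .nil))) (.node [34,38,40,33,38,35,35,39,41,39,40,39,40,39,40,39] (.node [0,38,0,37,0,40,36,1,1,40,39,41,38,41,39,40,39,40,39] (.node [0,33,39,33,0,33,33,38,35,1,35,35,38,35,40,39,41,39,40,39,40,39,40,39] .nil .nil) (.node [0,40,0,33,0,1,1,37,1,1,40,38,35,40,39,41,39,40,39] .nil .nil)) (.node [0,38,0,37,0,41,35,1,36,38,41,35,35,41,39,40,39,41,39,40,39] (.node [0,33,39,33,0,41,1,1,36,1,35,35,41,35,38,39,41,39,40,39,40] .nil .nil) (.node [0,40,0,33,0,38,38,33,33,40,38,39,41,35,40,39,40,39,40,39,41] .nil .nil))))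 (.node [33,38,35,1,37,41,38,36,41,39,40,39,40,39,40,39,40] (.node [38,39,1,40,36,39,37,36,39,41,39,40,39,40] (.node [0,38,0,37,0,33,38,41,1,40,39,41,37,35,41,39,41,39,41] (.node [0,33,39,33,0,1,1,40,1,37,40,37,37,39,40,39,41,39,41] (.node [0,40,0,33,0,38,35,33,33,35,38,38,36,39,41,39,40,39,40,39,40] .nil .nil) .nil) (.node [0,33,39,33,0,40,38,39,1,37,35,38,36,39,41,39,40,39,41,39] .nil .nil)) (.node [0,38,0,37,0,38,40,38,1,38,35,39,41,35,40,39,40,39,41,39,40] (.node [0,33,39,33,0,34,36,33,33,36,39,36,37,40,39,40,39,40,39,40,39,40] .nil .nil) (.node [0,40,0,33,0,33,40,34,34,1,41,39,37,41,39,40] .nil .nil))) (.node [33,33,35,34,38,38,39,36,37,39,40,39,40,39,40] (.node [0,38,0,37,0,36,40,33,40,39,41,38,41,39,40,39,40,39,40,39,41,39] (.node [0,33,39,33,0,39,36,34,1,40,38,36,37,35,40,39,40,39,40,39,41] .nil .nil) (.node [0,40,0,33,0,36,36,1,41,37,37,37,36,39,40,39,40,39,40,39,41,39,40] .nil .nil)) (.node [0,38,0,37,0,36,38,41,1,37,37,35,37,35,41,39,40]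 (.node [0,33,39,33,0,34,40,1,35,1,39,35,38,39,36,41,39,40,39,40,39,40,39,41,39] .nil .nil) (.node [0,40,0,33,0,35,33,35,1,1,37,41,36,37,41,39,40,39,40,39,40,39,40] .nil .nil)))))) (.node [37,41,33,37,1,41,37,39,35,41,39,41,39,40,39,41,39,40,39,40] (.node [41,33,35,37,41,37,41] (.node [41,1,36,33,39,40,36,37,37,41,39,41,39,41,39,40,39,40] (.node [40,33,39,33,41,35,38,41,39,41,39,40,39] (.node [41,36,1,36,1,37,35,38,36,39,40,39,40,39,40,39,41,39,40] (.node [0,38,0,37,0,39,34,34,34,39,40,39,35,39] (.node [0,40,0,33,0,38,35,33,1,35,39,40,37,35,39,41,39,41,39,41,39] .nil .nil) .nil) (.node [0,33,39,33,0,38,39,36,33,1,37,36,39,41,39,41] .nil .nil)) (.node [0,38,0,37,0,37,35,35,33,36,37,40,38,41,39,41,39,41,39] (.node [0,33,39,33,0,38,34,37,1,38,40,37,37,39,41,39,41,39,41,39,41] .nil .nil) (.node [0,40,0,33,0,1,41,34,38,36,37,41,35,40,39,40,39,40,39,41,39,41] .nil .nil))) (.node [36,33,38,34,38,35,39,36,39,41,39,41,39,40,39,40,39]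 (.node [0,38,0,37,0,35,37,33,1,37,40,38,41,39,40,39,41,39,40,39,40] (.node [0,33,39,33,0,33,39,34,40,38,40,35,35,41,39,40,39,40,39,41] .nil .nil) (.node [0,40,0,33,0,38,33,37,33,37,41,35,35,39,40,39,40,39,40,39,41,39] .nil .nil)) (.node [0,38,0,37,0,40,38,41,1,35,39,35,35,40,39,41,39,40,39,41] (.node [0,33,39,33,0,41,36,34,1,39,40,37,36,38,39,40,39,40,39,40,39,41] .nil .nil) (.node [0,40,0,33,0,38,34,38,1,1,37,41,38,36,39,40,39,41,39,41,39,41,39,40,39] .nil .nil)))) (.node [33,41,38,1,35,39,41,37,35,41,39,40,39,41,39] (.node [37,1,36,1,35,41,36,39,38,40,39,40,39,40] (.node [0,38,0,37,0,41,34,35,33,1,37,39,35,38,35,41,39,41,39,40,39,40,39,40] (.node [0,33,39,33,0,1,39,35,33,41,38,41,36,37,35,41,39,40,39,40,39,41,39,41,39,40] (.node [0,40,0,33,0,36,33,36,1,1,37,39,40,36,36,39,41,39,41,39] .nil .nil) .nil) (.node [0,33,39,33,0,34,41,34,39,40,37,39,35,40,39,40,39] .nil .nil)) (.node [0,38,0,37,0,39,34,35,33,37,36,36,39,36,40,39,41,39,40,39,41,39,40]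 (.node [0,33,39,33,0,39,33,36,33,36,38,36,37,37,39,40,39,40,39,40,39,41] .nil .nil) (.node [0,40,0,33,0,37,35,1,38,1,36,38,36,39,36,41,39,40,39,40,39,41,39,41] .nil .nil))) (.node [38,38,1,1,35,35,35,39,36,41,39,41,39,41] (.node [0,38,0,37,0,40,37,1,40,1,39,41,37,40,39,40,39,41,39,41] (.node [0,33,39,33,0,35,35,33,38,40,36,38,40,39,40,39,40,39,41] .nil .nil) (.node [0,40,0,33,0,33,1,36,33,37,35,39,40,39,41,39,41,39,40,39] .nil .nil)) (.node [0,38,0,37,0,41,33,36,33,40,39,37,37,36,41,39,40,39,40,39,41,39,41,39] (.node [0,33,39,33,0,39,34,36,1,33,38,38,40,37,39,41,39,41,39,40,39,41,39] .nil .nil) (.node [0,40,0,33,0,40,34,40,1,1,36,39,36,38,40,39,41,39,41,39,41,39,41,39] .nil .nil))))) (.node [41,35,39,1,38,39,41,38,38,41,39,40,39,41,39,40,39,41] (.node [34,39,33,1,39,35,41,37,35,41,39,41,39,41,39,40,39,41] (.node [40,37,34,1,37,36,39,37,40,39] (.node [0,38,0,37,0,1,33,35,37,1,35,35,35,38,40,39,41,39,40,39,40,39,40]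 (.node [0,38,0,37,0,37,39,34,1,38,41,37,36,40] (.node [0,40,0,33,0,36,38,38,1,40,35,38,39,35,40,39,41,39,41,39,40,39,40] .nil .nil) .nil) (.node [0,33,39,33,0,36,40,1,35,1,37,35,35,35,41,39,40,39,40] .nil .nil)) (.node [0,38,0,37,0,36,37,35,34,36,40,39,38,41,39,41,39,40,39,41,39,40,39,40] (.node [0,33,39,33,0,33,36,37,33,41,38,36,37,35,41,39,40,39,41,39,41] .nil .nil) (.node [0,40,0,33,0,1,39,34,37,41,39,41,35,40,39,41,39,41,39,40,39] .nil .nil))) (.node [34,37,1,40,35,39,36,39,40,39,41,39,41] (.node [0,38,0,37,0,33,38,35,1,40,37,35,37,35,39,40,39,41,39,41,39,40,39] (.node [0,33,39,33,0,34,36,37,1,37,35,38,35,37,40,39,40] .nil .nil) (.node [0,40,0,33,0,40,1,37,1,37,39,36,39,37,41,39,40,39,40,39,41,39] .nil .nil)) (.node [0,38,0,37,0,37,35,37,1,36,40,39,35,35,40,39,41,39,41] (.node [0,33,39,33,0,1,35,1,34,35,37,41,37,40,39,40,39,40,39,40,39,41,39] .nil .nil) (.node [0,40,0,33,0,39,1,35,34,39,40,38,38,35,40,39,41,39,41,39,41]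 .nil .nil)))) (.node [36,1,38,36,1,35,38,36,36,41,39,40,39,40,39,41,39,41,39] (.node [36,33,35,33,35,35,35,39,41,39,41,39,41,39] (.node [0,38,0,37,0,34,36,38,1,35,35,37,35,41,39,41,39,41,39,40,39,41] (.node [0,33,39,33,0,38,41,1,38,41,37,40,38,39,40,39,41,39,41,39,41,39,40,39] (.node [0,40,0,33,0,1,1,33,37,40,35,38,35,35,39,40,39,41,39,41,39] .nil .nil) .nil) (.node [0,40,0,33,0,1,38,40,33,37,39,35,35,35,40,39,40,39,40] .nil .nil)) (.node [0,38,0,37,0,36,40,34,34,1,35,41,36,36,37,40,39,40] (.node [0,33,39,33,0,34,34,1,34,35,38,38,38,35,41,39,41,39,41,39,40,39] .nil .nil) (.node [0,40,0,33,0,1,33,41,35,1,41,37,39,37,40,39,40,39,40,39,40,39,41,39] .nil .nil))) (.node [40,33,1,33,35,39,40,37,35,40,39,41,39,41,39,41,39,41] (.node [0,38,0,37,0,38,38,38,1,40,36,37,35,39,41,39,41,39,40,39,41,39] (.node [0,33,39,33,0,1,39,35,33,1,39,35,41,37,35,40,39,40,39,41,39,40] .nil .nil) (.node [0,40,0,33,0,37,39,33,1,35,35,39,40,37,39,41,39,40,39,41]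 .nil .nil)) (.node [0,38,0,37,0,39,40,35,1,41,35,38,38,39,41,39,40,39,41] (.node [0,33,39,33,0,33,39,1,33,38,38,39,35,41,39,40] .nil .nil) (.node [0,40,0,33,0,40,33,33,1,1,40,37,39,35,41,39,40,39,40,39,41,39,41,39,40] .nil .nil)))))))

/-- A part. -/
noncomputable def els_1 : Arr (List ℕ) :=
  (.node [40,37,33,36,39,41,35,40,39,41,39,40] (.node [33,1,37,35,1,40,36,37,35,41,39,41,39,41,39,41,39] (.node [38,1,40,36,36,36,41,39,40,39,41,39] (.node [1,33,33,39,35,41,37,36,40,39,41,39,40] (.node [1,37,1,1,39,36,36,38,35,40,39,40,39,41,39,41,39,41,39] (.node [35,1,36,1,1,35,35,39,38,36,41,39,41,39,41,39,41,39,41] (.node [0,38,0,37,0,40,33,37,1,39,38,36,39,35,39,40,39,41,39,40] (.node [0,40,0,33,0,1,34,34,40,36,39,35,35,41,39,40,39,40,39,40] .nil .nil) .nil) (.node [0,33,39,33,0,33,40,35,33,39,36,40,37,36,41,39,41,39,40,39,41] .nil .nil)) (.node [0,38,0,37,0,38,33,38,33,40,38,36,37,36,40,39] (.node [0,33,39,33,0,34,37,35,33,1,39,36,40,37,36,40,39,41,39,41,39,40,39]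 .nil .nil) (.node [0,40,0,33,0,1,37,34,34,37,39,37,41,35,41,39,40,39,41] .nil .nil))) (.node [36,40,34,34,1,38,35,37,37,36,40,39,41,39,40,39,41,39,40,39] (.node [0,38,0,37,0,36,34,35,34,41,38,40,38,35,40,39,41,39,40,39,40,39,40,39] (.node [0,33,39,33,0,35,33,35,33,35,41,37,36,40,39,40,39,41,39,41,39,41,39] (.node [0,40,0,33,0,1,36,33,33,38,35,39,37,36,41,39,40,39,40,39,40] .nil .nil) .nil) (.node [0,40,0,33,0,37,1,40,34,36,37,37,37,40,39,41,39,41,39,41,39,40] .nil .nil)) (.node [0,38,0,37,0,39,36,36,34,40,35,37,40,39,40,39,40,39,41] (.node [0,33,39,33,0,34,37,34,41,35,41,39,40,39,41,39,41] .nil .nil) (.node [0,40,0,33,0,1,36,34,40,38,41,37,39,40,39] .nil .nil)))) (.node [33,40,36,39,1,40,37,37,39,40,39,40,39,41,39,41,39] (.node [37,40,1,40,39,37,37,41,39,41,39,41,39,40,39,40] (.node [0,38,0,37,0,37,36,36,34,1,37,36,39,38,39,40,39,41,39,41,39] (.node [0,33,39,33,0,1,37,37,1,1,36,38,36,37,36,40,39,40,39,40,39,40,39,40,39]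 (.node [0,40,0,33,0,36,37,33,41,38,40,35,37,39,41,39,41,39,40,39,40,39,41] .nil .nil) .nil) (.node [0,33,39,33,0,35,35,37,1,35,38,36,38,35,41,39,40,39,40,39,40,39,41] .nil .nil)) (.node [0,38,0,37,0,40,1,1,35,1,39,36,39,37,40,39,40,39,40,39,40,39,40] (.node [0,33,39,33,0,34,34,37,36,1,37,39,41,36,37,41,39,40,39,40,39,41,39] .nil .nil) (.node [0,40,0,33,0,34,41,38,1,39,35,38,41,35,39,40,39,41,39,41,39,41,39,40,39] .nil .nil))) (.node [38,39,33,1,38,38,39,37,37,41,39,40,39,40,39,41,39,41,39,40] (.node [0,38,0,37,0,1,40,34,36,36,39,40,39,41,39,41] (.node [0,33,39,33,0,41,35,34,1,39,36,39,35,35,40,39,40,39,41,39,40,39] .nil .nil) (.node [0,40,0,33,0,35,41,37,33,1,40,36,36,38,41,39,40,39,40,39,41,39,41,39] .nil .nil)) (.node [0,38,0,37,0,40,34,34,1,1,35,41,39,38,39,40,39,40,39,41] (.node [0,33,39,33,0,38,34,34,41,38,35,38,35,41,39,41,39] .nil .nil) (.node [0,40,0,33,0,1,37,1,34,1,38,35,39,38,36,41,39,40,39,40,39,40]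 .nil .nil))))) (.node [41,38,33,1,40,38,36,37,41,39,40,39,40,39,41] (.node [38,1,41,1,36,39,37,37,35,40,39,41,39,40,39,41,39,40,39] (.node [39,36,36,34,37,41,35,37,41,39,40,39,40,39,40] (.node [0,38,0,37,0,35,1,38,34,39,41,39,35,35,39,41,39,41,39,40,39] (.node [0,38,0,37,0,37,40,1,41,37,35,35,35,39,40,39,41,39,40,39] (.node [0,40,0,33,0,1,37,35,1,1,37,35,39,35,39,41,39,41,39,41,39,40,39,41] .nil .nil) .nil) (.node [0,33,39,33,0,35,38,34,1,36,39,36,37,35,40,39,40,39,41,39,40,39,41,39] .nil .nil)) (.node [0,38,0,37,0,36,39,35,33,1,36,39,37,39,41,39,41,39,41,39,41,39] (.node [0,33,39,33,0,36,33,40,1,36,37,40,38,41,39,41,39,41,39,41,39,41,39] .nil .nil) (.node [0,40,0,33,0,35,1,34,38,40,38,41,35,41,39,40,39,41,39,40,39,41,39] .nil .nil))) (.node [37,34,34,1,35,38,39,35,39,41,39,40,39] (.node [0,38,0,37,0,1,37,36,33,37,35,38,35,37,41,39,41,39] (.node [0,33,39,33,0,35,1,40,34,39,37,41,37,40,39,40,39,40,39,40,39,41] .nil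 .nil) (.node [0,40,0,33,0,39,34,1,34,38,35,35,37,35,41,39,40,39,40,39,41,39,41,39,40] .nil .nil)) (.node [0,38,0,37,0,40,34,37,34,40,38,35,37,39,40,39,41,39,41,39,41] (.node [0,33,39,33,0,36,36,33,1,41,37,41,35,35,40,39,40,39,40,39,41] .nil .nil) (.node [0,40,0,33,0,39,36,39,1,37,41,39,41,35,40,39,40,39,40,39,41,39,41] .nil .nil)))) (.node [39,33,1,39,37,36,39,40,39,40,39,40,39,40] (.node [37,34,37,33,1,38,40,39,35,41,39,41,39,41,39,41,39,41,39] (.node [0,38,0,37,0,38,34,37,1,39,37,39,38,36,41,39,41,39,40,39,41] (.node [0,33,39,33,0,33,35,33,33,37,37,35,35,35,39,40,39,41] (.node [0,40,0,33,0,40,39,36,34,1,37,36,36,36,41,39,41,39,41,39,40,39,41] .nil .nil) .nil) (.node [0,40,0,33,0,38,38,33,1,36,38,38,40,39,40,39,40,39,40,39] .nil .nil)) (.node [0,38,0,37,0,37,33,35,41,35,38,40,39,41,39,40,39,41,39,40,39] (.node [0,33,39,33,0,34,39,33,1,37,40,36,39,35,41,39,41,39,40,39] .nil .nil) (.node [0,40,0,33,0,39,33,1,37,37,35,38,41,39,41,39,40,39,41,39,40,39]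 .nil .nil))) (.node [33,33,41,34,41,39,37,41,35,40,39,40,39,41,39,41,39,40] (.node [0,38,0,37,0,36,34,34,34,40,35,37,36,41,39,41,39,40,39] (.node [0,33,39,33,0,37,39,34,1,39,37,41,37,41,39,41,39,40,39,40,39,40,39] .nil .nil) (.node [0,40,0,33,0,36,37,1,33,33,39,36,37,37,39,40,39,41,39,40,39,41,39,41] .nil .nil)) (.node [0,38,0,37,0,1,41,35,1,38,41,35,35,35,41,39] (.node [0,33,39,33,0,1,36,33,33,1,37,36,39,38,41,39,40,39,40,39,41,39,41,39,40] .nil .nil) (.node [0,40,0,33,0,41,39,38,33,37,36,37,40,39,41,39,40,39,41] .nil .nil)))))) (.node [33,33,36,33,1,41,38,40,38,36,41,39,41,39,40,39,40,39,41] (.node [38,1,39,1,1,38,36,38,38,35,39,40,39,40,39] (.node [37,41,35,1,41,39,36,37,35,41,39,41,39,41,39,40,39,40] (.node [34,35,1,37,39,36,39,35,40,39,41,39,40,39,41,39,41] (.node [1,33,41,33,36,36,36,37,41,39,40,39,40,39,41] (.node [0,38,0,37,0,36,1,36,1,35,38,39,35,39,41,39,40,39,41] (.node [0,40,0,33,0,37,36,36,33,1,41,35,38,35,39,41,39,40,39,40,39,41,39]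 .nil .nil) .nil) (.node [0,33,39,33,0,34,36,36,34,38,35,39,37,39,40,39,41,39,40,39,41,39] .nil .nil)) (.node [0,38,0,37,0,36,1,37,40,38,38,36,41,39,40,39,40,39,41,39,41] (.node [0,33,39,33,0,38,40,37,33,1,41,36,37,37,39,41] .nil .nil) (.node [0,40,0,33,0,40,37,1,39,41,36,37,35,41,39,41,39,40,39,41,39,40,39] .nil .nil))) (.node [39,1,41,1,35,38,36,36,36,40,39,41,39,40,39,41,39,41] (.node [0,38,0,37,0,33,40,37,36,1,36,38,36,37,36,39,40,39] (.node [0,33,39,33,0,38,33,36,34,36,37,37,37,36,39,41,39,41,39,40,39,40,39,41] .nil .nil) (.node [0,40,0,33,0,35,1,40,33,38,41,37,39,35,40,39,40,39,40,39,41,39,41,39] .nil .nil)) (.node [0,38,0,37,0,33,41,1,41,38,35,37,40,39,41] (.node [0,33,39,33,0,35,34,35,33,37,35,35,37,35,40,39,41,39,41,39,40,39,40,39] .nil .nil) (.node [0,40,0,33,0,38,1,37,33,40,36,39,38,36,39,40,39,40,39,41,39,40] .nil .nil)))) (.node [34,37,34,39,36,39,35,39,40,39,41,39,41,39] (.node [35,38,38,1,40,39,40,35,35,40,39,41,39,41,39,40,39,40,39]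 (.node [0,38,0,37,0,1,36,1,1,37,41,37,41,39,41,39,41,39,41,39,41,39] (.node [0,33,39,33,0,38,40,1,1,39,41,36,37,35,39,41,39,40,39,40,39,40,39,41,39] (.node [0,40,0,33,0,39,37,41,33,40,35,39,37,39,41,39,40,39,41,39,41] .nil .nil) .nil) (.node [0,33,39,33,0,36,40,33,33,39,38,38,35,40,39,40,39,40,39,41,39,40] .nil .nil)) (.node [0,38,0,37,0,36,33,40,33,1,38,40,37,41,39,41,39,40,39] (.node [0,33,39,33,0,37,41,37,1,41,37,35,41,35,41,39,41,39] .nil .nil) (.node [0,40,0,33,0,36,37,36,33,1,36,38,41,38,35,39,41,39,40,39,41,39,40] .nil .nil))) (.node [33,40,33,36,37,41,37,35,40,39,41,39,41,39,40] (.node [0,38,0,37,0,1,40,37,1,36,36,38,35,35,41,39,41,39,40,39,41,39,40,39] (.node [0,33,39,33,0,35,37,35,1,36,36,38,35,39,40,39,41,39,41] .nil .nil) (.node [0,40,0,33,0,33,35,1,39,35,37,41,37,39,40,39,40] .nil .nil)) (.node [0,38,0,37,0,39,38,1,41,39,40,35,35,39,40,39,41,39,41,39,41,39] (.node [0,33,39,33,0,1,37,36,34,1,37,36,38,38,35,41,39,41,39,41,39]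 .nil .nil) (.node [0,40,0,33,0,38,40,1,35,1,36,36,38,38,39,40,39,40,39,41,39,40] .nil .nil))))) (.node [35,35,39,1,35,37,37,37,35,39,41,39,40,39,40,39,41] (.node [34,1,39,1,41,35,35,40,39,40,39,41,39,40,39,41,39] (.node [40,37,1,39,41,37,36,40,39,40,39,41,39] (.node [0,38,0,37,0,33,39,37,34,1,37,36,38,35,35,41,39,41,39,40,39,41] (.node [0,38,0,37,0,34,36,33,35,37,41,35,35,40,39,40,39,40,39,40,39] (.node [0,40,0,33,0,38,1,34,1,37,40,39,38,41] .nil .nil) .nil) (.node [0,33,39,33,0,36,36,1,33,1,39,38,36,37,40,39,41,39,41,39,40] .nil .nil)) (.node [0,38,0,37,0,38,39,34,1,41,36,36,37,41,39,40,39,40,39,41,39,41,39] (.node [0,33,39,33,0,37,39,36,33,1,41,38,35,37,35,41,39,40,39,41,39,41,39,41] .nil .nil) (.node [0,40,0,33,0,36,34,38,1,38,41,38,35,35,40,39,41,39,41,39,41] .nil .nil))) (.node [35,33,35,34,35,35,38,39,41,39,40,39,41,39] (.node [0,38,0,37,0,41,33,38,33,1,37,41,39,36,39,40,39,41,39] (.node [0,33,39,33,0,33,39,35,34,1,40,37,35,41,35,39,41,39,40,39,41,39,41]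 .nil .nil) (.node [0,40,0,33,0,39,40,35,33,33,38,40,38,39,41,39,40,39,40] .nil .nil)) (.node [0,38,0,37,0,39,1,40,33,1,36,38,35,37,36,39,41,39,40,39,41,39,40,39,40] (.node [0,33,39,33,0,41,1,36,33,39,37,37,40,39,40,39,40,39] .nil .nil) (.node [0,40,0,33,0,41,1,33,33,1,41,39,38,36,39,40,39,40,39,41,39,40,39] .nil .nil)))) (.node [39,37,33,37,41,35,38,35,39,41,39,40,39,41,39,40,39] (.node [1,38,38,1,35,38,38,35,37,41,39,41,39,41,39,41,39,41] (.node [0,38,0,37,0,34,37,36,1,37,37,41,37,39,40,39,40,39,41,39,40,39] (.node [0,33,39,33,0,41,35,33,36,1,38,35,35,38,35,39] (.node [0,40,0,33,0,38,36,40,34,1,40,37,35,39,41,39,41,39,41,39,41] .nil .nil) .nil) (.node [0,40,0,33,0,40,35,33,33,41,39,41,37,40,39,40,39,40,39,41,39,41] .nil .nil)) (.node [0,38,0,37,0,40,34,34,37,36,39,37,39,41,39,41,39,41,39,40,39,41] (.node [0,33,39,33,0,38,1,39,1,36,37,39,37,37,35,39] .nil .nil) (.node [0,40,0,33,0,36,1,38,36,1,37,35,35,39,35,39,41,39,41,39,40,39,41,39]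 .nil .nil))) (.node [33,35,34,40,1,39,35,35,37,39,40,39,41,39,40,39] (.node [0,38,0,37,0,41,35,1,1,36,38,41,35,40,39,41,39,41,39,41,39,40] (.node [0,33,39,33,0,34,34,1,36,40,36,36,39,41,39,40,39,40,39,40,39] .nil .nil) (.node [0,40,0,33,0,41,33,33,1,1,37,37,37,37,37,40,39,40,39,40] .nil .nil)) (.node [0,38,0,37,0,35,38,33,36,1,37,37,37,40,39,41,39,41,39,40,39,40,39] (.node [0,33,39,33,0,34,34,41,33,37,37,35,39,40,39,41,39,41,39] .nil .nil) (.node [0,40,0,33,0,38,39,41,1,35,35,41,35,41,39,40,39,41,39,41,39] .nil .nil)))))))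

/-- A part. -/
noncomputable def els_2 : Arr (List ℕ) :=
  (.node [38,33,36,1,40,35,39,37,41,39,41,39,40,39,41,39] els_0 els_1)

/-- A part. -/
noncomputable def els_3 : Arr (List ℕ) :=
  (.node [33,1,34,38,1,35,37,41,35,35,39,40,39,41,39,41,39,41,39,40] (.node [34,35,1,1,40,39,35,35,35,39,40,39,41,39] (.node [34,38,38,34,37,36,39,38,39,41,39,41] (.node [33,35,37,34,1,40,39,36,38,36,39,41,39,40,39,40,39,40,39,41] (.node [1,34,39,33,1,40,38,38,39,35,35,41,39,40,39,40,39,40,39,40,39] (.node [1,34,38,33,1,40,37,39,36,41,39,40,39,40,39,41,39] (.node [0,38,0,37,0,41,37,34,39,36,38,38,35,41,39,41,39,40,39,41,39] (.node [0,40,0,33,0,35,39,37,34,1,39,37,35,39,35,41,39,40,39,40,39,41] .nil .nil) .nil) (.node [0,33,39,33,0,33,1,33,37,36,37,41,39,40,39,40,39,41,39,41,39,40] .nil .nil)) (.node [0,38,0,37,0,33,37,34,1,40,37,35,35,35,40,39,41,39,40,39,40,39] (.node [0,33,39,33,0,39,37,41,33,37,39,35,41,39,41,39,40] .nil .nil)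 (.node [0,40,0,33,0,35,38,38,1,40,36,39,35,39,40,39,41,39,41,39,41,39,40] .nil .nil))) (.node [38,33,33,33,40,35,37,35,40,39,41,39,41,39,41,39,41,39] (.node [0,38,0,37,0,34,34,41,33,41,39,41,36,37,39,40,39,40,39,41] (.node [0,33,39,33,0,36,34,1,33,36,38,35,35,39,41,39,40] (.node [0,40,0,33,0,33,35,37,34,1,40,38,40,38,35,41,39,41,39,41,39,40] .nil .nil) .nil) (.node [0,40,0,33,0,35,35,33,33,41,35,35,38,35,39,40,39,41,39,41,39,41,39,40,39] .nil .nil)) (.node [0,38,0,37,0,39,34,34,1,38,41,38,35,35,41,39,40,39,40,39,40,39,40] (.node [0,33,39,33,0,41,36,34,38,39,40,39,36,40,39,41,39] .nil .nil) (.node [0,40,0,33,0,38,39,35,1,39,35,38,38,36,41,39,40,39,40,39,41,39,41] .nil .nil)))) (.node [38,34,1,1,37,40,35,37,35,40,39,40,39,41,39,40] (.node [1,1,35,33,1,35,41,37,39,35,40,39,41,39,40] (.node [0,38,0,37,0,34,1,1,36,1,41,36,37,36,41,39,41] (.node [0,38,0,37,0,36,36,37,1,37,40,39,40,39,41,39,41,39] (.node [0,40,0,33,0,41,37,33,33,1,41,37,37,37,39,41,39,40,39]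 .nil .nil) .nil) (.node [0,33,39,33,0,34,36,1,34,41,38,39,36,40,39,41,39,41,39,41,39,40,39] .nil .nil)) (.node [0,38,0,37,0,38,33,35,34,35,35,39,40,37,39,41,39,41,39] (.node [0,33,39,33,0,33,33,39,33,41,36,37,39,35,40,39,41,39,41,39,41,39] .nil .nil) (.node [0,40,0,33,0,41,1,41,33,38,40,35,35,40,39,40,39,40,39,41] .nil .nil))) (.node [38,34,37,35,1,40,39,41,37,35,40,39,41,39,41,39] (.node [0,38,0,37,0,1,41,36,1,37,37,41,38,39,41] (.node [0,33,39,33,0,40,37,37,1,37,39,36,38,41,39,41,39,41,39,40,39] .nil .nil) (.node [0,40,0,33,0,41,33,35,38,1,38,38,35,38,40,39,40,39,41,39,40] .nil .nil)) (.node [0,38,0,37,0,41,34,35,1,41,37,40,38,39,41,39,40,39,41,39,40,39] (.node [0,33,39,33,0,33,36,37,34,1,41,39,41,35,35,41,39,41,39,40,39,41,39] .nil .nil) (.node [0,40,0,33,0,37,40,1,38,40,37,41,39,41,39,41,39,40,39,40,39] .nil .nil))))) (.node [38,41,38,1,40,38,40,35,35,39,40,39,40] (.node [38,34,37,34,35,41,38,40,39,40,39,40,39,40,39]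 (.node [1,33,41,38,35,38,35,39,40] (.node [0,38,0,37,0,34,41,36,37,1,35,35,35,37,35,40,39,41] (.node [0,38,0,37,0,39,38,40,33,35,35,39,36,40,39,40,39,41,39] (.node [0,40,0,33,0,36,34,37,34,38,35,39,35,41,39,41,39,41,39,40] .nil .nil) .nil) (.node [0,33,39,33,0,1,37,35,33,1,39,37,37,36,40,39,40,39] .nil .nil)) (.node [0,38,0,37,0,34,36,1,33,35,38,39,36,41,39,41,39,41,39,40,39,41] (.node [0,33,39,33,0,1,38,36,1,38,40,37,36,39,40,39,41,39,40,39,40,39] .nil .nil) (.node [0,40,0,33,0,38,1,37,1,38,38,40,35,35,35,40,39,40,39,41,39,41,39] .nil .nil))) (.node [40,1,37,1,40,38,39,41,35,41,39,40] (.node [0,38,0,37,0,41,34,34,1,39,40,36,37,37,39,40,39,40,39,40,39] (.node [0,33,39,33,0,34,34,35,1,38,38,40,37,35,39,41,39,40,39,41,39,41,39] .nil .nil) (.node [0,40,0,33,0,39,1,34,1,36,40,39,41,35,40,39,41,39,41,39,40,39] .nil .nil)) (.node [0,38,0,37,0,38,34,38,1,37,41,37,36,40,39,41,39,41,39,41] (.node [0,33,39,33,0,34,39,35,1,39,37,41,38,40,39,41,39,41,39,40]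 .nil .nil) (.node [0,40,0,33,0,33,36,38,33,1,38,41,38,36,39,41,39,41,39,41,39,41] .nil .nil)))) (.node [33,39,1,38,40,35,39,35,39,41,39,40,39,40,39,41] (.node [34,41,39,1,38,38,35,38,41,39,40,39,40,39,41,39,41,39,40] (.node [0,38,0,37,0,33,1,33,1,1,38,40,35,37,39,41,39,41,39] (.node [0,33,39,33,0,40,34,34,1,35,35,39,38,36,41,39,40,39,40] (.node [0,40,0,33,0,33,41,1,33,41,37,39,38,40,39,40,39] .nil .nil) .nil) (.node [0,33,39,33,0,38,36,33,33,33,37,40,39,35,41,39,40,39,41,39,40,39,41] .nil .nil)) (.node [0,38,0,37,0,1,1,33,39,35,37,36,40,39,41,39,41,39,41,39,41,39] (.node [0,33,39,33,0,33,38,36,1,41,38,38,35,38,39,41,39,41,39,40,39,40] .nil .nil) (.node [0,40,0,33,0,34,37,40,1,40,39,36,39,37,39,40,39,40,39,41] .nil .nil))) (.node [35,33,38,36,1,41,36,39,35,35,40] (.node [0,38,0,37,0,36,40,39,33,37,40,36,38,36,41,39,40,39,40,39,40,39,41,39] (.node [0,33,39,33,0,41,1,1,37,41,35,35,40,39,41,39,40,39,40] .nil .nil)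 (.node [0,40,0,33,0,38,34,1,1,37,41,35,37,36,39,40,39,40,39,40,39] .nil .nil)) (.node [0,38,0,37,0,34,41,34,1,37,36,36,39,35,40,39] (.node [0,33,39,33,0,1,39,35,1,40,36,38,41,35,39,40,39,40,39,40,39,41,39,40] .nil .nil) (.node [0,40,0,33,0,41,37,33,33,38,35,35,37,36,41,39,40,39,41,39,41,39,41,39] .nil .nil)))))) (.node [40,34,40,1,1,37,35,35,39,35,41] (.node [36,33,39,1,36,37,36,38,38,40,39,40,39,40,39,40,39,40,39] (.node [40,34,38,1,39,38,38,35,39,41] (.node [39,33,38,1,35,35,39,41,35,39,40,39,41,39,40,39,41] (.node [35,1,41,33,40,37,35,41,35,41,39,40,39,41,39,40] (.node [0,38,0,37,0,1,1,36,1,37,37,37,37,40,39,40,39,40,39] (.node [0,40,0,33,0,1,1,36,39,36,36,41,39,40,39,40,39,40,39,40] .nil .nil) .nil) (.node [0,33,39,33,0,38,38,38,1,38,38,40,38,36,39,40,39,40,39,40,39,41] .nil .nil)) (.node [0,38,0,37,0,1,33,41,33,35,39,37,37,35,39,41,39,41,39,40,39,41,39] (.node [0,33,39,33,0,39,35,33,1,1,38,41,39,37,40,39,41,39,40,39,41]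 .nil .nil) (.node [0,40,0,33,0,33,37,41,33,40,38,36,37,36,41,39,41,39,40,39] .nil .nil))) (.node [41,37,33,38,39,37,39,35,39,40,39,40,39,40,39,41,39,40] (.node [0,38,0,37,0,37,33,33,40,1,40,35,39,35,39,40,39,40,39,41,39,40] (.node [0,33,39,33,0,38,41,34,34,37,37,35,35,35,41,39,41,39,41,39,40,39,41] .nil .nil) (.node [0,40,0,33,0,40,37,33,33,37,40,35,37,37,40,39,41,39,40,39,41,39,41] .nil .nil)) (.node [0,38,0,37,0,39,41,1,36,40,36,37,41,39,41,39,41,39,41] (.node [0,33,39,33,0,1,39,1,35,38,39,36,40,39,40,39,40,39,41,39] .nil .nil) (.node [0,40,0,33,0,1,36,36,37,1,35,38,38,38,35,40,39,41,39,41,39,40,39,40,39] .nil .nil)))) (.node [41,34,37,1,39,40,39,36,41,39,40,39,40,39,41,39,41,39,40] (.node [38,1,33,37,41,37,41,39,40,39,40,39,41] (.node [0,38,0,37,0,34,40,1,35,1,38,41,36,39,35,39,41,39,40,39,40,39,40] (.node [0,33,39,33,0,40,38,38,34,41,38,40,38,35,39,40,39,41,39] (.node [0,40,0,33,0,35,34,37,33,37,36,39,35,35,39,40,39,40,39,40,39,41]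 .nil .nil) .nil) (.node [0,33,39,33,0,1,37,39,33,1,38,38,40,38,39,41,39,40,39,41,39] .nil .nil)) (.node [0,38,0,37,0,35,41,33,35,39,38,40,39,41,39,41,39,41,39,40,39] (.node [0,33,39,33,0,37,34,39,1,1,37,39,37,41,35,41,39,40,39,41,39] .nil .nil) (.node [0,40,0,33,0,34,39,37,33,37,40,38,38,35,40,39,41,39,41,39,41,39,41,39] .nil .nil))) (.node [33,38,1,33,37,39,35,41,39,40,39,41] (.node [0,38,0,37,0,40,39,1,33,39,36,36,36,41,39,40,39,40,39,40,39,41,39] (.node [0,33,39,33,0,40,1,1,34,37,39,38,38,35,39,40,39,41] .nil .nil) (.node [0,40,0,33,0,33,38,33,36,1,37,40,35,39,35,41,39,40,39,40,39,40] .nil .nil)) (.node [0,38,0,37,0,33,41,1,1,39,41,35,35,39,41,39,41,39,41,39,41,39] (.node [0,33,39,33,0,37,33,33,40,1,35,35,39,37,36,41,39,41,39,40] .nil .nil) (.node [0,40,0,33,0,40,36,1,38,35,39,41,35,41,39,40,39,40] .nil .nil))))) (.node [39,37,35,1,35,39,38,35,35,41,39,40,39,40,39,41,39] (.node [39,34,1,35,1,38,38,38,41,39,40,39,40,39,40,39]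 (.node [39,35,39,1,38,41,39,41,35,39,41,39,40,39,40,39,41] (.node [0,38,0,37,0,41,37,40,1,41,35,35,41,39,41,39,40,39,40,39,40] (.node [0,38,0,37,0,33,1,36,33,38,35,39,40,37,39,40,39,40,39,40,39,41,39,40] (.node [0,40,0,33,0,1,37,34,35,37,37,40,39,41,39,41] .nil .nil) .nil) (.node [0,33,39,33,0,37,35,1,34,1,37,41,35,38,35,41,39,40,39,41,39] .nil .nil)) (.node [0,38,0,37,0,33,41,38,33,41,39,35,35,39,40,39,40,39,40,39] (.node [0,33,39,33,0,1,37,37,1,35,38,36,39,36,41,39,40,39,40,39,41,39,41,39] .nil .nil) (.node [0,40,0,33,0,33,1,33,33,41,39,35,35,40,39,41] .nil .nil))) (.node [39,35,34,1,36,39,41,37,40,39,41,39,40] (.node [0,38,0,37,0,39,40,35,35,1,41,39,37,39,40,39,41,39,40] (.node [0,33,39,33,0,40,34,37,34,39,41,39,35,39,40,39,41] .nil .nil) (.node [0,40,0,33,0,33,1,38,1,37,40,35,35,35,39,40,39,40,39,40,39,40] .nil .nil)) (.node [0,38,0,37,0,36,33,41,1,41,37,39,36,37,40,39,40,39,40] (.node [0,33,39,33,0,40,1,33,33,38,36,36,36,41,39,40,39,40,39]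 .nil .nil) (.node [0,40,0,33,0,1,33,38,33,41,35,38,40,39,40,39,41,39,40,39] .nil .nil)))) (.node [34,40,35,33,36,40,37,36,40,39,40,39,41,39,41,39,40] (.node [36,33,38,1,1,36,40,39,38,41,39,40,39,41,39,40,39,40] (.node [0,38,0,37,0,37,33,35,37,1,38,38,40,37,41,39,41,39] (.node [0,33,39,33,0,40,36,1,39,38,35,39,36,40,39,40,39,40,39,40,39,41,39] (.node [0,40,0,33,0,1,38,39,1,39,36,38,36,40,39,41,39,40,39,40,39,40] .nil .nil) .nil) (.node [0,40,0,33,0,37,37,34,34,1,38,38,39,35,35,41,39,40,39,40,39,41,39] .nil .nil)) (.node [0,38,0,37,0,38,41,37,33,33,41,39,37,37,40,39,41,39,41,39,41,39,40,39] (.node [0,33,39,33,0,37,37,34,35,1,39,40,37,37,36,39,41,39,40,39] .nil .nil) (.node [0,40,0,33,0,35,1,41,33,41,38,40,38,36,39,41,39,40,39,41,39,41,39] .nil .nil))) (.node [41,38,1,1,35,37,40,35,35,40,39,40,39,40,39,41,39] (.node [0,38,0,37,0,34,37,37,1,39,38,39,36,39,40,39,40,39,40,39,40] (.node [0,33,39,33,0,39,1,1,33,41,38,36,36,39,40,39,41,39,41,39,41,39,40]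 .nil .nil) (.node [0,40,0,33,0,40,1,36,1,38,35,39,41,39,41,39,41,39,40,39,41] .nil .nil)) (.node [0,38,0,37,0,1,39,37,33,37,36,38,35,35,39,40,39,40,39,41,39,41,39,40] (.node [0,33,39,33,0,1,34,1,1,36,36,39,38,36,40,39,40,39,41,39,41,39,41] .nil .nil) (.node [0,40,0,33,0,1,39,1,40,38,36,37,40,39,41,39,40,39,41,39,40,39] .nil .nil)))))))

/-- A part. -/
noncomputable def els_4 : Arr (List ℕ) :=
  (.node [34,34,34,1,1,41,37,41,38,39,41,39,40,39,41,39,41] (.node [36,37,34,36,38,40,39,35,41,39,41,39,41,39] (.node [1,39,38,33,37,41,35,37,36,40,39,40,39,41,39,40,39,41] (.node [36,37,1,33,33,40,39,41,38,35,41,39,40,39,40,39,41,39,41,39,40] (.node [40,34,34,34,37,37,39,40,37,41,39,40,39,41,39,40] (.node [1,34,39,34,1,37,41,39,35,41,39,40,39,40,39,40,39] (.node [0,38,0,37,0,34,37,1,40,35,38,39,35,39,41,39,40,39,41,39,41] (.node [0,40,0,33,0,39,1,33,33,1,41,37,39,35,39,40,39,41,39,40,39,41,39] .nil .nil) .nil) (.node [0,33,39,33,0,36,40,33,36,1,40,39,36,36,36,40,39,41,39,41,39,40,39]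 .nil .nil)) (.node [0,38,0,37,0,41,34,38,1,41,38,40,38,39] (.node [0,33,39,33,0,36,37,35,34,37,37,37,40,39,40,39,41,39,41,39,40] .nil .nil) (.node [0,40,0,33,0,36,34,39,1,38,41,35,35,40,39,41,39,41,39,41,39] .nil .nil))) (.node [41,33,38,33,37,37,41,37,35,39,41,39,41,39,41,39,41,39] (.node [0,38,0,37,0,36,39,33,33,40,38,38,36,41,39,41,39,41,39,41,39,41] (.node [0,33,39,33,0,40,35,33,38,41,36,38,40,39,40,39,41,39] .nil .nil) (.node [0,40,0,33,0,38,39,38,1,39,36,39,37,37,39,40,39,40,39,40,39,40,39] .nil .nil)) (.node [0,38,0,37,0,35,33,39,33,35,39,36,40,39,41,39,41,39,41,39,40] (.node [0,33,39,33,0,39,35,39,1,37,40,37,37,40,39,41,39,40,39,41,39] .nil .nil) (.node [0,40,0,33,0,38,38,1,39,40,37,36,37,39,40,39,40,39,41,39,40,39] .nil .nil)))) (.node [40,37,36,33,1,37,35,38,36,37,40,39,40,39,40,39,41,39,41] (.node [40,34,1,34,40,39,35,35,37,39,40,39,41,39,41,39,41,39,40,39] (.node [0,38,0,37,0,38,38,1,40,37,37,37,41,39,41,39,41,39,40]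 (.node [0,33,39,33,0,35,33,35,34,39,37,35,38,35,39,41,39,40,39,41,39,41] (.node [0,40,0,33,0,37,37,37,1,39,41,36,37,40,39,41,39,40,39,41] .nil .nil) .nil) (.node [0,33,39,33,0,41,37,1,38,39,37,37,40,39,40,39,40,39,40,39,40,39] .nil .nil)) (.node [0,38,0,37,0,41,34,37,33,1,37,36,36,39,35,41,39,40,39,40,39] (.node [0,33,39,33,0,35,33,33,37,39,35,35,35,39,40,39,41,39,40,39,40,39] .nil .nil) (.node [0,40,0,33,0,41,39,35,1,41,38,39,35] .nil .nil))) (.node [36,39,1,1,33,41,37,39,38,36,41,39,41,39,41,39,40,39,41] (.node [0,38,0,37,0,40,1,39,1,39,41,37,35,37,40,39,41,39,40,39] (.node [0,33,39,33,0,35,38,33,1,40,35,35,37,39,40,39,41,39,41,39,41,39] .nil .nil) (.node [0,40,0,33,0,33,40,34,1,38,38,39,36,41] .nil .nil)) (.node [0,38,0,37,0,36,37,37,33,37,39,35,38,35,39,40,39,40,39,41] (.node [0,33,39,33,0,37,33,35,37,1,36,37,35,39,40,39,40] .nil .nil) (.node [0,40,0,33,0,40,1,33,1,39,36,38,39,41,39,40,39,41,39,40,39,40] .nil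 .nil))))) (.node [40,33,36,33,1,41,37,36,38,39,40,39,40,39,41] (.node [34,36,1,35,1,35,39,38,40,39,41,39,41] (.node [38,35,37,33,35,35,37,35,41,39,41,39,41,39,41,39] (.node [0,38,0,37,0,37,39,40,33,1,41,36,37,39,35,40,39,41,39,40,39,40,39] (.node [0,38,0,37,0,37,1,34,1,37,35,39,41,39,41,39,40,39,40,39,41] (.node [0,40,0,33,0,1,37,40,34,38,41,37,40,38,41,39,41,39,40,39,41,39] .nil .nil) .nil) (.node [0,33,39,33,0,41,37,33,33,36,38,36,36,36,40,39,41,39,41,39,41] .nil .nil)) (.node [0,38,0,37,0,34,35,34,34,35,39,40,39,38,39,41,39,41,39,41,39,41,39] (.node [0,33,39,33,0,34,37,33,39,40,37,37,39,41,39,40,39,40,39,40,39] .nil .nil) (.node [0,40,0,33,0,38,38,38,1,39,37,39,37,39,41,39,40,39,41,39,41] .nil .nil))) (.node [40,36,37,1,36,39,36,37,35,39,40,39,41,39,40,39,40,39] (.node [0,38,0,37,0,38,39,1,34,40,39,35,38,40,39,40,39,40,39,40,39] (.node [0,33,39,33,0,39,38,33,36,37,39,35,39,40,39,41,39,41,39,41,39,40] .nil .nil)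 (.node [0,40,0,33,0,37,41,37,33,1,35,41,35,37,37,41,39,41,39] .nil .nil)) (.node [0,38,0,37,0,41,36,1,40,35,39,38,39,40,39,40,39,40,39,41,39] (.node [0,33,39,33,0,37,33,38,38,41,35,41,39,41,39,41] .nil .nil) (.node [0,40,0,33,0,33,36,33,1,38,36,39,36,39,40,39,41,39,41,39,41] .nil .nil)))) (.node [1,37,34,34,39,36,38,36,40,39,41,39,40,39,40,39,40] (.node [40,1,37,33,40,39,41,35,40,39,41,39,40,39,41,39] (.node [0,38,0,37,0,1,39,34,1,35,37,40,39,40,39,40,39,40,39,40,39] (.node [0,33,39,33,0,35,41,38,33,1,38,38,38,35,38,40,39,40,39,41,39,40,39,41,39] (.node [0,40,0,33,0,41,34,36,1,37,37,39,37,39,40,39,41,39,41,39,41,39,40,39] .nil .nil) .nil) (.node [0,40,0,33,0,33,35,1,1,40,39,38,40,39,40,39,40,39] .nil .nil)) (.node [0,38,0,37,0,35,34,41,1,38,41,38,36,39,40,39,41] (.node [0,33,39,33,0,37,41,37,33,36,36,39,37,39,41,39,40,39,41,39] .nil .nil) (.node [0,40,0,33,0,34,41,39,33,39,35,37,35,39,41,39,40,39,40,39,41,39] .nil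 .nil))) (.node [35,1,35,1,37,37,37,41,39,40,39,40,39,40,39,40] (.node [0,38,0,37,0,35,1,35,1,38,40,35,38,35,40,39,40,39,40,39,41] (.node [0,33,39,33,0,39,38,33,1,37,41,36,37,39,40,39,41] .nil .nil) (.node [0,40,0,33,0,39,1,40,33,1,41,38,40,35,37,40,39,40] .nil .nil)) (.node [0,38,0,37,0,1,1,41,1,37,37,39,37,41,39,40,39,40] (.node [0,33,39,33,0,1,34,40,33,40,39,40,36,36,39,41,39,41,39,41] .nil .nil) (.node [0,40,0,33,0,36,33,36,1,36,37,36,39,40,39,41,39,41,39,40,39] .nil .nil)))))) (.node [39,34,41,33,35,37,41,37,36,41,39,41,39,40,39] (.node [35,37,34,1,39,36,39,37,40,39,40,39,41,39,40] (.node [34,34,36,1,39,40,39,37,39,41,39,41,39,41,39,41] (.node [34,36,37,33,36,40,37,35,40,39,41,39,40] (.node [1,39,1,41,39,35,35,35,39,40,39,41,39,41,39,40,39] (.node [0,38,0,37,0,41,35,34,34,39,40,37,37,35,41,39,40,39,41,39,41] (.node [0,40,0,33,0,1,33,33,1,39,40,39,37,41,39,40,39] .nil .nil) .nil) (.node [0,33,39,33,0,33,33,38,33,41,38,36,40,39,41,39,40,39,40,39,40,39]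 .nil .nil)) (.node [0,38,0,37,0,40,34,41,1,35,39,36,38,35,39,40,39,41,39,40,39] (.node [0,33,39,33,0,33,36,1,33,35,41,37,36,40,39,41,39,40,39,40] .nil .nil) (.node [0,40,0,33,0,35,1,34,34,39,37,36,39,35,40,39,41,39,41,39,40,39,40,39] .nil .nil))) (.node [36,36,33,33,36,40,36,36,37,39,40,39,40,39,41,39,41] (.node [0,38,0,37,0,34,40,1,37,1,38,41,36,39,35,41,39,40,39,40,39,40,39,41] (.node [0,33,39,33,0,35,1,38,1,41,37,41,35,40,39,41,39,41,39,41,39,41] .nil .nil) (.node [0,40,0,33,0,34,41,34,41,39,38,41,35,40,39,40,39,40,39,40,39,40] .nil .nil)) (.node [0,38,0,37,0,39,36,33,1,35,39,35,35,39,40,39,40,39,41,39,40] (.node [0,33,39,33,0,33,33,35,34,37,37,37,39,36,41,39,41,39,41,39,40,39,41] .nil .nil) (.node [0,40,0,33,0,36,37,35,34,38,41,35,37,40,39,41,39,41,39,40,39] .nil .nil)))) (.node [1,36,1,33,36,40,37,37,35,40,39,41,39,40,39,40,39] (.node [35,1,1,34,39,38,36,39,41,39,41,39,40] (.node [0,38,0,37,0,41,33,38,33,38,35,39,37,39,40,39,40,39,40,39,40]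 (.node [0,33,39,33,0,39,41,39,33,1,39,40,35,35,37,39,41,39,40] (.node [0,40,0,33,0,40,33,36,1,37,36,36,39,35,39,40,39,41,39,41,39,41] .nil .nil) .nil) (.node [0,33,39,33,0,34,1,33,1,41,38,40,38,36,41,39,41,39,41,39,40,39,41] .nil .nil)) (.node [0,38,0,37,0,1,40,33,36,40,38,39,35,41,39,40,39,40,39,40,39,40] (.node [0,33,39,33,0,34,38,38,33,1,39,36,36,38,35,40,39,40,39,41,39,40] .nil .nil) (.node [0,40,0,33,0,38,34,41,33,38,41,39,35,41,39,41,39,41,39,41,39] .nil .nil))) (.node [34,40,1,33,39,35,41,35,39,41,39,40,39,41] (.node [0,38,0,37,0,33,33,41,1,41,35,35,35,38,41,39] (.node [0,33,39,33,0,40,33,1,41,38,38,41,35,39,40,39,40,39,40,39,40,39] .nil .nil) (.node [0,40,0,33,0,37,34,39,1,39,36,36,36,40,39,40,39,41,39,41,39,40] .nil .nil)) (.node [0,38,0,37,0,33,40,33,1,35,38,35,37,40,39,40,39,41,39,40] (.node [0,33,39,33,0,34,1,40,1,40,35,35,35] .nil .nil) (.node [0,40,0,33,0,33,39,33,33,37,41,36,37,35,40,39,40,39,41,39,40,39,41]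 .nil .nil))))) (.node [34,34,35,1,38,41,38,36,41,39,40,39,40,39,40,39,40,39] (.node [37,35,34,37,1,41,35,41,39,41,39,41,39,40,39,40,39] (.node [37,1,1,35,37,40,38,39,40,39,41,39,40,39,40,39] (.node [0,38,0,37,0,36,33,36,1,35,41,35,41,39,41,39,41,39,41,39,41,39] (.node [0,38,0,37,0,40,37,34,35,35,38,39,35,41,39,40,39,40,39,40,39,40] (.node [0,40,0,33,0,33,37,34,1,36,39,40,38,41,39,41,39,40,39,41] .nil .nil) .nil) (.node [0,33,39,33,0,37,41,33,33,41,35,38,39,40,39,41,39,41,39,41,39,40,39] .nil .nil)) (.node [0,38,0,37,0,34,40,1,33,1,37,39,37,37,35,39,40,39,40,39,41,39,41] (.node [0,33,39,33,0,35,33,33,1,37,35,39,35,40,39,41,39,40,39,41,39] .nil .nil) (.node [0,40,0,33,0,34,1,38,1,41,38,35,37,35,41,39] .nil .nil))) (.node [37,37,34,41,33,36,38,38,35,35,41,39,40,39,40,39,40] (.node [0,38,0,37,0,35,33,37,1,1,41,38,40,39,41,39,41,39,40,39,40] (.node [0,33,39,33,0,33,1,37,35,1,40,39,35,38,40,39,41,39,41] .nil .nil) (.node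 [0,40,0,33,0,40,34,36,34,35,38,36,36,39,41,39,41,39,41,39,40,39,41] .nil .nil)) (.node [0,38,0,37,0,39,1,34,34,35,35,37,35,40,39,41,39,41,39,40,39,40,39] (.node [0,33,39,33,0,39,36,33,1,35,37,35,35,38,40,39,40,39,40,39,41] .nil .nil) (.node [0,40,0,33,0,38,40,34,34,37,36,40,36,36,39,40,39,41,39,40,39,40] .nil .nil)))) (.node [37,33,1,36,40,37,35,39,40,39,41,39,41,39,41,39,40,39] (.node [33,1,35,1,38,38,38,40,39,40,39,40] (.node [0,38,0,37,0,33,39,33,35,35,39,37,40,39,40,39,41,39] (.node [0,33,39,33,0,41,33,38,1,1,37,40,39,41,39,41] (.node [0,40,0,33,0,35,41,33,1,1,35,39,35,35,37,41,39] .nil .nil) .nil) (.node [0,40,0,33,0,37,1,36,1,1,40,36,38,41,35,39,40,39,41,39,40,39,40] .nil .nil)) (.node [0,38,0,37,0,1,35,39,35,35,37,40,39,41,39,40,39,41,39,41] (.node [0,33,39,33,0,40,37,36,1,37,36,39,38,40,39,40,39,40,39,40,39,41] .nil .nil) (.node [0,40,0,33,0,40,37,35,34,1,39,40,36,38,35,39,40,39,40,39] .nil .nil))) (.node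 [37,1,36,1,1,35,38,36,37,35,41,39,41] (.node [0,38,0,37,0,1,38,40,33,38,41,36,37,35,41,39,40,39,41,39,41,39,41] (.node [0,33,39,33,0,37,34,38,38,38,35,38,41,39,40,39,40,39,40] .nil .nil) (.node [0,40,0,33,0,40,1,35,1,35,41,39,37,37,40,39,40,39] .nil .nil)) (.node [0,38,0,37,0,39,33,36,1,35,38,39,36,40,39,41,39,41] (.node [0,33,39,33,0,41,39,33,1,35,38,36,39,40,39,40,39,40,39,40,39] .nil .nil) (.node [0,40,0,33,0,33,33,39,34,37,39,38,40,39,40,39,41,39,40,39] .nil .nil)))))))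

/-- A part. -/
noncomputable def els_5 : Arr (List ℕ) :=
  (.node [40,34,40,34,35,39,36,36,36,39,40,39,40,39,41,39,41,39,40] els_3 els_4)

/-- A part. -/
noncomputable def els_6 : Arr (List ℕ) :=
  (.node [33,37,1,1,37,41,35,35,35,39,40,39,40,39,40,39,40,39] els_2 els_5)

/-- A part. -/
noncomputable def els_7 : Arr (List ℕ) :=
  (.node [34,39,34,1,38,35,35,35,39,41,39,40,39,40,39] (.node [36,1,1,33,38,39,36,37,39,40,39,41,39,40,39,41,39,41] (.node [38,36,33,1,39,38,40,36,36,41,39,41,39,40,39] (.node [40,39,36,34,1,40,35,38,39,35,39,41,39,41,39] (.node [40,1,33,1,39,38,35,39,36,41,39,40,39,40,39,40,39] (.node [38,38,34,37,37,41,35,35,41,39,41,39,41,39,41,39,40,39] (.node [0,38,0,37,0,39,34,37,34,40,36,37,35,41,39,40,39] (.node [0,40,0,33,0,37,41,34,1,35,41,36,37,41,39,41,39,40,39,40,39] .nil .nil) .nil) (.node [0,33,39,33,0,34,1,1,41,39,36,41,39,40,39,40,39,40] .nil .nil)) (.node [0,38,0,37,0,36,36,33,33,41,38,36,37,35,39,41,39,41,39,41,39,41]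 (.node [0,33,39,33,0,1,41,38,1,37,39,38,38,35,40,39,40,39,41,39,41,39,40] .nil .nil) (.node [0,40,0,33,0,1,39,33,1,36,37,39,35,35,40,39,40,39,40,39,41] .nil .nil))) (.node [33,1,33,36,1,41,37,37,39,37,40,39,41,39,40,39,41,39] (.node [0,38,0,37,0,35,37,34,1,37,41,35,38,35,39,41,39,41,39,40,39,40,39,41] (.node [0,33,39,33,0,36,34,38,1,1,38,41,39,41,35,39,40,39,41,39,40,39] (.node [0,40,0,33,0,35,35,1,33,38,38,38,39,36,40,39,40,39,40,39,40,39,40] .nil .nil) .nil) (.node [0,40,0,33,0,39,37,35,1,35,35,39,40,38,39,41,39,40,39,40,39,40] .nil .nil)) (.node [0,38,0,37,0,1,37,1,34,1,39,40,36,36,39,41,39,40,39,40,39,40] (.node [0,33,39,33,0,38,35,39,34,1,38,35,39,38,36,40,39,40,39,40,39,40,39,41,39] .nil .nil) (.node [0,40,0,33,0,39,37,34,36,36,38,39,36,40,39,40,39,41,39,40,39] .nil .nil)))) (.node [33,36,1,1,41,36,36,37,41,39,41,39,41,39,40,39] (.node [37,40,1,1,40,38,39,40,37,40,39,41,39,41,39,41] (.node [0,38,0,37,0,39,33,36,33,39,37,39,37,40,39,40,39,40,39]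 (.node [0,38,0,37,0,36,40,33,33,38,38,39,36,37,41,39,41,39,41,39,40,39,41] (.node [0,40,0,33,0,36,33,39,1,37,37,36,36,41,39,41,39,40,39,41,39,40,39,40] .nil .nil) .nil) (.node [0,33,39,33,0,34,39,38,1,39,35,39,41,39,40] .nil .nil)) (.node [0,38,0,37,0,33,33,35,1,38,38,38,35,38,39,41,39,41] (.node [0,33,39,33,0,35,34,34,40,1,39,37,40,37,37,35,40,39,41,39,40,39,40,39,40] .nil .nil) (.node [0,40,0,33,0,38,40,33,35,35,35,37,35,40,39] .nil .nil))) (.node [35,34,34,40,1,35,37,35,35,35] (.node [0,38,0,37,0,40,33,33,1,1,38,36,39,36,41,39,41,39,40,39,41,39,40] (.node [0,33,39,33,0,38,33,35,33,36,40,37,37,35,40,39,41,39,41] .nil .nil) (.node [0,40,0,33,0,34,36,37,1,40,39,40,36,36,40,39,40,39,41,39,40,39,41] .nil .nil)) (.node [0,38,0,37,0,41,33,35,1,37,39,35,35,35,40,39,41,39,40] (.node [0,33,39,33,0,33,37,34,38,1,38,41,36,37,35,40,39,41,39,41] .nil .nil) (.node [0,40,0,33,0,36,40,34,34,1,39,37,35,38,35,40,39,41,39,41] .nil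 .nil))))) (.node [41,36,33,1,37,39,41,35,35,39,40,39,41,39,41,39] (.node [38,36,39,1,38,35,39,38,40,39,41,39,41,39,41,39,40] (.node [33,38,33,1,35,37,39,35,40,39,41,39,40,39,40,39,40,39] (.node [41,38,33,35,1,36,39,40,38,35,39,40,39,40,39,41,39,41] (.node [0,38,0,37,0,41,33,37,1,39,37,37,35,39,41,39,41,39,41,39,41] (.node [0,40,0,33,0,40,33,35,1,1,38,38,40,37,39,41,39,40] .nil .nil) .nil) (.node [0,33,39,33,0,38,39,1,39,37,40,39,35,41,39,41,39,40,39,41,39,40,39] .nil .nil)) (.node [0,38,0,37,0,1,1,33,1,36,38,41,35,35,39,41,39,41,39,41,39] (.node [0,33,39,33,0,1,1,35,1,39,37,35,41,35,39,40,39,41,39,41,39,41,39,40,39] .nil .nil) (.node [0,40,0,33,0,39,34,37,1,39,35,39,37,37,41,39,41,39,41,39,40] .nil .nil))) (.node [37,41,33,33,39,38,40,36,36,41,39,40,39,41,39,40] (.node [0,38,0,37,0,39,38,33,37,36,36,36,40,39,40,39,41,39,41,39,41,39] (.node [0,33,39,33,0,36,39,41,1,37,37,41,37,40,39,41,39,41,39,41,39,40,39] .nil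 .nil) (.node [0,40,0,33,0,38,34,34,34,41,35,37,37,36,39,41,39,40] .nil .nil)) (.node [0,38,0,37,0,38,35,34,38,39,37,36,41,39,40,39,40,39,40,39,41,39] (.node [0,33,39,33,0,35,1,33,33,1,40,36,36,36,39,41,39,40,39,41,39,41] .nil .nil) (.node [0,40,0,33,0,37,33,35,37,1,37,40,38,41,35,39,40,39,41,39,41] .nil .nil)))) (.node [1,37,41,1,35,39,41,37,35,40,39,40,39,41,39,40,39,41] (.node [35,38,35,1,37,37,37,37,41,39,41,39,41,39,41] (.node [0,38,0,37,0,1,36,36,1,35,37,35,39,36,40,39,40,39,40,39,40,39,41] (.node [0,33,39,33,0,37,36,34,41,36,36,38,40,39,40,39,40,39,41,39,41,39] (.node [0,40,0,33,0,1,41,35,1,1,40,39,35,40,39,41,39,41,39,41,39,40,39] .nil .nil) .nil) (.node [0,33,39,33,0,40,33,41,34,38,35,35,38,35,39,41,39,41,39,40,39,41,39] .nil .nil)) (.node [0,38,0,37,0,40,36,36,34,1,37,40,35,37,37,40,39,40,39,41] (.node [0,33,39,33,0,38,36,1,35,1,38,39,38,36,39,41,39,40,39,41,39,40,39] .nil .nil) (.node [0,40,0,33,0,38,39,36,33,1,38,36,38,40,37,41,39,40,39,40,39,40,39,40]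 .nil .nil))) (.node [36,33,36,1,39,37,39,37,37,39,41,39,40,39,40] (.node [0,38,0,37,0,36,37,34,40,36,38,35,40,39,40,39,40,39,41,39,40] (.node [0,33,39,33,0,36,38,34,34,1,39,37,39,37,39,40,39,41,39,40,39,40] .nil .nil) (.node [0,40,0,33,0,39,40,1,1,38,35,38,35,35,41,39,40,39,41,39,41,39,41,39] .nil .nil)) (.node [0,38,0,37,0,38,34,40,33,35,35,35,41,35] (.node [0,33,39,33,0,40,1,39,33,1,36,36,39,37,36,41,39,41,39,41,39] .nil .nil) (.node [0,40,0,33,0,40,35,34,1,36,37,40,38,40,39,40,39] .nil .nil)))))) (.node [1,33,33,33,1,35,37,35,38,35,40,39,40,39,41,39,40] (.node [1,33,1,35,35,35,39,36,41,39,40,39,41,39,41,39,41,39] (.node [1,40,39,33,35,39,41,37,35,40,39,40,39,40,39,41] (.node [34,40,1,1,40,39,36,38,36,39,40,39,41,39,40,39,40] (.node [1,1,39,33,38,35,41,38,39,40,39,40,39,40,39,40,39] (.node [0,38,0,37,0,33,38,34,34,1,35,38,41,38,39,40,39,41,39,41,39,40,39] (.node [0,40,0,33,0,37,1,38,1,41,38,38,35,35,39,40,39,40,39,40,39]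 .nil .nil) .nil) (.node [0,33,39,33,0,36,33,36,1,39,40,38,35,35,40,39,40,39,41] .nil .nil)) (.node [0,38,0,37,0,40,35,35,1,41,39,40,35,35,39,41,39,40,39,40,39,40,39] (.node [0,33,39,33,0,33,40,37,36,1,39,36,36,36,40,39,41,39,40,39,40,39] .nil .nil) (.node [0,40,0,33,0,34,38,36,1,1,40,39,38,40,39,40,39,40,39,41,39,40] .nil .nil))) (.node [38,35,33,33,39,40,39,37,40,39,40,39,41,39,41,39,41] (.node [0,38,0,37,0,34,39,1,37,39,41,35,35,41,39,40,39,41,39,41] (.node [0,33,39,33,0,38,34,39,34,1,38,40,38,39,40,39,41,39,40,39] .nil .nil) (.node [0,40,0,33,0,34,41,35,1,36,36,36,37,39,40,39,40,39,41,39,41,39,40] .nil .nil)) (.node [0,38,0,37,0,36,1,1,40,1,40,35,38,35,39,40,39,41,39,41] (.node [0,33,39,33,0,41,33,36,33,35,41,37,36,40,39,41,39,40,39,41,39,40,39] .nil .nil) (.node [0,40,0,33,0,34,40,33,37,39,38,36,39,41,39,40,39,41,39,40,39] .nil .nil)))) (.node [1,37,35,1,41,38,40,38,36,41,39,41,39,40,39,41,39] (.node [39,36,36,1,38,39,41,38,38,41,39,40,39,41,39,40]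 (.node [0,38,0,37,0,37,33,35,33,37,39,37,39,35,40,39,41,39,40,39,41,39,40] (.node [0,33,39,33,0,36,34,36,1,41,38,35,39,35,39,41,39,41,39,41,39,41] (.node [0,40,0,33,0,1,40,1,35,1,40,35,39,37,39,40,39,41,39,41,39] .nil .nil) .nil) (.node [0,33,39,33,0,34,37,1,39,1,40,37,39,36,40,39,41,39] .nil .nil)) (.node [0,38,0,37,0,35,39,36,1,40,38,35,37,41,39,40,39,41,39,40,39,41,39] (.node [0,33,39,33,0,34,1,35,1,41,37,37,36,41,39,40,39,40,39,41,39,41,39,40] .nil .nil) (.node [0,40,0,33,0,37,1,35,1,38,40,35,35,35,39,41,39,41] .nil .nil))) (.node [33,40,34,1,35,37,36,39,40,39,41,39,41,39,41,39,40] (.node [0,38,0,37,0,34,36,39,35,1,38,41,38,36,40,39,40,39,40,39,40,39] (.node [0,33,39,33,0,40,1,36,33,37,40,39,35,38,41,39,40,39,40,39,40,39,40,39] .nil .nil) (.node [0,40,0,33,0,37,39,36,1,39,41,35,35,35,41,39,40,39,40,39,41,39,41,39] .nil .nil)) (.node [0,38,0,37,0,33,39,36,36,1,37,41,35,38,40,39,40] (.node [0,33,39,33,0,1,38,35,1,39,35,39,35,35,40,39,41,39,41,39,40,39]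 .nil .nil) (.node [0,40,0,33,0,40,38,34,34,1,37,35,41,39,40,39,41,39,41,39,41,39] .nil .nil))))) (.node [39,40,1,33,1,38,36,40,35,37,41,39,40,39,41,39,40,39,40] (.node [35,38,34,1,35,39,37,37,41,39,40,39,41,39,41,39,41,39] (.node [39,34,40,33,39,35,41,35,40,39,41,39,41,39,40,39] (.node [0,38,0,37,0,1,41,34,1,39,36,38,36,40,39,41,39,40,39,40,39] (.node [0,38,0,37,0,37,1,40,34,40,39,40,39,35,39,40,39,41,39,41,39,41,39] (.node [0,40,0,33,0,34,38,33,1,38,41,35,35,35,41,39,41,39,40] .nil .nil) .nil) (.node [0,33,39,33,0,1,39,33,37,39,36,39,35,41,39,40,39,41,39,41,39,41,39] .nil .nil)) (.node [0,38,0,37,0,37,33,33,33,1,40,39,41,38,40,39,40,39,41,39,41,39,41,39] (.node [0,33,39,33,0,41,33,33,1,36,36,39,37,36,39,41,39,41,39,40,39,40,39,41] .nil .nil) (.node [0,40,0,33,0,40,38,34,1,1,40,39,35,35,41,39,41,39,40,39,40,39] .nil .nil))) (.node [38,1,35,34,41,39,38,39,35,40,39,40,39,41,39,40,39,41] (.node [0,38,0,37,0,39,1,34,1,35,38,39,36,40,39,41,39,40,39]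 (.node [0,33,39,33,0,37,33,35,1,1,40,36,36,38,39,40,39,41,39,40,39,40,39] .nil .nil) (.node [0,40,0,33,0,36,33,41,1,38,40,37,41,39,40,39,40,39,40] .nil .nil)) (.node [0,38,0,37,0,33,38,33,1,1,41,38,35,35,40,39,40,39,41,39,41] (.node [0,33,39,33,0,41,39,37,1,37,36,37,39,35,40,39,41,39,41,39,41,39,40] .nil .nil) (.node [0,40,0,33,0,36,1,37,35,1,39,36,38,36,37,39,40,39,40,39,41,39] .nil .nil)))) (.node [40,36,1,1,41,38,35,35,39,40] (.node [36,34,40,34,36,39,40,37,36,40,39,41,39,41,39,41,39,40,39] (.node [0,38,0,37,0,35,41,1,1,35,38,38,35,38,40,39,41,39,41,39,41,39,40,39] (.node [0,33,39,33,0,40,37,33,1,37,40,38,38,36,41,39,40,39,40,39,40,39,40,39] (.node [0,40,0,33,0,40,36,36,34,1,38,35,39,38,40,39,41,39,40,39,41,39,40] .nil .nil) .nil) (.node [0,40,0,33,0,34,36,36,34,40,39,36,38,35,41,39,41,39,40,39,41,39,40,39] .nil .nil)) (.node [0,38,0,37,0,37,34,41,1,38,38,36,36,39,41,39,41,39,40] (.node [0,33,39,33,0,39,35,34,38,35,35,37,35,40,39,40,39,41,39,41,39]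 .nil .nil) (.node [0,40,0,33,0,36,36,33,1,1,37,37,37,37,37,41,39,40,39,40,39,41,39] .nil .nil))) (.node [41,1,40,1,37,36,37,40,39,40,39,40,39,40,39,41,39] (.node [0,38,0,37,0,40,1,33,33,40,38,36,37,35,41,39,40,39,41,39,40,39,41,39] (.node [0,33,39,33,0,1,37,1,34,1,36,39,40,38,40,39,41,39,40,39,41,39,41] .nil .nil) (.node [0,40,0,33,0,34,39,38,33,37,35,38,41,39,41,39] .nil .nil)) (.node [0,38,0,37,0,35,37,37,34,1,39,35,39,35,39,41,39,40,39,40,39,40,39] (.node [0,33,39,33,0,34,38,36,1,1,38,35,38,39,35,35,40,39,40,39,40,39,40,39,41,39] .nil .nil) (.node [0,40,0,33,0,37,33,33,1,41,39,41,37,36,40,39,40,39,40,39,40,39,41] .nil .nil)))))))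

/-- A part. -/
noncomputable def els_8 : Arr (List ℕ) :=
  (.node [36,33,35,34,40,39,36,38,36,39,41,39,41,39,41,39,41] (.node [38,34,35,37,39,41,35,35,40,39,40,39,41,39,40,39,41] (.node [37,33,33,33,1,39,37,35,37,35,40,39,40,39,41,39,41] (.node [34,39,1,1,39,35,37,35,39,40,39,41,39,40,39,41,39] (.node [36,1,37,1,35,38,41,35,37,41,39,41,39,40,39,40,39,40] (.node [38,1,37,33,36,39,37,36,40,39,40,39,41] (.node [0,38,0,37,0,37,36,33,1,38,35,38,35,41,39,41,39,41,39,41,39] (.node [0,40,0,33,0,1,41,35,1,41,35,37,37,36,39] .nil .nil) .nil) (.node [0,33,39,33,0,37,34,34,1,35,41,37,40,38,40,39,40,39,41,39,40,39,41,39] .nil .nil)) (.node [0,38,0,37,0,38,39,41,1,36,39,40,38,35,40,39,41,39,41,39,41,39,41] (.node [0,33,39,33,0,36,1,38,1,36,36,38,39,36,41,39,41,39,40,39,41,39] .nil .nil) (.node [0,40,0,33,0,36,40,34,1,36,36,40,35,37,39,40,39,40,39,41,39,41,39,40] .nil .nil))) (.node [1,33,1,1,40,39,40,39,35,40,39,41,39,40,39,40]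 (.node [0,38,0,37,0,38,38,1,33,1,36,37,40,38,39,41,39,40,39,41,39,41,39] (.node [0,33,39,33,0,38,34,1,33,40,37,41,35,38,40,39,40,39,40,39,40] .nil .nil) (.node [0,40,0,33,0,37,37,1,38,38,40,38,36,39,40,39,40,39,40,39,40] .nil .nil)) (.node [0,38,0,37,0,35,33,38,33,41,39,38,41,39,41,39,40,39,40,39,41] (.node [0,33,39,33,0,37,41,39,33,1,35,38,36,39,36,41,39,41,39,41] .nil .nil) (.node [0,40,0,33,0,41,38,34,36,36,36,39,35,39,40,39,40,39,41,39,41] .nil .nil)))) (.node [35,34,39,34,36,39,41,39,36,40,39,41,39,40,39,41,39,40] (.node [34,40,33,33,40,37,35,37,35,41,39,41,39,40,39,41,39,40] (.node [0,38,0,37,0,38,34,37,34,1,36,37,40,35,35,39,40,39,40,39,40,39,41,39] (.node [0,33,39,33,0,33,33,40,1,38,36,39,35,39,41,39,41,39,41,39,40,39] (.node [0,40,0,33,0,36,34,38,1,1,38,40,36,38,36,40,39,41,39,40,39] .nil .nil) .nil) (.node [0,33,39,33,0,39,40,34,35,37,40,39,40,39,40,39,40] .nil .nil)) (.node [0,38,0,37,0,40,35,34,36,36,38,38,41,39,40,39,41,39,40,39,41]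 (.node [0,33,39,33,0,35,33,38,34,38,35,38,39,40,39,40,39,40] .nil .nil) (.node [0,40,0,33,0,33,33,36,33,1,39,37,39,35,40,39,40,39,40,39,40,39,41] .nil .nil))) (.node [36,40,39,33,36,38,35,35,39,40,39,40,39,41,39,41] (.node [0,38,0,37,0,40,34,38,1,37,36,40,36,36,40,39,41] (.node [0,33,39,33,0,40,35,33,33,35,37,37,41,39,41,39,40,39,41] .nil .nil) (.node [0,40,0,33,0,39,1,41,1,35,41,38,36,36,40,39,40,39,40,39,40,39,40,39] .nil .nil)) (.node [0,38,0,37,0,1,33,41,35,1,38,40,36,36,40,39,40,39,40,39] (.node [0,33,39,33,0,34,38,33,33,37,37,35,35,35,39,41,39,40] .nil .nil) (.node [0,40,0,33,0,36,37,1,36,39,38,41,39,40,39,40,39,40] .nil .nil))))) (.node [38,35,37,34,38,41,39,41,35,41,39,40,39,40,39,41,39,41,39,40] (.node [33,39,38,1,41,37,35,35,35,40,39,41,39,41,39,41,39] (.node [41,36,34,35,41,36,37,39,40,39,41,39,40,39,41,39] (.node [0,38,0,37,0,35,1,35,1,1,40,38,38,36,36,41,39,40,39,40,39,40,39,41] (.node [0,38,0,37,0,1,37,33,36,38,38,35,40]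 (.node [0,40,0,33,0,34,40,1,37,1,35,38,40,38,39,41,39,40,39,41,39] .nil .nil) .nil) (.node [0,33,39,33,0,37,33,38,33,40,35,37,35,39,40,39,40,39,41,39,41,39] .nil .nil)) (.node [0,38,0,37,0,1,38,38,1,39,41,37,35,37,39,41,39,40,39,40,39,40] (.node [0,33,39,33,0,1,37,33,41,35,38,35,41,39,41,39,40,39,41,39,40] .nil .nil) (.node [0,40,0,33,0,36,1,40,1,38,41,36,38,39,40,39,40,39] .nil .nil))) (.node [36,1,34,38,38,39,36,40,39,40] (.node [0,38,0,37,0,38,38,1,1,38,40,37,37,41,39,40,39,41,39,41,39,41,39] (.node [0,33,39,33,0,37,36,33,1,40,36,39,37,36,41,39,41,39,40,39,40,39] .nil .nil) (.node [0,40,0,33,0,1,37,37,1,38,35,35,38,40,39,41,39,40,39,40,39,40,39] .nil .nil)) (.node [0,38,0,37,0,39,34,37,1,40,38,36,37,35,41,39,41,39,40] (.node [0,33,39,33,0,36,37,35,1,40,36,38,41,39,41] .nil .nil) (.node [0,40,0,33,0,1,36,1,41,37,41,39,35,40,39,40,39,40,39,40] .nil .nil)))) (.node [37,33,37,34,1,40,36,36,37,39,41,39,41,39,41,39,40,39,41]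 (.node [36,1,36,33,40,36,38,36,41,39,41,39,40,39,40,39,40] (.node [0,38,0,37,0,33,39,35,34,41,39,41,35,40,39,41,39,41,39] (.node [0,33,39,33,0,1,41,34,37,39,37,37,40,39,40,39,40,39,40,39,41,39] (.node [0,40,0,33,0,35,34,36,34,41,38,39,35,39,41,39,41] .nil .nil) .nil) (.node [0,40,0,33,0,38,39,35,33,39,41,37,35,40,39,41,39,40,39] .nil .nil)) (.node [0,38,0,37,0,35,39,34,1,36,37,37,41,35,39,41,39,40] (.node [0,33,39,33,0,38,34,40,1,37,41,36,37,35,41,39,40,39,41,39,41,39,41] .nil .nil) (.node [0,40,0,33,0,39,36,38,1,36,40,36,36,39,40] .nil .nil))) (.node [36,37,36,33,1,37,35,38,41,39,41,39,41,39,41,39,40,39] (.node [0,38,0,37,0,35,33,38,1,35,38,35,35,35,39,41,39,40,39,40,39,41,39] (.node [0,33,39,33,0,34,36,39,1,36,36,38,39,36,40,39,40,39,40] .nil .nil) (.node [0,40,0,33,0,34,35,1,38,1,37,40,35,37,37,41,39,41,39,40,39] .nil .nil)) (.node [0,38,0,37,0,33,1,37,1,39,38,38,40,39,41,39,40,39,40] (.node [0,33,39,33,0,39,34,40,33,40,35,39,37,37,40,39,40,39,41,39]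 .nil .nil) (.node [0,40,0,33,0,33,36,34,34,38,35,41,38,39,41,39,40,39,40,39,41,39] .nil .nil)))))) (.node [1,35,34,40,39,36,39,37,40,39,40,39,41] (.node [33,33,1,37,1,39,40,35,35,35,41,39,40,39,41,39,41,39,41,39] (.node [33,35,1,34,36,38,35,40,39,41,39,40,39,40,39] (.node [37,1,39,33,1,38,38,38,36,39,40,39,40,39] (.node [37,34,37,1,40,36,39,37,36,41,39,41,39,40] (.node [0,38,0,37,0,38,34,1,33,40,38,39,41,35,39,41,39,40,39,41,39,40,39] (.node [0,40,0,33,0,37,37,40,33,1,39,40,37,35,38,39,41,39,41,39,40] .nil .nil) .nil) (.node [0,33,39,33,0,36,34,38,33,39,38,38,39,35,41,39,40,39,40,39,40,39,40,39] .nil .nil)) (.node [0,38,0,37,0,37,33,33,39,40,39,35,39,40,39,40,39,40,39,41,39] (.node [0,33,39,33,0,1,34,37,36,33,35,39,40,37,35,41,39,41,39,41] .nil .nil) (.node [0,40,0,33,0,33,39,34,34,41,39,38,39,41,39,40,39,41] .nil .nil))) (.node [1,41,33,35,37,35,38,35,39,40,39,41,39,41,39,40] (.node [0,38,0,37,0,35,37,36,33,1,40,35,38,35,35,40,39,40,39,40,39,40,39,41]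 (.node [0,33,39,33,0,40,36,1,36,1,37,35,38,38,36,39,40,39,40,39,40,39] .nil .nil) (.node [0,40,0,33,0,1,40,1,36,1,37,37,37,36,40,39,41,39,41] .nil .nil)) (.node [0,38,0,37,0,1,34,36,34,1,41,37,39,36,39,40,39,41,39,41,39,40,39] (.node [0,33,39,33,0,34,34,37,35,39,35,41,39,40,39,41,39,41,39] .nil .nil) (.node [0,40,0,33,0,33,39,35,33,41,35,35,35,38,39,40,39,40,39,41,39] .nil .nil)))) (.node [34,40,35,1,1,36,37,39,37,37,35,40,39,40,39,40,39,41] (.node [38,39,38,1,39,41,36,37,35,39,40,39,41,39,40,39,40,39] (.node [0,38,0,37,0,37,41,37,33,1,35,35,35,35,41,39,41,39,40,39,40,39,40,39] (.node [0,33,39,33,0,36,36,37,1,38,38,36,38,39,40,39,40,39,41,39,41,39] (.node [0,40,0,33,0,40,39,1,39,37,40,35,35,39,40,39,41,39,41,39,41,39] .nil .nil) .nil) (.node [0,33,39,33,0,35,1,36,1,39,40,35,35,37,39,41,39,41,39,40,39] .nil .nil)) (.node [0,38,0,37,0,33,1,41,1,35,39,41,37,35,39,41,39,40] (.node [0,33,39,33,0,37,40,37,34,1,36,40,37,36,39,40,39,40,39]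 .nil .nil) (.node [0,40,0,33,0,1,34,36,34,1,41,38,35,37,36,39,41,39,41,39,41,39,40] .nil .nil))) (.node [1,37,1,40,36,36,39,40,39,40,39,41] (.node [0,38,0,37,0,37,1,34,34,39,38,36,39,41,39,41,39,41] (.node [0,33,39,33,0,41,38,1,1,36,39,37,39,41,39,40,39,40] .nil .nil) (.node [0,40,0,33,0,34,40,34,38,41,36,38,35,35,41,39,40,39,40,39,41,39] .nil .nil)) (.node [0,38,0,37,0,38,33,39,34,38,40,36,37,41,39,40,39,41,39,41,39,41,39] (.node [0,33,39,33,0,41,33,36,1,37,40,37,40,39,41,39,40,39,41,39] .nil .nil) (.node [0,40,0,33,0,36,1,35,1,1,38,38,41,35,39,41] .nil .nil))))) (.node [33,1,36,33,35,35,38,35,41,39,40] (.node [34,1,39,34,39,35,35,40,39,40,39,40,39,40,39] (.node [1,41,39,33,37,39,36,38,41,39,41] (.node [0,38,0,37,0,39,35,34,40,38,40,37,37,39,41,39,41,39,41,39,40,39,41] (.node [0,38,0,37,0,35,39,33,1,38,35,38,40,39,41,39,41,39,40,39] (.node [0,40,0,33,0,1,33,1,37,37,37,39,40,39,40,39,40,39,41] .nil .nil) .nil)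 (.node [0,33,39,33,0,1,37,36,37,1,35,35,35,40,39,41,39,40] .nil .nil)) (.node [0,38,0,37,0,41,33,37,34,40,38,38,36,39,40,39,41,39,40,39,41,39] (.node [0,33,39,33,0,33,33,35,1,1,38,38,40,38,35,41,39,40] .nil .nil) (.node [0,40,0,33,0,1,35,1,33,37,36,36,39,41,39,40,39] .nil .nil))) (.node [34,1,1,36,1,37,35,39,37,40,39,40,39,40,39,41] (.node [0,38,0,37,0,37,34,34,1,1,41,37,39,37,40,39,41,39,41,39,40,39,40,39] (.node [0,33,39,33,0,33,39,33,37,35,38,41,39,40,39,40,39,41,39,41] .nil .nil) (.node [0,40,0,33,0,41,33,41,1,1,40,35,39,36,39,40,39,40,39,41,39,41,39,40] .nil .nil)) (.node [0,38,0,37,0,37,1,38,35,41,36,37,40,39,41,39,41,39,41,39] (.node [0,33,39,33,0,37,39,37,34,36,38,36,37,41,39,40,39,41,39,41,39,41] .nil .nil) (.node [0,40,0,33,0,41,34,35,34,36,38,38,38,35,41,39,40,39,41,39,40,39,41] .nil .nil)))) (.node [40,35,33,1,1,41,38,41,37,40,39,40,39,41,39,40,39,41] (.node [37,1,41,1,40,38,35,37,35,41,39,40,39,40,39,41,39]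 (.node [0,38,0,37,0,36,1,33,1,41,39,38,41,35,39,40,39,41,39,40,39,40] (.node [0,33,39,33,0,33,38,33,1,38,40,36,37,40,39,41,39,40] (.node [0,40,0,33,0,35,38,33,38,36,38,41,39,41,39,40,39,40] .nil .nil) .nil) (.node [0,40,0,33,0,41,36,33,1,35,38,36,39,40,39,41,39,41] .nil .nil)) (.node [0,38,0,37,0,39,37,33,37,40,38,35,41,39,41,39,40,39,40] (.node [0,33,39,33,0,33,33,36,33,1,39,37,35,39,35,41,39,41,39,40,39,40,39] .nil .nil) (.node [0,40,0,33,0,41,39,40,34,40,36,39,35,40,39,41,39,40,39,41,39,40,39] .nil .nil))) (.node [33,38,1,1,36,37,39,36,40,39,41,39,41,39,41,39,40,39] (.node [0,38,0,37,0,35,33,1,1,39,36,37,39,40,39,40,39,41,39,40,39] (.node [0,33,39,33,0,38,35,37,33,37,40,39,37,40,39,40,39,41,39,41,39] .nil .nil) (.node [0,40,0,33,0,34,36,1,35,1,39,36,36,38,41,39,41,39,41,39,41] .nil .nil)) (.node [0,38,0,37,0,35,39,33,33,35,35,39,40,37,39,40,39,40] (.node [0,33,39,33,0,36,37,34,34,40,39,36,39,35,40,39,41,39,40,39,40,39,40]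 .nil .nil) (.node [0,40,0,33,0,39,38,1,35,41,35,37,39,41,39,40,39,40,39] .nil .nil)))))))

/-- A part. -/
noncomputable def els_9 : Arr (List ℕ) :=
  (.node [41,33,38,33,1,40,35,38,38,36,39,41,39,41,39,40] els_7 els_8)

/-- A part. -/
noncomputable def els_10 : Arr (List ℕ) :=
  (.node [39,34,36,37,1,38,35,39,41,35,40,39,40,39,41,39,41,39,41] (.node [1,37,35,33,1,37,37,35,39,41,39,41,39,41,39] (.node [33,37,35,1,1,38,35,41,39,40,39,41,39,40] (.node [38,34,40,34,37,39,40,35,35,41,39,40,39,40,39,41,39,41,39] (.node [36,34,34,34,1,37,39,40,37,39,40,39,40,39,40,39,40,39] (.node [1,1,34,39,35,35,37,39,41,39,40,39,40,39,40,39,41,39] (.node [0,38,0,37,0,41,1,34,34,38,39,36,37,39,40,39,41,39,41,39,40,39] (.node [0,40,0,33,0,39,34,37,34,41,36,37,36,40,39,40,39,40,39,41,39,41,39] .nil .nil) .nil) (.node [0,33,39,33,0,1,36,40,33,41,36,38,40,39,40,39,41,39,41] .nil .nil)) (.node [0,38,0,37,0,35,35,1,38,35,37,40,39,41,39,41,39,41,39]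 (.node [0,33,39,33,0,33,1,34,38,1,39,36,39,37,37,40,39,40,39,40,39,41,39,41] .nil .nil) (.node [0,40,0,33,0,37,1,36,37,40,35,35,41,39,41,39,40,39,40,39,40,39] .nil .nil))) (.node [35,41,38,33,1,36,37,41,37,35,39,41,39,41,39,41,39] (.node [0,38,0,37,0,34,36,36,34,41,38,35,39,36,40,39,40,39,41,39,41,39] (.node [0,33,39,33,0,34,35,37,34,1,39,35,37,36,40,39,40,39,40,39,40,39,40] (.node [0,40,0,33,0,38,1,33,35,41,39,36,36,39,41,39,40,39,41] .nil .nil) .nil) (.node [0,40,0,33,0,38,38,34,36,39,35,38,35,39,41,39,40,39,41,39,41,39] .nil .nil)) (.node [0,38,0,37,0,33,40,33,41,37,37,41,35,39,41] (.node [0,33,39,33,0,40,34,36,34,41,39,41,37,36,39,40,39,40,39,40,39,40,39] .nil .nil) (.node [0,40,0,33,0,41,34,37,1,39,41,39,38,41,39,41,39,40,39,41] .nil .nil)))) (.node [36,36,33,1,37,36,36,39,36,41,39,41,39,41,39,40,39] (.node [34,36,1,1,36,37,36,37,41,39,41,39,40,39] (.node [0,38,0,37,0,37,39,33,40,39,38,36,36,41,39,40,39,40,39,40,39,40,39]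 (.node [0,33,39,33,0,36,36,1,34,1,41,38,38,35,38,40,39,41] (.node [0,40,0,33,0,35,41,34,1,40,35,38,40,39,41,39,41,39,40,39] .nil .nil) .nil) (.node [0,33,39,33,0,39,38,39,34,1,38,36,37,39,41,39,40] .nil .nil)) (.node [0,38,0,37,0,1,35,39,34,1,39,40,39,35,41,39,41,39,40,39,41,39,40,39] (.node [0,33,39,33,0,34,34,35,34,41,35,38,39,35,39,40,39,41,39,41,39,41,39,40,39] .nil .nil) (.node [0,40,0,33,0,36,39,1,38,39,37,36,40,39,40,39,41,39,40,39,41,39] .nil .nil))) (.node [35,34,39,41,39,35,35,39,40,39,41,39,41,39,41,39] (.node [0,38,0,37,0,39,34,41,34,40,37,35,38,40,39,41,39,40,39,40] (.node [0,33,39,33,0,34,36,38,1,39,40,37,39,36,40,39,40,39,40,39,40,39,40,39] .nil .nil) (.node [0,40,0,33,0,36,33,40,33,39,37,37,39,36,39,41,39,41,39] .nil .nil)) (.node [0,38,0,37,0,37,34,1,34,41,38,35,39,36,41,39,40,39,40,39,41] (.node [0,33,39,33,0,35,37,1,36,38,40,39,35,41,39,41,39,41] .nil .nil) (.node [0,40,0,33,0,41,33,36,1,38,39,37,39,37,39,40,39,41,39,40,39,41,39,41]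 .nil .nil))))) (.node [1,39,34,1,39,36,38,36,37,40,39,41,39,41,39,40,39] (.node [38,1,36,33,35,38,35,35,35,39] (.node [40,35,35,1,37,41,38,35,35,41,39,41,39,40,39,41,39,40,39,40] (.node [0,38,0,37,0,1,35,1,34,35,37,41,37,36,39,41,39,41,39,40,39,41] (.node [0,38,0,37,0,41,35,1,33,1,36,36,39,37,36,39,41,39,40,39,40] (.node [0,40,0,33,0,33,1,1,41,39,38,36,39,40,39,40,39,40,39] .nil .nil) .nil) (.node [0,33,39,33,0,35,35,33,33,36,37,41,37,41,39,40,39,41,39,40,39,41,39] .nil .nil)) (.node [0,38,0,37,0,34,34,37,36,1,38,40,39,41,39,41] (.node [0,33,39,33,0,38,40,1,33,1,35,38,38,35,40,39,40,39,41,39,40] .nil .nil) (.node [0,40,0,33,0,34,38,41,1,41,35,38,41,38,40,39,41,39,40,39,41,39,40,39] .nil .nil))) (.node [34,1,40,35,39,35,40,39] (.node [0,38,0,37,0,39,36,34,34,35,35,41,38,39,40,39,41,39,41,39,41,39,40] (.node [0,33,39,33,0,41,33,37,34,37,35,35,37,40,39,41,39,40,39,41,39,41] .nil .nil) (.node [0,40,0,33,0,33,36,37,34,35,38,38,35,37,41,39,40,39,40,39,41]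 .nil .nil)) (.node [0,38,0,37,0,38,36,40,33,36,38,40,39,35,39,40,39,41,39,41] (.node [0,33,39,33,0,1,36,38,33,41,36,37,39,36,41,39,40,39,41,39,41,39,41] .nil .nil) (.node [0,40,0,33,0,34,41,35,33,40,37,39,41,39,40,39,40,39] .nil .nil)))) (.node [40,38,34,1,41,35,35,35,39,40,39,41,39,40,39,41,39,41] (.node [1,1,33,40,38,35,39,40,39,40,39,40,39,40,39] (.node [0,38,0,37,0,40,1,35,34,40,39,38,38,35,39,41,39,41,39,41,39,40,39,41] (.node [0,33,39,33,0,39,37,37,33,1,36,39,38,39,40,39,41,39,41,39,41,39,40] (.node [0,40,0,33,0,41,1,41,1,41,39,38,41,35,39,40,39,40,39,40,39] .nil .nil) .nil) (.node [0,33,39,33,0,38,1,34,34,38,35,39,37,36,40,39,40,39,41,39,41] .nil .nil)) (.node [0,38,0,37,0,39,41,39,33,1,41,35,37,40,39,41,39,40,39,41,39,40,39] (.node [0,33,39,33,0,40,39,35,1,39,38,38,35,40,39,40,39,40,39,40,39] .nil .nil) (.node [0,40,0,33,0,39,34,39,1,39,37,39,41,35,39,40,39,40,39,41,39,41] .nil .nil))) (.node [39,35,33,1,39,41,38,35,35,39,41,39,41,39,41,39,40]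 (.node [0,38,0,37,0,34,34,35,34,37,37,37,37,41,39] (.node [0,33,39,33,0,36,1,34,35,38,35,39,35,41,39,41,39,41,39,41,39,40] .nil .nil) (.node [0,40,0,33,0,39,35,38,33,39,38,38,41,39,41,39,41,39,40,39,40,39] .nil .nil)) (.node [0,38,0,37,0,40,34,35,33,1,37,40,37,37,39,41,39,41] (.node [0,33,39,33,0,34,40,35,33,38,38,36,37,41,39,41,39,41,39,41,39] .nil .nil) (.node [0,40,0,33,0,37,37,41,33,36,40,38,39,35,41,39,40,39,41,39,41,39,41,39] .nil .nil)))))) (.node [34,34,40,1,39,35,38,35,39,40,39,41,39,40,39,41,39] (.node [33,33,39,33,38,41,36,38,36,41,39,40,39,41,39,41,39] (.node [38,33,39,34,41,38,40,38,36,40,39,40,39,41,39,40,39,41,39] (.node [41,35,33,33,35,35,35,39,36,41,39,40,39,41,39,40,39,41] (.node [1,34,34,36,37,36,38,39,41,39,41,39,41,39,40,39,41] (.node [0,38,0,37,0,40,36,39,1,39,41,39,35,35,40,39,40,39,40,39] (.node [0,40,0,33,0,33,1,35,1,40,35,37,40,39,41,39,41,39,40,39,40] .nil .nil) .nil) (.node [0,33,39,33,0,34,41,39,1,40,35,35,35,39,40,39,41]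 .nil .nil)) (.node [0,38,0,37,0,36,40,1,1,39,38,35,39,35,41,39,40,39,40,39,40,39,40] (.node [0,33,39,33,0,37,1,39,35,33,37,35,41,38,35,41,39,41,39] .nil .nil) (.node [0,40,0,33,0,38,41,37,33,41,39,41,39,41,39,41,39] .nil .nil))) (.node [38,34,34,34,35,35,35,35,39,41,39,41,39,40,39,40] (.node [0,38,0,37,0,33,40,38,34,36,40,37,36,41,39,40] (.node [0,33,39,33,0,35,39,1,37,39,41,35,39,40,39,40,39,40,39,40,39] .nil .nil) (.node [0,40,0,33,0,38,38,1,33,1,37,37,36,36,36,40,39,41,39,41,39,40,39] .nil .nil)) (.node [0,38,0,37,0,37,33,1,38,35,39,35,39,40,39,40,39,41,39] (.node [0,33,39,33,0,39,33,37,34,35,39,40,38,39,40,39,41,39,41,39,41,39,40] .nil .nil) (.node [0,40,0,33,0,37,40,33,33,1,36,36,37,39,35,40,39,40,39,40,39,40,39,40] .nil .nil)))) (.node [34,35,37,33,1,35,35,37,36,40,39,40,39] (.node [35,35,33,33,35,38,40,37,41,39,40,39] (.node [0,38,0,37,0,34,34,37,33,1,37,40,37,35,35,35,39,41,39,40,39,40,39,40,39,41] (.node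 [0,33,39,33,0,36,36,1,1,38,35,39,40,37,40,39,40,39,40] (.node [0,40,0,33,0,40,1,33,40,37,40,37,39,40,39,41,39,41,39,41,39,40] .nil .nil) .nil) (.node [0,33,39,33,0,39,40,34,1,39,37,35,37,35,40,39,40,39,40,39,40,39,40,39] .nil .nil)) (.node [0,38,0,37,0,33,41,39,1,1,35,39,36,41,39,41,39,41,39,40,39,40] (.node [0,33,39,33,0,35,34,41,1,35,38,36,37,35,39,41,39,41,39,41] .nil .nil) (.node [0,40,0,33,0,38,39,34,38,35,41,35,39,40,39,41,39,41,39,41,39] .nil .nil))) (.node [40,1,37,34,35,35,35,39,36,40,39,41,39,41,39,41,39,40] (.node [0,38,0,37,0,41,38,1,33,37,40,35,37,35,41,39,40,39,41,39,40] (.node [0,33,39,33,0,36,33,33,33,37,37,39,37,40,39,40,39,41,39,41,39,41,39] .nil .nil) (.node [0,40,0,33,0,1,36,33,39,37,41,38,39,41,39,40,39,41,39,40] .nil .nil)) (.node [0,38,0,37,0,39,1,40,1,39,41,39,36,36,39,41,39,40,39,41,39,40] (.node [0,33,39,33,0,33,40,1,1,41,35,37,35,39,41,39,40,39,40,39,40] .nil .nil) (.node [0,40,0,33,0,38,34,35,33,38,39,35,38,40,39,40,39,40,39,41,39]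 .nil .nil))))) (.node [33,37,36,1,41,39,38,40,39,41,39,40] (.node [41,38,34,41,39,38,36,40,39,41,39,41,39,41] (.node [33,35,39,1,40,35,35,37,39,40,39,40,39,41,39,41,39,40] (.node [0,38,0,37,0,39,1,33,1,36,39,35,38,35,41,39,40,39,40,39,41] (.node [0,38,0,37,0,35,34,34,1,41,38,40,35,35,41,39,41,39,41,39,40,39,40,39] (.node [0,40,0,33,0,38,40,33,1,36,37,39,36,36,40,39,40,39,40,39,40] .nil .nil) .nil) (.node [0,33,39,33,0,40,38,1,34,36,36,39,35,35,39,40,39,40,39,40,39,41,39,40] .nil .nil)) (.node [0,38,0,37,0,37,37,35,34,1,35,38,38,35] (.node [0,33,39,33,0,33,35,39,1,35,35,35,37,35,40,39,40,39,41,39,40,39] .nil .nil) (.node [0,40,0,33,0,38,34,35,1,39,37,37,37,39,40,39,40,39,41,39,41,39] .nil .nil))) (.node [39,35,38,33,38,38,35,38,40,39,40,39,40,39,40,39,40] (.node [0,38,0,37,0,40,1,39,33,1,37,36,39,41,35,41,39,41,39] (.node [0,33,39,33,0,33,33,1,36,38,38,35,35,41,39,41,39] .nil .nil) (.node [0,40,0,33,0,35,37,37,1,37,37,39,36,39,41,39]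 .nil .nil)) (.node [0,38,0,37,0,39,36,37,1,37,40,36,36,41,39,40,39,40,39,40,39] (.node [0,33,39,33,0,33,1,41,1,35,41,35,37,37,40,39,41,39,41,39,41] .nil .nil) (.node [0,40,0,33,0,36,34,1,41,36,37,35,40,39,41,39,41,39,41,39] .nil .nil)))) (.node [37,35,34,34,41,38,35,35,41,39,40,39,41,39,40] (.node [38,1,33,1,39,40,36,37,37,39,41,39,40,39,40,39,41] (.node [0,38,0,37,0,1,36,33,38,39,38,39,35,41,39,41,39,41,39,40,39,40] (.node [0,33,39,33,0,36,37,1,33,33,37,40,36,38,36,41,39,41,39,40,39,40,39] (.node [0,40,0,33,0,35,41,37,1,38,40,38,41,39,40,39,40,39] .nil .nil) .nil) (.node [0,40,0,33,0,40,34,40,34,41,38,40,37,37,39,40,39,41] .nil .nil)) (.node [0,38,0,37,0,40,33,33,37,39,35,39,40,39,41,39,41,39,41,39,40,39] (.node [0,33,39,33,0,1,40,33,33,1,40,35,39,37,37,39,40,39,40,39,40,39,41,39] .nil .nil) (.node [0,40,0,33,0,36,37,37,33,35,35,37,35,39,41,39,40,39,41,39,40] .nil .nil))) (.node [39,36,34,1,39,37,37,37,41,39,41]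 (.node [0,38,0,37,0,34,41,35,33,36,37,35,38,39,41,39,40,39,40,39] (.node [0,33,39,33,0,37,33,35,33,39,40,35,38,40,39,41,39,41] .nil .nil) (.node [0,40,0,33,0,35,33,38,36,1,37,40,36,36,39,41] .nil .nil)) (.node [0,38,0,37,0,36,1,1,39,37,37,36,36,40,39,40,39,41,39,40,39] (.node [0,33,39,33,0,35,1,36,1,1,38,38,39,35,39,41,39,41,39,40] .nil .nil) (.node [0,40,0,33,0,34,1,37,1,40,39,37,37,36,40,39,41,39,41,39,41,39,41] .nil .nil)))))))

/-- A part. -/
noncomputable def els_11 : Arr (List ℕ) :=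
  (.node [1,1,33,33,41,35,38,39,41,39,40,39,40,39,40,39,41] (.node [33,36,38,33,1,37,37,37,37,41,39,40,39,40,39,41,39,41] (.node [35,35,34,41,39,36,37,35,41,39,40,39,41,39,40,39,41] (.node [35,39,36,1,39,40,36,37,37,40,39,40,39,41,39,40,39,41] (.node [1,39,36,1,36,37,37,36,40,39,40,39,41,39,40,39,41] (.node [38,40,39,33,40,35,37,37,40,39,40,39,40,39] (.node [0,38,0,37,0,35,34,1,38,36,38,38,41,39,41,39,41,39,40,39,40,39] (.node [0,40,0,33,0,34,39,1,37,41,36,37,40,39,40,39,40,39,40,39,40] .nil .nil) .nil) (.node [0,33,39,33,0,33,36,40,1,1,39,36,37,37,40,39,41,39,40,39,41,39,40,39] .nil .nil)) (.node [0,38,0,37,0,41,35,33,33,1,36,38,36,38,36,40,39,40,39,40,39,40,39,41,39] (.node [0,33,39,33,0,36,1,37,35,1,41,35,39,41,35,39,40,39,41,39,40,39,40] .nil .nil) (.node [0,40,0,33,0,37,40,1,1,40,39,36,37,39,41,39,41,39,40] .nil .nil))) (.node [37,37,1,34,1,35,37,35,38,35,41,39,40,39,41,39,41] (.node [0,38,0,37,0,35,33,35,1,1,40,36,39,35,35,40,39,41,39,41,39,41,39,40]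 (.node [0,33,39,33,0,41,34,34,1,37,40,39,36,39,40] .nil .nil) (.node [0,40,0,33,0,37,40,37,34,1,37,39,37,37,41,39,41,39,40,39,41] .nil .nil)) (.node [0,38,0,37,0,36,33,33,33,38,35,37,39,41,39,41,39,41,39,40,39,41] (.node [0,33,39,33,0,41,39,34,41,39,37,37,36,39,40,39,41,39,41,39,40] .nil .nil) (.node [0,40,0,33,0,36,34,36,1,41,38,35,37,35,40,39,40,39,41,39,41,39] .nil .nil)))) (.node [38,33,40,1,38,36,38,35,35,39,41,39,40,39,40] (.node [34,36,34,35,38,39,35,35,41,39,41,39,41] (.node [0,38,0,37,0,35,34,35,33,35,41,39,37,37,39,41,39,41,39,40,39,40,39,41] (.node [0,33,39,33,0,39,33,1,39,40,35,35,35,39,40,39,40] (.node [0,40,0,33,0,33,40,36,1,37,39,38,36,40,39,40,39,41,39,41,39,40] .nil .nil) .nil) (.node [0,33,39,33,0,40,38,34,34,1,39,35,38,40,39,40,39,40,39,41,39,41] .nil .nil)) (.node [0,38,0,37,0,33,1,33,33,35,38,36,36,40,39,40,39,40,39,40,39,41,39] (.node [0,33,39,33,0,39,33,36,1,38,39,37,39,35,39,40] .nil .nil)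 (.node [0,40,0,33,0,33,37,39,33,35,37,40,38,36,39,41,39,41,39,41] .nil .nil))) (.node [40,1,36,33,41,37,36,37,39,40,39,41,39,40,39,40,39] (.node [0,38,0,37,0,36,38,33,1,38,36,36,38,35,41,39,40,39,40] (.node [0,33,39,33,0,36,33,37,40,37,41,39,41,39,40,39,40,39] .nil .nil) (.node [0,40,0,33,0,38,35,1,35,1,35,39,41,35,35,41,39,41,39,40,39,40] .nil .nil)) (.node [0,38,0,37,0,38,39,1,38,36,36,40,37,35,41,39,40,39,40,39,41,39,41,39,40] (.node [0,33,39,33,0,33,37,1,39,40,38,35,35,41,39,40,39,40] .nil .nil) (.node [0,40,0,33,0,36,1,33,40,39,40,39,35,39,40,39,40,39,41] .nil .nil))))) (.node [1,35,37,34,39,41,37,35,37,40,39,40,39,40,39,41] (.node [40,34,35,34,37,37,41,35,35,39,41,39,41,39,40,39] (.node [37,37,34,1,35,41,37,40,38,40,39,41,39,41,39,41,39] (.node [0,38,0,37,0,34,38,38,33,41,38,40,38,36,41,39,41,39,40,39,41,39] (.node [0,38,0,37,0,39,35,39,1,41,37,35,39,41,39,40,39,40,39] (.node [0,40,0,33,0,35,33,33,33,40,36,40,39,38,40,39,41,39,41,39,41,39]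 .nil .nil) .nil) (.node [0,33,39,33,0,35,33,38,36,1,39,37,35,38,41,39,41,39,41,39,41,39,40] .nil .nil)) (.node [0,38,0,37,0,38,33,1,33,40,35,38,38,40,39,41,39,41,39,41,39] (.node [0,33,39,33,0,37,1,39,33,1,35,39,37,40,39,41,39,41,39,41] .nil .nil) (.node [0,40,0,33,0,34,34,37,36,1,37,37,35,39,40,39,41,39,41,39,40] .nil .nil))) (.node [34,1,39,33,41,38,40,39,40,39,40,39,41,39,40] (.node [0,38,0,37,0,33,36,1,1,41,35,40,39,40,39,40,39,40,39] (.node [0,33,39,33,0,37,36,34,1,37,37,40,35,35,39] .nil .nil) (.node [0,40,0,33,0,1,36,38,33,1,39,41,38,41,39,41,39,40,39,40] .nil .nil)) (.node [0,38,0,37,0,41,37,1,34,1,39,36,36,40,39,40,39,41,39,40,39] (.node [0,33,39,33,0,37,1,34,36,1,41,38,38,35,35,39,41,39,41,39,41,39,41,39] .nil .nil) (.node [0,40,0,33,0,40,38,41,1,38,36,40,39,41,39,41,39,40] .nil .nil)))) (.node [1,1,33,1,39,35,39,37,37,40,39,40,39,41,39,41,39] (.node [1,34,1,33,36,40,35,37,41,39,40,39,41,39,41] (.node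 [0,38,0,37,0,33,37,35,1,35,38,36,37,40,39,41,39,40,39,41,39,40,39] (.node [0,33,39,33,0,41,38,1,33,39,36,37,39,35,41,39,40,39,40,39,40,39] (.node [0,40,0,33,0,1,36,34,1,39,41,38,35,40,39,41,39,41,39] .nil .nil) .nil) (.node [0,40,0,33,0,1,35,34,34,36,40,35,37,37,39,40,39,41,39,41,39] .nil .nil)) (.node [0,38,0,37,0,34,36,33,33,41,35,35,37,35,40,39,41,39,40] (.node [0,33,39,33,0,37,37,1,1,36,36,40,35,37,39,41,39,40,39,41,39] .nil .nil) (.node [0,40,0,33,0,35,35,33,36,1,40,37,39,37,41,39,40,39,41,39,40,39,41] .nil .nil))) (.node [37,36,1,34,37,36,36,41,39,40,39,40,39,41] (.node [0,38,0,37,0,37,33,37,34,1,41,37,41,35,41,39,41,39,41,39,40,39,40,39] (.node [0,33,39,33,0,36,40,33,37,1,36,39,35,35,41,39,41,39,40,39,41,39,40,39] .nil .nil) (.node [0,40,0,33,0,1,37,33,37,41,38,39,41,39,41,39,41] .nil .nil)) (.node [0,38,0,37,0,1,38,36,1,35,38,36,39,40,39,41,39,40,39,41,39] (.node [0,33,39,33,0,33,41,1,1,38,38,39,37,37,40,39,40,39,40,39,40,39,40]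 .nil .nil) (.node [0,40,0,33,0,36,39,35,33,1,40,35,37,35,41] .nil .nil)))))) (.node [1,33,35,37,1,41,39,41,37,36,39,41,39,40,39,40,39,40,39,41,39] (.node [37,37,41,33,36,36,36,36,39,41,39,41,39,40,39,40,39] (.node [34,34,1,1,37,40,39,38,41,39,40,39] (.node [33,33,33,35,1,35,38,36,36,39,41,39,41,39,40,39] (.node [1,36,33,39,35,37,36,40,39,40,39] (.node [0,38,0,37,0,38,34,37,35,1,35,37,39,40,39,40,39,41,39,40,39] (.node [0,40,0,33,0,34,36,1,34,35,41,36,36,37,40,39,40,39,41,39,41,39,41] .nil .nil) .nil) (.node [0,33,39,33,0,1,37,41,1,35,35,38,39,35,39,40,39] .nil .nil)) (.node [0,38,0,37,0,37,35,34,37,1,40,36,38,39,41,39,41,39] (.node [0,33,39,33,0,36,33,40,34,41,37,39,36,37,39,40,39,41,39,40,39,40] .nil .nil) (.node [0,40,0,33,0,33,37,35,1,40,39,37,40,39,41,39,40,39,40,39] .nil .nil))) (.node [41,33,40,34,38,35,37,35,39,41,39,40,39,41,39] (.node [0,38,0,37,0,38,33,35,1,1,36,36,37,39,35,39,40,39,41,39,40,39,41,39,41]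 (.node [0,33,39,33,0,35,41,33,33,1,37,40,37,39,40,39,40] .nil .nil) (.node [0,40,0,33,0,37,35,34,37,1,36,39,38,41,39,40,39,41,39,41] .nil .nil)) (.node [0,38,0,37,0,33,41,1,33,40,38,41,35,41,39,40,39,40,39,40,39] (.node [0,33,39,33,0,38,41,37,33,33,38,38,39,35,39,41,39,40,39,41,39,40,39] .nil .nil) (.node [0,40,0,33,0,33,1,36,1,38,39,40,39,36,40,39,40,39,40,39,41,39] .nil .nil)))) (.node [34,41,1,33,1,41,39,37,40,39,40,39,41,39,41,39,41] (.node [34,37,36,33,1,40,36,36,36,40,39,40,39,41,39,40,39] (.node [0,38,0,37,0,38,34,34,1,37,36,40,36,36,40,39,41,39,41,39,41] (.node [0,33,39,33,0,1,35,37,35,1,35,41,37,37,37,41,39,41,39] (.node [0,40,0,33,0,39,35,1,37,37,37,36,40,39,40,39,41,39,41,39,40] .nil .nil) .nil) (.node [0,33,39,33,0,37,34,35,1,35,38,40,35,35,39,41,39,40,39,41,39,40,39,40] .nil .nil)) (.node [0,38,0,37,0,37,36,34,34,41,39,35,38,40,39,41,39,41] (.node [0,33,39,33,0,39,34,39,1,38,38,40,35,35,35,41,39,41,39,40,39,40,39,40,39]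 .nil .nil) (.node [0,40,0,33,0,35,34,38,35,39,40] .nil .nil))) (.node [34,37,35,1,35,35,38,40,39,41,39,41,39,40,39] (.node [0,38,0,37,0,38,34,39,1,37,41,35,38,40,39,40,39,40,39,41,39,41] (.node [0,33,39,33,0,40,33,39,33,35,37,39,35,35,41,39,41,39] .nil .nil) (.node [0,40,0,33,0,39,33,1,33,40,36,40,39,38,40,39,41,39,40,39,40,39,40] .nil .nil)) (.node [0,38,0,37,0,39,35,37,1,38,38,40,38,41,39,41,39,40,39,40] (.node [0,33,39,33,0,37,35,35,33,41,36,38,35,35,39,41,39,40,39,41,39,41,39] .nil .nil) (.node [0,40,0,33,0,38,36,1,1,37,41,37,36,37,41,39,41,39,40,39,41,39,40,39,40] .nil .nil))))) (.node [38,36,40,34,1,41,38,35,39,35,39,40,39,40,39] (.node [36,39,1,33,38,39,41,37,35,41,39,40,39,41,39,41,39] (.node [33,40,37,1,38,35,39,35,40,39,41,39,41] (.node [0,38,0,37,0,33,33,38,35,1,41,39,37,37,36,40,39,40,39,41,39,40,39,41] (.node [0,38,0,37,0,38,38,33,1,37,41,36,38,39,41,39,40,39,41,39,41] (.node [0,40,0,33,0,35,37,33,33,37,39,37,41,35,39,40,39,41,39,41,39,40]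 .nil .nil) .nil) (.node [0,33,39,33,0,37,33,33,1,1,36,39,37,39,40,39,41,39,40] .nil .nil)) (.node [0,38,0,37,0,40,38,1,33,1,41,35,39,41,35,39,41,39,40,39,41] (.node [0,33,39,33,0,1,34,39,1,41,37,39,36,40,39,41,39,41,39,41,39,40] .nil .nil) (.node [0,40,0,33,0,40,34,35,34,40,38,38,35,35,39,40,39,40,39,41,39,40] .nil .nil))) (.node [40,36,34,34,40,37,36,37,36,40,39,40,39,40,39,40,39,40] (.node [0,38,0,37,0,37,37,34,34,1,36,36,37,37,41,39,41,39,41] (.node [0,33,39,33,0,41,33,37,37,36,40,39,40,39,40,39,41,39] .nil .nil) (.node [0,40,0,33,0,34,40,1,35,1,36,39,36,39,35,41,39,40,39,41,39,40,39,40] .nil .nil)) (.node [0,38,0,37,0,1,39,38,33,37,39,37,39,35,41,39,40,39,40,39,41] (.node [0,33,39,33,0,35,34,35,1,40,37,39,37,41,39,40,39,41,39] .nil .nil) (.node [0,40,0,33,0,33,33,1,1,37,39,41,37,36,39,40,39,41,39,41,39,40,39] .nil .nil)))) (.node [37,1,40,1,37,41,38,35,35,40,39,40,39,41,39,40,39,41] (.node [37,39,34,1,39,37,41,38,40,39]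 (.node [0,38,0,37,0,35,1,33,1,35,37,35,39,36,41,39,41,39,41,39,40,39,41] (.node [0,33,39,33,0,41,34,36,36,38,35,35,41,39,40,39,40,39,41,39,41,39,40] (.node [0,40,0,33,0,37,36,33,33,38,39,37,36,39,40,39,40,39,40] .nil .nil) .nil) (.node [0,40,0,33,0,1,37,1,1,35,35,35,38,39,40] .nil .nil)) (.node [0,38,0,37,0,33,37,35,1,1,37,39,41,36,37,39,41,39,41,39,41,39] (.node [0,33,39,33,0,40,38,41,1,40,37,41,39,35,41,39,40,39,40,39,40,39,41] .nil .nil) (.node [0,40,0,33,0,36,39,40,33,1,40,39,37,39,40,39,41] .nil .nil))) (.node [37,33,35,1,38,41,38,35,35,40,39,40,39] (.node [0,38,0,37,0,35,33,33,38,41,37,39,35,41,39,41,39,41,39,40,39,41] (.node [0,33,39,33,0,34,39,40,34,35,35,37,36,39,40,39,41,39,40,39,41,39] .nil .nil) (.node [0,40,0,33,0,1,1,33,1,36,38,41,37,39,41,39,41,39,40,39,41,39] .nil .nil)) (.node [0,38,0,37,0,38,33,40,39,35,35,35,41,39,40,39,41] (.node [0,33,39,33,0,1,40,35,1,41,35,35,40,39,40,39,40,39,40] .nil .nil)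 (.node [0,40,0,33,0,34,34,41,33,38,39,38,36,39,41,39,40,39,40,39,41,39] .nil .nil)))))))

/-- A part. -/
noncomputable def els_12 : Arr (List ℕ) :=
  (.node [33,36,34,41,37,35,37,35,39,41,39,41,39,40,39,41] els_10 els_11)

/-- A part. -/
noncomputable def els_13 : Arr (List ℕ) :=
  (.node [35,38,34,34,36,38,41,35,39,40,39,40,39] els_9 els_12)

/-- A part. -/
noncomputable def els_14 : Arr (List ℕ) :=
  (.node [] els_6 els_13)

/-- The array. -/
noncomputable def els : Arr (List ℕ) := els_14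

/-- The number of listed elements. -/
def numEls : ℕ := 1092

/-- A part. -/
noncomputable def wits_0 : Arr (List ℕ) :=
  (.node [] (.node [] (.node [] (.node [] (.node [] (.node [] (.node [] (.node [] (.node [] .nil .nil) .nil) (.node [] .nil .nil)) (.node [] (.node [] .nil .nil) (.node [] .nil .nil))) (.node [] (.node [] (.node [] (.node [] .nil .nil) .nil) (.node [] .nil .nil)) (.node [] (.node [] .nil .nil) (.node [] .nil .nil)))) (.node [] (.node [] (.node [] (.node [] (.node [] .nil .nil) .nil) (.node [] .nil .nil)) (.node [] (.node [] .nil .nil) (.node [] .nil .nil))) (.node [] (.node [] (.node [] .nil .nil) (.node [] .nil .nil)) (.node [] (.node [] .nil .nil) (.node [] .nil .nil))))) (.node [] (.node [] (.node [] (.node [] (.node [] (.node [] .nil .nil) .nil) (.node [] .nil .nil)) (.node [] (.node [] .nil .nil) (.node [] .nil .nil))) (.node [] (.node [] (.node [] .nil .nil) (.node [] .nil .nil)) (.node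 [] (.node [] .nil .nil) (.node [] .nil .nil)))) (.node [] (.node [] (.node [] (.node [] (.node [] .nil .nil) .nil) (.node [] .nil .nil)) (.node [] (.node [] .nil .nil) (.node [] .nil .nil))) (.node [] (.node [] (.node [] .nil .nil) (.node [] .nil .nil)) (.node [] (.node [] .nil .nil) (.node [] .nil .nil)))))) (.node [] (.node [] (.node [] (.node [] (.node [] (.node [] (.node [] .nil .nil) .nil) (.node [] .nil .nil)) (.node [] (.node [] .nil .nil) (.node [] .nil .nil))) (.node [] (.node [] (.node [] .nil .nil) (.node [] .nil .nil)) (.node [] (.node [] .nil .nil) (.node [] .nil .nil)))) (.node [] (.node [] (.node [] (.node [] (.node [] .nil .nil) .nil) (.node [] .nil .nil)) (.node [] (.node [] .nil .nil) (.node [] .nil .nil))) (.node [10,5,6,12,5,17,5,19,3,14,9,14] (.node [] (.node [] .nil .nil) (.node [] .nil .nil)) (.node [] (.node [] .nil .nil) (.node [] .nil .nil))))) (.node [] (.node [] (.node [] (.node [] (.node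 [] (.node [] .nil .nil) .nil) (.node [] .nil .nil)) (.node [] (.node [] .nil .nil) (.node [] .nil .nil))) (.node [] (.node [] (.node [] .nil .nil) (.node [] .nil .nil)) (.node [] (.node [] .nil .nil) (.node [] .nil .nil)))) (.node [] (.node [] (.node [] (.node [] (.node [] .nil .nil) .nil) (.node [] .nil .nil)) (.node [] (.node [] .nil .nil) (.node [] .nil .nil))) (.node [] (.node [] (.node [] .nil .nil) (.node [] .nil .nil)) (.node [] (.node [] .nil .nil) (.node [] .nil .nil))))))) (.node [] (.node [] (.node [] (.node [] (.node [] (.node [] (.node [] (.node [] .nil .nil) .nil) (.node [] .nil .nil)) (.node [] (.node [] .nil .nil) (.node [] .nil .nil))) (.node [] (.node [] (.node [] (.node [] .nil .nil) .nil) (.node [] .nil .nil)) (.node [] (.node [] .nil .nil) (.node [] .nil .nil)))) (.node [] (.node [] (.node [] (.node [11,5,6,12,5,17,5,19,3,14,9,14] (.node [] .nil .nil) .nil) (.node [] .nil .nil)) (.node [] (.node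 [] .nil .nil) (.node [] .nil .nil))) (.node [] (.node [] (.node [] .nil .nil) (.node [] .nil .nil)) (.node [] (.node [] .nil .nil) (.node [] .nil .nil))))) (.node [] (.node [] (.node [] (.node [] (.node [] (.node [] .nil .nil) .nil) (.node [] .nil .nil)) (.node [] (.node [] .nil .nil) (.node [] .nil .nil))) (.node [] (.node [] (.node [] .nil .nil) (.node [] .nil .nil)) (.node [] (.node [] .nil .nil) (.node [] .nil .nil)))) (.node [] (.node [] (.node [] (.node [] (.node [] .nil .nil) .nil) (.node [11,5,6,27,10,27,3,14,9,14] .nil .nil)) (.node [] (.node [] .nil .nil) (.node [] .nil .nil))) (.node [] (.node [] (.node [] .nil .nil) (.node [] .nil .nil)) (.node [] (.node [] .nil .nil) (.node [] .nil .nil)))))) (.node [] (.node [] (.node [] (.node [] (.node [] (.node [] (.node [] .nil .nil) .nil) (.node [] .nil .nil)) (.node [] (.node [] .nil .nil) (.node [] .nil .nil))) (.node [] (.node [] (.node [] .nil .nil) (.node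 [] .nil .nil)) (.node [] (.node [] .nil .nil) (.node [] .nil .nil)))) (.node [] (.node [] (.node [] (.node [] (.node [] .nil .nil) .nil) (.node [] .nil .nil)) (.node [] (.node [] .nil .nil) (.node [] .nil .nil))) (.node [] (.node [] (.node [] .nil .nil) (.node [] .nil .nil)) (.node [] (.node [] .nil .nil) (.node [] .nil .nil))))) (.node [] (.node [] (.node [] (.node [] (.node [] (.node [] .nil .nil) .nil) (.node [] .nil .nil)) (.node [] (.node [] .nil .nil) (.node [] .nil .nil))) (.node [] (.node [] (.node [] .nil .nil) (.node [] .nil .nil)) (.node [] (.node [] .nil .nil) (.node [] .nil .nil)))) (.node [] (.node [] (.node [] (.node [] (.node [] .nil .nil) .nil) (.node [] .nil .nil)) (.node [] (.node [] .nil .nil) (.node [] .nil .nil))) (.node [] (.node [] (.node [] .nil .nil) (.node [] .nil .nil)) (.node [] (.node [] .nil .nil) (.node [] .nil .nil))))))))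

/-- A part. -/
noncomputable def wits_1 : Arr (List ℕ) :=
  (.node [] (.node [] (.node [] (.node [] (.node [] (.node [] (.node [] (.node [] (.node [] .nil .nil) .nil) (.node [] .nil .nil)) (.node [] (.node [] .nil .nil) (.node [] .nil .nil))) (.node [] (.node [] (.node [] (.node [] .nil .nil) .nil) (.node [] .nil .nil)) (.node [] (.node [] .nil .nil) (.node [] .nil .nil)))) (.node [] (.node [] (.node [] (.node [] (.node [] .nil .nil) .nil) (.node [] .nil .nil)) (.node [] (.node [] .nil .nil) (.node [] .nil .nil))) (.node [] (.node [] (.node [] .nil .nil) (.node [] .nil .nil)) (.node [] (.node [] .nil .nil) (.node [] .nil .nil))))) (.node [] (.node [] (.node [] (.node [] (.node [] (.node [] .nil .nil) .nil) (.node [] .nil .nil)) (.node [] (.node [] .nil .nil) (.node [] .nil .nil))) (.node [] (.node [] (.node [] .nil .nil) (.node [] .nil .nil)) (.node [] (.node [] .nil .nil) (.node [] .nil .nil)))) (.node [] (.node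 [] (.node [] (.node [] (.node [] .nil .nil) .nil) (.node [] .nil .nil)) (.node [] (.node [] .nil .nil) (.node [] .nil .nil))) (.node [] (.node [] (.node [] .nil .nil) (.node [] .nil .nil)) (.node [] (.node [] .nil .nil) (.node [] .nil .nil)))))) (.node [] (.node [] (.node [] (.node [] (.node [] (.node [] (.node [] .nil .nil) .nil) (.node [] .nil .nil)) (.node [] (.node [] .nil .nil) (.node [] .nil .nil))) (.node [] (.node [] (.node [] .nil .nil) (.node [] .nil .nil)) (.node [] (.node [] .nil .nil) (.node [] .nil .nil)))) (.node [] (.node [] (.node [] (.node [] (.node [] .nil .nil) .nil) (.node [] .nil .nil)) (.node [] (.node [] .nil .nil) (.node [] .nil .nil))) (.node [] (.node [] (.node [] .nil .nil) (.node [] .nil .nil)) (.node [] (.node [] .nil .nil) (.node [] .nil .nil))))) (.node [] (.node [] (.node [] (.node [] (.node [] (.node [] .nil .nil) .nil) (.node [] .nil .nil)) (.node [] (.node [] .nil .nil) (.node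 [] .nil .nil))) (.node [] (.node [] (.node [] .nil .nil) (.node [] .nil .nil)) (.node [] (.node [] .nil .nil) (.node [] .nil .nil)))) (.node [] (.node [] (.node [] (.node [] (.node [] .nil .nil) .nil) (.node [] .nil .nil)) (.node [] (.node [] .nil .nil) (.node [] .nil .nil))) (.node [] (.node [] (.node [] .nil .nil) (.node [] .nil .nil)) (.node [] (.node [] .nil .nil) (.node [] .nil .nil))))))) (.node [] (.node [] (.node [] (.node [] (.node [] (.node [] (.node [] (.node [] .nil .nil) .nil) (.node [] .nil .nil)) (.node [] (.node [] .nil .nil) (.node [] .nil .nil))) (.node [] (.node [] (.node [] .nil .nil) (.node [] .nil .nil)) (.node [] (.node [] .nil .nil) (.node [] .nil .nil)))) (.node [] (.node [] (.node [] (.node [] (.node [] .nil .nil) .nil) (.node [] .nil .nil)) (.node [] (.node [] .nil .nil) (.node [] .nil .nil))) (.node [] (.node [] (.node [] .nil .nil) (.node [] .nil .nil)) (.node [] (.node [] .nil .nil)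 (.node [] .nil .nil))))) (.node [] (.node [] (.node [] (.node [] (.node [] (.node [] .nil .nil) .nil) (.node [] .nil .nil)) (.node [] (.node [] .nil .nil) (.node [] .nil .nil))) (.node [4,11,7,16,5,19,8,13] (.node [] (.node [] .nil .nil) (.node [] .nil .nil)) (.node [] (.node [] .nil .nil) (.node [] .nil .nil)))) (.node [] (.node [] (.node [] (.node [] (.node [] .nil .nil) .nil) (.node [] .nil .nil)) (.node [] (.node [] .nil .nil) (.node [] .nil .nil))) (.node [] (.node [] (.node [] .nil .nil) (.node [] .nil .nil)) (.node [] (.node [] .nil .nil) (.node [] .nil .nil)))))) (.node [] (.node [] (.node [] (.node [] (.node [] (.node [] (.node [] .nil .nil) .nil) (.node [] .nil .nil)) (.node [] (.node [] .nil .nil) (.node [] .nil .nil))) (.node [] (.node [] (.node [] .nil .nil) (.node [] .nil .nil)) (.node [] (.node [] .nil .nil) (.node [] .nil .nil)))) (.node [] (.node [] (.node [] (.node [] (.node [] .nil .nil) .nil)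 (.node [] .nil .nil)) (.node [] (.node [] .nil .nil) (.node [] .nil .nil))) (.node [] (.node [] (.node [] .nil .nil) (.node [] .nil .nil)) (.node [] (.node [] .nil .nil) (.node [] .nil .nil))))) (.node [] (.node [] (.node [] (.node [] (.node [] (.node [] .nil .nil) .nil) (.node [] .nil .nil)) (.node [] (.node [] .nil .nil) (.node [] .nil .nil))) (.node [] (.node [] (.node [] .nil .nil) (.node [] .nil .nil)) (.node [] (.node [] .nil .nil) (.node [] .nil .nil)))) (.node [] (.node [] (.node [] (.node [] (.node [] .nil .nil) .nil) (.node [] .nil .nil)) (.node [] (.node [] .nil .nil) (.node [] .nil .nil))) (.node [] (.node [] (.node [] .nil .nil) (.node [] .nil .nil)) (.node [] (.node [] .nil .nil) (.node [] .nil .nil))))))))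

/-- A part. -/
noncomputable def wits_2 : Arr (List ℕ) :=
  (.node [] wits_0 wits_1)

/-- A part. -/
noncomputable def wits_3 : Arr (List ℕ) :=
  (.node [] (.node [] (.node [] (.node [] (.node [] (.node [] (.node [] (.node [] (.node [] .nil .nil) .nil) (.node [] .nil .nil)) (.node [] (.node [] .nil .nil) (.node [] .nil .nil))) (.node [] (.node [] (.node [] (.node [] .nil .nil) .nil) (.node [] .nil .nil)) (.node [] (.node [] .nil .nil) (.node [] .nil .nil)))) (.node [] (.node [] (.node [] (.node [] (.node [] .nil .nil) .nil) (.node [] .nil .nil)) (.node [] (.node [] .nil .nil) (.node [] .nil .nil))) (.node [] (.node [] (.node [] .nil .nil) (.node [] .nil .nil)) (.node [] (.node [] .nil .nil) (.node [] .nil .nil))))) (.node [] (.node [] (.node [] (.node [] (.node [] (.node [] .nil .nil) .nil) (.node [] .nil .nil)) (.node [] (.node [] .nil .nil) (.node [] .nil .nil))) (.node [] (.node [] (.node [] .nil .nil) (.node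 [] .nil .nil)) (.node [] (.node [] .nil .nil) (.node [] .nil .nil)))) (.node [] (.node [] (.node [] (.node [] (.node [] .nil .nil) .nil) (.node [] .nil .nil)) (.node [] (.node [] .nil .nil) (.node [] .nil .nil))) (.node [] (.node [] (.node [] .nil .nil) (.node [] .nil .nil)) (.node [] (.node [] .nil .nil) (.node [] .nil .nil)))))) (.node [] (.node [] (.node [] (.node [] (.node [] (.node [] (.node [] .nil .nil) .nil) (.node [] .nil .nil)) (.node [] (.node [] .nil .nil) (.node [] .nil .nil))) (.node [] (.node [] (.node [] .nil .nil) (.node [] .nil .nil)) (.node [] (.node [] .nil .nil) (.node [] .nil .nil)))) (.node [] (.node [] (.node [] (.node [] (.node [] .nil .nil) .nil) (.node [] .nil .nil)) (.node [] (.node [] .nil .nil) (.node [] .nil .nil))) (.node [] (.node [] (.node [] .nil .nil) (.node [] .nil .nil)) (.node [] (.node [] .nil .nil) (.node [] .nil .nil))))) (.node [] (.node [] (.node [] (.node [] (.node []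 (.node [] .nil .nil) .nil) (.node [] .nil .nil)) (.node [] (.node [] .nil .nil) (.node [] .nil .nil))) (.node [] (.node [] (.node [] .nil .nil) (.node [] .nil .nil)) (.node [3,10,25,7,17,10,24,9,14] (.node [] .nil .nil) (.node [] .nil .nil)))) (.node [] (.node [] (.node [] (.node [] (.node [] .nil .nil) .nil) (.node [] .nil .nil)) (.node [] (.node [] .nil .nil) (.node [] .nil .nil))) (.node [] (.node [] (.node [] .nil .nil) (.node [] .nil .nil)) (.node [8,7,22,9,19,10,24,9,14] (.node [] .nil .nil) (.node [] .nil .nil))))))) (.node [] (.node [] (.node [] (.node [] (.node [] (.node [] (.node [] (.node [] .nil .nil) .nil) (.node [] .nil .nil)) (.node [] (.node [] .nil .nil) (.node [] .nil .nil))) (.node [] (.node [] (.node [] .nil .nil) (.node [] .nil .nil)) (.node [] (.node [] .nil .nil) (.node [] .nil .nil)))) (.node [] (.node [] (.node [] (.node [] (.node [] .nil .nil) .nil) (.node [] .nil .nil)) (.node [] (.node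 [] .nil .nil) (.node [] .nil .nil))) (.node [] (.node [] (.node [] .nil .nil) (.node [] .nil .nil)) (.node [] (.node [] .nil .nil) (.node [] .nil .nil))))) (.node [] (.node [] (.node [] (.node [] (.node [] (.node [] .nil .nil) .nil) (.node [] .nil .nil)) (.node [] (.node [] .nil .nil) (.node [] .nil .nil))) (.node [] (.node [] (.node [] .nil .nil) (.node [] .nil .nil)) (.node [] (.node [] .nil .nil) (.node [] .nil .nil)))) (.node [] (.node [] (.node [] (.node [] (.node [] .nil .nil) .nil) (.node [5,11,7,16,5,19,8,13] .nil .nil)) (.node [] (.node [] .nil .nil) (.node [] .nil .nil))) (.node [] (.node [] (.node [] .nil .nil) (.node [] .nil .nil)) (.node [] (.node [] .nil .nil) (.node [] .nil .nil)))))) (.node [] (.node [] (.node [] (.node [] (.node [] (.node [] (.node [] .nil .nil) .nil) (.node [] .nil .nil)) (.node [] (.node [] .nil .nil) (.node [] .nil .nil))) (.node [] (.node [] (.node [] .nil .nil) (.node [] .nil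 .nil)) (.node [] (.node [] .nil .nil) (.node [] .nil .nil)))) (.node [] (.node [] (.node [] (.node [] (.node [] .nil .nil) .nil) (.node [] .nil .nil)) (.node [] (.node [] .nil .nil) (.node [] .nil .nil))) (.node [] (.node [] (.node [] .nil .nil) (.node [] .nil .nil)) (.node [] (.node [] .nil .nil) (.node [] .nil .nil))))) (.node [] (.node [] (.node [] (.node [] (.node [] (.node [] .nil .nil) .nil) (.node [] .nil .nil)) (.node [] (.node [] .nil .nil) (.node [] .nil .nil))) (.node [] (.node [] (.node [] .nil .nil) (.node [] .nil .nil)) (.node [] (.node [] .nil .nil) (.node [] .nil .nil)))) (.node [] (.node [] (.node [] (.node [] (.node [] .nil .nil) .nil) (.node [] .nil .nil)) (.node [] (.node [] .nil .nil) (.node [] .nil .nil))) (.node [] (.node [] (.node [] .nil .nil) (.node [] .nil .nil)) (.node [] (.node [] .nil .nil) (.node [] .nil .nil))))))))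

/-- A part. -/
noncomputable def wits_4 : Arr (List ℕ) :=
  (.node [] (.node [] (.node [] (.node [] (.node [] (.node [] (.node [] (.node [] (.node [] .nil .nil) .nil) (.node [] .nil .nil)) (.node [] (.node [] .nil .nil) (.node [] .nil .nil))) (.node [] (.node [] (.node [] (.node [] .nil .nil) .nil) (.node [] .nil .nil)) (.node [] (.node [] .nil .nil) (.node [] .nil .nil)))) (.node [] (.node [] (.node [] (.node [8,8,9,25,0,12,11,21,0,22] (.node [] .nil .nil) .nil) (.node [] .nil .nil)) (.node [] (.node [] .nil .nil) (.node [] .nil .nil))) (.node [] (.node [] (.node [] .nil .nil) (.node [] .nil .nil)) (.node [] (.node [] .nil .nil) (.node [] .nil .nil))))) (.node [] (.node [] (.node [] (.node [] (.node [] (.node [] .nil .nil) .nil) (.node [] .nil .nil)) (.node [] (.node [] .nil .nil) (.node [] .nil .nil))) (.node [] (.node [] (.node [] .nil .nil) (.node [] .nil .nil)) (.node [] (.node [] .nil .nil) (.node [] .nil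 .nil)))) (.node [] (.node [] (.node [] (.node [] (.node [] .nil .nil) .nil) (.node [] .nil .nil)) (.node [] (.node [] .nil .nil) (.node [] .nil .nil))) (.node [] (.node [] (.node [] .nil .nil) (.node [] .nil .nil)) (.node [] (.node [] .nil .nil) (.node [] .nil .nil)))))) (.node [] (.node [] (.node [] (.node [] (.node [] (.node [] (.node [] .nil .nil) .nil) (.node [] .nil .nil)) (.node [] (.node [] .nil .nil) (.node [] .nil .nil))) (.node [] (.node [] (.node [] .nil .nil) (.node [] .nil .nil)) (.node [] (.node [] .nil .nil) (.node [] .nil .nil)))) (.node [] (.node [] (.node [] (.node [] (.node [] .nil .nil) .nil) (.node [] .nil .nil)) (.node [] (.node [] .nil .nil) (.node [] .nil .nil))) (.node [] (.node [] (.node [] .nil .nil) (.node [] .nil .nil)) (.node [] (.node [] .nil .nil) (.node [] .nil .nil))))) (.node [] (.node [] (.node [] (.node [] (.node [] (.node [] .nil .nil) .nil) (.node [] .nil .nil)) (.node []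 (.node [] .nil .nil) (.node [] .nil .nil))) (.node [] (.node [] (.node [] .nil .nil) (.node [] .nil .nil)) (.node [] (.node [] .nil .nil) (.node [] .nil .nil)))) (.node [] (.node [] (.node [] (.node [] (.node [] .nil .nil) .nil) (.node [] .nil .nil)) (.node [] (.node [] .nil .nil) (.node [] .nil .nil))) (.node [] (.node [] (.node [] .nil .nil) (.node [] .nil .nil)) (.node [] (.node [] .nil .nil) (.node [] .nil .nil))))))) (.node [] (.node [] (.node [] (.node [] (.node [] (.node [] (.node [] (.node [] .nil .nil) .nil) (.node [] .nil .nil)) (.node [] (.node [] .nil .nil) (.node [] .nil .nil))) (.node [] (.node [] (.node [] .nil .nil) (.node [] .nil .nil)) (.node [] (.node [] .nil .nil) (.node [] .nil .nil)))) (.node [] (.node [] (.node [] (.node [] (.node [] .nil .nil) .nil) (.node [] .nil .nil)) (.node [] (.node [] .nil .nil) (.node [] .nil .nil))) (.node [] (.node [] (.node [] .nil .nil) (.node [] .nil .nil)) (.node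 [] (.node [] .nil .nil) (.node [] .nil .nil))))) (.node [] (.node [] (.node [] (.node [] (.node [] (.node [] .nil .nil) .nil) (.node [] .nil .nil)) (.node [] (.node [] .nil .nil) (.node [] .nil .nil))) (.node [] (.node [] (.node [] .nil .nil) (.node [] .nil .nil)) (.node [] (.node [] .nil .nil) (.node [] .nil .nil)))) (.node [] (.node [] (.node [] (.node [] (.node [] .nil .nil) .nil) (.node [] .nil .nil)) (.node [] (.node [] .nil .nil) (.node [] .nil .nil))) (.node [] (.node [] (.node [] .nil .nil) (.node [] .nil .nil)) (.node [] (.node [] .nil .nil) (.node [] .nil .nil)))))) (.node [] (.node [] (.node [] (.node [] (.node [] (.node [] (.node [] .nil .nil) .nil) (.node [] .nil .nil)) (.node [] (.node [] .nil .nil) (.node [] .nil .nil))) (.node [] (.node [] (.node [] .nil .nil) (.node [] .nil .nil)) (.node [] (.node [] .nil .nil) (.node [] .nil .nil)))) (.node [] (.node [] (.node [] (.node [] (.node [] .nil .nil)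 .nil) (.node [] .nil .nil)) (.node [] (.node [] .nil .nil) (.node [] .nil .nil))) (.node [] (.node [] (.node [] .nil .nil) (.node [] .nil .nil)) (.node [] (.node [] .nil .nil) (.node [] .nil .nil))))) (.node [] (.node [] (.node [] (.node [] (.node [] (.node [] .nil .nil) .nil) (.node [] .nil .nil)) (.node [] (.node [] .nil .nil) (.node [] .nil .nil))) (.node [] (.node [] (.node [] .nil .nil) (.node [] .nil .nil)) (.node [] (.node [] .nil .nil) (.node [] .nil .nil)))) (.node [] (.node [] (.node [] (.node [] (.node [] .nil .nil) .nil) (.node [] .nil .nil)) (.node [] (.node [] .nil .nil) (.node [] .nil .nil))) (.node [] (.node [] (.node [] .nil .nil) (.node [] .nil .nil)) (.node [] (.node [] .nil .nil) (.node [] .nil .nil))))))))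

/-- A part. -/
noncomputable def wits_5 : Arr (List ℕ) :=
  (.node [] wits_3 wits_4)

/-- A part. -/
noncomputable def wits_6 : Arr (List ℕ) :=
  (.node [] wits_2 wits_5)

/-- The array. -/
noncomputable def wits : Arr (List ℕ) := wits_6

end Cfsg.Agent.SuzOut.Data
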