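import Cfsg.Agent.SuzOut.Base
import Cfsg.Agent.SuzOut.Codes
import Cfsg.Agent.SuzOut.Cand
import Cfsg.Agent.OutTab.CentSift

/-!
Checks of the certificate.
-/

set_option autoImplicit false
set_option maxRecDepth 100000
set_option maxHeartbeats 0

namespace Cfsg.Agent.SuzOut

open Cfsg.Agent.Compute Cfsg.Agent.StemCert Cfsg.Agent.OutTab Cfsg.Agent.LeechModel

theorem cand0 : rangeB (fun j => candB 1782 11 Data.k Data.codes Data.ivs Data.mainLevels Data.mainBase Data.mainMasks Data.sLetter Data.es Data.fx Data.els Data.numEls Data.candTab j) 0 1782 = true := by decide +kernel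

theorem cand1 : rangeB (fun j => candB 1782 11 Data.k Data.codes Data.ivs Data.mainLevels Data.mainBase Data.mainMasks Data.sLetter Data.es Data.fx Data.els Data.numEls Data.candTab j) 1782 3564 = true := by decide +kernel

theorem cand2 : rangeB (fun j => candB 1782 11 Data.k Data.codes Data.ivs Data.mainLevels Data.mainBase Data.mainMasks Data.sLetter Data.es Data.fx Data.els Data.numEls Data.candTab j) 3564 5346 = true := by decide +kernel

theorem cand3 : rangeB (fun j => candB 1782 11 Data.k Data.codes Data.ivs Data.mainLevels Data.mainBase Data.mainMasks Data.sLetter Data.es Data.fx Data.els Data.numEls Data.candTab j) 5346 7128 = true := by decide +kernel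

/-- A listed element is the identity, or does not commute, or is no cube root, or is conjugate. -/
noncomputable def kindB (i : ℕ) : Bool :=
  forceL (Data.els.get [] i) fun u => forceL (Data.wits.get [] i) fun c =>
    eqOn 11 Data.codes Data.mainBase u [] ||
      !(eqOn 11 Data.codes Data.mainBase (u ++ [Data.sLetter]) (Data.sLetter :: u)) ||
        !(eqOn 11 Data.codes Data.mainBase (u ++ u ++ u) []) ||
          (allB (fun s => Nat.blt s Data.k) c &&
            eqOn 11 Data.codes Data.mainBase (u ++ c) (c ++ [1]))

theorem kinds_ok : allBelow Data.numEls kindB = true := by decide +kernel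

theorem els_letters : allBelow Data.numEls
    (fun j => allB (fun s => Nat.blt s Data.k) (Data.els.get [] j)) = true := by decide +kernel

theorem mask_ok : maskB 11 Data.codes Data.mainLevels Data.mainBase Data.mainMasks = true := by
  decide +kernel

theorem fix_ok : fixListB 1782 11 Data.codes Data.sLetter Data.fx = true := by decide +kernel

end Cfsg.Agent.SuzOut
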