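import Cfsg.Agent.SuzOut.Base
import Cfsg.Agent.SuzOut.Codes
import Cfsg.Agent.SuzOut.Table
import Cfsg.Agent.OutTab.WordTable

/-!
Checks of the certificate.
-/

set_option autoImplicit false
set_option maxRecDepth 100000
set_option maxHeartbeats 0

namespace Cfsg.Agent.SuzOut

open Cfsg.Agent.Compute Cfsg.Agent.StemCert Cfsg.Agent.OutTab Cfsg.Agent.LeechModel

theorem sorted0 : rangeB (fun j => Data.table.wsortAt 11 11 Data.codes Data.kpts Data.ivs Data.xp [1] j) 0 1040 = true := by decide +kernel

theorem sorted1 : rangeB (fun j => Data.table.wsortAt 11 11 Data.codes Data.kpts Data.ivs Data.xp [1] j) 1040 2080 = true := by decide +kernel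

theorem sorted2 : rangeB (fun j => Data.table.wsortAt 11 11 Data.codes Data.kpts Data.ivs Data.xp [1] j) 2080 3120 = true := by decide +kernel

theorem sorted3 : rangeB (fun j => Data.table.wsortAt 11 11 Data.codes Data.kpts Data.ivs Data.xp [1] j) 3120 4160 = true := by decide +kernel

theorem refute0 : rangeB (fun j => Data.table.wrefuteAt 1782 11 Data.codes Data.ivs Data.xp [1] Data.conds Data.jT j) 0 1040 = true := by decide +kernel

theorem refute1 : rangeB (fun j => Data.table.wrefuteAt 1782 11 Data.codes Data.ivs Data.xp [1] Data.conds Data.jT j) 1040 2080 = true := by decide +kernel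

theorem refute2 : rangeB (fun j => Data.table.wrefuteAt 1782 11 Data.codes Data.ivs Data.xp [1] Data.conds Data.jT j) 2080 3120 = true := by decide +kernel

theorem refute3 : rangeB (fun j => Data.table.wrefuteAt 1782 11 Data.codes Data.ivs Data.xp [1] Data.conds Data.jT j) 3120 4160 = true := by decide +kernel

end Cfsg.Agent.SuzOut
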