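import Cfsg.Agent.SuzOut.Model
import Cfsg.Agent.SuzOut.CheckLeastA
import Cfsg.Agent.SuzOut.CheckLeastB
import Cfsg.Agent.SuzOut.CheckSort
import Cfsg.Agent.SuzOut.CheckCand

/-!
The outer automorphism group has order two.
-/

set_option autoImplicit false
set_option maxRecDepth 100000
set_option maxHeartbeats 0

namespace Cfsg.Agent.SuzOut

open Cfsg Cfsg.Agent.Compute Cfsg.Agent.StemCert Cfsg.Agent.LeechModel
open Cfsg.Agent.OutTab (Tab WordBase condVal of_ranges)

theorem least_all : ∀ j < Data.table.size,
    Data.table.wminAt 11 11 Data.k Data.codes Data.kpts Data.ivs Data.xp [1] j = true := by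
  refine of_ranges (len := 520) (cnt := 8) (by decide +kernel) fun c hc => ?_
  interval_cases c
  exacts [least0, least1, least2, least3, least4, least5, least6, least7]

theorem sorted_all : ∀ j < Data.table.size,
    Data.table.wsortAt 11 11 Data.codes Data.kpts Data.ivs Data.xp [1] j = true := by
  refine of_ranges (len := 1040) (cnt := 4) (by decide +kernel) fun c hc => ?_
  interval_cases c
  exacts [sorted0, sorted1, sorted2, sorted3]

theorem refute_all : ∀ j < Data.table.size,
    Data.table.wrefuteAt 1782 11 Data.codes Data.ivs Data.xp [1] Data.conds Data.jT j = true := by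
  refine of_ranges (len := 1040) (cnt := 4) (by decide +kernel) fun c hc => ?_
  interval_cases c
  exacts [refute0, refute1, refute2, refute3]

theorem small_ok : OutTab.ivB 11 Data.k Data.codes Data.mainBase Data.ivs = true ∧
    OutTab.xpB 11 11 Data.k Data.codes Data.mainBase Data.xp = true ∧ 1 < Data.k ∧
    eqOn 11 Data.codes Data.mainBase (List.replicate 11 0) [] = true ∧
    eqOn 11 Data.codes Data.mainBase [0] [] = false ∧
    eqOn 11 Data.codes Data.mainBase [1, 1, 1] [] = true ∧
    eqOn 11 Data.codes Data.mainBase [1] [] = false ∧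
    eqOn 11 Data.codes Data.mainBase [Data.hLetter, 0] [0, 0, Data.hLetter] = true ∧
    Data.hLetter < Data.k ∧ Data.sLetter < Data.k ∧
    eqOn 11 Data.codes Data.mainBase (List.replicate 7 Data.sLetter) [] = true ∧
    eqOn 11 Data.codes Data.mainBase [Data.sLetter] [] = false ∧
    Data.table.size = 4160 ∧ (∀ p ∈ Data.kpts, p < 1782) ∧
    commB 11 Data.k Data.codes Data.mainBase [1] Data.centWs = true ∧
    (∀ c ∈ Data.conds, ∀ a ∈ c.1, a < 11) ∧
    allB (fun c => eqOn 11 Data.codes Data.mainBase (OutTab.expW Data.xp [1] c) []) Data.conds = true ∧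
    Data.jT < Data.table.size ∧
    allBelow 1782 (fun p => Nat.beq (getField 11 Data.sigma (getField 11 (Data.codes.getD 0 0) p))
      (getField 11 (Data.codes.getD 0 0) (getField 11 Data.sigma p))) = true ∧
    allBelow 1782 (fun p => Nat.beq (getField 11 Data.sigma (getField 11 (Data.codes.getD 1 0) p))
      (appW 11 Data.codes (Data.table.wrep Data.ivs [1] Data.jT) (getField 11 Data.sigma p))) = true ∧
    eqOn 11 Data.codes Data.mainBase (Data.table.wrep Data.ivs [1] 0) [1] = true := by
  refine ⟨?_, ?_, ?_, ?_, ?_, ?_, ?_, ?_, ?_, ?_, ?_, ?_, ?_, ?_, ?_, ?_, ?_, ?_, ?_, ?_, ?_⟩ <;>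
    decide +kernel

theorem gen_ne_one {s : ℕ} (hs : s < Data.k)
    (h : eqOn 11 Data.codes Data.mainBase [s] [] = false) : gen s ≠ 1 := fun e => by
  rw [OutTab.eqOn_of_eq coded base_isBase.1 (a := [s]) (b := [])
    (fun a ha => (List.mem_singleton.mp ha) ▸ hs) (by simp)
    (by rw [show evalW gen [s] = gen s by simp [evalW], e]; rfl)] at h
  exact Bool.noConfusion h

theorem order_prime {s p : ℕ} (hp : p.Prime) (hs : s < Data.k)
    (h1 : eqOn 11 Data.codes Data.mainBase (List.replicate p s) [] = true)
    (h2 : eqOn 11 Data.codes Data.mainBase [s] [] = false) : orderOf (gen s) = p := by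
  have := Fact.mk hp
  refine orderOf_eq_prime ?_ (gen_ne_one hs h2)
  have := eq_of_eqOn coded base_isBase (a := List.replicate p s) (b := [])
    (fun a ha => (List.eq_of_mem_replicate ha) ▸ hs) (by simp) h1
  rwa [evalW_replicate] at this

theorem k_zero : 0 < Data.k := Nat.zero_lt_of_lt small_ok.2.2.1

theorem orderX : orderOf (gen 0) = 11 :=
  order_prime (by norm_num) k_zero small_ok.2.2.2.1 small_ok.2.2.2.2.1

theorem orderT : orderOf (gen 1) = 3 :=
  order_prime (by norm_num) small_ok.2.2.1 small_ok.2.2.2.2.2.1 small_ok.2.2.2.2.2.2.1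

theorem orderS : orderOf (gen Data.sLetter) = 7 := by
  obtain ⟨-, -, -, -, -, -, -, -, -, hs, h7, hne, -⟩ := small_ok
  exact order_prime (by norm_num) hs h7 hne

theorem wordBase : WordBase 11 11 Data.k ι gen Data.codes Data.mainBase Data.ivs Data.xp where
  coded := coded
  base := base_isBase
  inv := small_ok.1
  pow := small_ok.2.1
  kpos := k_zero
  qpos := by norm_num
  order := by rw [← orderX]; exact pow_orderOf_eq_one _

theorem tw_lt : ∀ s ∈ ([1] : List ℕ), s < Data.k := by
  intro s hs
  rw [List.mem_singleton.mp hs]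
  exact small_ok.2.2.1

theorem tInv_eq : evalW gen [1] = gen 1 := by simp [evalW]

theorem class_and_card :
    (∀ g, IsConj (gen 1) g → ∃ j < Data.table.size, ∃ m < 11,
      g = gen 0 ^ m * evalW gen (Data.table.wrep Data.ivs [1] j) * (gen 0 ^ m)⁻¹) ∧
      Nat.card (Subgroup.centralizer ({gen 1} : Set Spor.Suz)) = 9797760 := by
  haveI := finite_suz
  obtain ⟨-, -, -, -, -, -, -, -, -, -, -, -, hsize, hkp, hcomm, -⟩ := small_ok
  rw [← tInv_eq]
  refine Tab.wclass_eq wordBase hkp tw_lt least_all sorted_all ?_ (by rw [card_suz, hsize])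
  rw [← cent_wf.2.2.1]
  exact le_card_centralizer coded base_isBase hcomm rfl cent_words cent_wf.1 cent_wf.2.1
    cent_wf.2.2.2 cent_distinct

theorem cent_checks : OutTab.CentChecks 1782 11 Data.k Data.codes Data.ivs Data.mainBase
    Data.mainLevels Data.mainMasks Data.sLetter Data.b0 Data.b1 Data.es Data.fx Data.els
    Data.numEls Data.candTab where
  slk := small_ok.2.2.2.2.2.2.2.2.2.1
  pts_eq := by decide +kernel
  ptlt := by refine ⟨?_, ?_⟩ <;> decide +kernel
  fixed := by decide +kernel
  fix := fix_ok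
  mask := mask_ok
  cand := by
    rw [show Data.fx.length * 1782 = 7128 by decide +kernel]
    refine of_ranges (len := 1782) (cnt := 4) (by norm_num) fun c hc => ?_
    interval_cases c
    exacts [cand0, cand1, cand2, cand3]
  letters := els_letters

/-- An element of order three centralising the element of order seven is in the class. -/
theorem isConj_of_comm {g : Spor.Suz} (hg : orderOf g = 3)
    (hc : g * gen Data.sLetter = gen Data.sLetter * g) : IsConj (gen 1) g := by
  haveI := finite_suz
  obtain ⟨i, hi, rfl⟩ := OutTab.centraliser_cases cent_checks coded base_isBase small_ok.1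
    main_wf.1 main_wf.2.1 main_distinct (main_wf.2.2.1.trans card_suz.symm) hc
  set u := Data.els.get [] i
  have hu : ∀ s ∈ u, s < Data.k := fun s hs =>
    Nat.blt_eq.mp (allB_spec (allBelow_eq_true.mp els_letters i hi) s hs)
  have hs' := small_ok.2.2.2.2.2.2.2.2.2.1
  have hk := allBelow_eq_true.mp kinds_ok i hi
  simp only [kindB, forceL_eq, Bool.or_eq_true, Bool.not_eq_true', Bool.and_eq_true] at hk
  rcases hk with ((hk | hk) | hk) | ⟨hcl, hk⟩
  · exfalso
    rw [eq_of_eqOn coded base_isBase hu (by simp) hk, show evalW gen [] = 1 from rfl, orderOf_one] at hg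
    norm_num at hg
  · exfalso
    rw [OutTab.eqOn_of_eq coded base_isBase.1
      (fun s hs => (List.mem_append.mp hs).elim (hu s) fun h => (List.mem_singleton.mp h) ▸ hs')
      (fun s hs => (List.mem_cons.mp hs).elim (fun h => h ▸ hs') (hu s))
      (by rw [evalW_append, show evalW gen [Data.sLetter] = gen Data.sLetter by simp [evalW],
        evalW_cons]; exact hc)] at hk
    exact Bool.noConfusion hk
  · exfalso
    rw [OutTab.eqOn_of_eq coded base_isBase.1
      (fun s hs => (List.mem_append.mp hs).elim
        (fun h => (List.mem_append.mp h).elim (hu s) (hu s)) (hu s))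
      (by simp) (by
        rw [evalW_append, evalW_append, show evalW gen [] = 1 from rfl, ← pow_three', ← hg,
          pow_orderOf_eq_one])] at hk
    exact Bool.noConfusion hk
  · set c := Data.wits.get [] i
    have hcl' : ∀ s ∈ c, s < Data.k := fun s hs => Nat.blt_eq.mp (allB_spec hcl s hs)
    have e := eq_of_eqOn coded base_isBase (a := u ++ c) (b := c ++ [1])
      (fun s hs => (List.mem_append.mp hs).elim (hu s) (hcl' s))
      (fun s hs => (List.mem_append.mp hs).elim (hcl' s) (tw_lt s)) hk
    rw [evalW_append, evalW_append, tInv_eq] at e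
    exact isConj_iff.mpr ⟨evalW gen c, by rw [← e, mul_inv_cancel_right]⟩

theorem card_centralizer_map {G : Type*} [Group G] (φ : MulAut G) (a : G) :
    Nat.card (Subgroup.centralizer ({φ a} : Set G)) = Nat.card (Subgroup.centralizer ({a} : Set G)) :=
  (Nat.card_congr (φ.toEquiv.subtypeEquiv fun g => by
    rw [Subgroup.mem_centralizer_singleton_iff, Subgroup.mem_centralizer_singleton_iff]
    show g * a = a * g ↔ φ g * φ a = φ a * φ g
    rw [← map_mul, ← map_mul, φ.injective.eq_iff])).symm

/-- The class of the element of order three is stable under automorphisms. -/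
theorem same_class (φ : MulAut Spor.Suz) : IsConj (gen 1) (φ (gen 1)) := by
  haveI := finite_suz
  have := Fact.mk (show Nat.Prime 7 by norm_num)
  set y := φ (gen 1)
  have hy : orderOf y = 3 := (MulEquiv.orderOf_eq φ _).trans orderT
  obtain ⟨⟨z, hzm⟩, hz⟩ := exists_prime_orderOf_dvd_card' (G := Subgroup.centralizer ({y} : Set Spor.Suz)) 7
    (by rw [card_centralizer_map, class_and_card.2]; norm_num)
  rw [← Subgroup.orderOf_coe] at hz
  change orderOf z = 7 at hz
  have hs : ∀ a : Spor.Suz, orderOf a = 7 →
      ∃ P : Sylow 7 Spor.Suz, (P : Subgroup Spor.Suz) = Subgroup.zpowers a := by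
    intro a ha
    refine ⟨Sylow.ofCard (Subgroup.zpowers a) ?_, rfl⟩
    rw [Nat.card_zpowers, ha, card_suz, show (448345497600 : ℕ) = 7 ^ 1 * 64049356800 by norm_num,
      Nat.factorization_mul (by norm_num) (by norm_num), Finsupp.add_apply,
      Nat.Prime.factorization_pow (by norm_num), Finsupp.single_eq_same,
      Nat.factorization_eq_zero_of_not_dvd (by norm_num)]
    norm_num
  obtain ⟨P, hP⟩ := hs _ orderS
  obtain ⟨R, hR⟩ := hs z hz
  obtain ⟨c, hc⟩ := MulAction.exists_smul_eq Spor.Suz R P
  have hle : Subgroup.zpowers z ≤ Subgroup.centralizer ({y} : Set Spor.Suz) :=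
    Subgroup.zpowers_le.mpr hzm
  have hmem : gen Data.sLetter ∈ (P : Subgroup Spor.Suz) := hP ▸ Subgroup.mem_zpowers _
  rw [← hc, Sylow.coe_subgroup_smul, Subgroup.mem_pointwise_smul_iff_inv_smul_mem, hR] at hmem
  have h1 := Subgroup.mem_centralizer_singleton_iff.mp (hle hmem)
  change (MulAut.conj c)⁻¹ (gen Data.sLetter) * y = y * (MulAut.conj c)⁻¹ (gen Data.sLetter) at h1
  rw [MulAut.conj_inv_apply] at h1
  refine (isConj_of_comm (g := c * y * c⁻¹)
    ((orderOf_injective (MulAut.conj c).toMonoidHom (MulAut.conj c).injective y).trans hy) ?_).trans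
    (isConj_iff.mpr ⟨c, rfl⟩).symm
  calc c * y * c⁻¹ * gen Data.sLetter = c * (y * (c⁻¹ * gen Data.sLetter * c)) * c⁻¹ := by group
    _ = c * (c⁻¹ * gen Data.sLetter * c * y) * c⁻¹ := by rw [h1]
    _ = _ := by group

theorem card_out : Nat.card (Cfsg.Out Spor.Suz) = 2 := by
  haveI := finite_suz
  obtain ⟨-, -, hk1, -, -, -, -, hnorm, hh, -, -, -, -, hkp, -, hck, hcv, hjT, htx, htt, hrep0⟩ :=
    small_ok
  have hk0 := k_zero
  obtain ⟨hperm, hnm⟩ := twist_ok
  obtain ⟨σ, τ, hσ, hτσ⟩ := OutTab.exists_twist coded ι_injective hk1 generates hperm hnm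
  have hlet : ∀ j < Data.table.size, ∀ s ∈ Data.table.wrep Data.ivs [1] j, s < Data.k := fun j hj => by
    have h := least_all j hj
    simp only [Tab.wminAt, Bool.and_eq_true] at h
    exact (wordBase.wrep_spec tw_lt h.1).1
  have hτx : τ (gen 0) = gen 0 := by
    refine ι_injective (mul_right_cancel (b := σ) ((hτσ _).trans (Equiv.ext fun p => Fin.ext ?_)))
    rw [Equiv.Perm.mul_apply, Equiv.Perm.mul_apply, coded 0 hk0, hσ p, hσ, coded 0 hk0 p]
    exact Nat.eq_of_beq_eq_true (allBelow_eq_true.mp htx p p.2)
  have hτt : τ (gen 1) = evalW gen (Data.table.wrep Data.ivs [1] Data.jT) := by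
    refine ι_injective (mul_right_cancel (b := σ) ((hτσ _).trans (Equiv.ext fun p => Fin.ext ?_)))
    rw [Equiv.Perm.mul_apply, Equiv.Perm.mul_apply, appW_spec coded _ (hlet _ hjT), hσ p, hσ,
      coded 1 hk1 p]
    exact Nat.eq_of_beq_eq_true (allBelow_eq_true.mp htt p p.2)
  have hr0 : evalW gen (Data.table.wrep Data.ivs [1] 0) = gen 1 :=
    (eq_of_eqOn coded base_isBase (hlet 0 (Nat.zero_lt_of_lt hjT)) tw_lt hrep0).trans tInv_eq
  have hconds : ∀ c ∈ Data.conds, condVal (gen 0) (gen 1) c = 1 := by
    intro c hc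
    obtain ⟨hl, he⟩ := wordBase.expW_spec tw_lt (hck c hc)
    rw [← tInv_eq, ← he]
    exact eq_of_eqOn coded base_isBase (b := []) hl (by simp) (allB_spec hcv c hc)
  have hhx : gen Data.hLetter * gen 0 * (gen Data.hLetter)⁻¹ = gen 0 ^ 2 := by
    have e := eq_of_eqOn coded base_isBase (a := [Data.hLetter, 0]) (b := [0, 0, Data.hLetter])
      (by simp only [List.mem_cons, List.not_mem_nil, or_false]; rintro _ (rfl | rfl) <;> assumption)
      (by simp only [List.mem_cons, List.not_mem_nil, or_false]
          rintro _ (rfl | rfl | rfl) <;> assumption) hnorm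
    simp only [evalW, List.map_cons, List.map_nil, List.prod_cons, List.prod_nil, mul_one] at e
    rw [mul_inv_eq_iff_eq_mul, e, sq, mul_assoc]
  refine OutTab.card_out_eq_two (τ := τ) (t := gen 1)
    (eq_top_iff.mpr fun z _ => ?_) (OutTab.exists_conj_to_self (by norm_num) orderX
      (by rw [card_suz]; norm_num) hhx (by decide +kernel)) orderX hτx ?_ ?_
  · refine (Submonoid.closure_le (S := (Subgroup.closure ({gen 0, gen 1} : Set Spor.Suz)).toSubmonoid)).mpr
      ?_ (generates z)
    rintro _ ⟨s, hs, rfl⟩
    have hs2 : s < 2 := hs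
    interval_cases s <;> exact Subgroup.subset_closure (by simp)
  · intro φ hφ
    obtain ⟨j, hj, m, -, hm⟩ := class_and_card.1 _ (same_class φ)
    rcases Tab.wsolutions wordBase hck hconds tw_lt least_all refute_all φ hφ hj hm with rfl | rfl
    · exact ⟨m, 1, Or.inl rfl, by rw [hm, hr0]; rfl⟩
    · exact ⟨m, τ, Or.inr rfl, by rw [hm, hτt]⟩
  · intro g hgτ
    have hw0 : ∀ a : Spor.Suz, ι (g * a * g⁻¹) * σ = σ * ι a := fun a => by
      have := hτσ a
      rwa [← hgτ] at this
    have hcomm : ∀ a : Spor.Suz, ((ι g)⁻¹ * σ) * ι a = ι a * ((ι g)⁻¹ * σ) := by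
      intro a
      rw [mul_assoc, ← hw0 a, map_mul, map_mul, map_inv]
      group
    obtain ⟨-, -, hword, -, -⟩ := wfB_cons main_wf.1
    have h1 := commutant_trivial coded (b := Data.mainBase.getD 0 0) (L := Data.mainLv0)
      (rest := Data.mainLv1.gens) (fun s hs => gens_lt main_wf.2.1 (L := Data.mainLv1)
        (by simp [Data.mainLevels]) hs)
      (fun j hj s hs => gens_lt main_wf.2.1 (L := Data.mainLv0) (by simp [Data.mainLevels]) (hword j hj s hs))
      (fun i j hi hj e => by
        have hd := main_distinct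
        have hd' : (fixBelow 11 Data.codes [Data.mainLv1, Data.mainLv2, Data.mainLv3]
            (Data.mainBase.getD 0 0) &&
          allBelow Data.mainLv0.size (fun j => allBelow j (fun j' =>
            !Nat.beq (appW 11 Data.codes (Data.mainLv0.word j) (Data.mainBase.getD 0 0))
              (appW 11 Data.codes (Data.mainLv0.word j') (Data.mainBase.getD 0 0)))) &&
          distinctB 11 Data.codes [Data.mainLv1, Data.mainLv2, Data.mainLv3] Data.mainBase.tail) = true := hd
        simp only [Bool.and_eq_true] at hd'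
        rcases Nat.lt_trichotomy i j with h | h | h
        · have := allBelow_eq_true.mp (allBelow_eq_true.mp hd'.1.2 j hj) i h
          rw [e] at this
          simp at this
        · exact h
        · have := allBelow_eq_true.mp (allBelow_eq_true.mp hd'.1.2 i hi) j h
          rw [e] at this
          simp at this) commutant_ok hcomm
    have hσg : ι g = σ := inv_mul_eq_one.mp h1
    let f : forms Data.mainLevels → Spor.Suz := fun y => nf gen Lv.word Data.mainLevels y.1
    have hbij : Function.Bijective f := (Nat.bijective_iff_injective_and_card f).mpr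
      ⟨fun u v e => Subtype.ext (nf_injective_of_check coded main_wf.1 main_wf.2.1 main_wf.2.2.2
        main_distinct _ _ (valid_of_mem_forms u.2) (valid_of_mem_forms v.2) e),
        by simp [card_forms, main_wf.2.2.1, card_suz]⟩
    obtain ⟨y, hy⟩ := hbij.2 g
    refine siftB_ne coded hσ main_wf.1 main_wf.2.1 main_wf.2.2.2 main_distinct (by simp) sift_ok y.1
      (valid_of_mem_forms y.2) ?_
    rw [show evalW gen [] = 1 from rfl, one_mul, show nf gen Lv.word Data.mainLevels y.1 = g from hy,
      hσg]

end Cfsg.Agent.SuzOut
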