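import Cfsg.Agent.StemCert.Defs

/-! Data of the certificate. -/

set_option autoImplicit false
set_option maxRecDepth 100000
set_option maxHeartbeats 0
set_option linter.all false

namespace Cfsg.Agent.SuzOut.Data

open Cfsg.Agent.StemCert

/-- The number of generators. -/
def k : ℕ := 75

/-- The two generators. -/
def pairWords : List (List ℕ) := [[1,6,4,3,5,2],
  [1,6,4,3,5,2,1,6,4,3,5,2,1,6,4,3,5,2,1,6,4,3,5,2,1,6,4,3,5,2,1,6,4,3,5,2,1,6,4,3,5,2,1,6,4,3,5,2,1,6,3,4,6,1,1,6,4,3,5,2,1,6,4,3,5,2,1,6,4,3,5,2]]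

/-- The programs. -/
def progs : List (List ℕ) := [[],[],[],
  [0,0],[3,0],[4,0],
  [5,0],[6,0],[7,0],
  [8,0],[9,0],[10,0],
  [1,1],[1,0],[1,3],
  [1,4],[1,5],[1,6],
  [1,7],[1,8],[1,9],
  [1,10],[1,11],[12,0],
  [12,3],[12,4],[12,5],
  [12,6],[12,7],[12,8],
  [12,9],[12,10],[12,11],
  [11,12,11,12,12,11,11,12,11,12,11,12,12,6,12,5,1,10,12,4,1,8,1,9,1,11,1,9],[33,33,33,33,33,33,33,33,33],[34,34,11,34,12,11,12,33,1,10,12,10,1,8,12,10,1,7,1,3,12,8,1,10,12,9],
  [35,35,35,35,35,35,35,35,35,35,35,35,35,35],[34,34,36,34,35,35,11,12,35,33,12,35,12,3,1,7,1,3,1,8,12,0,12,8],[37,37,37,37,37,37,37,37,37,37,37,37,37,37],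
  [37,35,38,35,33,33,37,11,35,11,36,12,6,12,3,12,7,1,4,12,8,1,9,1,11,12,8,1,6],[36,36,39,36,38,33,39,34,39,33,11,38,33,11,37,12,7,1,3,12,4,1,3,1,8,12,0],[40,40],
  [37,34,0,41,37,1,41,37,37,37,36,40,39,40,39,40,39,40,39,41],[13,13,13,13,13,13],[22,22,22,22,22,22,22,22,22,22],
  [16,16,16,16,16,16,16,16,16,16],[43,5,44,10,1,4,45,7,7,3,12,11,24,11,17,4,14,8,13],[17,17,17,17,17,17,17,17,17],
  [14,14,14,14,14,14,14,14,14,14,14,14,14,14,14,14,14],[27,27,27,27,27,27,27,27,27,27,27,27,27,27,27,27,27,27,27],[48,4,45,0,49,6,45,6,7,4,31,3,10,1,4,24,11,13,8,13],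
  [31,31,31,31,31,31,31,31,31,31,31,31,31,31,31,31,31],[15,15,15,15,15,15,15,15,15,15],[46,46,46],
  [50,50,50,50,50,50,50,50],[53,53,54,54,53,53,54,54,53,54,51,0,52,0,12,10,11,17,10,3,30,3,32,8,13],[53,54,54,54,54,53,53,45,9,48,0,51,9,6,12,8,3,14,3,30,0,15],
  [20,20,20,20,20],[25,25,25,25,25],[24,24,24,24,24,24,24,24,24,24,24],
  [55,55,55,55,55,55],[56,56,56,56,56,56],[60,60,61,60,61,61,61,54,61,54,53,54,60,52,11,57,11,58,59,7,8,19,5,11,28,11,17,8,1,4,16],
  [19,19,19,19,19,19,19,19,19,19,19],[62,62],[60,64,60,61,53,53,54,61,53,64,44,11,58,3,63,10,6,7,28,8,3,16,4,18,5,17,9,14],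
  [33,37,1,1,37,41,35,35,35,39,40,39,40,39,40,39,40,39],[18,18,18,18,18,18,18,18,18,18,18,18,18,18,18,18,18,18,18],[21,21,21,21,21,21,21,21,21,21,21],
  [23,23,23,23,23,23,23,23,23,23],[28,28,28,28,28,28,28,28,28],[30,30,30,30,30,30,30,30,30,30],
  [32,32,32,32,32,32],[26,26,26,26,26,26,26,26,26,26,26],[29,29,29,29,29,29,29,29,29,29]]

/-- Inverse letters, or too large. -/
def ivs : List ℕ := [11,12,2,10,9,8,7,6,5,4,3,0,1,43,48,52,45,47,67,63,57,68,44,69,59,58,73,49,70,74,71,51,72,34,33,36,35,38,37,39,41,40,75,13,22,16,53,17,14,27,54,31,15,46,50,60,61,20,25,24,55,56,64,19,62,75,75,18,21,23,28,30,32,26,29]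

/-- Power letters. -/
def xp : List ℕ := [2,0,3,4,5,6,7,8,9,10,11]

/-- A part. -/
noncomputable def mainWords0_0 : Arr (List ℕ) :=
  (.node [36,0] (.node [33,0,0] (.node [39,1,0] (.node [0,36,0] (.node [35,1,0,0] (.node [37,36,1,0] (.node [38,1,36,0] (.node [36,1,36,0,0] .nil .nil) (.node [36,0,33,35,0] .nil .nil)) (.node [35,33,0,0,0] (.node [38,1,35,1,0] .nil .nil) .nil)) (.node [39,34,34,0] (.node [34,1,39,0] (.node [39,33,40,0,0] .nil .nil) (.node [34,1,0,41,0] .nil .nil)) (.node [40,33,33,0,0] (.node [37,41,37,33,0] .nil .nil) .nil))) (.node [35,39,0,0] (.node [38,35,33,0] (.node [0,41,37,0] (.node [38,1,38,0,0] .nil .nil) (.node [33,35,0,38,0] .nil .nil)) (.node [37,41,0,0,0] (.node [40,33,41,1,0] .nil .nil) .nil)) (.node [33,1,35,0] (.node [39,34,40,0] (.node [0,35,1,1,0] .nil .nil) (.node [38,39,35,0,0,0] .nil .nil)) (.node [35,38,34,0,0] (.node [40,1,34,34,0] .nil .nil) .nil)))) (.node [36,39,0] (.node [39,35,0,0] (.node [33,41,1,0]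 (.node [33,0,37,0] (.node [38,41,36,0,0] .nil .nil) (.node [36,0,41,35,0] .nil .nil)) (.node [34,37,0,0,0] (.node [37,40,38,1,0] .nil .nil) .nil)) (.node [34,38,34,0] (.node [41,38,39,0] (.node [39,38,41,0,0] .nil .nil) (.node [33,35,33,0,0,0] .nil .nil)) (.node [37,41,33,0,0] (.node [37,41,39,33,0] .nil .nil) .nil))) (.node [37,1,1,0] (.node [37,39,33,0] (.node [0,36,38,0] (.node [1,34,39,0,0] .nil .nil) (.node [35,0,33,39,0] .nil .nil)) (.node [40,34,1,0,0] (.node [0,39,33,33,0] .nil .nil) .nil)) (.node [33,38,35,0] (.node [39,33,41,0] (.node [33,0,34,1,0] .nil .nil) (.node [38,39,41,0,0,0] .nil .nil)) (.node [1,35,35,0,0] (.node [34,39,38,34,0] .nil .nil) .nil))))) (.node [36,34,0] (.node [41,37,0] (.node [1,34,0,0] (.node [35,39,1,0] (.node [0,37,36,0] (.node [40,37,36,0,0] .nil .nil) (.node [1,35,38,35,0] .nil .nil)) (.node [35,35,0,0,0] (.node [34,40,36,1,0] .nil .nil) .nil)) (.node [34,36,34,0] (.node [1,35,39,0] (.node [33,0,41,0,0]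 .nil .nil) (.node [41,37,0,41,0] .nil .nil)) (.node [0,38,33,0,0] (.node [33,39,38,33,0] .nil .nil) .nil))) (.node [33,41,0,0] (.node [37,37,33,0] (.node [38,1,38,0] (.node [39,38,38,0,0] .nil .nil) (.node [36,0,36,38,0] .nil .nil)) (.node [34,1,1,0,0] (.node [39,36,1,33,0] .nil .nil) .nil)) (.node [37,34,35,0] (.node [38,0,41,0] (.node [38,1,33,1,0] .nil .nil) (.node [33,38,38,0,0,0] .nil .nil)) (.node [37,0,35,0,0] (.node [1,33,36,34,0] .nil .nil) .nil)))) (.node [38,41,0] (.node [36,37,0,0] (.node [36,1,33,0] (.node [39,35,37,0] (.node [34,37,37,0,0] .nil .nil) (.node [39,33,36,36,0] .nil .nil)) (.node [35,39,0,0,0] (.node [38,33,40,1,0] .nil .nil) .nil)) (.node [1,41,34,0] (.node [40,0,40,0] (.node [35,34,0,1,0] .nil .nil) (.node [40,35,34,0,0,0] .nil .nil)) (.node [33,35,34,0,0] (.node [35,35,41,33,0] .nil .nil) .nil))) (.node [35,34,1,0] (.node [1,0,34,0] (.node [36,39,38,0] (.node [1,40,39,0,0] .nil .nil) (.node [36,34,1,40,0] .nil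 .nil)) (.node [41,39,1,0,0] (.node [36,38,36,33,0] .nil .nil) .nil)) (.node [38,40,35,0] (.node [1,39,41,0] (.node [41,37,34,1,0] .nil .nil) (.node [0,33,37,40,0,0] .nil .nil)) (.node [37,40,35,0,0] (.node [1,34,41,34,0] .nil .nil) .nil)))))) (.node [41,0,0] (.node [37,33,0] (.node [0,37,0] (.node [35,33,0,0] (.node [36,38,1,0] (.node [40,33,36,0] (.node [34,34,36,0,0] .nil .nil) (.node [0,37,34,35,0] .nil .nil)) (.node [35,34,0,0,0] (.node [0,41,35,1,0] .nil .nil) .nil)) (.node [37,35,34,0] (.node [33,33,39,0] (.node [39,37,40,0,0] .nil .nil) (.node [40,35,0,41,0] .nil .nil)) (.node [41,36,33,0,0] (.node [33,1,38,33,0] .nil .nil) .nil))) (.node [33,40,0,0] (.node [38,36,33,0] (.node [33,0,38,0] (.node [35,35,38,0,0] .nil .nil) (.node [37,0,34,38,0] .nil .nil)) (.node [36,0,1,0,0] (.node [38,36,0,33,0] .nil .nil) .nil)) (.node [1,33,35,0] (.node [1,38,40,0] (.node [36,39,1,1,0] .nil .nil) (.node [1,34,37,0,0,0] .nil .nil)) (.node [0,40,34,0,0]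 (.node [41,1,35,34,0] .nil .nil) .nil)))) (.node [34,40,0] (.node [37,36,0,0] (.node [37,0,33,0] (.node [36,33,37,0] (.node [38,35,37,0,0] .nil .nil) (.node [38,1,0,36,0] .nil .nil)) (.node [36,38,0,0,0] (.node [1,35,39,1,0] .nil .nil) .nil)) (.node [36,39,34,0] (.node [34,41,39,0] (.node [33,0,0,1,0] .nil .nil) (.node [36,40,33,0,0,0] .nil .nil)) (.node [37,1,34,0,0] (.node [35,34,40,33,0] .nil .nil) .nil))) (.node [37,33,1,0] (.node [39,40,33,0] (.node [34,38,38,0] (.node [37,36,39,0,0] .nil .nil) (.node [0,33,40,39,0] .nil .nil)) (.node [1,37,1,0,0] (.node [41,38,35,33,0] .nil .nil) .nil)) (.node [34,39,35,0] (.node [39,34,41,0] (.node [36,36,34,1,0] .nil .nil) (.node [34,0,34,1,0,0] .nil .nil)) (.node [1,38,35,0,0] (.node [38,0,40,34,0] .nil .nil) .nil))))) (.node [33,35,0] (.node [39,38,0] (.node [41,34,0,0] (.node [33,40,1,0] (.node [0,40,36,0] (.node [36,39,36,0,0] .nil .nil) (.node [34,0,40,35,0] .nil .nil)) (.node [33,36,0,0,0]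 (.node [1,33,38,1,0] .nil .nil) .nil)) (.node [34,37,34,0] (.node [1,37,39,0] (.node [1,35,41,0,0] .nil .nil) (.node [39,0,34,41,0] .nil .nil)) (.node [37,39,33,0,0] (.node [0,33,39,33,0] .nil .nil) .nil))) (.node [35,0,1,0] (.node [36,38,33,0] (.node [34,34,38,0] (.node [34,40,38,0,0] .nil .nil) (.node [0,34,39,38,0] .nil .nil)) (.node [39,33,1,0,0] (.node [34,0,33,33,0] .nil .nil) .nil)) (.node [40,35,35,0] (.node [39,1,41,0] (.node [34,38,33,1,0] .nil .nil) (.node [34,41,39,0,0,0] .nil .nil)) (.node [33,33,35,0,0] (.node [33,35,37,34,0] .nil .nil) .nil)))) (.node [38,0,0,0] (.node [35,38,0,0] (.node [37,33,33,0] (.node [37,39,37,0] (.node [35,41,37,0,0] .nil .nil) (.node [0,34,37,37,0] .nil .nil)) (.node [34,40,0,0,0] (.node [1,39,40,1,0] .nil .nil) .nil)) (.node [33,0,35,0] (.node [36,33,40,0] (.node [41,37,0,1,0] .nil .nil) (.node [40,39,34,0,0,0] .nil .nil)) (.node [41,36,34,0,0] (.node [37,34,0,34,0] .nil .nil) .nil))) (.node [34,35,1,0]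 (.node [40,0,34,0] (.node [33,41,38,0] (.node [35,0,40,0,0] .nil .nil) (.node [41,39,34,40,0] .nil .nil)) (.node [37,1,33,0,0] (.node [1,1,37,33,0] .nil .nil) .nil)) (.node [36,0,36,0] (.node [36,0,0,0,0] (.node [35,41,34,1,0] .nil .nil) .nil) (.node [0,0,36,0,0] (.node [35,34,0,35,0] .nil .nil) .nil)))))))

/-- A part. -/
noncomputable def mainWords0_1 : Arr (List ℕ) :=
  (.node [40,0] (.node [37,0,0] (.node [1,33,0] (.node [37,36,0] (.node [41,1,0,0] (.node [0,38,1,0] (.node [1,33,36,0] (.node [37,33,36,0,0] .nil .nil) (.node [40,0,33,35,0] .nil .nil)) (.node [40,33,0,0,0] (.node [37,34,35,1,0] .nil .nil) .nil)) (.node [1,35,34,0] (.node [38,1,39,0] (.node [0,37,40,0,0] .nil .nil) (.node [1,35,0,41,0] .nil .nil)) (.node [1,36,33,0,0] (.node [36,0,38,33,0] .nil .nil) .nil))) (.node [40,39,0,0] (.node [33,36,33,0] (.node [38,41,37,0] (.node [38,33,38,0,0] .nil .nil) (.node [38,34,1,38,0] .nil .nil)) (.node [1,0,1,0,0] (.node [33,35,0,33,0]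 .nil .nil) .nil)) (.node [39,1,35,0] (.node [34,37,40,0] (.node [39,35,1,1,0] .nil .nil) (.node [37,36,36,0,0,0] .nil .nil)) (.node [33,39,34,0,0] (.node [37,35,34,34,0] .nil .nil) .nil)))) (.node [41,39,0] (.node [1,36,0,0] (.node [33,0,33,0] (.node [38,1,37,0] (.node [0,34,37,0,0] .nil .nil) (.node [36,0,0,36,0] .nil .nil)) (.node [40,37,0,0,0] (.node [37,0,39,1,0] .nil .nil) .nil)) (.node [41,38,34,0] (.node [36,40,39,0] (.node [34,39,41,0,0] .nil .nil) (.node [33,37,33,0,0,0] .nil .nil)) (.node [0,1,34,0,0] (.node [36,0,40,33,0] .nil .nil) .nil))) (.node [0,33,1,0] (.node [0,40,33,0] (.node [37,36,38,0] (.node [41,34,39,0,0] .nil .nil) (.node [41,0,37,39,0] .nil .nil)) (.node [0,36,1,0,0] (.node [0,35,35,33,0] .nil .nil) .nil)) (.node [41,38,35,0] (.node [35,34,41,0] (.node [33,1,34,1,0] .nil .nil) (.node [38,33,0,1,0,0] .nil .nil)) (.node [40,35,35,0,0] (.node [35,41,39,34,0] .nil .nil) .nil))))) (.node [40,34,0] (.node [34,38,0]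 (.node [37,34,0,0] (.node [40,39,1,0] (.node [0,39,36,0] (.node [38,38,36,0,0] .nil .nil) (.node [37,0,39,35,0] .nil .nil)) (.node [40,35,0,0,0] (.node [34,0,38,1,0] .nil .nil) .nil)) (.node [40,36,34,0] (.node [34,36,39,0] (.node [38,1,41,0,0] .nil .nil) (.node [1,40,0,41,0] .nil .nil)) (.node [38,38,33,0,0] (.node [36,0,39,33,0] .nil .nil) .nil))) (.node [39,41,0,0] (.node [0,38,33,0] (.node [36,33,38,0] (.node [36,39,38,0,0] .nil .nil) (.node [0,33,36,38,0] .nil .nil)) (.node [33,33,1,0,0] (.node [0,41,1,33,0] .nil .nil) .nil)) (.node [34,35,35,0] (.node [0,1,41,0] (.node [41,33,33,1,0] .nil .nil) (.node [35,34,39,0,0,0] .nil .nil)) (.node [33,1,35,0,0] (.node [35,0,37,34,0] .nil .nil) .nil)))) (.node [34,0,0,0] (.node [0,38,0,0] (.node [40,1,33,0] (.node [1,37,37,0] (.node [33,40,37,0,0] .nil .nil) (.node [0,38,0,37,0] .nil .nil)) (.node [41,39,0,0,0] (.node [39,34,40,1,0] .nil .nil) .nil)) (.node [37,41,34,0] (.node [38,1,40,0] (.node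 [41,35,0,1,0] .nil .nil) (.node [37,37,34,0,0,0] .nil .nil)) (.node [34,36,34,0,0] (.node [35,1,0,34,0] .nil .nil) .nil))) (.node [40,34,1,0] (.node [36,0,34,0] (.node [34,40,38,0] (.node [39,40,39,0,0] .nil .nil) (.node [36,0,33,40,0] .nil .nil)) (.node [35,0,33,0,0] (.node [38,40,36,33,0] .nil .nil) .nil)) (.node [0,0,36,0] (.node [41,39,41,0] (.node [36,40,34,1,0] .nil .nil) (.node [0,39,37,34,1,0] .nil .nil)) (.node [35,41,35,0,0] (.node [39,0,0,35,0] .nil .nil) .nil)))))) (.node [34,1,0] (.node [41,33,0] (.node [35,37,0] (.node [39,33,0,0] (.node [0,39,1,0] (.node [33,36,36,0] (.node [1,36,36,0,0] .nil .nil) (.node [38,41,35,35,0] .nil .nil)) (.node [39,34,0,0,0] (.node [0,37,36,1,0] .nil .nil) .nil)) (.node [41,35,34,0] (.node [38,33,39,0] (.node [34,39,40,0,0] .nil .nil) (.node [39,36,0,41,0] .nil .nil)) (.node [35,37,33,0,0] (.node [41,35,38,33,0] .nil .nil) .nil))) (.node [38,40,0,0] (.node [1,37,33,0] (.node [0,1,38,0] (.node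 [38,36,38,0,0] .nil .nil) (.node [0,37,34,38,0] .nil .nil)) (.node [40,0,1,0,0] (.node [0,41,0,33,0] .nil .nil) .nil)) (.node [38,33,35,0] (.node [34,0,41,0] (.node [36,0,33,1,0] .nil .nil) (.node [37,41,37,0,0,0] .nil .nil)) (.node [37,41,34,0,0] (.node [0,38,35,34,0] .nil .nil) .nil)))) (.node [1,41,0] (.node [41,36,0,0] (.node [41,0,33,0] (.node [39,34,37,0] (.node [37,36,37,0,0] .nil .nil) (.node [0,1,1,36,0] .nil .nil)) (.node [41,38,0,0,0] (.node [33,40,39,1,0] .nil .nil) .nil)) (.node [1,40,34,0] (.node [0,0,40,0] (.node [38,0,0,1,0] .nil .nil) (.node [36,34,34,0,0,0] .nil .nil)) (.node [35,34,34,0,0] (.node [39,0,41,33,0] .nil .nil) .nil))) (.node [41,33,1,0] (.node [35,41,33,0] (.node [1,39,38,0] (.node [36,37,39,0,0] .nil .nil) (.node [36,1,41,39,0] .nil .nil)) (.node [40,37,1,0,0] (.node [38,1,36,33,0] .nil .nil) .nil)) (.node [40,39,35,0] (.node [39,37,41,0] (.node [34,37,34,1,0] .nil .nil) (.node [0,36,1,34,0,0] .nil .nil))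 (.node [35,39,35,0,0] (.node [1,33,40,34,0] .nil .nil) .nil))))) (.node [38,35,0] (.node [1,39,0] (.node [34,35,0,0] (.node [38,40,1,0] (.node [33,41,36,0] (.node [0,41,36,0,0] .nil .nil) (.node [0,0,41,35,0] .nil .nil)) (.node [38,36,0,0,0] (.node [39,34,38,1,0] .nil .nil) .nil)) (.node [40,37,34,0] (.node [0,38,39,0] (.node [39,37,41,0,0] .nil .nil) (.node [37,1,33,0,0,0] .nil .nil)) (.node [1,40,33,0,0] (.node [34,37,39,33,0] .nil .nil) .nil))) (.node [40,0,1,0] (.node [0,39,33,0] (.node [0,35,38,0] (.node [33,41,38,0,0] .nil .nil) (.node [38,34,41,38,0] .nil .nil)) (.node [36,34,1,0,0] (.node [40,0,33,33,0] .nil .nil) .nil)) (.node [33,37,35,0] (.node [1,33,41,0] (.node [39,40,33,1,0] .nil .nil) (.node [1,0,41,0,0,0] .nil .nil)) (.node [40,33,35,0,0] (.node [39,41,37,34,0] .nil .nil) .nil)))) (.node [0,1,0,0] (.node [40,38,0,0] (.node [41,33,33,0] (.node [1,40,37,0] (.node [37,0,38,0,0] .nil .nil) (.node [0,1,40,37,0] .nil .nil)) (.node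 [39,40,0,0,0] (.node [41,0,41,1,0] .nil .nil) .nil)) (.node [38,0,35,0] (.node [35,34,40,0] (.node [39,40,0,1,0] .nil .nil) (.node [36,33,35,0,0,0] .nil .nil)) (.node [37,37,34,0,0] (.node [40,36,0,34,0] .nil .nil) .nil))) (.node [40,35,1,0] (.node [34,34,34,0] (.node [33,0,39,0] (.node [41,1,40,0,0] .nil .nil) (.node [1,34,37,40,0] .nil .nil)) (.node [35,33,33,0,0] (.node [0,35,37,33,0] .nil .nil) .nil)) (.node [41,0,36,0] (.node [41,0,0,0,0] (.node [36,0,35,1,0] .nil .nil) .nil) (.node [38,0,36,0,0] (.node [0,37,1,35,0] .nil .nil) .nil)))))))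

/-- A part. -/
noncomputable def mainWords0_2 : Arr (List ℕ) :=
  (.node [1,0] mainWords0_0 mainWords0_1)

/-- A part. -/
noncomputable def mainWords0_3 : Arr (List ℕ) :=
  (.node [38,0] (.node [35,0,0] (.node [41,1,0] (.node [33,36,0] (.node [37,1,0,0] (.node [39,36,1,0] (.node [41,1,36,0] (.node [1,33,36,0,0] .nil .nil) (.node [38,0,33,35,0] .nil .nil)) (.node [38,33,0,0,0] (.node [0,34,35,1,0] .nil .nil) .nil)) (.node [41,34,34,0] (.node [36,1,39,0] (.node [34,34,40,0,0] .nil .nil) (.node [41,1,0,41,0] .nil .nil)) (.node [37,35,33,0,0] (.node [33,0,38,33,0] .nil .nil) .nil))) (.node [37,39,0,0] (.node [40,35,33,0] (.node [34,41,37,0] (.node [35,33,38,0,0] .nil .nil) (.node [36,1,1,38,0] .nil .nil)) (.node [39,41,0,0,0] (.node [0,37,41,1,0] .nil .nil) .nil)) (.node [36,1,35,0] (.node [0,37,40,0] (.node [37,35,1,1,0] .nil .nil) (.node [33,1,36,0,0,0] .nil .nil)) (.node [41,38,34,0,0] (.node [1,35,34,34,0] .nil .nil) .nil)))) (.node [38,39,0]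 (.node [41,35,0,0] (.node [37,41,1,0] (.node [38,0,37,0] (.node [37,33,37,0,0] .nil .nil) (.node [35,1,41,35,0] .nil .nil)) (.node [37,37,0,0,0] (.node [33,41,38,1,0] .nil .nil) .nil)) (.node [39,38,34,0] (.node [1,40,39,0] (.node [1,39,41,0,0] .nil .nil) (.node [39,35,33,0,0,0] .nil .nil)) (.node [39,41,33,0,0] (.node [34,0,40,33,0] .nil .nil) .nil))) (.node [39,1,1,0] (.node [40,39,33,0] (.node [33,36,38,0] (.node [36,34,39,0,0] .nil .nil) (.node [0,37,36,39,0] .nil .nil)) (.node [38,35,1,0,0] (.node [1,41,33,33,0] .nil .nil) .nil)) (.node [38,38,35,0] (.node [0,34,41,0] (.node [39,0,34,1,0] .nil .nil) (.node [35,1,0,1,0,0] .nil .nil)) (.node [37,35,35,0,0] (.node [38,33,39,34,0] .nil .nil) .nil))))) (.node [38,34,0] (.node [1,38,0] (.node [35,34,0,0] (.node [37,39,1,0] (.node [33,37,36,0] (.node [0,38,36,0,0] .nil .nil) (.node [34,40,38,35,0] .nil .nil)) (.node [38,35,0,0,0] (.node [1,0,38,1,0] .nil .nil) .nil)) (.node [38,36,34,0]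 (.node [34,35,39,0] (.node [38,0,41,0,0] .nil .nil) (.node [34,39,0,41,0] .nil .nil)) (.node [35,38,33,0,0] (.node [37,40,38,33,0] .nil .nil) .nil))) (.node [37,41,0,0] (.node [40,37,33,0] (.node [40,1,38,0] (.node [1,39,38,0,0] .nil .nil) (.node [41,0,36,38,0] .nil .nil)) (.node [40,1,1,0,0] (.node [0,38,1,33,0] .nil .nil) .nil)) (.node [0,35,35,0] (.node [40,0,41,0] (.node [38,33,33,1,0] .nil .nil) (.node [40,38,38,0,0,0] .nil .nil)) (.node [40,0,35,0,0] (.node [33,40,36,34,0] .nil .nil) .nil)))) (.node [0,0,0,0] (.node [40,37,0,0] (.node [38,1,33,0] (.node [41,35,37,0] (.node [37,37,37,0,0] .nil .nil) (.node [1,0,39,36,0] .nil .nil)) (.node [38,39,0,0,0] (.node [41,33,40,1,0] .nil .nil) .nil)) (.node [34,41,34,0] (.node [34,1,40,0] (.node [38,35,0,1,0] .nil .nil) (.node [1,37,34,0,0,0] .nil .nil)) (.node [39,35,34,0,0] (.node [34,39,41,33,0] .nil .nil) .nil))) (.node [37,34,1,0] (.node [34,0,34,0] (.node [1,40,38,0] (.node [36,40,39,0,0]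 .nil .nil) (.node [1,0,33,40,0] .nil .nil)) (.node [0,0,33,0,0] (.node [34,39,36,33,0] .nil .nil) .nil)) (.node [0,41,35,0] (.node [34,39,41,0] (.node [35,39,34,1,0] .nil .nil) (.node [33,1,0,0,1,0] .nil .nil)) (.node [39,40,35,0,0] (.node [0,0,0,35,0] .nil .nil) .nil)))))) (.node [1,1,0] (.node [39,33,0] (.node [33,37,0] (.node [37,33,0,0] (.node [40,38,1,0] (.node [0,36,36,0] (.node [40,34,36,0,0] .nil .nil) (.node [0,41,35,35,0] .nil .nil)) (.node [37,34,0,0,0] (.node [37,34,36,1,0] .nil .nil) .nil)) (.node [39,35,34,0] (.node [36,33,39,0] (.node [36,38,40,0,0] .nil .nil) (.node [0,36,0,41,0] .nil .nil)) (.node [33,37,33,0,0] (.node [39,33,38,33,0] .nil .nil) .nil))) (.node [36,40,0,0] (.node [40,36,33,0] (.node [35,0,38,0] (.node [33,36,38,0,0] .nil .nil) (.node [40,0,34,38,0] .nil .nil)) (.node [38,0,1,0,0] (.node [40,37,0,33,0] .nil .nil) .nil)) (.node [35,33,35,0] (.node [1,0,41,0] (.node [0,0,33,1,0] .nil .nil) (.node [37,39,37,0,0,0]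 .nil .nil)) (.node [33,41,34,0,0] (.node [1,34,35,34,0] .nil .nil) .nil)))) (.node [38,40,0] (.node [39,36,0,0] (.node [39,0,33,0] (.node [0,34,37,0] (.node [0,36,37,0,0] .nil .nil) (.node [35,38,0,36,0] .nil .nil)) (.node [39,38,0,0,0] (.node [0,36,39,1,0] .nil .nil) .nil)) (.node [41,39,34,0] (.node [37,41,39,0] (.node [35,0,0,1,0] .nil .nil) (.node [33,1,34,0,0,0] .nil .nil)) (.node [39,1,34,0,0] (.node [40,39,40,33,0] .nil .nil) .nil))) (.node [39,33,1,0] (.node [1,41,33,0] (.node [40,38,38,0] (.node [0,37,39,0,0] .nil .nil) (.node [0,36,40,39,0] .nil .nil)) (.node [35,37,1,0,0] (.node [40,39,35,33,0] .nil .nil) .nil)) (.node [36,39,35,0] (.node [0,37,41,0] (.node [40,36,34,1,0] .nil .nil) (.node [40,34,37,33,0,0] .nil .nil)) (.node [36,38,35,0,0] (.node [41,0,40,34,0] .nil .nil) .nil))))) (.node [35,35,0] (.node [41,38,0] (.node [1,35,0,0] (.node [36,40,1,0] (.node [38,40,36,0] (.node [1,40,36,0,0] .nil .nil) (.node [33,1,40,35,0]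 .nil .nil)) (.node [36,36,0,0,0] (.node [37,33,38,1,0] .nil .nil) .nil)) (.node [36,37,34,0] (.node [35,37,39,0] (.node [34,37,41,0,0] .nil .nil) (.node [37,34,38,41,0] .nil .nil)) (.node [40,39,33,0,0] (.node [35,35,39,33,0] .nil .nil) .nil))) (.node [37,0,1,0] (.node [39,38,33,0] (.node [37,34,38,0] (.node [37,40,38,0,0] .nil .nil) (.node [40,1,40,38,0] .nil .nil)) (.node [0,34,1,0,0] (.node [38,0,33,33,0] .nil .nil) .nil)) (.node [0,37,35,0] (.node [41,1,41,0] (.node [0,39,33,1,0] .nil .nil) (.node [37,33,40,0,0,0] .nil .nil)) (.node [38,33,35,0,0] (.node [34,40,37,34,0] .nil .nil) .nil)))) (.node [40,0,0,0] (.node [38,38,0,0] (.node [39,33,33,0] (.node [41,39,37,0] (.node [38,41,37,0,0] .nil .nil) (.node [0,41,39,37,0] .nil .nil)) (.node [37,40,0,0,0] (.node [34,39,40,1,0] .nil .nil) .nil)) (.node [36,0,35,0] (.node [0,34,40,0] (.node [33,39,0,1,0] .nil .nil) (.node [37,41,34,0,0,0] .nil .nil)) (.node [1,37,34,0,0] (.node [38,35,0,34,0]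 .nil .nil) .nil))) (.node [37,35,1,0] (.node [0,34,34,0] (.node [38,41,38,0] (.node [36,1,40,0,0] .nil .nil) (.node [35,0,37,40,0] .nil .nil)) (.node [0,33,33,0,0] (.node [34,34,37,33,0] .nil .nil) .nil)) (.node [38,0,36,0] (.node [38,0,0,0,0] (.node [34,0,35,1,0] .nil .nil) .nil) (.node [35,0,36,0,0] (.node [0,36,1,35,0] .nil .nil) .nil)))))))

/-- A part. -/
noncomputable def mainWords0_4 : Arr (List ℕ) :=
  (.node [0,0,0] (.node [39,0,0] (.node [35,33,0] (.node [40,36,0] (.node [1,33,0,0] (.node [34,38,1,0] (.node [38,33,36,0] (.node [41,33,36,0,0] .nil .nil) (.node [37,33,33,35,0] .nil .nil)) (.node [1,34,0,0,0] (.node [0,37,35,1,0] .nil .nil) .nil)) (.node [34,35,34,0] (.node [40,1,39,0] (.node [33,37,40,0,0] .nil .nil) (.node [37,35,0,41,0] .nil .nil)) (.node [37,36,33,0,0] (.node [39,0,38,33,0] .nil .nil) .nil))) (.node [0,40,0,0] (.node [36,36,33,0] (.node [0,0,38,0] (.node [1,34,38,0,0] .nil .nil) (.node [35,33,33,38,0] .nil .nil))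 (.node [34,0,1,0,0] (.node [0,36,0,33,0] .nil .nil) .nil)) (.node [41,1,35,0] (.node [41,37,40,0] (.node [34,38,1,1,0] .nil .nil) (.node [37,37,36,0,0,0] .nil .nil)) (.node [37,39,34,0,0] (.node [0,40,34,34,0] .nil .nil) .nil)))) (.node [1,40,0] (.node [34,36,0,0] (.node [35,0,33,0] (.node [0,33,37,0] (.node [40,34,37,0,0] .nil .nil) (.node [40,0,0,36,0] .nil .nil)) (.node [33,38,0,0,0] (.node [39,33,39,1,0] .nil .nil) .nil)) (.node [33,39,34,0] (.node [1,41,39,0] (.node [40,39,41,0,0] .nil .nil) (.node [40,38,33,0,0,0] .nil .nil)) (.node [35,1,34,0,0] (.node [40,0,40,33,0] .nil .nil) .nil))) (.node [33,33,1,0] (.node [36,40,33,0] (.node [39,36,38,0] (.node [37,35,39,0,0] .nil .nil) (.node [0,34,38,39,0] .nil .nil)) (.node [36,36,1,0,0] (.node [0,37,35,33,0] .nil .nil) .nil)) (.node [1,39,35,0] (.node [37,34,41,0] (.node [1,34,34,1,0] .nil .nil) (.node [34,35,0,1,0,0] .nil .nil)) (.node [33,37,35,0,0] (.node [35,0,40,34,0] .nil .nil) .nil)))))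 (.node [0,35,0] (.node [36,38,0] (.node [39,34,0,0] (.node [0,40,1,0] (.node [34,39,36,0] (.node [0,39,36,0,0] .nil .nil) (.node [0,33,39,35,0] .nil .nil)) (.node [0,36,0,0,0] (.node [38,0,38,1,0] .nil .nil) .nil)) (.node [0,37,34,0] (.node [39,36,39,0] (.node [39,33,41,0,0] .nil .nil) (.node [0,1,33,41,0] .nil .nil)) (.node [41,38,33,0,0] (.node [40,0,39,33,0] .nil .nil) .nil))) (.node [1,0,1,0] (.node [33,38,33,0] (.node [0,34,38,0] (.node [40,39,38,0,0] .nil .nil) (.node [39,34,38,38,0] .nil .nil)) (.node [36,33,1,0,0] (.node [1,0,33,33,0] .nil .nil) .nil)) (.node [37,35,35,0] (.node [36,1,41,0] (.node [41,35,33,1,0] .nil .nil) (.node [38,35,39,0,0,0] .nil .nil)) (.node [0,33,35,0,0] (.node [0,34,37,34,0] .nil .nil) .nil)))) (.node [36,0,0,0] (.node [33,38,0,0] (.node [0,33,33,0] (.node [33,39,37,0] (.node [38,40,37,0,0] .nil .nil) (.node [1,0,34,37,0] .nil .nil)) (.node [1,40,0,0,0] (.node [36,36,40,1,0] .nil .nil) .nil)) (.node [0,0,35,0]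 (.node [1,33,40,0] (.node [41,36,0,1,0] .nil .nil) (.node [36,39,34,0,0,0] .nil .nil)) (.node [38,36,34,0,0] (.node [35,33,0,34,0] .nil .nil) .nil))) (.node [0,35,1,0] (.node [38,0,34,0] (.node [0,41,38,0] (.node [39,41,39,0,0] .nil .nil) (.node [38,0,33,40,0] .nil .nil)) (.node [0,1,33,0,0] (.node [35,41,36,33,0] .nil .nil) .nil)) (.node [33,0,36,0] (.node [34,0,0,0,0] (.node [0,41,34,1,0] .nil .nil) (.node [39,0,39,36,33,0] .nil .nil)) (.node [38,41,35,0,0] (.node [39,1,0,35,0] .nil .nil) .nil)))))) (.node [36,1,0] (.node [34,34,0] (.node [39,37,0] (.node [41,33,0,0] (.node [33,39,1,0] (.node [36,36,36,0] (.node [1,37,36,0,0] .nil .nil) (.node [0,33,37,35,0] .nil .nil)) (.node [33,35,0,0,0] (.node [36,39,36,1,0] .nil .nil) .nil)) (.node [1,36,34,0] (.node [38,34,39,0] (.node [38,39,40,0,0] .nil .nil) (.node [39,37,0,41,0] .nil .nil)) (.node [40,37,33,0,0] (.node [39,36,38,33,0] .nil .nil) .nil))) (.node [0,41,0,0] (.node [35,37,33,0]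 (.node [34,1,38,0] (.node [41,36,38,0,0] .nil .nil) (.node [36,0,35,38,0] .nil .nil)) (.node [0,1,1,0,0] (.node [33,35,1,33,0] .nil .nil) .nil)) (.node [34,34,35,0] (.node [36,0,41,0] (.node [33,1,33,1,0] .nil .nil) (.node [36,34,38,0,0,0] .nil .nil)) (.node [0,0,35,0,0] (.node [0,40,35,34,0] .nil .nil) .nil)))) (.node [34,41,0] (.node [34,37,0,0] (.node [34,1,33,0] (.node [34,35,37,0] (.node [1,37,37,0,0] .nil .nil) (.node [34,1,36,36,0] .nil .nil)) (.node [33,39,0,0,0] (.node [33,0,40,1,0] .nil .nil) .nil)) (.node [34,40,34,0] (.node [36,0,40,0] (.node [36,1,0,1,0] .nil .nil) (.node [34,35,34,0,0,0] .nil .nil)) (.node [38,34,34,0,0] (.node [35,33,41,33,0] .nil .nil) .nil))) (.node [1,34,1,0] (.node [39,41,33,0] (.node [34,39,38,0] (.node [38,38,39,0,0] .nil .nil) (.node [0,0,0,40,0] .nil .nil)) (.node [33,39,1,0,0] (.node [38,36,36,33,0] .nil .nil) .nil)) (.node [0,40,35,0] (.node [33,38,41,0] (.node [39,37,34,1,0] .nil .nil) (.node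 [0,39,41,35,0,0] .nil .nil)) (.node [37,39,35,0,0] (.node [35,0,41,34,0] .nil .nil) .nil))))) (.node [40,35,0] (.node [34,39,0] (.node [37,35,0,0] (.node [0,41,1,0] (.node [35,41,36,0] (.node [34,41,36,0,0] .nil .nil) (.node [34,0,41,35,0] .nil .nil)) (.node [41,36,0,0,0] (.node [34,38,38,1,0] .nil .nil) .nil)) (.node [0,38,34,0] (.node [36,38,39,0] (.node [34,38,41,0,0] .nil .nil) (.node [33,33,33,0,0,0] .nil .nil)) (.node [38,40,33,0,0] (.node [33,40,39,33,0] .nil .nil) .nil))) (.node [33,1,1,0] (.node [34,39,33,0] (.node [34,35,38,0] (.node [35,1,39,0,0] .nil .nil) (.node [36,0,0,39,0] .nil .nil)) (.node [38,34,1,0,0] (.node [36,37,33,33,0] .nil .nil) .nil)) (.node [0,38,35,0] (.node [37,33,41,0] (.node [35,41,33,1,0] .nil .nil) (.node [34,37,41,0,0,0] .nil .nil)) (.node [34,34,35,0,0] (.node [35,34,38,34,0] .nil .nil) .nil)))) (.node [33,1,0,0] (.node [1,39,0,0] (.node [35,35,33,0] (.node [36,40,37,0] (.node [34,1,38,0,0] .nil .nil)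 (.node [1,38,40,37,0] .nil .nil)) (.node [1,41,0,0,0] (.node [0,33,41,1,0] .nil .nil) .nil)) (.node [41,0,35,0] (.node [37,34,40,0] (.node [0,33,1,1,0] .nil .nil) (.node [0,35,35,0,0,0] .nil .nil)) (.node [0,38,34,0,0] (.node [38,39,0,34,0] .nil .nil) .nil))) (.node [33,36,1,0] (.node [36,34,34,0] (.node [37,0,39,0] (.node [36,33,40,0,0] .nil .nil) (.node [1,1,0,41,0] .nil .nil)) (.node [38,33,33,0,0] (.node [1,39,37,33,0] .nil .nil) .nil)) (.node [33,1,36,0] (.node [1,33,0,0,0] (.node [41,0,35,1,0] .nil .nil) .nil) (.node [1,1,36,0,0] (.node [39,41,1,35,0] .nil .nil) .nil)))))))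

/-- A part. -/
noncomputable def mainWords0_5 : Arr (List ℕ) :=
  (.node [34,0] mainWords0_3 mainWords0_4)

/-- A part. -/
noncomputable def mainWords0_6 : Arr (List ℕ) :=
  (.node [0] mainWords0_2 mainWords0_5)

/-- A part. -/
noncomputable def mainWords0_7 : Arr (List ℕ) :=
  (.node [37,0] (.node [34,0,0] (.node [40,1,0] (.node [1,36,0] (.node [36,1,0,0] (.node [38,36,1,0] (.node [39,1,36,0] (.node [0,33,36,0,0] .nil .nil) (.node [37,0,33,35,0] .nil .nil)) (.node [37,33,0,0,0] (.node [40,1,35,1,0] .nil .nil) .nil)) (.node [40,34,34,0] (.node [35,1,39,0] (.node [0,34,40,0,0] .nil .nil) (.node [35,1,0,41,0] .nil .nil)) (.node [33,35,33,0,0] (.node [1,0,38,33,0] .nil .nil) .nil))) (.node [36,39,0,0] (.node [39,35,33,0] (.node [33,41,37,0] (.node [40,1,38,0,0] .nil .nil) (.node [33,36,0,38,0] .nil .nil)) (.node [38,41,0,0,0] (.node [33,35,41,1,0] .nil .nil) .nil)) (.node [35,1,35,0] (.node [41,34,40,0] (.node [35,35,1,1,0] .nil .nil) (.node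 [37,41,35,0,0,0] .nil .nil)) (.node [40,38,34,0,0] (.node [40,34,34,34,0] .nil .nil) .nil)))) (.node [37,39,0] (.node [40,35,0,0] (.node [35,41,1,0] (.node [35,0,37,0] (.node [39,41,36,0,0] .nil .nil) (.node [37,0,41,35,0] .nil .nil)) (.node [36,37,0,0,0] (.node [0,41,38,1,0] .nil .nil) .nil)) (.node [38,38,34,0] (.node [0,40,39,0] (.node [0,39,41,0,0] .nil .nil) (.node [38,35,33,0,0,0] .nil .nil)) (.node [38,41,33,0,0] (.node [39,41,39,33,0] .nil .nil) .nil))) (.node [38,1,1,0] (.node [38,39,33,0] (.node [1,36,38,0] (.node [35,34,39,0,0] .nil .nil) (.node [0,35,33,39,0] .nil .nil)) (.node [0,35,1,0,0] (.node [34,40,33,33,0] .nil .nil) .nil)) (.node [35,38,35,0] (.node [40,33,41,0] (.node [36,0,34,1,0] .nil .nil) (.node [1,1,0,1,0,0] .nil .nil)) (.node [34,35,35,0,0] (.node [34,1,39,34,0] .nil .nil) .nil))))) (.node [37,34,0] (.node [0,38,0] (.node [34,34,0,0] (.node [36,39,1,0] (.node [1,37,36,0] (.node [41,37,36,0,0] .nil .nil) (.node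 [35,38,38,35,0] .nil .nil)) (.node [37,35,0,0,0] (.node [37,40,36,1,0] .nil .nil) .nil)) (.node [36,36,34,0] (.node [33,35,39,0] (.node [34,0,41,0,0] .nil .nil) (.node [1,39,0,41,0] .nil .nil)) (.node [33,38,33,0,0] (.node [38,39,38,33,0] .nil .nil) .nil))) (.node [35,41,0,0] (.node [39,37,33,0] (.node [39,1,38,0] (.node [0,39,38,0,0] .nil .nil) (.node [40,0,36,38,0] .nil .nil)) (.node [36,1,1,0,0] (.node [34,37,1,33,0] .nil .nil) .nil)) (.node [38,34,35,0] (.node [39,0,41,0] (.node [36,33,33,1,0] .nil .nil) (.node [36,38,38,0,0,0] .nil .nil)) (.node [39,0,35,0,0] (.node [40,39,36,34,0] .nil .nil) .nil)))) (.node [39,41,0] (.node [37,37,0,0] (.node [37,1,33,0] (.node [40,35,37,0] (.node [35,37,37,0,0] .nil .nil) (.node [34,0,37,36,0] .nil .nil)) (.node [37,39,0,0,0] (.node [40,33,40,1,0] .nil .nil) .nil)) (.node [33,41,34,0] (.node [1,1,40,0] (.node [37,35,0,1,0] .nil .nil) (.node [41,35,34,0,0,0] .nil .nil)) (.node [38,35,34,0,0] (.node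 [41,38,41,33,0] .nil .nil) .nil))) (.node [36,34,1,0] (.node [33,0,34,0] (.node [0,40,38,0] (.node [33,40,39,0,0] .nil .nil) (.node [0,38,1,40,0] .nil .nil)) (.node [0,41,1,0,0] (.node [0,39,36,33,0] .nil .nil) .nil)) (.node [39,40,35,0] (.node [33,39,41,0] (.node [0,39,34,1,0] .nil .nil) (.node [41,0,35,41,0,0] .nil .nil)) (.node [38,40,35,0,0] (.node [0,35,41,34,0] .nil .nil) .nil)))))) (.node [0,1,0] (.node [38,33,0] (.node [1,37,0] (.node [36,33,0,0] (.node [38,38,1,0] (.node [41,33,36,0] (.node [36,34,36,0,0] .nil .nil) (.node [0,0,35,35,0] .nil .nil)) (.node [36,34,0,0,0] (.node [0,34,36,1,0] .nil .nil) .nil)) (.node [38,35,34,0] (.node [35,33,39,0] (.node [40,37,40,0,0] .nil .nil) (.node [41,35,0,41,0] .nil .nil)) (.node [1,37,33,0,0] (.node [40,1,38,33,0] .nil .nil) .nil))) (.node [34,40,0,0] (.node [39,36,33,0] (.node [34,0,38,0] (.node [37,35,38,0,0] .nil .nil) (.node [38,0,34,38,0] .nil .nil)) (.node [37,0,1,0,0] (.node [40,36,0,33,0]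 .nil .nil) .nil)) (.node [33,33,35,0] (.node [38,38,40,0] (.node [38,41,1,1,0] .nil .nil) (.node [41,34,37,0,0,0] .nil .nil)) (.node [36,40,34,0,0] (.node [37,33,35,34,0] .nil .nil) .nil)))) (.node [37,40,0] (.node [38,36,0,0] (.node [38,0,33,0] (.node [41,33,37,0] (.node [41,35,37,0,0] .nil .nil) (.node [38,33,0,36,0] .nil .nil)) (.node [38,38,0,0,0] (.node [33,35,39,1,0] .nil .nil) .nil)) (.node [38,39,34,0] (.node [35,41,39,0] (.node [34,0,0,1,0] .nil .nil) (.node [0,1,34,0,0,0] .nil .nil)) (.node [38,1,34,0,0] (.node [33,38,40,33,0] .nil .nil) .nil))) (.node [38,33,1,0] (.node [0,41,33,0] (.node [38,38,38,0] (.node [39,36,39,0,0] .nil .nil) (.node [36,33,40,39,0] .nil .nil)) (.node [33,37,1,0,0] (.node [34,39,35,33,0] .nil .nil) .nil)) (.node [35,39,35,0] (.node [40,34,41,0] (.node [39,36,34,1,0] .nil .nil) (.node [40,0,36,1,0,0] .nil .nil)) (.node [34,38,35,0,0] (.node [39,0,40,34,0] .nil .nil) .nil))))) (.node [34,35,0] (.node [40,38,0]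 (.node [0,35,0,0] (.node [34,40,1,0] (.node [34,40,36,0] (.node [0,40,36,0,0] .nil .nil) (.node [36,0,40,35,0] .nil .nil)) (.node [34,36,0,0,0] (.node [36,33,38,1,0] .nil .nil) .nil)) (.node [35,37,34,0] (.node [33,37,39,0] (.node [37,35,41,0,0] .nil .nil) (.node [0,39,37,41,0] .nil .nil)) (.node [38,39,33,0,0] (.node [40,33,39,33,0] .nil .nil) .nil))) (.node [36,0,1,0] (.node [38,38,33,0] (.node [35,34,38,0] (.node [36,40,38,0,0] .nil .nil) (.node [33,1,40,38,0] .nil .nil)) (.node [41,33,1,0,0] (.node [36,0,33,33,0] .nil .nil) .nil)) (.node [41,35,35,0] (.node [40,1,41,0] (.node [39,38,33,1,0] .nil .nil) (.node [34,1,40,0,0,0] .nil .nil)) (.node [35,33,35,0,0] (.node [0,37,37,34,0] .nil .nil) .nil)))) (.node [39,0,0,0] (.node [36,38,0,0] (.node [38,33,33,0] (.node [40,39,37,0] (.node [37,41,37,0,0] .nil .nil) (.node [0,40,39,37,0] .nil .nil)) (.node [36,40,0,0,0] (.node [33,39,40,1,0] .nil .nil) .nil)) (.node [34,0,35,0] (.node [41,33,40,0]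 (.node [0,39,0,1,0] .nil .nil) (.node [34,41,34,0,0,0] .nil .nil)) (.node [0,37,34,0,0] (.node [37,35,0,34,0] .nil .nil) .nil))) (.node [35,35,1,0] (.node [41,0,34,0] (.node [34,41,38,0] (.node [36,0,40,0,0] .nil .nil) (.node [33,0,37,40,0] .nil .nil)) (.node [41,1,33,0,0] (.node [39,1,37,33,0] .nil .nil) .nil)) (.node [37,0,36,0] (.node [37,0,0,0,0] (.node [0,0,35,1,0] .nil .nil) .nil) (.node [1,0,36,0,0] (.node [33,35,1,35,0] .nil .nil) .nil)))))))

/-- A part. -/
noncomputable def mainWords0_8 : Arr (List ℕ) :=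
  (.node [41,0] (.node [38,0,0] (.node [33,33,0] (.node [39,36,0] (.node [0,33,0,0] (.node [33,38,1,0] (.node [37,33,36,0] (.node [38,33,36,0,0] .nil .nil) (.node [41,0,33,35,0] .nil .nil)) (.node [0,34,0,0,0] (.node [34,35,35,1,0] .nil .nil) .nil)) (.node [33,35,34,0] (.node [39,1,39,0] (.node [1,37,40,0,0] .nil .nil) (.node [33,35,0,41,0] .nil .nil)) (.node [34,36,33,0,0] (.node [37,0,38,33,0] .nil .nil) .nil))) (.node [41,39,0,0] (.node [34,36,33,0] (.node [39,41,37,0] (.node [40,33,38,0,0] .nil .nil) (.node [0,39,1,38,0] .nil .nil)) (.node [33,0,1,0,0] (.node [38,35,0,33,0] .nil .nil) .nil)) (.node [40,1,35,0] (.node [37,37,40,0] (.node [37,37,1,1,0] .nil .nil) (.node [33,37,36,0,0,0] .nil .nil)) (.node [36,39,34,0,0] (.node [1,39,34,34,0] .nil .nil) .nil)))) (.node [0,40,0] (.node [33,36,0,0] (.node [34,0,33,0] (.node [40,1,37,0] (.node [36,34,37,0,0] .nil .nil) (.node [39,0,0,36,0] .nil .nil)) (.node [41,37,0,0,0] (.node [0,33,39,1,0]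 .nil .nil) .nil)) (.node [1,39,34,0] (.node [0,41,39,0] (.node [37,39,41,0,0] .nil .nil) (.node [39,37,33,0,0,0] .nil .nil)) (.node [34,1,34,0,0] (.node [37,0,40,33,0] .nil .nil) .nil))) (.node [1,33,1,0] (.node [34,40,33,0] (.node [38,36,38,0] (.node [35,35,39,0,0] .nil .nil) (.node [37,0,38,39,0] .nil .nil)) (.node [1,36,1,0,0] (.node [1,35,35,33,0] .nil .nil) .nil)) (.node [0,39,35,0] (.node [36,34,41,0] (.node [38,1,34,1,0] .nil .nil) (.node [40,33,0,1,0,0] .nil .nil)) (.node [0,37,35,0,0] (.node [34,0,40,34,0] .nil .nil) .nil))))) (.node [41,34,0] (.node [35,38,0] (.node [38,34,0,0] (.node [41,39,1,0] (.node [33,39,36,0] (.node [40,38,36,0,0] .nil .nil) (.node [33,1,39,35,0] .nil .nil)) (.node [41,35,0,0,0] (.node [35,0,38,1,0] .nil .nil) .nil)) (.node [41,36,34,0] (.node [37,36,39,0] (.node [40,1,41,0,0] .nil .nil) (.node [0,38,1,41,0] .nil .nil)) (.node [40,38,33,0,0] (.node [37,0,39,33,0] .nil .nil) .nil))) (.node [0,0,1,0] (.node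 [1,38,33,0] (.node [41,33,38,0] (.node [38,39,38,0,0] .nil .nil) (.node [1,0,38,38,0] .nil .nil)) (.node [35,33,1,0,0] (.node [34,41,1,33,0] .nil .nil) .nil)) (.node [35,35,35,0] (.node [34,1,41,0] (.node [35,35,33,1,0] .nil .nil) (.node [33,35,39,0,0,0] .nil .nil)) (.node [39,1,35,0,0] (.node [33,33,37,34,0] .nil .nil) .nil)))) (.node [35,0,0,0] (.node [1,38,0,0] (.node [41,1,33,0] (.node [34,37,37,0] (.node [34,40,37,0,0] .nil .nil) (.node [0,40,1,37,0] .nil .nil)) (.node [0,40,0,0,0] (.node [0,36,40,1,0] .nil .nil) .nil)) (.node [39,41,34,0] (.node [0,33,40,0] (.node [0,36,0,1,0] .nil .nil) (.node [39,38,34,0,0,0] .nil .nil)) (.node [36,36,34,0,0] (.node [0,33,0,34,0] .nil .nil) .nil))) (.node [41,34,1,0] (.node [37,0,34,0] (.node [37,40,38,0] (.node [0,41,39,0,0] .nil .nil) (.node [37,0,33,40,0] .nil .nil)) (.node [39,0,33,0,0] (.node [0,41,36,33,0] .nil .nil) .nil)) (.node [1,0,36,0] (.node [0,0,0,0,0] (.node [39,40,34,1,0] .nil .nil)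 (.node [40,33,0,38,1,0] .nil .nil)) (.node [37,41,35,0,0] (.node [38,1,0,35,0] .nil .nil) .nil)))))) (.node [35,1,0] (.node [0,34,0] (.node [37,37,0] (.node [40,33,0,0] (.node [1,39,1,0] (.node [34,36,36,0] (.node [0,37,36,0,0] .nil .nil) (.node [36,1,37,35,0] .nil .nil)) (.node [41,34,0,0,0] (.node [1,37,36,1,0] .nil .nil) .nil)) (.node [0,36,34,0] (.node [40,33,39,0] (.node [36,39,40,0,0] .nil .nil) (.node [41,36,0,41,0] .nil .nil)) (.node [36,37,33,0,0] (.node [0,36,38,33,0] .nil .nil) .nil))) (.node [39,40,0,0] (.node [34,37,33,0] (.node [1,1,38,0] (.node [40,36,38,0,0] .nil .nil) (.node [0,41,34,38,0] .nil .nil)) (.node [41,0,1,0,0] (.node [35,41,0,33,0] .nil .nil) .nil)) (.node [39,33,35,0] (.node [35,0,41,0] (.node [40,0,33,1,0] .nil .nil) (.node [35,33,38,0,0,0] .nil .nil)) (.node [38,41,34,0,0] (.node [1,38,35,34,0] .nil .nil) .nil)))) (.node [33,41,0] (.node [33,37,0,0] (.node [0,1,33,0] (.node [41,34,37,0] (.node [38,36,37,0,0]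 .nil .nil) (.node [0,35,1,36,0] .nil .nil)) (.node [0,39,0,0,0] (.node [37,40,39,1,0] .nil .nil) .nil)) (.node [33,40,34,0] (.node [34,0,40,0] (.node [40,0,0,1,0] .nil .nil) (.node [41,34,34,0,0,0] .nil .nil)) (.node [37,34,34,0,0] (.node [0,33,41,33,0] .nil .nil) .nil))) (.node [0,34,1,0] (.node [38,41,33,0] (.node [33,39,38,0] (.node [39,37,39,0,0] .nil .nil) (.node [0,39,41,39,0] .nil .nil)) (.node [0,39,1,0,0] (.node [35,34,36,33,0] .nil .nil) .nil)) (.node [41,39,35,0] (.node [41,37,41,0] (.node [35,37,34,1,0] .nil .nil) (.node [1,0,39,35,0,0] .nil .nil)) (.node [36,39,35,0,0] (.node [1,0,41,34,0] .nil .nil) .nil))))) (.node [39,35,0] (.node [33,39,0] (.node [35,35,0,0] (.node [39,40,1,0] (.node [34,41,36,0] (.node [1,41,36,0,0] .nil .nil) (.node [1,0,41,35,0] .nil .nil)) (.node [39,36,0,0,0] (.node [34,36,38,1,0] .nil .nil) .nil)) (.node [41,37,34,0] (.node [34,38,39,0] (.node [33,38,41,0,0] .nil .nil) (.node [38,1,33,0,0,0] .nil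 .nil)) (.node [36,40,33,0,0] (.node [41,37,39,33,0] .nil .nil) .nil))) (.node [0,1,1,0] (.node [33,39,33,0] (.node [1,35,38,0] (.node [1,1,39,0,0] .nil .nil) (.node [35,0,0,39,0] .nil .nil)) (.node [37,34,1,0,0] (.node [0,33,33,33,0] .nil .nil) .nil)) (.node [36,37,35,0] (.node [35,33,41,0] (.node [33,41,33,1,0] .nil .nil) (.node [35,33,41,0,0,0] .nil .nil)) (.node [0,34,35,0,0] (.node [0,0,38,34,0] .nil .nil) .nil)))) (.node [1,1,0,0] (.node [41,38,0,0] (.node [34,35,33,0] (.node [34,40,37,0] (.node [0,1,38,0,0] .nil .nil) (.node [0,38,40,37,0] .nil .nil)) (.node [0,41,0,0,0] (.node [0,1,41,1,0] .nil .nil) .nil)) (.node [40,0,35,0] (.node [36,34,40,0] (.node [40,0,1,1,0] .nil .nil) (.node [35,34,35,0,0,0] .nil .nil)) (.node [39,37,34,0,0] (.node [0,38,0,34,0] .nil .nil) .nil))) (.node [41,35,1,0] (.node [35,34,34,0] (.node [34,0,39,0] (.node [1,33,40,0,0] .nil .nil) (.node [0,0,38,40,0] .nil .nil)) (.node [36,33,33,0,0] (.node [40,37,37,33,0]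 .nil .nil) .nil)) (.node [1,1,36,0] (.node [0,33,0,0,0] (.node [40,0,35,1,0] .nil .nil) .nil) (.node [0,1,36,0,0] (.node [0,41,1,35,0] .nil .nil) .nil)))))))

/-- A part. -/
noncomputable def mainWords0_9 : Arr (List ℕ) :=
  (.node [33,0] mainWords0_7 mainWords0_8)

/-- A part. -/
noncomputable def mainWords0_10 : Arr (List ℕ) :=
  (.node [39,0] (.node [36,0,0] (.node [0,33,0] (.node [36,36,0] (.node [39,1,0,0] (.node [40,36,1,0] (.node [0,33,36,0] (.node [36,33,36,0,0] .nil .nil) (.node [39,0,33,35,0] .nil .nil)) (.node [39,33,0,0,0] (.node [36,34,35,1,0] .nil .nil) .nil)) (.node [0,35,34,0] (.node [37,1,39,0] (.node [40,36,40,0,0] .nil .nil) (.node [40,33,0,41,0] .nil .nil)) (.node [40,35,33,0,0] (.node [34,0,38,33,0] .nil .nil) .nil))) (.node [38,39,0,0] (.node [1,36,33,0] (.node [37,41,37,0] (.node [36,33,38,0,0] .nil .nil) (.node [34,34,1,38,0] .nil .nil)) (.node [0,0,1,0,0] (.node [41,34,0,33,0] .nil .nil) .nil)) (.node [37,1,35,0]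 (.node [1,37,40,0] (.node [38,35,1,1,0] .nil .nil) (.node [1,33,36,0,0,0] .nil .nil)) (.node [0,39,34,0,0] (.node [35,35,34,34,0] .nil .nil) .nil)))) (.node [40,39,0] (.node [0,36,0,0] (.node [39,41,1,0] (.node [34,1,37,0] (.node [38,33,37,0,0] .nil .nil) (.node [35,0,0,36,0] .nil .nil)) (.node [39,37,0,0,0] (.node [38,41,38,1,0] .nil .nil) .nil)) (.node [40,38,34,0] (.node [33,40,39,0] (.node [33,39,41,0,0] .nil .nil) (.node [41,35,33,0,0,0] .nil .nil)) (.node [0,0,34,0,0] (.node [35,0,40,33,0] .nil .nil) .nil))) (.node [41,1,1,0] (.node [41,39,33,0] (.node [34,36,38,0] (.node [40,34,39,0,0] .nil .nil) (.node [38,0,37,39,0] .nil .nil)) (.node [40,35,1,0,0] (.node [39,34,35,33,0] .nil .nil) .nil)) (.node [40,38,35,0] (.node [1,34,41,0] (.node [40,0,34,1,0] .nil .nil) (.node [35,33,0,1,0,0] .nil .nil)) (.node [39,35,35,0,0] (.node [1,36,39,34,0] .nil .nil) .nil))))) (.node [39,34,0] (.node [33,38,0] (.node [36,34,0,0] (.node [38,39,1,0]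 (.node [34,37,36,0] (.node [36,38,36,0,0] .nil .nil) (.node [33,0,39,35,0] .nil .nil)) (.node [39,35,0,0,0] (.node [33,0,38,1,0] .nil .nil) .nil)) (.node [39,36,34,0] (.node [33,36,39,0] (.node [1,1,41,0,0] .nil .nil) (.node [35,39,0,41,0] .nil .nil)) (.node [36,38,33,0,0] (.node [1,0,39,33,0] .nil .nil) .nil))) (.node [38,41,0,0] (.node [41,37,33,0] (.node [33,33,38,0] (.node [34,39,38,0,0] .nil .nil) (.node [38,1,36,38,0] .nil .nil)) (.node [41,1,1,0,0] (.node [37,39,1,33,0] .nil .nil) .nil)) (.node [1,35,35,0] (.node [41,0,41,0] (.node [40,33,33,1,0] .nil .nil) (.node [40,0,39,0,0,0] .nil .nil)) (.node [41,0,35,0,0] (.node [0,41,36,34,0] .nil .nil) .nil)))) (.node [33,0,0,0] (.node [41,37,0,0] (.node [39,1,33,0] (.node [0,37,37,0] (.node [41,37,37,0,0] .nil .nil) (.node [37,33,41,36,0] .nil .nil)) (.node [40,39,0,0,0] (.node [38,34,40,1,0] .nil .nil) .nil)) (.node [35,41,34,0] (.node [36,1,40,0] (.node [39,35,0,1,0] .nil .nil) (.node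 [36,37,34,0,0,0] .nil .nil)) (.node [40,35,34,0,0] (.node [0,1,0,34,0] .nil .nil) .nil))) (.node [39,34,1,0] (.node [35,0,34,0] (.node [33,40,38,0] (.node [38,40,39,0,0] .nil .nil) (.node [35,0,33,40,0] .nil .nil)) (.node [1,0,33,0,0] (.node [36,39,36,33,0] .nil .nil) .nil)) (.node [1,41,35,0] (.node [38,39,41,0] (.node [0,40,34,1,0] .nil .nil) (.node [37,35,0,0,1,0] .nil .nil)) (.node [0,41,35,0,0] (.node [36,0,0,35,0] .nil .nil) .nil)))))) (.node [33,1,0] (.node [40,33,0] (.node [34,37,0] (.node [38,33,0,0] (.node [41,38,1,0] (.node [1,36,36,0] (.node [41,34,36,0,0] .nil .nil) (.node [34,41,35,35,0] .nil .nil)) (.node [38,34,0,0,0] (.node [40,34,36,1,0] .nil .nil) .nil)) (.node [40,35,34,0] (.node [37,33,39,0] (.node [1,39,40,0,0] .nil .nil) (.node [33,36,0,41,0] .nil .nil)) (.node [34,37,33,0,0] (.node [33,35,38,33,0] .nil .nil) .nil))) (.node [37,40,0,0] (.node [41,36,33,0] (.node [36,0,38,0] (.node [34,36,38,0,0] .nil .nil) (.node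 [35,34,34,38,0] .nil .nil)) (.node [39,0,1,0,0] (.node [0,40,0,33,0] .nil .nil) .nil)) (.node [36,33,35,0] (.node [33,0,41,0] (.node [35,0,33,1,0] .nil .nil) (.node [41,39,37,0,0,0] .nil .nil)) (.node [35,41,34,0,0] (.node [0,37,35,34,0] .nil .nil) .nil)))) (.node [0,41,0] (.node [40,36,0,0] (.node [40,0,33,0] (.node [1,34,37,0] (.node [34,36,37,0,0] .nil .nil) (.node [0,41,0,36,0] .nil .nil)) (.node [40,38,0,0,0] (.node [41,38,39,1,0] .nil .nil) .nil)) (.node [0,40,34,0] (.node [39,41,39,0] (.node [37,0,0,1,0] .nil .nil) (.node [37,1,34,0,0,0] .nil .nil)) (.node [40,1,34,0,0] (.node [33,0,41,33,0] .nil .nil) .nil))) (.node [40,33,1,0] (.node [33,41,33,0] (.node [0,39,38,0] (.node [35,37,39,0,0] .nil .nil) (.node [0,1,41,39,0] .nil .nil)) (.node [37,37,1,0,0] (.node [36,1,36,33,0] .nil .nil) .nil)) (.node [38,39,35,0] (.node [33,37,41,0] (.node [0,37,34,1,0] .nil .nil) (.node [37,0,1,34,0,0] .nil .nil)) (.node [0,39,35,0,0] (.node [38,1,40,34,0]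 .nil .nil) .nil))))) (.node [37,35,0] (.node [0,39,0] (.node [33,35,0,0] (.node [37,40,1,0] (.node [1,41,36,0] (.node [36,40,36,0,0] .nil .nil) (.node [0,39,40,35,0] .nil .nil)) (.node [37,36,0,0,0] (.node [37,34,38,1,0] .nil .nil) .nil)) (.node [37,37,34,0] (.node [41,37,39,0] (.node [36,37,41,0,0] .nil .nil) (.node [0,35,0,0,0,0] .nil .nil)) (.node [0,40,33,0,0] (.node [39,35,39,33,0] .nil .nil) .nil))) (.node [39,0,1,0] (.node [40,38,33,0] (.node [41,34,38,0] (.node [39,40,38,0,0] .nil .nil) (.node [0,33,40,38,0] .nil .nil)) (.node [34,34,1,0,0] (.node [39,0,33,33,0] .nil .nil) .nil)) (.node [1,37,35,0] (.node [0,33,41,0] (.node [37,40,33,1,0] .nil .nil) (.node [35,38,40,0,0,0] .nil .nil)) (.node [39,33,35,0,0] (.node [0,41,37,34,0] .nil .nil) .nil)))) (.node [41,0,0,0] (.node [39,38,0,0] (.node [40,33,33,0] (.node [0,40,37,0] (.node [33,0,38,0,0] .nil .nil) (.node [37,41,39,37,0] .nil .nil)) (.node [38,40,0,0,0] (.node [41,39,40,1,0]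 .nil .nil) .nil)) (.node [37,0,35,0] (.node [1,34,40,0] (.node [34,40,0,1,0] .nil .nil) (.node [35,33,35,0,0,0] .nil .nil)) (.node [36,37,34,0,0] (.node [41,35,0,34,0] .nil .nil) .nil))) (.node [39,35,1,0] (.node [1,34,34,0] (.node [0,0,39,0] (.node [40,1,40,0,0] .nil .nil) (.node [41,0,37,40,0] .nil .nil)) (.node [1,33,33,0,0] (.node [41,34,37,33,0] .nil .nil) .nil)) (.node [39,0,36,0] (.node [39,0,0,0,0] (.node [35,0,35,1,0] .nil .nil) .nil) (.node [36,0,36,0,0] (.node [1,36,1,35,0] .nil .nil) .nil)))))))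

/-- A part. -/
noncomputable def mainWords0_11 : Arr (List ℕ) :=
  (.node [1,0,0] (.node [40,0,0] (.node [36,33,0] (.node [41,36,0] (.node [33,33,0,0] (.node [35,38,1,0] (.node [39,33,36,0] (.node [0,34,36,0,0] .nil .nil) (.node [38,36,33,35,0] .nil .nil)) (.node [34,34,0,0,0] (.node [1,40,35,1,0] .nil .nil) .nil)) (.node [35,35,34,0] (.node [0,33,39,0] (.node [36,37,40,0,0] .nil .nil) (.node [38,35,0,41,0] .nil .nil)) (.node [39,36,33,0,0] (.node [41,0,38,33,0] .nil .nil) .nil))) (.node [1,40,0,0] (.node [37,36,33,0] (.node [1,0,38,0] (.node [36,34,38,0,0] .nil .nil) (.node [35,0,34,38,0] .nil .nil)) (.node [35,0,1,0,0] (.node [36,36,0,33,0] .nil .nil) .nil)) (.node [0,33,35,0] (.node [0,38,40,0] (.node [36,38,1,1,0] .nil .nil) (.node [33,38,36,0,0,0] .nil .nil)) (.node [38,39,34,0,0] (.node [40,1,35,34,0] .nil .nil) .nil)))) (.node [33,40,0] (.node [36,36,0,0] (.node [36,0,33,0] (.node [1,33,37,0] (.node [33,35,37,0,0] .nil .nil) (.node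 [41,0,0,36,0] .nil .nil)) (.node [34,38,0,0,0] (.node [41,33,39,1,0] .nil .nil) .nil)) (.node [34,39,34,0] (.node [33,41,39,0] (.node [1,0,0,1,0] .nil .nil) (.node [37,39,33,0,0,0] .nil .nil)) (.node [36,1,34,0,0] (.node [0,34,40,33,0] .nil .nil) .nil))) (.node [35,33,1,0] (.node [38,40,33,0] (.node [0,38,38,0] (.node [38,35,39,0,0] .nil .nil) (.node [0,36,38,39,0] .nil .nil)) (.node [0,37,1,0,0] (.node [36,37,35,33,0] .nil .nil) .nil)) (.node [33,39,35,0] (.node [38,34,41,0] (.node [35,34,34,1,0] .nil .nil) (.node [38,41,0,1,0,0] .nil .nil)) (.node [0,38,35,0,0] (.node [36,0,40,34,0] .nil .nil) .nil))))) (.node [1,35,0] (.node [38,38,0] (.node [40,34,0,0] (.node [1,40,1,0] (.node [36,39,36,0] (.node [1,39,36,0,0] .nil .nil) (.node [33,0,40,35,0] .nil .nil)) (.node [1,36,0,0,0] (.node [39,0,38,1,0] .nil .nil) .nil)) (.node [33,37,34,0] (.node [0,37,39,0] (.node [0,35,41,0,0] .nil .nil) (.node [33,39,33,41,0] .nil .nil)) (.node [33,39,33,0,0]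 (.node [41,0,39,33,0] .nil .nil) .nil))) (.node [34,0,1,0] (.node [35,38,33,0] (.node [1,34,38,0] (.node [33,40,38,0,0] .nil .nil) (.node [0,40,38,38,0] .nil .nil)) (.node [37,33,1,0,0] (.node [33,0,33,33,0] .nil .nil) .nil)) (.node [38,35,35,0] (.node [38,1,41,0] (.node [0,37,33,1,0] .nil .nil) (.node [34,40,39,0,0,0] .nil .nil)) (.node [1,33,35,0,0] (.node [37,34,37,34,0] .nil .nil) .nil)))) (.node [37,0,0,0] (.node [34,38,0,0] (.node [33,33,33,0] (.node [35,39,37,0] (.node [34,41,37,0,0] .nil .nil) (.node [0,35,35,37,0] .nil .nil)) (.node [33,40,0,0,0] (.node [0,38,40,1,0] .nil .nil) .nil)) (.node [1,0,35,0] (.node [33,33,40,0] (.node [40,37,0,1,0] .nil .nil) (.node [37,39,34,0,0,0] .nil .nil)) (.node [40,36,34,0,0] (.node [0,34,0,34,0] .nil .nil) .nil))) (.node [1,35,1,0] (.node [39,0,34,0] (.node [1,41,38,0] (.node [34,0,40,0,0] .nil .nil) (.node [0,37,34,40,0] .nil .nil)) (.node [33,1,33,0,0] (.node [37,41,36,33,0] .nil .nil) .nil))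 (.node [35,0,36,0] (.node [35,0,0,0,0] (.node [1,41,34,1,0] .nil .nil) .nil) (.node [39,41,35,0,0] (.node [34,34,0,35,0] .nil .nil) .nil)))))) (.node [38,1,0] (.node [35,34,0] (.node [40,37,0] (.node [0,34,0,0] (.node [34,39,1,0] (.node [40,36,36,0] (.node [33,37,36,0,0] .nil .nil) (.node [39,0,38,35,0] .nil .nil)) (.node [34,35,0,0,0] (.node [0,40,36,1,0] .nil .nil) .nil)) (.node [33,36,34,0] (.node [0,35,39,0] (.node [0,0,41,0,0] .nil .nil) (.node [40,37,0,41,0] .nil .nil)) (.node [41,37,33,0,0] (.node [0,38,38,33,0] .nil .nil) .nil))) (.node [1,41,0,0] (.node [36,37,33,0] (.node [35,1,38,0] (.node [35,38,38,0,0] .nil .nil) (.node [39,0,35,38,0] .nil .nil)) (.node [33,1,1,0,0] (.node [38,36,1,33,0] .nil .nil) .nil)) (.node [36,34,35,0] (.node [37,0,41,0] (.node [37,1,33,1,0] .nil .nil) (.node [1,36,38,0,0,0] .nil .nil)) (.node [33,0,35,0,0] (.node [0,41,35,34,0] .nil .nil) .nil)))) (.node [37,41,0] (.node [35,37,0,0] (.node [35,1,33,0]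 (.node [35,35,37,0] (.node [33,37,37,0,0] .nil .nil) (.node [41,1,36,36,0] .nil .nil)) (.node [34,39,0,0,0] (.node [0,1,40,1,0] .nil .nil) .nil)) (.node [0,41,34,0] (.node [38,0,40,0] (.node [34,34,0,1,0] .nil .nil) (.node [39,35,34,0,0,0] .nil .nil)) (.node [0,35,34,0,0] (.node [37,33,41,33,0] .nil .nil) .nil))) (.node [34,34,1,0] (.node [0,0,34,0] (.node [35,39,38,0] (.node [41,38,39,0,0] .nil .nil) (.node [0,36,0,40,0] .nil .nil)) (.node [38,39,1,0,0] (.node [1,38,36,33,0] .nil .nil) .nil)) (.node [1,40,35,0] (.node [34,38,41,0] (.node [40,37,34,1,0] .nil .nil) (.node [0,38,1,38,0,0] .nil .nil)) (.node [1,40,35,0,0] (.node [37,0,41,34,0] .nil .nil) .nil))))) (.node [41,35,0] (.node [35,39,0] (.node [38,35,0,0] (.node [1,41,1,0] (.node [0,0,37,0] (.node [35,41,36,0,0] .nil .nil) (.node [35,0,41,35,0] .nil .nil)) (.node [0,37,0,0,0] (.node [1,40,38,1,0] .nil .nil) .nil)) (.node [1,38,34,0] (.node [40,38,39,0] (.node [35,38,41,0,0] .nil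 .nil) (.node [1,35,33,0,0,0] .nil .nil)) (.node [34,41,33,0,0] (.node [37,40,39,33,0] .nil .nil) .nil))) (.node [35,1,1,0] (.node [35,39,33,0] (.node [39,35,38,0] (.node [38,1,39,0,0] .nil .nil) (.node [0,0,33,39,0] .nil .nil)) (.node [39,34,1,0,0] (.node [34,38,33,33,0] .nil .nil) .nil)) (.node [1,38,35,0] (.node [38,33,41,0] (.node [1,0,34,1,0] .nil .nil) (.node [39,38,41,0,0,0] .nil .nil)) (.node [38,34,35,0,0] (.node [0,39,38,34,0] .nil .nil) .nil)))) (.node [34,1,0,0] (.node [34,39,0,0] (.node [37,35,33,0] (.node [38,40,37,0] (.node [36,1,38,0,0] .nil .nil) (.node [0,37,41,37,0] .nil .nil)) (.node [33,41,0,0,0] (.node [36,33,41,1,0] .nil .nil) .nil)) (.node [0,1,35,0] (.node [38,34,40,0] (.node [38,33,1,1,0] .nil .nil) (.node [37,39,35,0,0,0] .nil .nil)) (.node [1,38,34,0,0] (.node [0,41,0,34,0] .nil .nil) .nil))) (.node [34,36,1,0] (.node [38,34,34,0] (.node [0,1,39,0] (.node [38,33,40,0,0] .nil .nil) (.node [33,1,0,41,0] .nil .nil))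 (.node [39,33,33,0,0] (.node [39,40,37,33,0] .nil .nil) .nil)) (.node [35,1,36,0] (.node [33,33,0,0,0] (.node [0,1,35,1,0] .nil .nil) .nil) (.node [33,1,36,0,0] (.node [34,0,33,35,0] .nil .nil) .nil)))))))

/-- A part. -/
noncomputable def mainWords0_12 : Arr (List ℕ) :=
  (.node [35,0] mainWords0_10 mainWords0_11)

/-- A part. -/
noncomputable def mainWords0_13 : Arr (List ℕ) :=
  (.node [0,0] mainWords0_9 mainWords0_12)

/-- A part. -/
noncomputable def mainWords0_14 : Arr (List ℕ) :=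
  (.node [] mainWords0_6 mainWords0_13)

/-- The array. -/
noncomputable def mainWords0 : Arr (List ℕ) := mainWords0_14

/-- A part. -/
noncomputable def mainPos0_0 : Arr ℕ :=
  (.node 51 (.node 1566 (.node 1615 (.node 1480 (.node 461 (.node 38 (.node 1703 (.node 916 .nil .nil) (.node 357 .nil .nil)) (.node 285 (.node 1207 .nil .nil) .nil)) (.node 1731 (.node 144 (.node 341 .nil .nil) (.node 750 .nil .nil)) (.node 1310 (.node 676 .nil .nil) .nil))) (.node 782 (.node 1527 (.node 1138 (.node 979 .nil .nil) (.node 826 .nil .nil)) (.node 448 (.node 670 .nil .nil) .nil)) (.node 223 (.node 702 (.node 221 .nil .nil) (.node 1083 .nil .nil)) (.node 1141 (.node 83 .nil .nil) .nil)))) (.node 846 (.node 1156 (.node 725 (.node 1116 (.node 1501 .nil .nil) (.node 165 .nil .nil)) (.node 474 (.node 667 .nil .nil) .nil)) (.node 821 (.node 37 (.node 1576 .nil .nil) (.node 1394 .nil .nil)) (.node 440 (.node 1286 .nil .nil) .nil))) (.node 499 (.node 291 (.node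 1204 (.node 102 .nil .nil) (.node 686 .nil .nil)) (.node 1708 (.node 1454 .nil .nil) .nil)) (.node 1367 (.node 179 (.node 1154 .nil .nil) (.node 73 .nil .nil)) (.node 1592 (.node 535 .nil .nil) .nil))))) (.node 1317 (.node 1106 (.node 1490 (.node 829 (.node 1011 (.node 383 .nil .nil) (.node 1318 .nil .nil)) (.node 1375 (.node 425 .nil .nil) .nil)) (.node 555 (.node 1715 (.node 1548 .nil .nil) (.node 453 .nil .nil)) (.node 562 (.node 118 .nil .nil) .nil))) (.node 522 (.node 257 (.node 1334 (.node 1603 .nil .nil) (.node 1391 .nil .nil)) (.node 1217 (.node 1705 .nil .nil) .nil)) (.node 1405 (.node 107 (.node 1435 .nil .nil) (.node 946 .nil .nil)) (.node 1434 (.node 1124 .nil .nil) .nil)))) (.node 1652 (.node 203 (.node 1278 (.node 1750 (.node 366 .nil .nil) (.node 1071 .nil .nil)) (.node 347 (.node 44 .nil .nil) .nil)) (.node 994 (.node 400 (.node 1636 .nil .nil) (.node 1282 .nil .nil)) (.node 633 (.node 865 .nil .nil) .nil))) (.node 761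 (.node 621 (.node 927 (.node 395 .nil .nil) (.node 3 .nil .nil)) (.node 939 (.node 1596 .nil .nil) .nil)) (.node 229 (.node 1757 (.node 740 .nil .nil) (.node 489 .nil .nil)) (.node 1618 (.node 1624 .nil .nil) .nil)))))) (.node 1155 (.node 896 (.node 1623 (.node 319 (.node 91 (.node 188 (.node 895 .nil .nil) (.node 1178 .nil .nil)) (.node 836 (.node 1276 .nil .nil) .nil)) (.node 116 (.node 1409 (.node 167 .nil .nil) (.node 281 .nil .nil)) (.node 1243 (.node 1556 .nil .nil) .nil))) (.node 187 (.node 1649 (.node 1695 (.node 168 .nil .nil) (.node 1100 .nil .nil)) (.node 967 (.node 1389 .nil .nil) .nil)) (.node 1034 (.node 359 (.node 1500 .nil .nil) (.node 480 .nil .nil)) (.node 758 (.node 322 .nil .nil) .nil)))) (.node 314 (.node 455 (.node 39 (.node 1341 (.node 1264 .nil .nil) (.node 294 .nil .nil)) (.node 630 (.node 1010 .nil .nil) .nil)) (.node 918 (.node 1079 (.node 429 .nil .nil) (.node 376 .nil .nil)) (.node 1182 (.node 1292 .nil .nil)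 .nil))) (.node 1424 (.node 1451 (.node 886 (.node 1465 .nil .nil) (.node 1604 .nil .nil)) (.node 1259 (.node 328 .nil .nil) .nil)) (.node 46 (.node 511 (.node 665 .nil .nil) (.node 837 .nil .nil)) (.node 1045 (.node 1582 .nil .nil) .nil))))) (.node 807 (.node 1097 (.node 1244 (.node 1746 (.node 1042 (.node 192 .nil .nil) (.node 954 .nil .nil)) (.node 1594 (.node 1469 .nil .nil) .nil)) (.node 714 (.node 1608 (.node 879 .nil .nil) (.node 1561 .nil .nil)) (.node 803 (.node 444 .nil .nil) .nil))) (.node 236 (.node 911 (.node 830 (.node 668 .nil .nil) (.node 334 .nil .nil)) (.node 105 (.node 1135 .nil .nil) .nil)) (.node 908 (.node 906 (.node 777 .nil .nil) (.node 1220 .nil .nil)) (.node 971 (.node 709 .nil .nil) .nil)))) (.node 1293 (.node 889 (.node 82 (.node 217 (.node 798 .nil .nil) (.node 19 .nil .nil)) (.node 1009 (.node 143 .nil .nil) .nil)) (.node 266 (.node 1390 (.node 1472 .nil .nil) (.node 442 .nil .nil)) (.node 1530 (.node 78 .nil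 .nil) .nil))) (.node 1331 (.node 1598 (.node 416 (.node 307 .nil .nil) (.node 311 .nil .nil)) (.node 1348 (.node 1510 .nil .nil) .nil)) (.node 503 (.node 1303 (.node 688 .nil .nil) .nil) (.node 481 (.node 1767 .nil .nil) .nil)))))))

/-- A part. -/
noncomputable def mainPos0_1 : Arr ℕ :=
  (.node 1298 (.node 1272 (.node 1161 (.node 541 (.node 97 (.node 557 (.node 1688 (.node 1224 .nil .nil) (.node 941 .nil .nil)) (.node 843 (.node 931 .nil .nil) .nil)) (.node 16 (.node 280 (.node 476 .nil .nil) (.node 1255 .nil .nil)) (.node 1153 (.node 1229 .nil .nil) .nil))) (.node 241 (.node 1206 (.node 1023 (.node 747 .nil .nil) (.node 1479 .nil .nil)) (.node 1183 (.node 1032 .nil .nil) .nil)) (.node 556 (.node 591 (.node 1027 .nil .nil) (.node 900 .nil .nil)) (.node 528 (.node 1186 .nil .nil) .nil)))) (.node 795 (.node 434 (.node 1352 (.node 666 (.node 468 .nil .nil) (.node 258 .nil .nil)) (.node 754 (.node 734 .nil .nil) .nil)) (.node 1122 (.node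 570 (.node 210 .nil .nil) (.node 335 .nil .nil)) (.node 212 (.node 269 .nil .nil) .nil))) (.node 952 (.node 200 (.node 21 (.node 1068 .nil .nil) (.node 950 .nil .nil)) (.node 305 (.node 890 .nil .nil) .nil)) (.node 1677 (.node 928 (.node 1235 .nil .nil) (.node 599 .nil .nil)) (.node 66 (.node 349 .nil .nil) .nil))))) (.node 1024 (.node 606 (.node 201 (.node 68 (.node 1333 (.node 1634 .nil .nil) (.node 1211 .nil .nil)) (.node 1489 (.node 1613 .nil .nil) .nil)) (.node 872 (.node 1003 (.node 1167 .nil .nil) (.node 618 .nil .nil)) (.node 1321 (.node 536 .nil .nil) .nil))) (.node 608 (.node 166 (.node 1422 (.node 685 .nil .nil) (.node 1387 .nil .nil)) (.node 1171 (.node 1622 .nil .nil) .nil)) (.node 1535 (.node 883 (.node 708 .nil .nil) (.node 292 .nil .nil)) (.node 1439 (.node 1095 .nil .nil) .nil)))) (.node 909 (.node 427 (.node 1483 (.node 1753 (.node 190 .nil .nil) (.node 32 .nil .nil)) (.node 67 (.node 1329 .nil .nil) .nil)) (.node 49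 (.node 935 (.node 1336 .nil .nil) (.node 1180 .nil .nil)) (.node 370 (.node 877 .nil .nil) .nil))) (.node 321 (.node 55 (.node 1103 (.node 1486 .nil .nil) (.node 24 .nil .nil)) (.node 4 (.node 806 .nil .nil) .nil)) (.node 1345 (.node 1065 (.node 753 .nil .nil) (.node 586 .nil .nil)) (.node 469 (.node 868 .nil .nil) .nil)))))) (.node 1205 (.node 369 (.node 364 (.node 1717 (.node 153 (.node 781 (.node 1147 .nil .nil) (.node 607 .nil .nil)) (.node 85 (.node 1098 .nil .nil) .nil)) (.node 1324 (.node 959 (.node 371 .nil .nil) (.node 1557 .nil .nil)) (.node 816 (.node 1358 .nil .nil) .nil))) (.node 1404 (.node 1120 (.node 519 (.node 733 .nil .nil) (.node 1115 .nil .nil)) (.node 578 (.node 1134 .nil .nil) .nil)) (.node 1712 (.node 628 (.node 184 .nil .nil) (.node 862 .nil .nil)) (.node 614 (.node 157 .nil .nil) .nil)))) (.node 1159 (.node 7 (.node 524 (.node 484 (.node 299 .nil .nil) (.node 130 .nil .nil)) (.node 101 (.node 303 .nil .nil) .nil))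 (.node 612 (.node 1546 (.node 93 .nil .nil) (.node 1339 .nil .nil)) (.node 1667 (.node 598 .nil .nil) .nil))) (.node 399 (.node 126 (.node 1443 (.node 1643 .nil .nil) (.node 1727 .nil .nil)) (.node 898 (.node 1716 .nil .nil) .nil)) (.node 1247 (.node 114 (.node 853 .nil .nil) (.node 238 .nil .nil)) (.node 1361 (.node 1531 .nil .nil) .nil))))) (.node 214 (.node 1022 (.node 762 (.node 1456 (.node 1707 (.node 1629 .nil .nil) (.node 960 .nil .nil)) (.node 409 (.node 132 .nil .nil) .nil)) (.node 515 (.node 1528 (.node 1262 .nil .nil) (.node 1426 .nil .nil)) (.node 1446 (.node 746 .nil .nil) .nil))) (.node 176 (.node 1194 (.node 1473 (.node 5 .nil .nil) (.node 1386 .nil .nil)) (.node 652 (.node 367 .nil .nil) .nil)) (.node 691 (.node 84 (.node 785 .nil .nil) (.node 1740 .nil .nil)) (.node 1294 (.node 259 .nil .nil) .nil)))) (.node 428 (.node 14 (.node 915 (.node 1675 (.node 437 .nil .nil) (.node 135 .nil .nil)) (.node 1412 (.node 778 .nil .nil)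 .nil)) (.node 1692 (.node 1466 (.node 198 .nil .nil) (.node 1052 .nil .nil)) (.node 1402 (.node 1430 .nil .nil) .nil))) (.node 1741 (.node 1668 (.node 1142 (.node 975 .nil .nil) (.node 1277 .nil .nil)) (.node 1522 (.node 852 .nil .nil) .nil)) (.node 1210 (.node 146 (.node 186 .nil .nil) .nil) (.node 1033 (.node 1076 .nil .nil) .nil)))))))

/-- A part. -/
noncomputable def mainPos0_2 : Arr ℕ :=
  (.node 164 mainPos0_0 mainPos0_1)

/-- A part. -/
noncomputable def mainPos0_3 : Arr ℕ :=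
  (.node 1778 (.node 703 (.node 943 (.node 855 (.node 345 (.node 899 (.node 1524 (.node 1534 .nil .nil) (.node 226 .nil .nil)) (.node 1497 (.node 600 .nil .nil) .nil)) (.node 331 (.node 1477 (.node 41 .nil .nil) (.node 902 .nil .nil)) (.node 1585 (.node 1619 .nil .nil) .nil))) (.node 1139 (.node 1353 (.node 23 (.node 1043 .nil .nil) (.node 127 .nil .nil)) (.node 1755 (.node 1126 .nil .nil) .nil)) (.node 485 (.node 1383 (.node 339 .nil .nil) (.node 302 .nil .nil)) (.node 944 (.node 1239 .nil .nil) .nil)))) (.node 392 (.node 1304 (.node 647 (.node 71 (.node 54 .nil .nil) (.node 205 .nil .nil)) (.node 1507 (.node 378 .nil .nil) .nil)) (.node 336 (.node 301 (.node 1597 .nil .nil) (.node 936 .nil .nil)) (.node 658 (.node 344 .nil .nil) .nil))) (.node 995 (.node 247 (.node 1513 (.node 10 .nil .nil) (.node 1657 .nil .nil)) (.node 1364 (.node 546 .nil .nil) .nil)) (.node 655 (.node 1168 (.node 1718 .nil .nil) (.node 486 .nil .nil)) (.node 768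 (.node 1452 .nil .nil) .nil))))) (.node 1109 (.node 1721 (.node 1044 (.node 11 (.node 1189 (.node 230 .nil .nil) (.node 462 .nil .nil)) (.node 1420 (.node 1131 .nil .nil) .nil)) (.node 377 (.node 848 (.node 784 .nil .nil) (.node 362 .nil .nil)) (.node 1542 (.node 465 .nil .nil) .nil))) (.node 1761 (.node 1163 (.node 1000 (.node 871 .nil .nil) (.node 231 .nil .nil)) (.node 58 (.node 509 .nil .nil) .nil)) (.node 237 (.node 722 (.node 610 .nil .nil) (.node 810 .nil .nil)) (.node 694 (.node 736 .nil .nil) .nil)))) (.node 326 (.node 123 (.node 551 (.node 1266 (.node 111 .nil .nil) (.node 1575 .nil .nil)) (.node 1581 (.node 1256 .nil .nil) .nil)) (.node 1067 (.node 1538 (.node 122 .nil .nil) (.node 171 .nil .nil)) (.node 1723 (.node 648 .nil .nil) .nil))) (.node 415 (.node 1028 (.node 125 (.node 1284 .nil .nil) (.node 1449 .nil .nil)) (.node 711 (.node 1379 .nil .nil) .nil)) (.node 1020 (.node 1595 (.node 639 .nil .nil) (.node 731 .nil .nil))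 (.node 548 (.node 1580 .nil .nil) .nil)))))) (.node 418 (.node 472 (.node 980 (.node 28 (.node 363 (.node 965 (.node 1036 .nil .nil) (.node 857 .nil .nil)) (.node 250 (.node 1019 .nil .nil) .nil)) (.node 866 (.node 1080 (.node 727 .nil .nil) (.node 1140 .nil .nil)) (.node 1526 (.node 1056 .nil .nil) .nil))) (.node 396 (.node 1149 (.node 955 (.node 431 .nil .nil) (.node 1215 .nil .nil)) (.node 1322 (.node 1378 .nil .nil) .nil)) (.node 309 (.node 767 (.node 1360 .nil .nil) (.node 1397 .nil .nil)) (.node 1133 (.node 30 .nil .nil) .nil)))) (.node 532 (.node 353 (.node 1087 (.node 1343 (.node 741 .nil .nil) (.node 208 .nil .nil)) (.node 242 (.node 227 .nil .nil) .nil)) (.node 932 (.node 360 (.node 575 .nil .nil) (.node 1762 .nil .nil)) (.node 1026 (.node 870 .nil .nil) .nil))) (.node 252 (.node 75 (.node 966 (.node 1188 .nil .nil) (.node 671 .nil .nil)) (.node 525 (.node 847 .nil .nil) .nil)) (.node 1747 (.node 1605 (.node 920 .nil .nil) (.node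 516 .nil .nil)) (.node 385 (.node 65 .nil .nil) .nil))))) (.node 533 (.node 1444 (.node 545 (.node 1525 (.node 601 (.node 517 .nil .nil) (.node 530 .nil .nil)) (.node 81 (.node 506 .nil .nil) .nil)) (.node 929 (.node 1203 (.node 814 .nil .nil) (.node 33 .nil .nil)) (.node 1775 (.node 1038 .nil .nil) .nil))) (.node 430 (.node 128 (.node 1315 (.node 958 .nil .nil) (.node 635 .nil .nil)) (.node 178 (.node 963 .nil .nil) .nil)) (.node 631 (.node 653 (.node 1357 .nil .nil) (.node 881 .nil .nil)) (.node 388 (.node 1363 .nil .nil) .nil)))) (.node 52 (.node 1148 (.node 677 (.node 1123 (.node 361 .nil .nil) (.node 1578 .nil .nil)) (.node 859 (.node 1355 .nil .nil) .nil)) (.node 763 (.node 1270 (.node 1445 .nil .nil) (.node 268 .nil .nil)) (.node 735 (.node 1620 .nil .nil) .nil))) (.node 508 (.node 1093 (.node 681 (.node 1506 .nil .nil) (.node 1681 .nil .nil)) (.node 800 (.node 1338 .nil .nil) .nil)) (.node 596 (.node 571 (.node 1111 .nil .nil)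 .nil) (.node 1658 (.node 1085 .nil .nil) .nil)))))))

/-- A part. -/
noncomputable def mainPos0_4 : Arr ℕ :=
  (.node 719 (.node 897 (.node 1655 (.node 1250 (.node 1236 (.node 62 (.node 1734 (.node 526 .nil .nil) (.node 996 .nil .nil)) (.node 1031 (.node 1450 .nil .nil) .nil)) (.node 1296 (.node 553 (.node 313 .nil .nil) (.node 1214 .nil .nil)) (.node 1503 (.node 1047 .nil .nil) .nil))) (.node 1567 (.node 1121 (.node 669 (.node 1132 .nil .nil) (.node 1048 .nil .nil)) (.node 1662 (.node 502 .nil .nil) .nil)) (.node 459 (.node 1735 (.node 656 .nil .nil) (.node 921 .nil .nil)) (.node 1326 (.node 977 .nil .nil) .nil)))) (.node 1092 (.node 0 (.node 1660 (.node 1400 (.node 840 .nil .nil) (.node 172 .nil .nil)) (.node 1088 (.node 1447 .nil .nil) .nil)) (.node 13 (.node 108 (.node 999 .nil .nil) (.node 1297 .nil .nil)) (.node 1007 (.node 1508 .nil .nil) .nil))) (.node 457 (.node 809 (.node 636 (.node 90 .nil .nil) (.node 137 .nil .nil)) (.node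 106 (.node 1609 .nil .nil) .nil)) (.node 354 (.node 1682 (.node 1101 .nil .nil) (.node 1547 .nil .nil)) (.node 1590 (.node 706 .nil .nil) .nil))))) (.node 148 (.node 380 (.node 154 (.node 1641 (.node 1593 (.node 323 .nil .nil) (.node 854 .nil .nil)) (.node 53 (.node 482 .nil .nil) .nil)) (.node 1732 (.node 1267 (.node 491 .nil .nil) (.node 87 .nil .nil)) (.node 1553 (.node 145 .nil .nil) .nil))) (.node 894 (.node 1213 (.node 989 (.node 689 .nil .nil) (.node 739 .nil .nil)) (.node 1562 (.node 885 .nil .nil) .nil)) (.node 745 (.node 523 (.node 1499 .nil .nil) (.node 1130 .nil .nil)) (.node 17 (.node 1611 .nil .nil) .nil)))) (.node 1300 (.node 129 (.node 471 (.node 488 (.node 808 .nil .nil) (.node 253 .nil .nil)) (.node 644 (.node 1475 .nil .nil) .nil)) (.node 1054 (.node 974 (.node 919 .nil .nil) (.node 1366 .nil .nil)) (.node 579 (.node 219 .nil .nil) .nil))) (.node 1423 (.node 1371 (.node 828 (.node 1283 .nil .nil) (.node 1327 .nil .nil))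 (.node 1373 (.node 796 .nil .nil) .nil)) (.node 1663 (.node 1612 (.node 842 .nil .nil) (.node 215 .nil .nil)) (.node 1725 (.node 22 .nil .nil) .nil)))))) (.node 1462 (.node 1442 (.node 1686 (.node 1541 (.node 704 (.node 661 (.node 60 .nil .nil) (.node 559 .nil .nil)) (.node 272 (.node 233 .nil .nil) .nil)) (.node 1429 (.node 701 (.node 264 .nil .nil) (.node 306 .nil .nil)) (.node 1711 (.node 26 .nil .nil) .nil))) (.node 1774 (.node 1401 (.node 593 (.node 1158 .nil .nil) (.node 1246 .nil .nil)) (.node 182 (.node 181 .nil .nil) .nil)) (.node 1350 (.node 1696 (.node 718 .nil .nil) (.node 1309 .nil .nil)) (.node 851 (.node 1222 .nil .nil) .nil)))) (.node 419 (.node 802 (.node 982 (.node 1523 (.node 985 .nil .nil) (.node 1416 .nil .nil)) (.node 194 (.node 1288 .nil .nil) .nil)) (.node 1698 (.node 1221 (.node 632 .nil .nil) (.node 1754 .nil .nil)) (.node 1356 (.node 1537 .nil .nil) .nil))) (.node 1742 (.node 1351 (.node 279 (.node 1323 .nil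 .nil) (.node 565 .nil .nil)) (.node 1659 (.node 678 .nil .nil) .nil)) (.node 386 (.node 682 (.node 278 .nil .nil) (.node 1096 .nil .nil)) (.node 1151 (.node 514 .nil .nil) .nil))))) (.node 887 (.node 1504 (.node 938 (.node 712 (.node 1260 (.node 436 .nil .nil) (.node 765 .nil .nil)) (.node 1107 (.node 1699 .nil .nil) .nil)) (.node 1552 (.node 467 (.node 1533 .nil .nil) (.node 1301 .nil .nil)) (.node 273 (.node 1627 .nil .nil) .nil))) (.node 1440 (.node 342 (.node 880 (.node 737 .nil .nil) (.node 1039 .nil .nil)) (.node 421 (.node 875 .nil .nil) .nil)) (.node 783 (.node 801 (.node 651 .nil .nil) (.node 1319 .nil .nil)) (.node 1573 (.node 1554 .nil .nil) .nil)))) (.node 724 (.node 925 (.node 818 (.node 1314 (.node 625 .nil .nil) (.node 45 .nil .nil)) (.node 789 (.node 698 .nil .nil) .nil)) (.node 1258 (.node 1185 (.node 141 .nil .nil) (.node 822 .nil .nil)) (.node 185 (.node 1175 .nil .nil) .nil))) (.node 792 (.node 1520 (.node 403 (.node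 163 .nil .nil) (.node 1393 .nil .nil)) (.node 1687 (.node 1494 .nil .nil) .nil)) (.node 1129 (.node 1029 (.node 819 .nil .nil) .nil) (.node 490 (.node 563 .nil .nil) .nil)))))))

/-- A part. -/
noncomputable def mainPos0_5 : Arr ℕ :=
  (.node 426 mainPos0_3 mainPos0_4)

/-- A part. -/
noncomputable def mainPos0_6 : Arr ℕ :=
  (.node 1492 mainPos0_2 mainPos0_5)

/-- A part. -/
noncomputable def mainPos0_7 : Arr ℕ :=
  (.node 664 (.node 1234 (.node 957 (.node 1650 (.node 1252 (.node 1408 (.node 234 (.node 1460 .nil .nil) (.node 1280 .nil .nil)) (.node 969 (.node 1302 .nil .nil) .nil)) (.node 265 (.node 317 (.node 189 .nil .nil) (.node 1730 .nil .nil)) (.node 324 (.node 794 .nil .nil) .nil))) (.node 1399 (.node 235 (.node 248 (.node 527 .nil .nil) (.node 1690 .nil .nil)) (.node 679 (.node 1413 .nil .nil) .nil)) (.node 1661 (.node 159 (.node 86 .nil .nil) (.node 988 .nil .nil)) (.node 1498 (.node 832 .nil .nil) .nil)))) (.node 1729 (.node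 576 (.node 626 (.node 892 (.node 406 .nil .nil) (.node 713 .nil .nil)) (.node 218 (.node 684 .nil .nil) .nil)) (.node 1626 (.node 1431 (.node 1529 .nil .nil) (.node 1173 .nil .nil)) (.node 811 (.node 240 .nil .nil) .nil))) (.node 834 (.node 1075 (.node 1780 (.node 518 .nil .nil) (.node 1305 .nil .nil)) (.node 660 (.node 512 .nil .nil) .nil)) (.node 138 (.node 254 (.node 333 .nil .nil) (.node 1226 .nil .nil)) (.node 1325 (.node 1448 .nil .nil) .nil))))) (.node 700 (.node 1013 (.node 1606 (.node 150 (.node 1253 (.node 450 .nil .nil) (.node 89 .nil .nil)) (.node 173 (.node 96 .nil .nil) .nil)) (.node 1559 (.node 296 (.node 191 .nil .nil) (.node 615 .nil .nil)) (.node 1289 (.node 1368 .nil .nil) .nil))) (.node 20 (.node 990 (.node 1779 (.node 674 .nil .nil) (.node 804 .nil .nil)) (.node 913 (.node 924 .nil .nil) .nil)) (.node 1089 (.node 261 (.node 590 .nil .nil) (.node 1218 .nil .nil)) (.node 18 (.node 1055 .nil .nil) .nil)))) (.node 351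 (.node 1516 (.node 1337 (.node 1335 (.node 417 .nil .nil) (.node 329 .nil .nil)) (.node 905 (.node 833 .nil .nil) .nil)) (.node 1051 (.node 893 (.node 1736 .nil .nil) (.node 948 .nil .nil)) (.node 131 (.node 1653 .nil .nil) .nil))) (.node 1664 (.node 493 (.node 646 (.node 1763 .nil .nil) (.node 1176 .nil .nil)) (.node 390 (.node 585 .nil .nil) .nil)) (.node 874 (.node 1242 (.node 1105 .nil .nil) (.node 1744 .nil .nil)) (.node 1614 (.node 1030 .nil .nil) .nil)))))) (.node 983 (.node 48 (.node 72 (.node 355 (.node 1488 (.node 949 (.node 456 .nil .nil) (.node 1377 .nil .nil)) (.node 1061 (.node 149 .nil .nil) .nil)) (.node 402 (.node 1346 (.node 98 .nil .nil) (.node 1421 .nil .nil)) (.node 1484 (.node 1689 .nil .nil) .nil))) (.node 1543 (.node 270 (.node 1385 (.node 1610 .nil .nil) (.node 1172 .nil .nil)) (.node 6 (.node 683 .nil .nil) .nil)) (.node 1551 (.node 271 (.node 414 .nil .nil) (.node 812 .nil .nil)) (.node 634 (.node 315 .nil .nil)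 .nil)))) (.node 1410 (.node 1485 (.node 1637 (.node 744 (.node 446 .nil .nil) (.node 564 .nil .nil)) (.node 1195 (.node 1570 .nil .nil) .nil)) (.node 1290 (.node 934 (.node 705 .nil .nil) (.node 1191 .nil .nil)) (.node 654 (.node 304 .nil .nil) .nil))) (.node 1644 (.node 1706 (.node 595 (.node 255 .nil .nil) (.node 1117 .nil .nil)) (.node 1630 (.node 180 .nil .nil) .nil)) (.node 534 (.node 479 (.node 779 .nil .nil) (.node 805 .nil .nil)) (.node 160 (.node 1532 .nil .nil) .nil))))) (.node 1196 (.node 976 (.node 251 (.node 1720 (.node 1316 (.node 422 .nil .nil) (.node 1279 .nil .nil)) (.node 1666 (.node 1014 .nil .nil) .nil)) (.node 202 (.node 1713 (.node 1108 .nil .nil) (.node 498 .nil .nil)) (.node 1758 (.node 587 .nil .nil) .nil))) (.node 1676 (.node 930 (.node 1560 (.node 275 .nil .nil) (.node 641 .nil .nil)) (.node 542 (.node 1470 .nil .nil) .nil)) (.node 521 (.node 720 (.node 1150 .nil .nil) (.node 1571 .nil .nil)) (.node 850 (.node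 1208 .nil .nil) .nil)))) (.node 645 (.node 867 (.node 112 (.node 620 (.node 74 .nil .nil) (.node 864 .nil .nil)) (.node 1737 (.node 1165 .nil .nil) .nil)) (.node 287 (.node 1751 (.node 152 .nil .nil) (.node 155 .nil .nil)) (.node 547 (.node 69 .nil .nil) .nil))) (.node 136 (.node 1181 (.node 1625 (.node 1157 .nil .nil) (.node 604 .nil .nil)) (.node 162 (.node 1726 .nil .nil) .nil)) (.node 1273 (.node 1216 (.node 993 .nil .nil) .nil) (.node 308 (.node 594 .nil .nil) .nil)))))))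

/-- A part. -/
noncomputable def mainPos0_8 : Arr ℕ :=
  (.node 1549 (.node 891 (.node 1772 (.node 1145 (.node 477 (.node 1251 (.node 1521 (.node 1046 .nil .nil) (.node 642 .nil .nil)) (.node 1512 (.node 1012 .nil .nil) .nil)) (.node 513 (.node 110 (.node 174 .nil .nil) (.node 1015 .nil .nil)) (.node 318 (.node 1008 .nil .nil) .nil))) (.node 1467 (.node 577 (.node 1481 (.node 1415 .nil .nil) (.node 1261 .nil .nil)) (.node 1058 (.node 449 .nil .nil) .nil)) (.node 1228 (.node 59 (.node 692 .nil .nil) (.node 917 .nil .nil)) (.node 1509 (.node 597 .nil .nil) .nil)))) (.node 1419 (.node 475 (.node 1665 (.node 1701 (.node 997 .nil .nil) (.node 1693 .nil .nil)) (.node 1601 (.node 1197 .nil .nil) .nil)) (.node 310 (.node 298 (.node 407 .nil .nil) (.node 109 .nil .nil)) (.node 1113 (.node 447 .nil .nil) .nil))) (.node 799 (.node 1232 (.node 1673 (.node 904 .nil .nil) (.node 1072 .nil .nil)) (.node 133 (.node 1091 .nil .nil) .nil)) (.node 1468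 (.node 1035 (.node 1678 .nil .nil) (.node 1645 .nil .nil)) (.node 458 (.node 1776 .nil .nil) .nil))))) (.node 245 (.node 1307 (.node 276 (.node 540 (.node 937 (.node 1517 .nil .nil) (.node 1102 .nil .nil)) (.node 31 (.node 583 .nil .nil) .nil)) (.node 1063 (.node 831 (.node 1756 .nil .nil) (.node 1414 .nil .nil)) (.node 1359 (.node 858 .nil .nil) .nil))) (.node 61 (.node 1365 (.node 552 (.node 1671 .nil .nil) (.node 183 .nil .nil)) (.node 1269 (.node 1306 .nil .nil) .nil)) (.node 70 (.node 103 (.node 1053 .nil .nil) (.node 246 .nil .nil)) (.node 619 (.node 384 .nil .nil) .nil)))) (.node 605 (.node 497 (.node 1640 (.node 1766 (.node 454 .nil .nil) (.node 1299 .nil .nil)) (.node 507 (.node 723 .nil .nil) .nil)) (.node 1474 (.node 1651 (.node 1722 .nil .nil) (.node 520 .nil .nil)) (.node 825 (.node 1777 .nil .nil) .nil))) (.node 772 (.node 537 (.node 373 (.node 284 .nil .nil) (.node 211 .nil .nil)) (.node 487 (.node 293 .nil .nil) .nil))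 (.node 680 (.node 34 (.node 209 .nil .nil) (.node 25 .nil .nil)) (.node 1396 (.node 1263 .nil .nil) .nil)))))) (.node 1478 (.node 397 (.node 119 (.node 757 (.node 1471 (.node 538 (.node 1427 .nil .nil) (.node 327 .nil .nil)) (.node 77 (.node 1406 .nil .nil) .nil)) (.node 134 (.node 496 (.node 721 .nil .nil) (.node 1599 .nil .nil)) (.node 873 (.node 225 .nil .nil) .nil))) (.node 1648 (.node 650 (.node 100 (.node 1765 .nil .nil) (.node 1070 .nil .nil)) (.node 36 (.node 972 .nil .nil) .nil)) (.node 882 (.node 1230 (.node 815 .nil .nil) (.node 177 .nil .nil)) (.node 1425 (.node 1591 .nil .nil) .nil)))) (.node 1491 (.node 1162 (.node 1160 (.node 1511 (.node 1589 .nil .nil) (.node 348 .nil .nil)) (.node 57 (.node 1137 .nil .nil) .nil)) (.node 728 (.node 438 (.node 992 .nil .nil) (.node 1340 .nil .nil)) (.node 337 (.node 43 .nil .nil) .nil))) (.node 1745 (.node 352 (.node 358 (.node 29 .nil .nil) (.node 1418 .nil .nil)) (.node 1016 (.node 1050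 .nil .nil) .nil)) (.node 1691 (.node 1074 (.node 566 .nil .nil) (.node 770 .nil .nil)) (.node 262 (.node 544 .nil .nil) .nil))))) (.node 776 (.node 839 (.node 1616 (.node 216 (.node 408 (.node 316 .nil .nil) (.node 420 .nil .nil)) (.node 580 (.node 687 .nil .nil) .nil)) (.node 95 (.node 1330 (.node 195 .nil .nil) (.node 443 .nil .nil)) (.node 330 (.node 560 .nil .nil) .nil))) (.node 374 (.node 463 (.node 80 (.node 827 .nil .nil) (.node 161 .nil .nil)) (.node 888 (.node 300 .nil .nil) .nil)) (.node 204 (.node 1710 (.node 1569 .nil .nil) (.node 1376 .nil .nil)) (.node 820 (.node 379 .nil .nil) .nil)))) (.node 1057 (.node 398 (.node 1642 (.node 1370 (.node 569 .nil .nil) (.node 193 .nil .nil)) (.node 470 (.node 923 .nil .nil) .nil)) (.node 1568 (.node 629 (.node 1639 .nil .nil) (.node 1110 .nil .nil)) (.node 1060 (.node 121 .nil .nil) .nil))) (.node 1587 (.node 914 (.node 1433 (.node 749 .nil .nil) (.node 574 .nil .nil)) (.node 500 (.node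 637 .nil .nil) .nil)) (.node 793 (.node 773 (.node 1193 .nil .nil) .nil) (.node 622 (.node 817 .nil .nil) .nil)))))))

/-- A part. -/
noncomputable def mainPos0_9 : Arr ℕ :=
  (.node 716 mainPos0_7 mainPos0_8)

/-- A part. -/
noncomputable def mainPos0_10 : Arr ℕ :=
  (.node 1577 (.node 501 (.node 1545 (.node 295 (.node 1128 (.node 1487 (.node 751 (.node 1674 .nil .nil) (.node 1733 .nil .nil)) (.node 1574 (.node 12 .nil .nil) .nil)) (.node 717 (.node 780 (.node 1583 .nil .nil) (.node 1781 .nil .nil)) (.node 813 (.node 986 .nil .nil) .nil))) (.node 1558 (.node 1094 (.node 623 (.node 320 .nil .nil) (.node 365 .nil .nil)) (.node 845 (.node 492 .nil .nil) .nil)) (.node 1514 (.node 1285 (.node 88 .nil .nil) (.node 170 .nil .nil)) (.node 1308 (.node 1049 .nil .nil) .nil)))) (.node 616 (.node 8 (.node 1223 (.node 1635 (.node 1257 .nil .nil) (.node 624 .nil .nil)) (.node 1202 (.node 1295 .nil .nil) .nil)) (.node 158 (.node 550 (.node 120 .nil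 .nil) (.node 1519 .nil .nil)) (.node 283 (.node 861 .nil .nil) .nil))) (.node 451 (.node 1249 (.node 424 (.node 1459 .nil .nil) (.node 1271 .nil .nil)) (.node 697 (.node 823 .nil .nil) .nil)) (.node 15 (.node 40 (.node 1654 .nil .nil) (.node 510 .nil .nil)) (.node 232 (.node 1119 .nil .nil) .nil))))) (.node 338 (.node 1381 (.node 791 (.node 1428 (.node 582 (.node 649 .nil .nil) (.node 1704 .nil .nil)) (.node 1436 (.node 274 .nil .nil) .nil)) (.node 113 (.node 1438 (.node 962 .nil .nil) (.node 1382 .nil .nil)) (.node 124 (.node 592 .nil .nil) .nil))) (.node 1198 (.node 953 (.node 1584 (.node 1104 .nil .nil) (.node 922 .nil .nil)) (.node 611 (.node 411 .nil .nil) .nil)) (.node 2 (.node 228 (.node 602 .nil .nil) (.node 1082 .nil .nil)) (.node 1090 (.node 901 .nil .nil) .nil)))) (.node 405 (.node 869 (.node 1457 (.node 640 (.node 249 .nil .nil) (.node 933 .nil .nil)) (.node 117 (.node 464 .nil .nil) .nil)) (.node 115 (.node 841 (.node 1166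 .nil .nil) (.node 1628 .nil .nil)) (.node 1752 (.node 1174 .nil .nil) .nil))) (.node 452 (.node 1771 (.node 964 (.node 970 .nil .nil) (.node 387 .nil .nil)) (.node 638 (.node 1464 .nil .nil) .nil)) (.node 690 (.node 1683 (.node 64 .nil .nil) (.node 325 .nil .nil)) (.node 199 (.node 743 .nil .nil) .nil)))))) (.node 1064 (.node 1540 (.node 435 (.node 375 (.node 1077 (.node 998 (.node 1437 .nil .nil) (.node 1672 .nil .nil)) (.node 1411 (.node 673 .nil .nil) .nil)) (.node 1 (.node 263 (.node 1199 .nil .nil) (.node 738 .nil .nil)) (.node 1544 (.node 1638 .nil .nil) .nil))) (.node 863 (.node 243 (.node 1041 (.node 1647 .nil .nil) (.node 1311 .nil .nil)) (.node 613 (.node 558 .nil .nil) .nil)) (.node 151 (.node 742 (.node 1496 .nil .nil) (.node 1588 .nil .nil)) (.node 1586 (.node 288 .nil .nil) .nil)))) (.node 494 (.node 987 (.node 1476 (.node 290 (.node 643 .nil .nil) (.node 1728 .nil .nil)) (.node 1059 (.node 699 .nil .nil) .nil)) (.node 346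 (.node 1769 (.node 340 .nil .nil) (.node 1502 .nil .nil)) (.node 659 (.node 478 .nil .nil) .nil))) (.node 707 (.node 147 (.node 297 (.node 389 .nil .nil) (.node 1632 .nil .nil)) (.node 1697 (.node 771 .nil .nil) .nil)) (.node 207 (.node 581 (.node 286 .nil .nil) (.node 1069 .nil .nil)) (.node 1607 (.node 1170 .nil .nil) .nil))))) (.node 1555 (.node 1254 (.node 1281 (.node 423 (.node 27 (.node 1669 .nil .nil) (.node 79 .nil .nil)) (.node 1169 (.node 1621 .nil .nil) .nil)) (.node 495 (.node 1136 (.node 1347 .nil .nil) (.node 1241 .nil .nil)) (.node 787 (.node 1037 .nil .nil) .nil))) (.node 466 (.node 1200 (.node 1773 (.node 94 .nil .nil) (.node 554 .nil .nil)) (.node 1748 (.node 663 .nil .nil) .nil)) (.node 1518 (.node 260 (.node 1233 .nil .nil) (.node 222 .nil .nil)) (.node 1275 (.node 609 .nil .nil) .nil)))) (.node 715 (.node 1374 (.node 531 (.node 876 (.node 1127 .nil .nil) (.node 573 .nil .nil)) (.node 35 (.node 696 .nil .nil) .nil))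 (.node 1565 (.node 92 (.node 1768 .nil .nil) (.node 1332 .nil .nil)) (.node 973 (.node 1369 .nil .nil) .nil))) (.node 282 (.node 224 (.node 244 (.node 539 .nil .nil) (.node 878 .nil .nil)) (.node 1362 (.node 788 .nil .nil) .nil)) (.node 603 (.node 1209 (.node 1724 .nil .nil) .nil) (.node 1245 (.node 1268 .nil .nil) .nil)))))))

/-- A part. -/
noncomputable def mainPos0_11 : Arr ℕ :=
  (.node 693 (.node 394 (.node 1062 (.node 951 (.node 940 (.node 1679 (.node 1432 (.node 1184 .nil .nil) (.node 1081 .nil .nil)) (.node 617 (.node 412 .nil .nil) .nil)) (.node 1539 (.node 312 (.node 1084 .nil .nil) (.node 1187 .nil .nil)) (.node 1073 (.node 1461 .nil .nil) .nil))) (.node 710 (.node 1190 (.node 1482 (.node 912 .nil .nil) (.node 1248 .nil .nil)) (.node 1017 (.node 1146 .nil .nil) .nil)) (.node 1395 (.node 50 (.node 239 .nil .nil) (.node 910 .nil .nil)) (.node 156 (.node 760 .nil .nil) .nil)))) (.node 529 (.node 1004 (.node 748 (.node 1700 (.node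 1600 .nil .nil) (.node 884 .nil .nil)) (.node 1493 (.node 856 .nil .nil) .nil)) (.node 790 (.node 903 (.node 441 .nil .nil) (.node 356 .nil .nil)) (.node 657 (.node 756 .nil .nil) .nil))) (.node 1177 (.node 142 (.node 1714 (.node 175 .nil .nil) (.node 588 .nil .nil)) (.node 1759 (.node 1770 .nil .nil) .nil)) (.node 99 (.node 393 (.node 140 .nil .nil) (.node 672 .nil .nil)) (.node 433 (.node 1380 .nil .nil) .nil))))) (.node 984 (.node 1066 (.node 483 (.node 1265 (.node 404 (.node 1388 .nil .nil) (.node 1018 .nil .nil)) (.node 1143 (.node 1086 .nil .nil) .nil)) (.node 732 (.node 755 (.node 1550 .nil .nil) (.node 1021 .nil .nil)) (.node 956 (.node 752 .nil .nil) .nil))) (.node 1237 (.node 343 (.node 1342 (.node 726 .nil .nil) (.node 549 .nil .nil)) (.node 1201 (.node 76 .nil .nil) .nil)) (.node 1563 (.node 1738 (.node 1164 .nil .nil) (.node 1320 .nil .nil)) (.node 1002 (.node 381 .nil .nil) .nil)))) (.node 1564 (.node 1505 (.node 695 (.node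 410 (.node 197 .nil .nil) (.node 1694 .nil .nil)) (.node 572 (.node 1743 .nil .nil) .nil)) (.node 1312 (.node 1349 (.node 1656 .nil .nil) (.node 1005 .nil .nil)) (.node 9 (.node 432 .nil .nil) .nil))) (.node 439 (.node 372 (.node 1403 (.node 1453 .nil .nil) (.node 926 .nil .nil)) (.node 662 (.node 1749 .nil .nil) .nil)) (.node 1455 (.node 1372 (.node 1240 .nil .nil) .nil) (.node 277 (.node 561 .nil .nil) .nil)))))) (.node 1680 (.node 1579 (.node 961 (.node 1328 (.node 1078 (.node 775 (.node 1001 .nil .nil) (.node 1384 .nil .nil)) (.node 764 (.node 1152 .nil .nil) .nil)) (.node 206 (.node 844 (.node 289 .nil .nil) (.node 1739 .nil .nil)) (.node 1212 (.node 1685 .nil .nil) .nil))) (.node 1515 (.node 391 (.node 1192 (.node 1398 .nil .nil) (.node 759 .nil .nil)) (.node 567 (.node 368 .nil .nil) .nil)) (.node 413 (.node 774 (.node 1631 .nil .nil) (.node 460 .nil .nil)) (.node 1354 (.node 1417 .nil .nil) .nil)))) (.node 824 (.node 1144 (.node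 729 (.node 1760 (.node 942 .nil .nil) (.node 1274 .nil .nil)) (.node 1670 (.node 1219 .nil .nil) .nil)) (.node 1495 (.node 589 (.node 1633 .nil .nil) (.node 1719 .nil .nil)) (.node 627 (.node 797 .nil .nil) .nil))) (.node 981 (.node 769 (.node 766 (.node 350 .nil .nil) (.node 945 .nil .nil)) (.node 1536 (.node 382 .nil .nil) .nil)) (.node 401 (.node 63 (.node 505 .nil .nil) (.node 1125 .nil .nil)) (.node 1458 (.node 267 .nil .nil) .nil))))) (.node 1287 (.node 42 (.node 907 (.node 849 (.node 730 (.node 1709 .nil .nil) (.node 991 .nil .nil)) (.node 947 (.node 1225 .nil .nil) .nil)) (.node 47 (.node 1702 (.node 1617 .nil .nil) (.node 256 .nil .nil)) (.node 860 (.node 584 .nil .nil) .nil))) (.node 1441 (.node 139 (.node 1572 (.node 568 .nil .nil) (.node 1684 .nil .nil)) (.node 332 (.node 1227 .nil .nil) .nil)) (.node 543 (.node 1392 (.node 1025 .nil .nil) (.node 220 .nil .nil)) (.node 1040 (.node 1099 .nil .nil) .nil)))) (.node 213 (.node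 968 (.node 786 (.node 1602 (.node 1118 .nil .nil) (.node 835 .nil .nil)) (.node 56 (.node 1646 .nil .nil) .nil)) (.node 1231 (.node 169 (.node 1006 .nil .nil) (.node 1112 .nil .nil)) (.node 1407 (.node 1114 .nil .nil) .nil))) (.node 1179 (.node 978 (.node 1764 (.node 1291 .nil .nil) (.node 196 .nil .nil)) (.node 1238 (.node 104 .nil .nil) .nil)) (.node 675 (.node 1313 (.node 445 .nil .nil) .nil) (.node 473 (.node 1344 .nil .nil) .nil)))))))

/-- A part. -/
noncomputable def mainPos0_12 : Arr ℕ :=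
  (.node 838 mainPos0_10 mainPos0_11)

/-- A part. -/
noncomputable def mainPos0_13 : Arr ℕ :=
  (.node 1463 mainPos0_9 mainPos0_12)

/-- A part. -/
noncomputable def mainPos0_14 : Arr ℕ :=
  (.node 504 mainPos0_6 mainPos0_13)

/-- The array. -/
noncomputable def mainPos0 : Arr ℕ := mainPos0_14

/-- A part. -/
noncomputable def mainWords1_0 : Arr (List ℕ) :=
  (.node [35,1] (.node [33,33] (.node [41,34] (.node [38,35,1] (.node [38,33,33] (.node [1,36,1,1] (.node [39,35,37,1] (.node [35,41,33,1,1] .nil .nil) .nil) (.node [1,1,37,33] (.node [34,1,1,36,1] .nil .nil) .nil)) (.node [34,39,34,1] (.node [35,34,41,1] (.node [41,33,38,33,1] .nil .nil) .nil) (.node [41,35,34,34] .nil .nil))) (.node [1,35,34] (.node [40,37,33,1] (.node [39,41,38,1] (.node [36,36,1,33,1] .nil .nil) .nil) (.node [1,41,39,33] (.node [37,36,34,39,1] .nil .nil) .nil)) (.node [34,1,36,1] (.node [38,35,33,33] (.node [33,37,36,34,1] .nil .nil) .nil) (.node [34,39,37,34]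 .nil .nil)))) (.node [33,39,1] (.node [1,39,33] (.node [35,1,33,1] (.node [36,1,38,1] (.node [34,38,36,1,1] .nil .nil) .nil) (.node [33,35,38,33] (.node [1,39,41,36,1] .nil .nil) .nil)) (.node [37,35,35,1] (.node [35,35,1,33] (.node [41,35,1,34,1] .nil .nil) .nil) (.node [41,34,35,34] .nil .nil))) (.node [34,39,34] (.node [37,34,34,1] (.node [33,40,39,1] (.node [41,34,35,33,1] .nil .nil) .nil) (.node [34,1,1,34] .nil .nil)) (.node [33,39,36,1] (.node [41,33,35,33] (.node [38,35,1,35,1] .nil .nil) .nil) (.node [36,33,40,34] .nil .nil))))) (.node [39,33,1] (.node [35,37,1] (.node [33,37,33] (.node [41,38,1,1] (.node [37,39,37,1] (.node [35,33,35,1,1] .nil .nil) .nil) (.node [36,37,37,33] (.node [1,1,34,36,1] .nil .nil) .nil)) (.node [35,1,35,1] (.node [33,39,41,1] (.node [40,35,39,33,1] .nil .nil) .nil) (.node [38,41,34,34] .nil .nil))) (.node [33,37,34] (.node [41,39,33,1] (.node [1,35,39,1] (.node [41,35,33,33,1] .nil .nil) .nil) (.node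 [34,38,40,33] (.node [37,1,39,35,33] .nil .nil) .nil)) (.node [36,34,36,1] (.node [39,38,33,33] (.node [38,36,38,34,1] .nil .nil) .nil) (.node [34,38,38,34] .nil .nil)))) (.node [38,41,1] (.node [39,41,33] (.node [34,35,33,1] (.node [34,36,38,1] (.node [33,41,39,1,1] .nil .nil) .nil) (.node [33,1,39,33] (.node [33,36,36,37,1] .nil .nil) .nil)) (.node [36,39,35,1] (.node [39,41,1,33] (.node [40,38,34,34,1] .nil .nil) .nil) (.node [40,1,37,34] .nil .nil))) (.node [35,33,1,1] (.node [41,36,34,1] (.node [39,33,40,1] (.node [40,37,36,33,1] .nil .nil) .nil) (.node [35,39,1,34] .nil .nil)) (.node [33,33,37,1] (.node [1,1,36,33] (.node [33,1,37,35,1] .nil .nil) .nil) (.node [41,37,41,34] .nil .nil)))))) (.node [1,34] (.node [40,1,1] (.node [37,36,1] (.node [40,35,33] (.node [35,37,1,1] (.node [1,37,37,1] (.node [34,38,34,1,1] .nil .nil) .nil) (.node [35,34,37,33] (.node [37,41,1,36,1] .nil .nil) .nil)) (.node [1,41,34,1] (.node [1,37,41,1] (.node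 [35,41,38,33,1] .nil .nil) .nil) (.node [36,37,34,34] .nil .nil))) (.node [1,36,34] (.node [40,38,33,1] (.node [40,33,39,1] (.node [34,41,1,33,1] .nil .nil) .nil) (.node [36,34,40,33] (.node [36,39,1,1,33] .nil .nil) .nil)) (.node [35,33,36,1] (.node [1,37,33,33] (.node [33,36,37,34,1] .nil .nil) .nil) (.node [33,33,38,34] .nil .nil)))) (.node [33,40,1] (.node [34,40,33] (.node [33,33,33,1] (.node [36,34,38,1] (.node [41,33,38,1,1] .nil .nil) .nil) (.node [34,39,38,33] (.node [37,35,34,37,1] .nil .nil) .nil)) (.node [39,37,35,1] (.node [41,38,1,33] (.node [35,34,34,34,1] .nil .nil) .nil) (.node [35,34,36,34] .nil .nil))) (.node [39,40,34] (.node [39,35,34,1] (.node [36,1,40,1] (.node [33,33,36,33,1] .nil .nil) .nil) (.node [40,34,1,34] .nil .nil)) (.node [34,1,37,1] (.node [1,39,35,33] (.node [33,33,33,35,1] .nil .nil) .nil) (.node [37,39,40,34] .nil .nil))))) (.node [39,34,1] (.node [34,38,1] (.node [33,38,33] (.node [37,40,1,1] (.node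 [34,41,37,1] (.node [34,40,35,1,1] .nil .nil) .nil) (.node [37,33,38,33] (.node [36,34,37,36,1] .nil .nil) .nil)) (.node [38,33,35,1] (.node [39,33,1,33] (.node [39,1,40,33,1] .nil .nil) .nil) (.node [38,33,35,34] .nil .nil))) (.node [33,38,34] (.node [35,1,34,1] (.node [33,36,39,1] (.node [41,37,33,33,1] .nil .nil) .nil) (.node [34,34,41,33] .nil .nil)) (.node [34,37,36,1] (.node [36,40,33,33] (.node [33,1,40,34,1] .nil .nil) .nil) (.node [39,34,39,34] .nil .nil)))) (.node [39,1,33] (.node [34,34,34] (.node [37,36,33,1] (.node [34,39,38,1] (.node [41,33,41,1,1] .nil .nil) .nil) (.node [33,37,39,33] (.node [34,36,34,38,1] .nil .nil) .nil)) (.node [39,40,35,1] (.node [36,33,33,33] (.node [37,37,35,34,1] .nil .nil) .nil) (.node [39,34,37,34] .nil .nil))) (.node [38,34,1,1] (.node [40,37,34,1] (.node [36,1,41,1] (.node [1,35,37,33,1] .nil .nil) .nil) (.node [41,1,34,34] .nil .nil)) (.node [37,34,37,1] (.node [36,33,36,33] (.node [39,1,39,35,1]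 .nil .nil) .nil) (.node [38,35,33,1,1] .nil .nil)))))))

/-- A part. -/
noncomputable def mainWords1_1 : Arr (List ℕ) :=
  (.node [39,1] (.node [38,33] (.node [36,1,1] (.node [1,36,1] (.node [33,35,33] (.node [38,36,1,1] (.node [37,36,37,1] (.node [37,34,34,1,1] .nil .nil) .nil) (.node [1,33,37,33] (.node [40,36,1,36,1] .nil .nil) .nil)) (.node [1,40,34,1] (.node [41,34,41,1] (.node [1,36,38,33,1] .nil .nil) .nil) (.node [39,36,34,34] .nil .nil))) (.node [37,35,34] (.node [35,38,33,1] (.node [40,1,39,1] (.node [40,38,1,33,1] .nil .nil) .nil) (.node [36,33,40,33] (.node [40,37,1,40,1] .nil .nil) .nil)) (.node [38,1,36,1] (.node [34,36,33,33] (.node [37,33,37,34,1] .nil .nil) .nil) (.node [35,1,38,34] .nil .nil)))) (.node [38,39,1] (.node [40,39,33] (.node [39,1,33,1] (.node [36,33,38,1] (.node [34,35,37,1,1] .nil .nil) .nil) (.node [33,36,38,33] (.node [1,33,33,37,1] .nil .nil) .nil)) (.node [33,37,35,1] (.node [34,36,1,33] (.node [37,37,1,34,1]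 .nil .nil) .nil) (.node [36,1,36,34] .nil .nil))) (.node [33,40,34] (.node [41,34,34,1] (.node [1,1,40,1] (.node [41,37,35,33,1] .nil .nil) .nil) (.node [34,34,1,34] .nil .nil)) (.node [38,40,36,1] (.node [38,34,35,33] (.node [1,40,1,35,1] .nil .nil) .nil) (.node [38,34,40,34] .nil .nil))))) (.node [35,34,1] (.node [40,37,1] (.node [37,37,33] (.node [41,39,1,1] (.node [34,40,37,1] (.node [1,34,35,1,1] .nil .nil) .nil) (.node [38,41,37,33] (.node [33,39,36,36,1] .nil .nil) .nil)) (.node [33,33,35,1] (.node [38,1,1,33] (.node [38,38,39,33,1] .nil .nil) .nil) (.node [41,1,35,34] .nil .nil))) (.node [39,37,34] (.node [38,40,33,1] (.node [37,35,39,1] (.node [40,36,33,33,1] .nil .nil) .nil) (.node [40,1,41,33] (.node [35,37,1,34,34] .nil .nil) .nil)) (.node [39,36,36,1] (.node [36,39,33,33] (.node [38,34,39,34,1] .nil .nil) .nil) (.node [33,33,39,34] .nil .nil)))) (.node [34,1,33] (.node [36,1,34] (.node [39,35,33,1] (.node [35,38,38,1] (.node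 [33,36,40,1,1] .nil .nil) .nil) (.node [33,33,39,33] (.node [39,33,41,37,1] .nil .nil) .nil)) (.node [1,40,35,1] (.node [39,1,33,33] (.node [33,40,34,34,1] .nil .nil) .nil) (.node [41,33,37,34] .nil .nil))) (.node [41,33,1,1] (.node [35,37,34,1] (.node [34,37,40,1] (.node [40,39,36,33,1] .nil .nil) .nil) (.node [36,1,34,34] .nil .nil)) (.node [40,33,37,1] (.node [38,1,36,33] (.node [40,1,37,35,1] .nil .nil) .nil) (.node [37,33,33,1,1] .nil .nil)))))) (.node [37,34] (.node [35,33,1] (.node [41,36,1] (.node [34,36,33] (.node [35,38,1,1] (.node [37,37,37,1] (.node [35,1,35,1,1] .nil .nil) .nil) (.node [1,36,37,33] (.node [41,35,33,36,1] .nil .nil) .nil)) (.node [37,41,34,1] (.node [33,38,41,1] (.node [40,1,39,33,1] .nil .nil) .nil) (.node [33,39,34,34] .nil .nil))) (.node [37,36,34] (.node [35,39,33,1] (.node [37,34,39,1] (.node [41,1,33,33,1] .nil .nil) .nil) (.node [1,36,40,33] (.node [36,37,1,33,33] .nil .nil) .nil)) (.node [40,33,36,1]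 (.node [40,37,33,33] (.node [36,39,37,34,1] .nil .nil) .nil) (.node [38,33,38,34] .nil .nil)))) (.node [33,41,1] (.node [33,41,33] (.node [38,33,33,1] (.node [41,34,38,1] (.node [1,35,38,1,1] .nil .nil) .nil) (.node [34,40,38,33] (.node [37,33,35,37,1] .nil .nil) .nil)) (.node [34,38,35,1] (.node [40,39,1,33] (.node [37,37,34,34,1] .nil .nil) .nil) (.node [39,36,36,34] .nil .nil))) (.node [37,41,34] (.node [34,36,34,1] (.node [41,1,40,1] (.node [37,36,36,33,1] .nil .nil) .nil) (.node [36,36,1,34] .nil .nil)) (.node [39,1,37,1] (.node [34,40,35,33] (.node [36,37,34,35,1] .nil .nil) .nil) (.node [37,33,41,34] .nil .nil))))) (.node [33,35,1] (.node [39,38,1] (.node [38,38,33] (.node [35,41,1,1] (.node [1,1,38,1] (.node [1,33,36,1,1] .nil .nil) .nil) (.node [1,34,38,33] (.node [34,34,38,36,1] .nil .nil) .nil)) (.node [35,34,35,1] (.node [37,34,1,33] (.node [36,39,40,33,1] .nil .nil) .nil) (.node [36,34,35,34] .nil .nil))) (.node [40,38,34]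 (.node [39,1,34,1] (.node [40,36,39,1] (.node [1,1,35,33,1] .nil .nil) .nil) (.node [33,37,41,33] .nil .nil)) (.node [33,38,36,1] (.node [35,33,35,33] (.node [36,33,41,34,1] .nil .nil) .nil) (.node [35,1,40,34] .nil .nil)))) (.node [33,33,33] (.node [38,34,34] (.node [34,37,33,1] (.node [1,41,38,1] (.node [37,33,1,33,1] .nil .nil) .nil) (.node [35,38,39,33] (.node [33,37,35,38,1] .nil .nil) .nil)) (.node [35,41,35,1] (.node [41,33,33,33] (.node [1,34,36,34,1] .nil .nil) .nil) (.node [38,35,37,34] .nil .nil))) (.node [34,35,1,1] (.node [36,38,34,1] (.node [40,1,41,1] (.node [36,40,37,33,1] .nil .nil) .nil) (.node [40,34,34,34] .nil .nil)) (.node [41,34,37,1] (.node [40,34,36,33] (.node [34,34,40,35,1] .nil .nil) .nil) (.node [41,37,33,1,1] .nil .nil)))))))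

/-- A part. -/
noncomputable def mainWords1_2 : Arr (List ℕ) :=
  (.node [34] mainWords1_0 mainWords1_1)

/-- A part. -/
noncomputable def mainWords1_3 : Arr (List ℕ) :=
  (.node [37,1] (.node [36,33] (.node [34,1,1] (.node [40,35,1] (.node [40,33,33] (.node [34,36,1,1] (.node [34,36,37,1] (.node [1,34,34,1,1] .nil .nil) .nil) (.node [40,1,37,33] (.node [41,1,1,36,1] .nil .nil) .nil)) (.node [37,39,34,1] (.node [38,34,41,1] (.node [37,34,38,33,1] .nil .nil) .nil) (.node [36,36,34,34] .nil .nil))) (.node [34,35,34] (.node [33,38,33,1] (.node [37,1,39,1] (.node [39,37,1,33,1] .nil .nil) .nil) (.node [33,1,40,33] (.node [33,40,36,39,1] .nil .nil) .nil)) (.node [36,1,36,1] (.node [41,35,33,33] (.node [40,39,36,34,1] .nil .nil) .nil) (.node [34,41,37,34] .nil .nil)))) (.node [35,39,1] (.node [37,39,33] (.node [37,1,33,1] (.node [38,1,38,1] (.node [35,33,37,1,1] .nil .nil) .nil) (.node [39,35,38,33] (.node [41,34,1,37,1] .nil .nil) .nil)) (.node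 [40,35,35,1] (.node [1,36,1,33] (.node [37,36,1,34,1] .nil .nil) .nil) (.node [33,39,35,34] .nil .nil))) (.node [41,39,34] (.node [39,34,34,1] (.node [34,41,39,1] (.node [34,37,35,33,1] .nil .nil) .nil) (.node [36,1,1,34] .nil .nil)) (.node [37,39,36,1] (.node [35,34,35,33] (.node [37,36,1,35,1] .nil .nil) .nil) (.node [41,33,40,34] .nil .nil))))) (.node [1,34,1] (.node [37,37,1] (.node [35,37,33] (.node [34,39,1,1] (.node [1,40,37,1] (.node [38,33,35,1,1] .nil .nil) .nil) (.node [34,39,37,33] (.node [40,1,34,36,1] .nil .nil) .nil)) (.node [37,1,35,1] (.node [38,39,41,1] (.node [34,37,39,33,1] .nil .nil) .nil) (.node [39,1,35,34] .nil .nil))) (.node [35,37,34] (.node [33,40,33,1] (.node [34,35,39,1] (.node [34,36,33,33,1] .nil .nil) .nil) (.node [35,1,41,33] (.node [37,37,34,41,33] .nil .nil) .nil)) (.node [1,36,36,1] (.node [33,39,33,33] (.node [1,34,39,34,1] .nil .nil) .nil) (.node [33,40,38,34] .nil .nil)))) (.node [1,1,33] (.node [34,1,34]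 (.node [37,35,33,1] (.node [39,36,38,1] (.node [37,34,40,1,1] .nil .nil) .nil) (.node [36,1,39,33] (.node [34,41,36,37,1] .nil .nil) .nil)) (.node [40,39,35,1] (.node [33,1,33,33] (.node [36,39,34,34,1] .nil .nil) .nil) (.node [33,33,37,34] .nil .nil))) (.node [37,33,1,1] (.node [33,37,34,1] (.node [35,34,40,1] (.node [37,39,36,33,1] .nil .nil) .nil) (.node [41,39,1,34] .nil .nil)) (.node [37,33,37,1] (.node [36,1,36,33] (.node [36,1,37,35,1] .nil .nil) .nil) (.node [1,33,33,1,1] .nil .nil)))))) (.node [35,34] (.node [1,33,1] (.node [39,36,1] (.node [1,36,33] (.node [33,38,1,1] (.node [35,37,37,1] (.node [1,40,34,1,1] .nil .nil) .nil) (.node [38,35,37,33] (.node [34,35,33,36,1] .nil .nil) .nil)) (.node [34,41,34,1] (.node [39,37,41,1] (.node [37,1,39,33,1] .nil .nil) .nil) (.node [34,38,34,34] .nil .nil))) (.node [34,36,34] (.node [1,39,33,1] (.node [1,34,39,1] (.node [35,1,33,33,1] .nil .nil) .nil) (.node [38,34,40,33] (.node [33,39,33,1,33]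 .nil .nil) .nil)) (.node [38,33,36,1] (.node [35,37,33,33] (.node [33,39,37,34,1] .nil .nil) .nil) (.node [36,33,38,34] .nil .nil)))) (.node [37,40,1] (.node [38,40,33] (.node [36,33,33,1] (.node [38,34,38,1] (.node [36,34,38,1,1] .nil .nil) .nil) (.node [41,39,38,33] (.node [38,38,34,37,1] .nil .nil) .nil)) (.node [1,38,35,1] (.node [33,39,1,33] (.node [37,35,34,34,1] .nil .nil) .nil) (.node [40,34,36,34] .nil .nil))) (.node [33,41,34] (.node [41,35,34,1] (.node [38,1,40,1] (.node [40,33,36,33,1] .nil .nil) .nil) (.node [33,35,1,34] .nil .nil)) (.node [37,1,37,1] (.node [38,39,35,33] (.node [41,38,33,35,1] .nil .nil) .nil) (.node [33,33,41,34] .nil .nil))))) (.node [41,34,1] (.node [36,38,1] (.node [35,38,33] (.node [39,40,1,1] (.node [37,41,37,1] (.node [35,1,36,1,1] .nil .nil) .nil) (.node [40,33,38,33] (.node [36,1,38,36,1] .nil .nil) .nil)) (.node [41,33,35,1] (.node [1,34,1,33] (.node [37,37,40,33,1] .nil .nil) .nil) (.node [34,34,35,34]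 .nil .nil))) (.node [36,38,34] (.node [37,1,34,1] (.node [38,36,39,1] (.node [37,40,33,33,1] .nil .nil) .nil) (.node [38,34,41,33] .nil .nil)) (.node [40,37,36,1] (.node [35,41,33,33] (.node [38,36,40,34,1] .nil .nil) .nil) (.node [1,38,39,34] .nil .nil)))) (.node [41,1,33] (.node [36,34,34] (.node [39,36,33,1] (.node [33,40,38,1] (.node [38,1,1,33,1] .nil .nil) .nil) (.node [33,38,39,33] (.node [36,1,35,38,1] .nil .nil) .nil)) (.node [33,41,35,1] (.node [38,33,33,33] (.node [33,39,35,34,1] .nil .nil) .nil) (.node [41,34,37,34] .nil .nil))) (.node [1,35,1,1] (.node [33,38,34,1] (.node [38,1,41,1] (.node [39,35,37,33,1] .nil .nil) .nil) (.node [38,34,34,34] .nil .nil)) (.node [39,34,37,1] (.node [39,33,36,33] (.node [34,36,39,35,1] .nil .nil) .nil) (.node [40,35,33,1,1] .nil .nil)))))))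

/-- A part. -/
noncomputable def mainWords1_4 : Arr (List ℕ) :=
  (.node [41,1] (.node [40,33] (.node [38,1,1] (.node [34,36,1] (.node [35,35,33] (.node [1,37,1,1] (.node [40,36,37,1] (.node [33,37,34,1,1] .nil .nil) .nil) (.node [38,33,37,33] (.node [1,40,1,36,1] .nil .nil) .nil)) (.node [36,40,34,1] (.node [38,35,41,1] (.node [34,38,38,33,1] .nil .nil) .nil) (.node [41,36,34,34] .nil .nil))) (.node [39,35,34] (.node [38,38,33,1] (.node [37,33,39,1] (.node [38,40,1,33,1] .nil .nil) .nil) (.node [40,33,40,33] (.node [35,34,34,40,1] .nil .nil) .nil)) (.node [41,1,36,1] (.node [37,36,33,33] (.node [33,35,37,34,1] .nil .nil) .nil) (.node [40,1,38,34] .nil .nil)))) (.node [41,39,1] (.node [1,40,33] (.node [41,1,33,1] (.node [39,33,38,1] (.node [33,33,38,1,1] .nil .nil) .nil) (.node [39,38,38,33] (.node [1,41,33,37,1] .nil .nil) .nil)) (.node [35,37,35,1] (.node [1,38,1,33] (.node [1,41,1,34,1] .nil .nil) .nil) (.node [38,33,36,34] .nil .nil)))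 (.node [37,40,34] (.node [35,35,34,1] (.node [34,1,40,1] (.node [35,39,35,33,1] .nil .nil) .nil) (.node [37,34,1,34] .nil .nil)) (.node [39,41,36,1] (.node [37,35,35,33] (.node [36,40,1,35,1] .nil .nil) .nil) (.node [1,37,40,34] .nil .nil))))) (.node [37,34,1] (.node [1,38,1] (.node [40,37,33] (.node [34,40,1,1] (.node [37,40,37,1] (.node [1,37,35,1,1] .nil .nil) .nil) (.node [33,33,38,33] (.node [36,1,37,36,1] .nil .nil) .nil)) (.node [36,33,35,1] (.node [36,33,1,33] (.node [37,41,39,33,1] .nil .nil) .nil) (.node [35,33,35,34] .nil .nil))) (.node [41,37,34] (.node [33,1,34,1] (.node [40,35,39,1] (.node [34,37,33,33,1] .nil .nil) .nil) (.node [1,33,41,33] .nil .nil)) (.node [1,37,36,1] (.node [33,40,33,33] (.node [38,35,39,34,1] .nil .nil) .nil) (.node [35,34,39,34] .nil .nil)))) (.node [36,1,33] (.node [39,1,34] (.node [34,36,33,1] (.node [38,38,38,1] (.node [35,33,41,1,1] .nil .nil) .nil) (.node [36,33,39,33] (.node [37,35,1,38,1] .nil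 .nil) .nil)) (.node [36,40,35,1] (.node [33,33,33,33] (.node [36,40,34,34,1] .nil .nil) .nil) (.node [36,34,37,34] .nil .nil))) (.node [34,34,1,1] (.node [37,37,34,1] (.node [1,1,41,1] (.node [37,34,37,33,1] .nil .nil) .nil) (.node [38,1,34,34] .nil .nil)) (.node [35,34,37,1] (.node [40,1,36,33] (.node [1,35,37,35,1] .nil .nil) .nil) (.node [41,33,33,1,1] .nil .nil)))))) (.node [39,34] (.node [37,33,1] (.node [33,37,1] (.node [41,36,33] (.node [38,38,1,1] (.node [40,37,37,1] (.node [40,1,35,1,1] .nil .nil) .nil) (.node [34,36,37,33] (.node [35,38,33,36,1] .nil .nil) .nil)) (.node [33,1,35,1] (.node [36,38,41,1] (.node [36,34,39,33,1] .nil .nil) .nil) (.node [38,40,34,34] .nil .nil))) (.node [41,36,34] (.node [37,39,33,1] (.node [39,34,39,1] (.node [37,33,33,33,1] .nil .nil) .nil) (.node [38,36,40,33] (.node [39,40,35,33,33] .nil .nil) .nil)) (.node [1,34,36,1] (.node [34,38,33,33] (.node [37,40,37,34,1] .nil .nil) .nil) (.node [1,35,38,34]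 .nil .nil)))) (.node [35,41,1] (.node [35,41,33] (.node [41,33,33,1] (.node [33,35,38,1] (.node [40,1,39,1,1] .nil .nil) .nil) (.node [39,41,38,33] (.node [39,34,36,37,1] .nil .nil) .nil)) (.node [1,39,35,1] (.node [33,41,1,33] (.node [36,38,34,34,1] .nil .nil) .nil) (.node [34,1,37,34] .nil .nil))) (.node [1,33,1,1] (.node [37,36,34,1] (.node [36,33,40,1] (.node [35,37,36,33,1] .nil .nil) .nil) (.node [39,36,1,34] .nil .nil)) (.node [41,1,37,1] (.node [34,41,35,33] (.node [33,37,35,35,1] .nil .nil) .nil) (.node [41,33,41,34] .nil .nil))))) (.node [35,35,1] (.node [41,38,1] (.node [40,38,33] (.node [33,1,33,1] (.node [34,1,38,1] (.node [1,38,36,1,1] .nil .nil) .nil) (.node [36,34,38,33] (.node [36,33,40,36,1] .nil .nil) .nil)) (.node [38,34,35,1] (.node [1,35,1,33] (.node [41,39,40,33,1] .nil .nil) .nil) (.node [39,34,35,34] .nil .nil))) (.node [1,39,34] (.node [34,34,34,1] (.node [34,38,39,1] (.node [35,34,35,33,1] .nil .nil) .nil) (.node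 [39,37,41,33] .nil .nil)) (.node [40,38,36,1] (.node [37,33,35,33] (.node [40,1,1,35,1] .nil .nil) .nil) (.node [39,1,40,34] .nil .nil)))) (.node [36,33,33] (.node [40,34,34] (.node [36,37,33,1] (.node [34,41,38,1] (.node [34,34,1,33,1] .nil .nil) .nil) (.node [36,40,39,33] (.node [33,37,33,39,1] .nil .nil) .nil)) (.node [1,1,36,1] (.node [33,35,33,33] (.node [40,36,36,34,1] .nil .nil) .nil) (.node [37,36,37,34] .nil .nil))) (.node [40,35,1,1] (.node [40,38,34,1] (.node [33,33,41,1] (.node [35,41,37,33,1] .nil .nil) .nil) (.node [34,35,34,34] .nil .nil)) (.node [35,35,37,1] (.node [33,37,36,33] (.node [1,33,41,35,1] .nil .nil) .nil) (.node [38,38,33,1,1] .nil .nil)))))))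

/-- A part. -/
noncomputable def mainWords1_5 : Arr (List ℕ) :=
  (.node [33,1] mainWords1_3 mainWords1_4)

/-- A part. -/
noncomputable def mainWords1_6 : Arr (List ℕ) :=
  (.node [1] mainWords1_2 mainWords1_5)

/-- A part. -/
noncomputable def mainWords1_7 : Arr (List ℕ) :=
  (.node [36,1] (.node [35,33] (.node [33,1,1] (.node [39,35,1] (.node [39,33,33] (.node [33,36,1,1] (.node [33,36,37,1] (.node [39,41,33,1,1] .nil .nil) .nil) (.node [38,1,37,33] (.node [37,1,1,36,1] .nil .nil) .nil)) (.node [35,39,34,1] (.node [37,34,41,1] (.node [1,34,38,33,1] .nil .nil) .nil) (.node [33,36,34,34] .nil .nil))) (.node [33,35,34] (.node [41,37,33,1] (.node [34,1,39,1] (.node [38,36,1,33,1] .nil .nil) .nil) (.node [34,41,39,33] (.node [37,34,35,39,1] .nil .nil) .nil)) (.node [35,1,36,1] (.node [40,35,33,33] (.node [40,37,36,34,1] .nil .nil) .nil) (.node [37,39,37,34] .nil .nil)))) (.node [34,39,1] (.node [33,39,33] (.node [36,1,33,1] (.node [37,1,38,1]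 (.node [1,1,37,1,1] .nil .nil) .nil) (.node [34,35,38,33] (.node [33,33,1,37,1] .nil .nil) .nil)) (.node [38,35,35,1] (.node [40,35,1,33] (.node [36,36,1,34,1] .nil .nil) .nil) (.node [36,37,35,34] .nil .nil))) (.node [38,39,34] (.node [38,34,34,1] (.node [34,40,39,1] (.node [1,37,35,33,1] .nil .nil) .nil) (.node [35,1,1,34] .nil .nil)) (.node [35,39,36,1] (.node [34,34,35,33] (.node [34,36,1,35,1] .nil .nil) .nil) (.node [37,33,40,34] .nil .nil))))) (.node [40,33,1] (.node [36,37,1] (.node [34,37,33] (.node [1,39,1,1] (.node [41,39,37,1] (.node [37,33,35,1,1] .nil .nil) .nil) (.node [1,39,37,33] (.node [37,1,34,36,1] .nil .nil) .nil)) (.node [36,1,35,1] (.node [36,39,41,1] (.node [1,37,39,33,1] .nil .nil) .nil) (.node [38,1,35,34] .nil .nil))) (.node [34,37,34] (.node [1,40,33,1] (.node [33,35,39,1] (.node [1,36,33,33,1] .nil .nil) .nil) (.node [39,38,40,33] (.node [1,34,37,36,33] .nil .nil) .nil)) (.node [41,34,36,1] (.node [1,39,33,33]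 (.node [36,40,38,34,1] .nil .nil) .nil) (.node [40,38,38,34] .nil .nil)))) (.node [39,41,1] (.node [1,1,34] (.node [35,35,33,1] (.node [36,36,38,1] (.node [37,41,39,1,1] .nil .nil) .nil) (.node [34,1,39,33] (.node [1,37,36,37,1] .nil .nil) .nil)) (.node [38,39,35,1] (.node [1,1,33,33] (.node [41,38,34,34,1] .nil .nil) .nil) (.node [41,1,37,34] .nil .nil))) (.node [36,33,1,1] (.node [1,37,34,1] (.node [34,34,40,1] (.node [36,39,36,33,1] .nil .nil) .nil) (.node [38,39,1,34] .nil .nil)) (.node [35,33,37,1] (.node [33,1,36,33] (.node [35,1,37,35,1] .nil .nil) .nil) (.node [33,1,33,1,1] .nil .nil)))))) (.node [34,34] (.node [41,1,1] (.node [38,36,1] (.node [41,35,33] (.node [37,37,1,1] (.node [34,37,37,1] (.node [40,38,34,1,1] .nil .nil) .nil) (.node [37,35,37,33] (.node [33,1,33,36,1] .nil .nil) .nil)) (.node [33,41,34,1] (.node [33,37,41,1] (.node [38,41,38,33,1] .nil .nil) .nil) (.node [1,38,34,34] .nil .nil))) (.node [33,36,34] (.node [41,38,33,1]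 (.node [41,33,39,1] (.node [35,41,1,33,1] .nil .nil) .nil) (.node [37,34,40,33] (.node [1,39,33,1,33] .nil .nil) .nil)) (.node [36,33,36,1] (.node [34,37,33,33] (.node [35,37,37,34,1] .nil .nil) .nil) (.node [35,33,38,34] .nil .nil)))) (.node [34,40,1] (.node [36,40,33] (.node [35,33,33,1] (.node [37,34,38,1] (.node [1,34,38,1,1] .nil .nil) .nil) (.node [36,39,38,33] (.node [1,36,34,37,1] .nil .nil) .nil)) (.node [40,37,35,1] (.node [1,39,1,33] (.node [36,34,34,34,1] .nil .nil) .nil) (.node [37,34,36,34] .nil .nil))) (.node [1,41,34] (.node [40,35,34,1] (.node [37,1,40,1] (.node [35,33,36,33,1] .nil .nil) .nil) (.node [1,35,1,34] .nil .nil)) (.node [36,1,37,1] (.node [33,39,35,33] (.node [33,35,33,35,1] .nil .nil) .nil) (.node [41,39,40,34] .nil .nil))))) (.node [40,34,1] (.node [35,38,1] (.node [34,38,33] (.node [38,40,1,1] (.node [35,41,37,1] (.node [1,41,35,1,1] .nil .nil) .nil) (.node [38,33,38,33] (.node [33,40,37,36,1] .nil .nil)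 .nil)) (.node [40,33,35,1] (.node [40,33,1,33] (.node [36,33,40,33,1] .nil .nil) .nil) (.node [41,33,35,34] .nil .nil))) (.node [35,38,34] (.node [36,1,34,1] (.node [34,36,39,1] (.node [1,40,33,33,1] .nil .nil) .nil) (.node [37,34,41,33] .nil .nil)) (.node [36,37,36,1] (.node [34,41,33,33] (.node [36,1,40,34,1] .nil .nil) .nil) (.node [40,34,39,34] .nil .nil)))) (.node [40,1,33] (.node [35,34,34] (.node [38,36,33,1] (.node [38,39,38,1] (.node [35,1,1,33,1] .nil .nil) .nil) (.node [39,37,39,33] (.node [33,37,34,38,1] .nil .nil) .nil)) (.node [1,41,35,1] (.node [37,33,33,33] (.node [40,37,35,34,1] .nil .nil) .nil) (.node [40,34,37,34] .nil .nil))) (.node [40,34,1,1] (.node [41,37,34,1] (.node [37,1,41,1] (.node [34,35,37,33,1] .nil .nil) .nil) (.node [36,34,34,34] .nil .nil)) (.node [38,34,37,1] (.node [37,33,36,33] (.node [36,34,39,35,1] .nil .nil) .nil) (.node [39,35,33,1,1] .nil .nil)))))))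

/-- A part. -/
noncomputable def mainWords1_8 : Arr (List ℕ) :=
  (.node [40,1] (.node [39,33] (.node [37,1,1] (.node [33,36,1] (.node [34,35,33] (.node [40,36,1,1] (.node [39,36,37,1] (.node [40,34,34,1,1] .nil .nil) .nil) (.node [33,33,37,33] (.node [41,36,1,36,1] .nil .nil) .nil)) (.node [33,40,34,1] (.node [37,35,41,1] (.node [33,36,38,33,1] .nil .nil) .nil) (.node [40,36,34,34] .nil .nil))) (.node [38,35,34] (.node [36,38,33,1] (.node [36,33,39,1] (.node [34,40,1,33,1] .nil .nil) .nil) (.node [38,33,40,33] (.node [37,33,33,40,1] .nil .nil) .nil)) (.node [40,1,36,1] (.node [36,36,33,33] (.node [38,34,37,34,1] .nil .nil) .nil) (.node [36,1,38,34] .nil .nil)))) (.node [40,39,1] (.node [41,39,33] (.node [40,1,33,1] (.node [38,33,38,1] (.node [1,37,37,1,1] .nil .nil) .nil) (.node [34,38,38,33] (.node [36,40,33,37,1] .nil .nil) .nil)) (.node [34,37,35,1] (.node [37,36,1,33] (.node [41,37,1,34,1] .nil .nil) .nil) (.node [35,33,36,34] .nil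 .nil))) (.node [34,40,34] (.node [34,35,34,1] (.node [33,1,40,1] (.node [1,39,35,33,1] .nil .nil) .nil) (.node [36,34,1,34] .nil .nil)) (.node [1,41,36,1] (.node [39,34,35,33] (.node [34,40,1,35,1] .nil .nil) .nil) (.node [40,34,40,34] .nil .nil))))) (.node [36,34,1] (.node [41,37,1] (.node [39,37,33] (.node [33,40,1,1] (.node [36,40,37,1] (.node [39,34,35,1,1] .nil .nil) .nil) (.node [1,33,38,33] (.node [34,1,37,36,1] .nil .nil) .nil)) (.node [35,33,35,1] (.node [39,1,1,33] (.node [39,38,39,33,1] .nil .nil) .nil) (.node [33,33,35,34] .nil .nil))) (.node [40,37,34] (.node [39,40,33,1] (.node [39,35,39,1] (.node [1,37,33,33,1] .nil .nil) .nil) (.node [41,1,41,33] (.node [39,1,33,38,34] .nil .nil) .nil)) (.node [41,36,36,1] (.node [37,39,33,33] (.node [1,35,39,34,1] .nil .nil) .nil) (.node [38,33,39,34] .nil .nil)))) (.node [35,1,33] (.node [38,1,34] (.node [33,36,33,1] (.node [36,38,38,1] (.node [1,38,40,1,1] .nil .nil) .nil) (.node [35,33,39,33]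 (.node [34,35,1,38,1] .nil .nil) .nil)) (.node [34,40,35,1] (.node [40,1,33,33] (.node [34,40,34,34,1] .nil .nil) .nil) (.node [1,34,37,34] .nil .nil))) (.node [1,34,1,1] (.node [36,37,34,1] (.node [41,37,40,1] (.node [34,34,37,33,1] .nil .nil) .nil) (.node [37,1,34,34] .nil .nil)) (.node [41,33,37,1] (.node [39,1,36,33] (.node [38,34,37,35,1] .nil .nil) .nil) (.node [40,33,33,1,1] .nil .nil)))))) (.node [38,34] (.node [36,33,1] (.node [1,37,1] (.node [37,36,33] (.node [36,38,1,1] (.node [39,37,37,1] (.node [36,1,35,1,1] .nil .nil) .nil) (.node [33,36,37,33] (.node [33,38,33,36,1] .nil .nil) .nil)) (.node [1,1,35,1] (.node [34,38,41,1] (.node [1,34,39,33,1] .nil .nil) .nil) (.node [35,39,34,34] .nil .nil))) (.node [38,36,34] (.node [36,39,33,1] (.node [38,34,39,1] (.node [1,33,33,33,1] .nil .nil) .nil) (.node [34,36,40,33] (.node [38,36,33,33,33] .nil .nil) .nil)) (.node [41,33,36,1] (.node [41,37,33,33] (.node [40,39,37,34,1] .nil .nil)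 .nil) (.node [39,33,38,34] .nil .nil)))) (.node [34,41,1] (.node [34,41,33] (.node [40,33,33,1] (.node [1,35,38,1] (.node [38,1,39,1,1] .nil .nil) .nil) (.node [33,41,38,33] (.node [40,33,35,37,1] .nil .nil) .nil)) (.node [35,38,35,1] (.node [34,40,1,33] (.node [33,38,34,34,1] .nil .nil) .nil) (.node [34,37,36,34] .nil .nil))) (.node [38,41,34] (.node [36,36,34,1] (.node [33,33,40,1] (.node [34,37,36,33,1] .nil .nil) .nil) (.node [37,36,1,34] .nil .nil)) (.node [40,1,37,1] (.node [1,41,35,33] (.node [37,37,34,35,1] .nil .nil) .nil) (.node [40,33,41,34] .nil .nil))))) (.node [34,35,1] (.node [40,38,1] (.node [39,38,33] (.node [1,1,33,1] (.node [33,1,38,1] (.node [36,33,36,1,1] .nil .nil) .nil) (.node [35,34,38,33] (.node [39,35,39,36,1] .nil .nil) .nil)) (.node [37,34,35,1] (.node [38,34,1,33] (.node [37,39,40,33,1] .nil .nil) .nil) (.node [37,34,35,34] .nil .nil))) (.node [41,38,34] (.node [41,1,34,1] (.node [1,38,39,1] (.node [41,1,35,33,1]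 .nil .nil) .nil) (.node [37,37,41,33] .nil .nil)) (.node [34,38,36,1] (.node [36,33,35,33] (.node [37,34,41,34,1] .nil .nil) .nil) (.node [37,1,40,34] .nil .nil)))) (.node [35,33,33] (.node [39,34,34] (.node [35,37,33,1] (.node [33,41,38,1] (.node [41,33,1,33,1] .nil .nil) .nil) (.node [1,40,39,33] (.node [34,37,1,39,1] .nil .nil) .nil)) (.node [37,41,35,1] (.node [1,35,33,33] (.node [37,36,36,34,1] .nil .nil) .nil) (.node [33,36,37,34] .nil .nil))) (.node [37,35,1,1] (.node [38,38,34,1] (.node [41,1,41,1] (.node [38,40,37,33,1] .nil .nil) .nil) (.node [1,35,34,34] .nil .nil)) (.node [33,35,37,1] (.node [1,37,36,33] (.node [33,1,41,35,1] .nil .nil) .nil) (.node [33,38,33,1,1] .nil .nil)))))))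

/-- A part. -/
noncomputable def mainWords1_9 : Arr (List ℕ) :=
  (.node [1,1] mainWords1_7 mainWords1_8)

/-- A part. -/
noncomputable def mainWords1_10 : Arr (List ℕ) :=
  (.node [38,1] (.node [37,33] (.node [35,1,1] (.node [41,35,1] (.node [41,33,33] (.node [36,36,1,1] (.node [36,36,37,1] (.node [34,34,34,1,1] .nil .nil) .nil) (.node [41,1,37,33] (.node [41,33,1,36,1] .nil .nil) .nil)) (.node [38,39,34,1] (.node [40,34,41,1] (.node [38,35,38,33,1] .nil .nil) .nil) (.node [37,36,34,34] .nil .nil))) (.node [35,35,34] (.node [34,38,33,1] (.node [38,1,39,1] (.node [38,38,1,33,1] .nil .nil) .nil) (.node [35,1,40,33] (.node [36,1,1,40,1] .nil .nil) .nil)) (.node [37,1,36,1] (.node [1,36,33,33] (.node [41,39,36,34,1] .nil .nil) .nil) (.node [38,41,37,34] .nil .nil)))) (.node [36,39,1] (.node [38,39,33] (.node [38,1,33,1] (.node [35,33,38,1] (.node [38,33,37,1,1] .nil .nil) .nil) (.node [1,36,38,33] (.node [34,40,1,37,1] .nil .nil) .nil))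 (.node [1,37,35,1] (.node [33,36,1,33] (.node [1,37,1,34,1] .nil .nil) .nil) (.node [1,1,36,34] .nil .nil))) (.node [1,40,34] (.node [40,34,34,1] (.node [35,41,39,1] (.node [40,37,35,33,1] .nil .nil) .nil) (.node [40,1,1,34] .nil .nil)) (.node [33,40,36,1] (.node [37,34,35,33] (.node [38,36,1,35,1] .nil .nil) .nil) (.node [36,34,40,34] .nil .nil))))) (.node [34,34,1] (.node [39,37,1] (.node [36,37,33] (.node [40,39,1,1] (.node [33,40,37,1] (.node [40,33,35,1,1] .nil .nil) .nil) (.node [37,41,37,33] (.node [35,33,36,36,1] .nil .nil) .nil)) (.node [40,1,35,1] (.node [36,1,1,33] (.node [36,38,39,33,1] .nil .nil) .nil) (.node [40,1,35,34] .nil .nil))) (.node [36,37,34] (.node [37,40,33,1] (.node [35,35,39,1] (.node [39,36,33,33,1] .nil .nil) .nil) (.node [36,1,41,33] (.node [34,39,34,41,33] .nil .nil) .nil)) (.node [33,36,36,1] (.node [35,39,33,33] (.node [34,34,39,34,1] .nil .nil) .nil) (.node [34,1,39,34] .nil .nil)))) (.node [33,1,33] (.node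 [35,1,34] (.node [38,35,33,1] (.node [1,38,38,1] (.node [40,34,40,1,1] .nil .nil) .nil) (.node [38,1,39,33] (.node [41,34,39,37,1] .nil .nil) .nil)) (.node [41,39,35,1] (.node [37,1,33,33] (.node [37,39,34,34,1] .nil .nil) .nil) (.node [39,33,37,34] .nil .nil))) (.node [38,33,1,1] (.node [34,37,34,1] (.node [38,34,40,1] (.node [38,39,36,33,1] .nil .nil) .nil) (.node [35,1,34,34] .nil .nil)) (.node [38,33,37,1] (.node [37,1,36,33] (.node [38,1,37,35,1] .nil .nil) .nil) (.node [33,33,33,1,1] .nil .nil)))))) (.node [36,34] (.node [33,33,1] (.node [40,36,1] (.node [33,36,33] (.node [34,38,1,1] (.node [36,37,37,1] (.node [34,40,34,1,1] .nil .nil) .nil) (.node [39,35,37,33] (.node [35,35,33,36,1] .nil .nil) .nil)) (.node [35,41,34,1] (.node [1,38,41,1] (.node [39,1,39,33,1] .nil .nil) .nil) (.node [35,38,34,34] .nil .nil))) (.node [36,36,34] (.node [34,39,33,1] (.node [36,34,39,1] (.node [39,1,33,33,1] .nil .nil) .nil) (.node [39,34,40,33] (.node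 [39,34,36,1,33] .nil .nil) .nil)) (.node [39,33,36,1] (.node [37,37,33,33] (.node [35,39,37,34,1] .nil .nil) .nil) (.node [37,33,38,34] .nil .nil)))) (.node [1,41,1] (.node [1,41,33] (.node [37,33,33,1] (.node [40,34,38,1] (.node [38,34,38,1,1] .nil .nil) .nil) (.node [33,40,38,33] (.node [1,33,35,37,1] .nil .nil) .nil)) (.node [33,38,35,1] (.node [36,39,1,33] (.node [1,37,34,34,1] .nil .nil) .nil) (.node [34,36,36,34] .nil .nil))) (.node [34,41,34] (.node [1,36,34,1] (.node [39,1,40,1] (.node [34,36,36,33,1] .nil .nil) .nil) (.node [34,36,1,34] .nil .nil)) (.node [38,1,37,1] (.node [33,40,35,33] (.node [38,35,34,35,1] .nil .nil) .nil) (.node [35,33,41,34] .nil .nil))))) (.node [1,35,1] (.node [38,38,1] (.node [36,38,33] (.node [33,41,1,1] (.node [39,41,37,1] (.node [37,1,36,1,1] .nil .nil) .nil) (.node [41,33,38,33] (.node [35,33,38,36,1] .nil .nil) .nil)) (.node [34,34,35,1] (.node [36,34,1,33] (.node [33,39,40,33,1] .nil .nil) .nil)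 (.node [35,34,35,34] .nil .nil))) (.node [38,38,34] (.node [38,1,34,1] (.node [39,36,39,1] (.node [35,41,33,33,1] .nil .nil) .nil) (.node [39,34,41,33] .nil .nil)) (.node [1,38,36,1] (.node [37,41,33,33] (.node [1,1,41,34,1] .nil .nil) .nil) (.node [34,1,40,34] .nil .nil)))) (.node [1,33,33] (.node [37,34,34] (.node [41,36,33,1] (.node [38,40,38,1] (.node [33,33,1,33,1] .nil .nil) .nil) (.node [34,38,39,33] (.node [41,33,35,38,1] .nil .nil) .nil)) (.node [34,41,35,1] (.node [40,33,33,33] (.node [1,41,35,34,1] .nil .nil) .nil) (.node [1,35,37,34] .nil .nil))) (.node [33,35,1,1] (.node [35,38,34,1] (.node [39,1,41,1] (.node [39,37,37,33,1] .nil .nil) .nil) (.node [39,34,34,34] .nil .nil)) (.node [40,34,37,1] (.node [41,33,36,33] (.node [37,1,40,35,1] .nil .nil) .nil) (.node [36,36,33,1,1] .nil .nil)))))))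

/-- A part. -/
noncomputable def mainWords1_11 : Arr (List ℕ) :=
  (.node [1,33] (.node [41,33] (.node [39,1,1] (.node [36,36,1] (.node [39,35,33] (.node [33,37,1,1] (.node [41,36,37,1] (.node [34,37,34,1,1] .nil .nil) .nil) (.node [34,34,37,33] (.node [37,40,1,36,1] .nil .nil) .nil)) (.node [39,40,34,1] (.node [39,35,41,1] (.node [36,40,38,33,1] .nil .nil) .nil) (.node [1,37,34,34] .nil .nil))) (.node [40,35,34] (.node [39,38,33,1] (.node [38,33,39,1] (.node [39,40,1,33,1] .nil .nil) .nil) (.node [1,34,40,33] (.node [33,35,34,40,1] .nil .nil) .nil)) (.node [1,33,36,1] (.node [38,36,33,33] (.node [34,35,37,34,1] .nil .nil) .nil) (.node [1,33,38,34] .nil .nil)))) (.node [1,40,1] (.node [33,40,33] (.node [1,33,33,1] (.node [1,34,38,1] (.node [36,33,38,1,1] .nil .nil) .nil) (.node [1,39,38,33] (.node [37,41,33,37,1] .nil .nil) .nil)) (.node [36,37,35,1] (.node [33,38,1,33] (.node [35,41,1,34,1] .nil .nil) .nil) (.node [1,34,36,34] .nil .nil)))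 (.node [38,40,34] (.node [37,35,34,1] (.node [35,1,40,1] (.node [36,39,35,33,1] .nil .nil) .nil) (.node [39,34,1,34] .nil .nil)) (.node [33,1,37,1] (.node [39,35,35,33] (.node [38,40,1,35,1] .nil .nil) .nil) (.node [34,39,40,34] .nil .nil))))) (.node [38,34,1] (.node [33,38,1] (.node [41,37,33] (.node [36,40,1,1] (.node [33,41,37,1] (.node [33,37,35,1,1] .nil .nil) .nil) (.node [35,33,38,33] (.node [34,34,37,36,1] .nil .nil) .nil)) (.node [37,33,35,1] (.node [38,33,1,33] (.node [39,41,39,33,1] .nil .nil) .nil) (.node [36,33,35,34] .nil .nil))) (.node [1,38,34] (.node [34,1,34,1] (.node [41,35,39,1] (.node [36,37,33,33,1] .nil .nil) .nil) (.node [38,33,41,33] .nil .nil)) (.node [33,37,36,1] (.node [34,40,33,33] (.node [39,38,39,34,1] .nil .nil) .nil) (.node [36,34,39,34] .nil .nil)))) (.node [38,1,33] (.node [1,34,34] (.node [36,36,33,1] (.node [33,39,38,1] (.node [38,33,41,1,1] .nil .nil) .nil) (.node [40,33,39,33] (.node [33,1,34,38,1]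 .nil .nil) .nil)) (.node [38,40,35,1] (.node [35,33,33,33] (.node [40,35,35,34,1] .nil .nil) .nil) (.node [38,34,37,34] .nil .nil))) (.node [37,34,1,1] (.node [39,37,34,1] (.node [33,1,41,1] (.node [41,34,37,33,1] .nil .nil) .nil) (.node [39,1,34,34] .nil .nil)) (.node [36,34,37,1] (.node [41,1,36,33] (.node [33,33,38,35,1] .nil .nil) .nil) (.node [33,35,33,1,1] .nil .nil)))))) (.node [40,34] (.node [38,33,1] (.node [34,37,1] (.node [1,37,33] (.node [39,38,1,1] (.node [34,39,37,1] (.node [33,33,35,1,1] .nil .nil) .nil) (.node [41,36,37,33] (.node [36,40,33,36,1] .nil .nil) .nil)) (.node [34,1,35,1] (.node [40,38,41,1] (.node [37,34,39,33,1] .nil .nil) .nil) (.node [33,41,34,34] .nil .nil))) (.node [1,37,34] (.node [38,39,33,1] (.node [40,34,39,1] (.node [39,33,33,33,1] .nil .nil) .nil) (.node [1,38,40,33] (.node [38,41,37,33,33] .nil .nil) .nil)) (.node [34,34,36,1] (.node [38,38,33,33] (.node [38,41,37,34,1] .nil .nil) .nil) (.node [34,35,38,34]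 .nil .nil)))) (.node [37,41,1] (.node [37,41,33] (.node [1,35,33,1] (.node [37,35,38,1] (.node [37,34,39,1,1] .nil .nil) .nil) (.node [1,1,39,33] (.node [1,36,36,37,1] .nil .nil) .nil)) (.node [34,39,35,1] (.node [35,41,1,33] (.node [39,38,34,34,1] .nil .nil) .nil) (.node [37,1,37,34] .nil .nil))) (.node [33,33,1,1] (.node [39,36,34,1] (.node [38,33,40,1] (.node [36,37,36,33,1] .nil .nil) .nil) (.node [40,38,1,34] .nil .nil)) (.node [1,33,37,1] (.node [39,41,35,33] (.node [39,40,35,35,1] .nil .nil) .nil) (.node [39,34,41,34] .nil .nil))))) (.node [37,35,1] (.node [1,39,1] (.node [41,38,33] (.node [34,1,33,1] (.node [35,1,38,1] (.node [33,38,36,1,1] .nil .nil) .nil) (.node [40,34,38,33] (.node [41,1,41,36,1] .nil .nil) .nil)) (.node [41,34,35,1] (.node [33,35,1,33] (.node [37,35,1,34,1] .nil .nil) .nil) (.node [40,34,35,34] .nil .nil))) (.node [33,39,34] (.node [35,34,34,1] (.node [40,38,39,1] (.node [40,34,35,33,1] .nil .nil) .nil) (.node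 [34,39,41,33] .nil .nil)) (.node [1,39,36,1] (.node [38,33,35,33] (.node [39,34,1,35,1] .nil .nil) .nil) (.node [1,33,40,34] .nil .nil)))) (.node [37,33,33] (.node [41,34,34] (.node [37,37,33,1] (.node [38,41,38,1] (.node [41,35,1,33,1] .nil .nil) .nil) (.node [38,40,39,33] (.node [40,1,34,39,1] .nil .nil) .nil)) (.node [33,1,36,1] (.node [35,35,33,33] (.node [1,37,36,34,1] .nil .nil) .nil) (.node [1,39,37,34] .nil .nil))) (.node [41,35,1,1] (.node [1,39,34,1] (.node [36,33,41,1] (.node [37,41,37,33,1] .nil .nil) .nil) (.node [37,35,34,34] .nil .nil)) (.node [37,35,37,1] (.node [34,37,36,33] (.node [34,35,41,35,1] .nil .nil) .nil) (.node [41,38,33,1,1] .nil .nil)))))))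

/-- A part. -/
noncomputable def mainWords1_12 : Arr (List ℕ) :=
  (.node [34,1] mainWords1_10 mainWords1_11)

/-- A part. -/
noncomputable def mainWords1_13 : Arr (List ℕ) :=
  (.node [33] mainWords1_9 mainWords1_12)

/-- A part. -/
noncomputable def mainWords1_14 : Arr (List ℕ) :=
  (.node [] mainWords1_6 mainWords1_13)

/-- The array. -/
noncomputable def mainWords1 : Arr (List ℕ) := mainWords1_14

/-- A part. -/
noncomputable def mainPos1_0 : Arr ℕ :=
  (.node 26 (.node 0 (.node 0 (.node 556 (.node 944 (.node 1136 (.node 0 (.node 660 .nil .nil) (.node 948 .nil .nil)) (.node 288 (.node 1099 .nil .nil) .nil)) (.node 0 (.node 1355 (.node 1328 .nil .nil) (.node 130 .nil .nil)) (.node 622 (.node 1011 .nil .nil) .nil))) (.node 0 (.node 1318 (.node 581 (.node 1161 .nil .nil) (.node 0 .nil .nil)) (.node 693 (.node 237 .nil .nil) .nil)) (.node 578 (.node 587 (.node 883 .nil .nil) (.node 961 .nil .nil)) (.node 52 (.node 268 .nil .nil) .nil))))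 (.node 1252 (.node 1346 (.node 1053 (.node 1094 (.node 1341 .nil .nil) (.node 1351 .nil .nil)) (.node 378 (.node 865 .nil .nil) .nil)) (.node 0 (.node 108 (.node 729 .nil .nil) (.node 675 .nil .nil)) (.node 513 (.node 490 .nil .nil) .nil))) (.node 0 (.node 712 (.node 1174 (.node 4 .nil .nil) (.node 913 .nil .nil)) (.node 0 (.node 604 .nil .nil) .nil)) (.node 0 (.node 905 (.node 113 .nil .nil) (.node 141 .nil .nil)) (.node 0 (.node 839 .nil .nil) .nil))))) (.node 672 (.node 445 (.node 0 (.node 0 (.node 1110 (.node 305 .nil .nil) (.node 198 .nil .nil)) (.node 926 (.node 516 .nil .nil) .nil)) (.node 221 (.node 0 (.node 54 .nil .nil) (.node 1237 .nil .nil)) (.node 1144 (.node 0 .nil .nil) .nil))) (.node 435 (.node 938 (.node 120 (.node 692 .nil .nil) (.node 341 .nil .nil)) (.node 1206 (.node 0 .nil .nil) .nil)) (.node 1265 (.node 1033 (.node 1132 .nil .nil) (.node 86 .nil .nil)) (.node 47 (.node 1286 .nil .nil) .nil)))) (.node 0 (.node 749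 (.node 1339 (.node 0 (.node 46 .nil .nil) (.node 1145 .nil .nil)) (.node 0 (.node 697 .nil .nil) .nil)) (.node 896 (.node 93 (.node 1223 .nil .nil) (.node 407 .nil .nil)) (.node 426 (.node 235 .nil .nil) .nil))) (.node 989 (.node 975 (.node 995 (.node 83 .nil .nil) (.node 111 .nil .nil)) (.node 690 (.node 0 .nil .nil) .nil)) (.node 299 (.node 0 (.node 487 .nil .nil) (.node 657 .nil .nil)) (.node 1070 (.node 345 .nil .nil) .nil)))))) (.node 0 (.node 936 (.node 0 (.node 641 (.node 1016 (.node 919 (.node 2 .nil .nil) (.node 1149 .nil .nil)) (.node 0 (.node 290 .nil .nil) .nil)) (.node 0 (.node 0 (.node 352 .nil .nil) (.node 203 .nil .nil)) (.node 372 (.node 142 .nil .nil) .nil))) (.node 706 (.node 0 (.node 0 (.node 322 .nil .nil) (.node 684 .nil .nil)) (.node 920 (.node 1251 .nil .nil) .nil)) (.node 1088 (.node 1084 (.node 0 .nil .nil) (.node 168 .nil .nil)) (.node 95 (.node 1243 .nil .nil) .nil)))) (.node 156 (.node 972 (.node 1137 (.node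 348 (.node 0 .nil .nil) (.node 1333 .nil .nil)) (.node 97 (.node 0 .nil .nil) .nil)) (.node 272 (.node 554 (.node 201 .nil .nil) (.node 1163 .nil .nil)) (.node 673 (.node 802 .nil .nil) .nil))) (.node 716 (.node 1322 (.node 459 (.node 1117 .nil .nil) (.node 0 .nil .nil)) (.node 1345 (.node 708 .nil .nil) .nil)) (.node 84 (.node 633 (.node 595 .nil .nil) (.node 0 .nil .nil)) (.node 0 (.node 1057 .nil .nil) .nil))))) (.node 0 (.node 1105 (.node 982 (.node 0 (.node 700 (.node 1164 .nil .nil) (.node 1201 .nil .nil)) (.node 597 (.node 24 .nil .nil) .nil)) (.node 0 (.node 0 (.node 174 .nil .nil) (.node 1085 .nil .nil)) (.node 0 (.node 517 .nil .nil) .nil))) (.node 413 (.node 907 (.node 0 (.node 1273 .nil .nil) (.node 396 .nil .nil)) (.node 247 (.node 303 .nil .nil) .nil)) (.node 680 (.node 897 (.node 0 .nil .nil) (.node 94 .nil .nil)) (.node 1015 (.node 362 .nil .nil) .nil)))) (.node 824 (.node 440 (.node 1036 (.node 294 (.node 623 .nil .nil)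 (.node 1208 .nil .nil)) (.node 978 (.node 1205 .nil .nil) .nil)) (.node 464 (.node 389 (.node 118 .nil .nil) (.node 515 .nil .nil)) (.node 881 (.node 827 .nil .nil) .nil))) (.node 725 (.node 0 (.node 472 (.node 320 .nil .nil) (.node 783 .nil .nil)) (.node 543 (.node 0 .nil .nil) .nil)) (.node 382 (.node 67 (.node 994 .nil .nil) .nil) (.node 92 (.node 0 .nil .nil) .nil)))))))

/-- A part. -/
noncomputable def mainPos1_1 : Arr ℕ :=
  (.node 0 (.node 1170 (.node 1214 (.node 75 (.node 431 (.node 136 (.node 0 (.node 925 .nil .nil) (.node 1098 .nil .nil)) (.node 0 (.node 0 .nil .nil) .nil)) (.node 875 (.node 337 (.node 36 .nil .nil) (.node 613 .nil .nil)) (.node 424 (.node 1281 .nil .nil) .nil))) (.node 774 (.node 624 (.node 410 (.node 683 .nil .nil) (.node 131 .nil .nil)) (.node 429 (.node 963 .nil .nil) .nil)) (.node 860 (.node 444 (.node 584 .nil .nil) (.node 1125 .nil .nil)) (.node 647 (.node 901 .nil .nil) .nil)))) (.node 0 (.node 509 (.node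 586 (.node 481 (.node 261 .nil .nil) (.node 283 .nil .nil)) (.node 573 (.node 1267 .nil .nil) .nil)) (.node 1056 (.node 555 (.node 1271 .nil .nil) (.node 1049 .nil .nil)) (.node 0 (.node 165 .nil .nil) .nil))) (.node 869 (.node 124 (.node 1217 (.node 375 .nil .nil) (.node 756 .nil .nil)) (.node 1148 (.node 170 .nil .nil) .nil)) (.node 0 (.node 347 (.node 753 .nil .nil) (.node 295 .nil .nil)) (.node 65 (.node 309 .nil .nil) .nil))))) (.node 674 (.node 116 (.node 171 (.node 112 (.node 845 (.node 0 .nil .nil) (.node 334 .nil .nil)) (.node 233 (.node 0 .nil .nil) .nil)) (.node 553 (.node 177 (.node 884 .nil .nil) (.node 733 .nil .nil)) (.node 0 (.node 6 .nil .nil) .nil))) (.node 1146 (.node 974 (.node 0 (.node 1324 .nil .nil) (.node 1181 .nil .nil)) (.node 458 (.node 0 .nil .nil) .nil)) (.node 0 (.node 567 (.node 258 .nil .nil) (.node 870 .nil .nil)) (.node 484 (.node 917 .nil .nil) .nil)))) (.node 1260 (.node 199 (.node 728 (.node 0 (.node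 419 .nil .nil) (.node 654 .nil .nil)) (.node 110 (.node 790 .nil .nil) .nil)) (.node 834 (.node 874 (.node 467 .nil .nil) (.node 830 .nil .nil)) (.node 1066 (.node 912 .nil .nil) .nil))) (.node 642 (.node 1046 (.node 273 (.node 1292 .nil .nil) (.node 876 .nil .nil)) (.node 313 (.node 0 .nil .nil) .nil)) (.node 0 (.node 0 (.node 665 .nil .nil) (.node 710 .nil .nil)) (.node 148 (.node 900 .nil .nil) .nil)))))) (.node 1058 (.node 1089 (.node 1168 (.node 0 (.node 621 (.node 0 (.node 1220 .nil .nil) (.node 0 .nil .nil)) (.node 1032 (.node 882 .nil .nil) .nil)) (.node 194 (.node 1077 (.node 1115 .nil .nil) (.node 1050 .nil .nil)) (.node 0 (.node 1128 .nil .nil) .nil))) (.node 332 (.node 863 (.node 528 (.node 1123 .nil .nil) (.node 275 .nil .nil)) (.node 682 (.node 1187 .nil .nil) .nil)) (.node 0 (.node 91 (.node 1078 .nil .nil) (.node 182 .nil .nil)) (.node 685 (.node 911 .nil .nil) .nil)))) (.node 489 (.node 13 (.node 436 (.node 1253 (.node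 822 .nil .nil) (.node 269 .nil .nil)) (.node 244 (.node 1147 .nil .nil) .nil)) (.node 744 (.node 409 (.node 671 .nil .nil) (.node 55 .nil .nil)) (.node 0 (.node 816 .nil .nil) .nil))) (.node 228 (.node 886 (.node 0 (.node 812 .nil .nil) (.node 0 .nil .nil)) (.node 818 (.node 0 .nil .nil) .nil)) (.node 1063 (.node 0 (.node 323 .nil .nil) (.node 361 .nil .nil)) (.node 0 (.node 0 .nil .nil) .nil))))) (.node 477 (.node 287 (.node 1235 (.node 1359 (.node 0 (.node 0 .nil .nil) (.node 338 .nil .nil)) (.node 144 (.node 1285 .nil .nil) .nil)) (.node 356 (.node 1343 (.node 867 .nil .nil) (.node 0 .nil .nil)) (.node 0 (.node 1278 .nil .nil) .nil))) (.node 1126 (.node 0 (.node 1173 (.node 205 .nil .nil) (.node 1121 .nil .nil)) (.node 380 (.node 703 .nil .nil) .nil)) (.node 74 (.node 601 (.node 0 .nil .nil) (.node 0 .nil .nil)) (.node 902 (.node 0 .nil .nil) .nil)))) (.node 200 (.node 229 (.node 915 (.node 0 (.node 669 .nil .nil) (.node 792 .nil .nil))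 (.node 0 (.node 0 .nil .nil) .nil)) (.node 0 (.node 933 (.node 563 .nil .nil) (.node 833 .nil .nil)) (.node 691 (.node 0 .nil .nil) .nil))) (.node 0 (.node 0 (.node 1310 (.node 501 .nil .nil) (.node 1091 .nil .nil)) (.node 343 (.node 128 .nil .nil) .nil)) (.node 909 (.node 810 (.node 766 .nil .nil) .nil) (.node 1304 (.node 991 .nil .nil) .nil)))))))

/-- A part. -/
noncomputable def mainPos1_2 : Arr ℕ :=
  (.node 771 mainPos1_0 mainPos1_1)

/-- A part. -/
noncomputable def mainPos1_3 : Arr ℕ :=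
  (.node 0 (.node 910 (.node 854 (.node 906 (.node 1326 (.node 15 (.node 541 (.node 0 .nil .nil) (.node 1041 .nil .nil)) (.node 300 (.node 37 .nil .nil) .nil)) (.node 134 (.node 442 (.node 44 .nil .nil) (.node 1157 .nil .nil)) (.node 707 (.node 0 .nil .nil) .nil))) (.node 1224 (.node 1002 (.node 474 (.node 1097 .nil .nil) (.node 202 .nil .nil)) (.node 1316 (.node 794 .nil .nil) .nil)) (.node 126 (.node 242 (.node 0 .nil .nil) (.node 241 .nil .nil)) (.node 817 (.node 677 .nil .nil) .nil)))) (.node 62 (.node 70 (.node 189 (.node 423 (.node 1045 .nil .nil) (.node 611 .nil .nil)) (.node 811 (.node 238 .nil .nil) .nil)) (.node 496 (.node 758 (.node 871 .nil .nil) (.node 1152 .nil .nil)) (.node 558 (.node 1274 .nil .nil) .nil))) (.node 1297 (.node 600 (.node 0 (.node 646 .nil .nil) (.node 0 .nil .nil)) (.node 315 (.node 394 .nil .nil) .nil)) (.node 466 (.node 1104 (.node 0 .nil .nil) (.node 434 .nil .nil)) (.node 0 (.node 0 .nil .nil) .nil)))))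 (.node 1352 (.node 0 (.node 1054 (.node 33 (.node 325 (.node 1167 .nil .nil) (.node 1122 .nil .nil)) (.node 0 (.node 397 .nil .nil) .nil)) (.node 41 (.node 779 (.node 0 .nil .nil) (.node 1236 .nil .nil)) (.node 1301 (.node 1180 .nil .nil) .nil))) (.node 0 (.node 433 (.node 53 (.node 321 .nil .nil) (.node 1044 .nil .nil)) (.node 263 (.node 630 .nil .nil) .nil)) (.node 773 (.node 0 (.node 676 .nil .nil) (.node 0 .nil .nil)) (.node 32 (.node 1035 .nil .nil) .nil)))) (.node 986 (.node 0 (.node 21 (.node 1119 (.node 152 .nil .nil) (.node 460 .nil .nil)) (.node 1209 (.node 591 .nil .nil) .nil)) (.node 1312 (.node 0 (.node 0 .nil .nil) (.node 1233 .nil .nil)) (.node 0 (.node 78 .nil .nil) .nil))) (.node 1203 (.node 754 (.node 723 (.node 96 .nil .nil) (.node 285 .nil .nil)) (.node 316 (.node 0 .nil .nil) .nil)) (.node 1133 (.node 566 (.node 934 .nil .nil) (.node 1198 .nil .nil)) (.node 81 (.node 0 .nil .nil) .nil)))))) (.node 520 (.node 219 (.node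 1347 (.node 98 (.node 552 (.node 727 (.node 232 .nil .nil) (.node 0 .nil .nil)) (.node 602 (.node 562 .nil .nil) .nil)) (.node 928 (.node 1207 (.node 350 .nil .nil) (.node 0 .nil .nil)) (.node 1018 (.node 492 .nil .nil) .nil))) (.node 452 (.node 1189 (.node 1202 (.node 297 .nil .nil) (.node 593 .nil .nil)) (.node 421 (.node 85 .nil .nil) .nil)) (.node 0 (.node 0 (.node 569 .nil .nil) (.node 1238 .nil .nil)) (.node 1290 (.node 69 .nil .nil) .nil)))) (.node 655 (.node 143 (.node 923 (.node 470 (.node 339 .nil .nil) (.node 505 .nil .nil)) (.node 139 (.node 1357 .nil .nil) .nil)) (.node 1068 (.node 739 (.node 491 .nil .nil) (.node 0 .nil .nil)) (.node 1014 (.node 832 .nil .nil) .nil))) (.node 485 (.node 197 (.node 1043 (.node 592 .nil .nil) (.node 1001 .nil .nil)) (.node 437 (.node 1197 .nil .nil) .nil)) (.node 0 (.node 1191 (.node 769 .nil .nil) (.node 438 .nil .nil)) (.node 717 (.node 107 .nil .nil) .nil))))) (.node 262 (.node 0 (.node 776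 (.node 1231 (.node 976 (.node 121 .nil .nil) (.node 465 .nil .nil)) (.node 211 (.node 1226 .nil .nil) .nil)) (.node 56 (.node 291 (.node 0 .nil .nil) (.node 281 .nil .nil)) (.node 0 (.node 1196 .nil .nil) .nil))) (.node 0 (.node 649 (.node 181 (.node 344 .nil .nil) (.node 804 .nil .nil)) (.node 358 (.node 625 .nil .nil) .nil)) (.node 1067 (.node 370 (.node 992 .nil .nil) (.node 0 .nil .nil)) (.node 534 (.node 0 .nil .nil) .nil)))) (.node 79 (.node 167 (.node 1156 (.node 1212 (.node 145 .nil .nil) (.node 0 .nil .nil)) (.node 1275 (.node 0 .nil .nil) .nil)) (.node 1178 (.node 1169 (.node 0 .nil .nil) (.node 207 .nil .nil)) (.node 1022 (.node 486 .nil .nil) .nil))) (.node 629 (.node 987 (.node 962 (.node 831 .nil .nil) (.node 0 .nil .nil)) (.node 0 (.node 391 .nil .nil) .nil)) (.node 1037 (.node 583 (.node 784 .nil .nil) .nil) (.node 0 (.node 1277 .nil .nil) .nil)))))))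

/-- A part. -/
noncomputable def mainPos1_4 : Arr ℕ :=
  (.node 0 (.node 151 (.node 1158 (.node 404 (.node 335 (.node 216 (.node 0 (.node 66 .nil .nil) (.node 336 .nil .nil)) (.node 1327 (.node 1062 .nil .nil) .nil)) (.node 904 (.node 1102 (.node 217 .nil .nil) (.node 1350 .nil .nil)) (.node 1303 (.node 1247 .nil .nil) .nil))) (.node 0 (.node 159 (.node 153 (.node 781 .nil .nil) (.node 166 .nil .nil)) (.node 0 (.node 588 .nil .nil) .nil)) (.node 301 (.node 0 (.node 864 .nil .nil) (.node 849 .nil .nil)) (.node 0 (.node 709 .nil .nil) .nil)))) (.node 1185 (.node 0 (.node 0 (.node 16 (.node 0 .nil .nil) (.node 890 .nil .nil)) (.node 526 (.node 57 .nil .nil) .nil)) (.node 0 (.node 828 (.node 1005 .nil .nil) (.node 0 .nil .nil)) (.node 1087 (.node 0 .nil .nil) .nil))) (.node 346 (.node 0 (.node 163 (.node 596 .nil .nil) (.node 856 .nil .nil)) (.node 0 (.node 0 .nil .nil) .nil)) (.node 314 (.node 0 (.node 1003 .nil .nil) (.node 158 .nil .nil))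 (.node 0 (.node 243 .nil .nil) .nil))))) (.node 282 (.node 996 (.node 1073 (.node 0 (.node 0 (.node 1245 .nil .nil) (.node 293 .nil .nil)) (.node 80 (.node 253 .nil .nil) .nil)) (.node 0 (.node 476 (.node 105 .nil .nil) (.node 218 .nil .nil)) (.node 1047 (.node 179 .nil .nil) .nil))) (.node 175 (.node 0 (.node 1230 (.node 180 .nil .nil) (.node 456 .nil .nil)) (.node 0 (.node 125 .nil .nil) .nil)) (.node 521 (.node 393 (.node 212 .nil .nil) (.node 893 .nil .nil)) (.node 1219 (.node 0 .nil .nil) .nil)))) (.node 0 (.node 149 (.node 28 (.node 666 (.node 0 .nil .nil) (.node 367 .nil .nil)) (.node 239 (.node 1225 .nil .nil) .nil)) (.node 984 (.node 493 (.node 914 .nil .nil) (.node 0 .nil .nil)) (.node 957 (.node 1172 .nil .nil) .nil))) (.node 965 (.node 0 (.node 551 (.node 214 .nil .nil) (.node 1182 .nil .nil)) (.node 213 (.node 0 .nil .nil) .nil)) (.node 0 (.node 0 (.node 0 .nil .nil) (.node 398 .nil .nil)) (.node 449 (.node 701 .nil .nil)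 .nil)))))) (.node 0 (.node 0 (.node 457 (.node 545 (.node 658 (.node 523 (.node 628 .nil .nil) (.node 25 .nil .nil)) (.node 7 (.node 632 .nil .nil) .nil)) (.node 0 (.node 1027 (.node 225 .nil .nil) (.node 406 .nil .nil)) (.node 0 (.node 651 .nil .nil) .nil))) (.node 0 (.node 527 (.node 259 (.node 1255 .nil .nil) (.node 267 .nil .nil)) (.node 1042 (.node 1331 .nil .nil) .nil)) (.node 590 (.node 0 (.node 0 .nil .nil) (.node 503 .nil .nil)) (.node 1222 (.node 1113 .nil .nil) .nil)))) (.node 169 (.node 0 (.node 190 (.node 206 (.node 277 .nil .nil) (.node 388 .nil .nil)) (.node 1009 (.node 0 .nil .nil) .nil)) (.node 0 (.node 1154 (.node 898 .nil .nil) (.node 0 .nil .nil)) (.node 1095 (.node 0 .nil .nil) .nil))) (.node 0 (.node 542 (.node 785 (.node 1112 .nil .nil) (.node 1134 .nil .nil)) (.node 981 (.node 1081 .nil .nil) .nil)) (.node 1240 (.node 606 (.node 146 .nil .nil) (.node 547 .nil .nil)) (.node 747 (.node 687 .nil .nil) .nil))))) (.node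 1131 (.node 715 (.node 1096 (.node 422 (.node 1038 (.node 511 .nil .nil) (.node 0 .nil .nil)) (.node 330 (.node 0 .nil .nil) .nil)) (.node 161 (.node 780 (.node 908 .nil .nil) (.node 0 .nil .nil)) (.node 415 (.node 185 .nil .nil) .nil))) (.node 129 (.node 1244 (.node 903 (.node 0 .nil .nil) (.node 1199 .nil .nil)) (.node 759 (.node 150 .nil .nil) .nil)) (.node 0 (.node 0 (.node 609 .nil .nil) (.node 137 .nil .nil)) (.node 0 (.node 1358 .nil .nil) .nil)))) (.node 479 (.node 971 (.node 0 (.node 752 (.node 614 .nil .nil) (.node 401 .nil .nil)) (.node 607 (.node 1025 .nil .nil) .nil)) (.node 0 (.node 615 (.node 390 .nil .nil) (.node 0 .nil .nil)) (.node 1031 (.node 559 .nil .nil) .nil))) (.node 0 (.node 0 (.node 31 (.node 570 .nil .nil) (.node 1283 .nil .nil)) (.node 0 (.node 1269 .nil .nil) .nil)) (.node 328 (.node 1184 (.node 0 .nil .nil) .nil) (.node 667 (.node 662 .nil .nil) .nil)))))))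

/-- A part. -/
noncomputable def mainPos1_5 : Arr ℕ :=
  (.node 0 mainPos1_3 mainPos1_4)

/-- A part. -/
noncomputable def mainPos1_6 : Arr ℕ :=
  (.node 1234 mainPos1_2 mainPos1_5)

/-- A part. -/
noncomputable def mainPos1_7 : Arr ℕ :=
  (.node 88 (.node 617 (.node 841 (.node 0 (.node 441 (.node 0 (.node 1193 (.node 0 .nil .nil) (.node 899 .nil .nil)) (.node 1248 (.node 0 .nil .nil) .nil)) (.node 439 (.node 639 (.node 412 .nil .nil) (.node 0 .nil .nil)) (.node 825 (.node 0 .nil .nil) .nil))) (.node 743 (.node 1100 (.node 11 (.node 1353 .nil .nil) (.node 0 .nil .nil)) (.node 1356 (.node 0 .nil .nil) .nil)) (.node 0 (.node 868 (.node 638 .nil .nil) (.node 327 .nil .nil)) (.node 0 (.node 0 .nil .nil) .nil)))) (.node 0 (.node 1325 (.node 585 (.node 135 (.node 1321 .nil .nil) (.node 0 .nil .nil)) (.node 1155 (.node 1354 .nil .nil) .nil)) (.node 0 (.node 0 (.node 0 .nil .nil) (.node 117 .nil .nil)) (.node 0 (.node 363 .nil .nil) .nil))) (.node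 983 (.node 760 (.node 0 (.node 483 .nil .nil) (.node 71 .nil .nil)) (.node 196 (.node 634 .nil .nil) .nil)) (.node 857 (.node 950 (.node 1141 .nil .nil) (.node 1006 .nil .nil)) (.node 1332 (.node 935 .nil .nil) .nil))))) (.node 447 (.node 620 (.node 0 (.node 251 (.node 1210 (.node 540 .nil .nil) (.node 1262 .nil .nil)) (.node 1320 (.node 204 .nil .nil) .nil)) (.node 840 (.node 539 (.node 1008 .nil .nil) (.node 721 .nil .nil)) (.node 208 (.node 0 .nil .nil) .nil))) (.node 918 (.node 561 (.node 0 (.node 931 .nil .nil) (.node 0 .nil .nil)) (.node 698 (.node 969 .nil .nil) .nil)) (.node 767 (.node 462 (.node 99 .nil .nil) (.node 1276 .nil .nil)) (.node 1153 (.node 571 .nil .nil) .nil)))) (.node 311 (.node 0 (.node 681 (.node 1150 (.node 1072 .nil .nil) (.node 949 .nil .nil)) (.node 582 (.node 0 .nil .nil) .nil)) (.node 0 (.node 101 (.node 0 .nil .nil) (.node 768 .nil .nil)) (.node 195 (.node 0 .nil .nil) .nil))) (.node 0 (.node 504 (.node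 0 (.node 0 .nil .nil) (.node 531 .nil .nil)) (.node 536 (.node 993 .nil .nil) .nil)) (.node 574 (.node 1254 (.node 1360 .nil .nil) (.node 0 .nil .nil)) (.node 0 (.node 879 .nil .nil) .nil)))))) (.node 1338 (.node 775 (.node 147 (.node 0 (.node 746 (.node 1175 (.node 1140 .nil .nil) (.node 1268 .nil .nil)) (.node 1114 (.node 355 .nil .nil) .nil)) (.node 231 (.node 1071 (.node 522 .nil .nil) (.node 265 .nil .nil)) (.node 418 (.node 730 .nil .nil) .nil))) (.node 0 (.node 209 (.node 1186 (.node 866 .nil .nil) (.node 384 .nil .nil)) (.node 252 (.node 579 .nil .nil) .nil)) (.node 843 (.node 17 (.node 805 .nil .nil) (.node 0 .nil .nil)) (.node 0 (.node 801 .nil .nil) .nil)))) (.node 0 (.node 0 (.node 0 (.node 724 (.node 478 .nil .nil) (.node 823 .nil .nil)) (.node 0 (.node 0 .nil .nil) .nil)) (.node 306 (.node 748 (.node 0 .nil .nil) (.node 0 .nil .nil)) (.node 368 (.node 1064 .nil .nil) .nil))) (.node 0 (.node 0 (.node 1221 (.node 154 .nil .nil)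 (.node 1256 .nil .nil)) (.node 0 (.node 1330 .nil .nil) .nil)) (.node 656 (.node 250 (.node 0 .nil .nil) (.node 0 .nil .nil)) (.node 1305 (.node 1023 .nil .nil) .nil))))) (.node 0 (.node 763 (.node 603 (.node 0 (.node 954 (.node 821 .nil .nil) (.node 1250 .nil .nil)) (.node 0 (.node 1323 .nil .nil) .nil)) (.node 819 (.node 0 (.node 1270 .nil .nil) (.node 973 .nil .nil)) (.node 0 (.node 1179 .nil .nil) .nil))) (.node 0 (.node 191 (.node 1307 (.node 417 .nil .nil) (.node 946 .nil .nil)) (.node 550 (.node 0 .nil .nil) .nil)) (.node 977 (.node 0 (.node 184 .nil .nil) (.node 0 .nil .nil)) (.node 1287 (.node 0 .nil .nil) .nil)))) (.node 1280 (.node 0 (.node 210 (.node 594 (.node 745 .nil .nil) (.node 497 .nil .nil)) (.node 0 (.node 696 .nil .nil) .nil)) (.node 737 (.node 0 (.node 702 .nil .nil) (.node 750 .nil .nil)) (.node 18 (.node 1 .nil .nil) .nil))) (.node 688 (.node 1261 (.node 1188 (.node 892 .nil .nil) (.node 941 .nil .nil)) (.node 637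 (.node 0 .nil .nil) .nil)) (.node 59 (.node 852 (.node 1296 .nil .nil) .nil) (.node 45 (.node 349 .nil .nil) .nil)))))))

/-- A part. -/
noncomputable def mainPos1_8 : Arr ℕ :=
  (.node 0 (.node 173 (.node 0 (.node 90 (.node 1216 (.node 1116 (.node 0 (.node 616 .nil .nil) (.node 1107 .nil .nil)) (.node 0 (.node 1021 .nil .nil) .nil)) (.node 636 (.node 796 (.node 530 .nil .nil) (.node 627 .nil .nil)) (.node 640 (.node 820 .nil .nil) .nil))) (.node 1109 (.node 1090 (.node 1241 (.node 1013 .nil .nil) (.node 943 .nil .nil)) (.node 1319 (.node 921 .nil .nil) .nil)) (.node 1337 (.node 34 (.node 0 .nil .nil) (.node 970 .nil .nil)) (.node 0 (.node 0 .nil .nil) .nil)))) (.node 1020 (.node 888 (.node 0 (.node 0 (.node 488 .nil .nil) (.node 0 .nil .nil)) (.node 1055 (.node 1288 .nil .nil) .nil)) (.node 953 (.node 160 (.node 635 .nil .nil) (.node 1034 .nil .nil)) (.node 837 (.node 1048 .nil .nil) .nil))) (.node 0 (.node 425 (.node 0 (.node 842 .nil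 .nil) (.node 307 .nil .nil)) (.node 310 (.node 985 .nil .nil) .nil)) (.node 0 (.node 755 (.node 0 .nil .nil) (.node 0 .nil .nil)) (.node 557 (.node 0 .nil .nil) .nil))))) (.node 403 (.node 1151 (.node 73 (.node 104 (.node 494 (.node 0 .nil .nil) (.node 927 .nil .nil)) (.node 61 (.node 408 .nil .nil) .nil)) (.node 365 (.node 0 (.node 0 .nil .nil) (.node 0 .nil .nil)) (.node 392 (.node 351 .nil .nil) .nil))) (.node 741 (.node 0 (.node 140 (.node 0 .nil .nil) (.node 192 .nil .nil)) (.node 932 (.node 659 .nil .nil) .nil)) (.node 12 (.node 245 (.node 1040 .nil .nil) (.node 400 .nil .nil)) (.node 951 (.node 1165 .nil .nil) .nil)))) (.node 114 (.node 0 (.node 1263 (.node 0 (.node 0 .nil .nil) (.node 0 .nil .nil)) (.node 576 (.node 1159 .nil .nil) .nil)) (.node 1195 (.node 0 (.node 0 .nil .nil) (.node 82 .nil .nil)) (.node 0 (.node 0 .nil .nil) .nil))) (.node 1130 (.node 10 (.node 1314 (.node 668 .nil .nil) (.node 664 .nil .nil)) (.node 695 (.node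 740 .nil .nil) .nil)) (.node 848 (.node 795 (.node 631 .nil .nil) (.node 650 .nil .nil)) (.node 0 (.node 1061 .nil .nil) .nil)))))) (.node 735 (.node 226 (.node 0 (.node 791 (.node 1012 (.node 102 (.node 0 .nil .nil) (.node 704 .nil .nil)) (.node 432 (.node 402 .nil .nil) .nil)) (.node 22 (.node 797 (.node 0 .nil .nil) (.node 1024 .nil .nil)) (.node 782 (.node 296 .nil .nil) .nil))) (.node 0 (.node 661 (.node 1259 (.node 0 .nil .nil) (.node 420 .nil .nil)) (.node 809 (.node 761 .nil .nil) .nil)) (.node 1309 (.node 885 (.node 0 .nil .nil) (.node 853 .nil .nil)) (.node 454 (.node 0 .nil .nil) .nil)))) (.node 789 (.node 862 (.node 1103 (.node 0 (.node 850 .nil .nil) (.node 308 .nil .nil)) (.node 220 (.node 1342 .nil .nil) .nil)) (.node 1111 (.node 448 (.node 1108 .nil .nil) (.node 302 .nil .nil)) (.node 714 (.node 1075 .nil .nil) .nil))) (.node 0 (.node 312 (.node 846 (.node 653 .nil .nil) (.node 1051 .nil .nil)) (.node 280 (.node 836 .nil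 .nil) .nil)) (.node 0 (.node 1228 (.node 524 .nil .nil) (.node 0 .nil .nil)) (.node 260 (.node 473 .nil .nil) .nil))))) (.node 0 (.node 0 (.node 0 (.node 751 (.node 533 (.node 482 .nil .nil) (.node 829 .nil .nil)) (.node 787 (.node 922 .nil .nil) .nil)) (.node 525 (.node 689 (.node 1218 .nil .nil) (.node 38 .nil .nil)) (.node 945 (.node 155 .nil .nil) .nil))) (.node 186 (.node 1291 (.node 643 (.node 0 .nil .nil) (.node 1348 .nil .nil)) (.node 324 (.node 589 .nil .nil) .nil)) (.node 317 (.node 0 (.node 1092 .nil .nil) (.node 807 .nil .nil)) (.node 0 (.node 679 .nil .nil) .nil)))) (.node 386 (.node 227 (.node 0 (.node 0 (.node 264 .nil .nil) (.node 599 .nil .nil)) (.node 119 (.node 966 .nil .nil) .nil)) (.node 0 (.node 427 (.node 0 .nil .nil) (.node 1284 .nil .nil)) (.node 1364 (.node 0 .nil .nil) .nil))) (.node 0 (.node 183 (.node 43 (.node 19 .nil .nil) (.node 564 .nil .nil)) (.node 1239 (.node 575 .nil .nil) .nil)) (.node 0 (.node 0 (.node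 0 .nil .nil) .nil) (.node 861 (.node 0 .nil .nil) .nil)))))))

/-- A part. -/
noncomputable def mainPos1_9 : Arr ℕ :=
  (.node 0 mainPos1_7 mainPos1_8)

/-- A part. -/
noncomputable def mainPos1_10 : Arr ℕ :=
  (.node 1232 (.node 240 (.node 0 (.node 940 (.node 1060 (.node 990 (.node 364 (.node 0 .nil .nil) (.node 0 .nil .nil)) (.node 0 (.node 248 .nil .nil) .nil)) (.node 0 (.node 0 (.node 1166 .nil .nil) (.node 0 .nil .nil)) (.node 0 (.node 1118 .nil .nil) .nil))) (.node 1204 (.node 1074 (.node 377 (.node 455 .nil .nil) (.node 1028 .nil .nil)) (.node 1282 (.node 115 .nil .nil) .nil)) (.node 371 (.node 0 (.node 568 .nil .nil) (.node 814 .nil .nil)) (.node 1000 (.node 20 .nil .nil) .nil)))) (.node 686 (.node 644 (.node 42 (.node 0 (.node 1192 .nil .nil) (.node 1335 .nil .nil)) (.node 1246 (.node 964 .nil .nil) .nil)) (.node 369 (.node 304 (.node 0 .nil .nil) (.node 176 .nil .nil)) (.node 798 (.node 1363 .nil .nil) .nil))) (.node 942 (.node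 851 (.node 532 (.node 373 .nil .nil) (.node 1306 .nil .nil)) (.node 222 (.node 0 .nil .nil) .nil)) (.node 172 (.node 1138 (.node 0 .nil .nil) (.node 255 .nil .nil)) (.node 284 (.node 1258 .nil .nil) .nil))))) (.node 859 (.node 0 (.node 0 (.node 0 (.node 770 (.node 734 .nil .nil) (.node 0 .nil .nil)) (.node 618 (.node 416 .nil .nil) .nil)) (.node 580 (.node 326 (.node 0 .nil .nil) (.node 815 .nil .nil)) (.node 997 (.node 27 .nil .nil) .nil))) (.node 713 (.node 895 (.node 663 (.node 14 .nil .nil) (.node 87 .nil .nil)) (.node 274 (.node 960 .nil .nil) .nil)) (.node 855 (.node 887 (.node 428 .nil .nil) (.node 187 .nil .nil)) (.node 1242 (.node 1329 .nil .nil) .nil)))) (.node 720 (.node 608 (.node 1143 (.node 998 (.node 63 .nil .nil) (.node 354 .nil .nil)) (.node 0 (.node 430 .nil .nil) .nil)) (.node 0 (.node 0 (.node 1177 .nil .nil) (.node 0 .nil .nil)) (.node 0 (.node 0 .nil .nil) .nil))) (.node 1026 (.node 0 (.node 122 (.node 979 .nil .nil)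 (.node 399 .nil .nil)) (.node 1183 (.node 266 .nil .nil) .nil)) (.node 999 (.node 0 (.node 106 .nil .nil) (.node 952 .nil .nil)) (.node 894 (.node 1361 .nil .nil) .nil)))))) (.node 529 (.node 0 (.node 510 (.node 329 (.node 719 (.node 0 (.node 772 .nil .nil) (.node 0 .nil .nil)) (.node 0 (.node 1106 .nil .nil) .nil)) (.node 109 (.node 463 (.node 279 .nil .nil) (.node 1302 .nil .nil)) (.node 0 (.node 0 .nil .nil) .nil))) (.node 1336 (.node 1127 (.node 1124 (.node 333 .nil .nil) (.node 468 .nil .nil)) (.node 443 (.node 100 .nil .nil) .nil)) (.node 546 (.node 873 (.node 0 .nil .nil) (.node 0 .nil .nil)) (.node 381 (.node 342 .nil .nil) .nil)))) (.node 1082 (.node 1293 (.node 1120 (.node 39 (.node 988 .nil .nil) (.node 0 .nil .nil)) (.node 340 (.node 736 .nil .nil) .nil)) (.node 1029 (.node 379 (.node 450 .nil .nil) (.node 0 .nil .nil)) (.node 1317 (.node 249 .nil .nil) .nil))) (.node 1030 (.node 353 (.node 1213 (.node 535 .nil .nil) (.node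 0 .nil .nil)) (.node 0 (.node 0 .nil .nil) .nil)) (.node 236 (.node 742 (.node 357 .nil .nil) (.node 1257 .nil .nil)) (.node 0 (.node 72 .nil .nil) .nil))))) (.node 799 (.node 835 (.node 0 (.node 164 (.node 652 (.node 0 .nil .nil) (.node 560 .nil .nil)) (.node 1313 (.node 385 .nil .nil) .nil)) (.node 133 (.node 764 (.node 453 .nil .nil) (.node 0 .nil .nil)) (.node 0 (.node 414 .nil .nil) .nil))) (.node 765 (.node 1176 (.node 0 (.node 939 .nil .nil) (.node 612 .nil .nil)) (.node 0 (.node 937 .nil .nil) .nil)) (.node 0 (.node 8 (.node 223 .nil .nil) (.node 1340 .nil .nil)) (.node 548 (.node 1264 .nil .nil) .nil)))) (.node 0 (.node 1272 (.node 544 (.node 387 (.node 705 .nil .nil) (.node 162 .nil .nil)) (.node 319 (.node 40 .nil .nil) .nil)) (.node 0 (.node 502 (.node 0 .nil .nil) (.node 0 .nil .nil)) (.node 788 (.node 0 .nil .nil) .nil))) (.node 1007 (.node 1101 (.node 475 (.node 103 .nil .nil) (.node 271 .nil .nil)) (.node 1135 (.node 0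 .nil .nil) .nil)) (.node 0 (.node 1211 (.node 0 .nil .nil) .nil) (.node 519 (.node 1349 .nil .nil) .nil)))))))

/-- A part. -/
noncomputable def mainPos1_11 : Arr ℕ :=
  (.node 0 (.node 9 (.node 878 (.node 286 (.node 947 (.node 0 (.node 1129 (.node 0 .nil .nil) (.node 51 .nil .nil)) (.node 803 (.node 786 .nil .nil) .nil)) (.node 0 (.node 480 (.node 193 .nil .nil) (.node 1194 .nil .nil)) (.node 572 (.node 847 .nil .nil) .nil))) (.node 178 (.node 0 (.node 0 (.node 722 .nil .nil) (.node 76 .nil .nil)) (.node 1162 (.node 565 .nil .nil) .nil)) (.node 1052 (.node 808 (.node 234 .nil .nil) (.node 1076 .nil .nil)) (.node 461 (.node 359 .nil .nil) .nil)))) (.node 648 (.node 800 (.node 1308 (.node 0 (.node 891 .nil .nil) (.node 757 .nil .nil)) (.node 0 (.node 1190 .nil .nil) .nil)) (.node 0 (.node 968 (.node 514 .nil .nil) (.node 360 .nil .nil)) (.node 1093 (.node 1080 .nil .nil) .nil))) (.node 1344 (.node 276 (.node 0 (.node 1229 .nil .nil) (.node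 958 .nil .nil)) (.node 0 (.node 0 .nil .nil) .nil)) (.node 1311 (.node 538 (.node 215 .nil .nil) (.node 374 .nil .nil)) (.node 23 (.node 1279 .nil .nil) .nil))))) (.node 1069 (.node 405 (.node 254 (.node 48 (.node 3 (.node 292 .nil .nil) (.node 718 .nil .nil)) (.node 451 (.node 1249 .nil .nil) .nil)) (.node 498 (.node 29 (.node 726 .nil .nil) (.node 499 .nil .nil)) (.node 50 (.node 956 .nil .nil) .nil))) (.node 331 (.node 844 (.node 132 (.node 1004 .nil .nil) (.node 89 .nil .nil)) (.node 256 (.node 278 .nil .nil) .nil)) (.node 411 (.node 0 (.node 924 .nil .nil) (.node 138 .nil .nil)) (.node 0 (.node 318 .nil .nil) .nil)))) (.node 0 (.node 872 (.node 35 (.node 224 (.node 549 .nil .nil) (.node 0 .nil .nil)) (.node 446 (.node 0 .nil .nil) .nil)) (.node 0 (.node 0 (.node 0 .nil .nil) (.node 670 .nil .nil)) (.node 645 (.node 508 .nil .nil) .nil))) (.node 512 (.node 123 (.node 77 (.node 1227 .nil .nil) (.node 619 .nil .nil)) (.node 0 (.node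 0 .nil .nil) .nil)) (.node 395 (.node 738 (.node 732 .nil .nil) .nil) (.node 1017 (.node 610 .nil .nil) .nil)))))) (.node 0 (.node 0 (.node 1079 (.node 383 (.node 68 (.node 0 (.node 127 .nil .nil) (.node 1289 .nil .nil)) (.node 1171 (.node 605 .nil .nil) .nil)) (.node 1160 (.node 0 (.node 257 .nil .nil) (.node 0 .nil .nil)) (.node 507 (.node 0 .nil .nil) .nil))) (.node 188 (.node 537 (.node 0 (.node 1298 .nil .nil) (.node 916 .nil .nil)) (.node 64 (.node 289 .nil .nil) .nil)) (.node 270 (.node 0 (.node 0 .nil .nil) (.node 1039 .nil .nil)) (.node 0 (.node 1010 .nil .nil) .nil)))) (.node 0 (.node 793 (.node 298 (.node 0 (.node 711 .nil .nil) (.node 678 .nil .nil)) (.node 0 (.node 694 .nil .nil) .nil)) (.node 1083 (.node 959 (.node 0 .nil .nil) (.node 0 .nil .nil)) (.node 838 (.node 0 .nil .nil) .nil))) (.node 1065 (.node 0 (.node 0 (.node 5 .nil .nil) (.node 877 .nil .nil)) (.node 0 (.node 58 .nil .nil) .nil)) (.node 230 (.node 967 (.node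 929 .nil .nil) (.node 1142 .nil .nil)) (.node 1299 (.node 880 .nil .nil) .nil))))) (.node 0 (.node 1139 (.node 1334 (.node 471 (.node 598 (.node 0 .nil .nil) (.node 1295 .nil .nil)) (.node 157 (.node 0 .nil .nil) .nil)) (.node 30 (.node 0 (.node 0 .nil .nil) (.node 778 .nil .nil)) (.node 1362 (.node 495 .nil .nil) .nil))) (.node 0 (.node 858 (.node 0 (.node 777 .nil .nil) (.node 0 .nil .nil)) (.node 1294 (.node 889 .nil .nil) .nil)) (.node 826 (.node 0 (.node 813 .nil .nil) (.node 506 .nil .nil)) (.node 1200 (.node 1300 .nil .nil) .nil)))) (.node 626 (.node 930 (.node 0 (.node 376 (.node 60 .nil .nil) (.node 0 .nil .nil)) (.node 1019 (.node 0 .nil .nil) .nil)) (.node 1215 (.node 980 (.node 699 .nil .nil) (.node 731 .nil .nil)) (.node 1315 (.node 577 .nil .nil) .nil))) (.node 500 (.node 806 (.node 0 (.node 0 .nil .nil) (.node 366 .nil .nil)) (.node 762 (.node 246 .nil .nil) .nil)) (.node 955 (.node 1266 (.node 518 .nil .nil) .nil) (.node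 1059 (.node 49 .nil .nil) .nil)))))))

/-- A part. -/
noncomputable def mainPos1_12 : Arr ℕ :=
  (.node 0 mainPos1_10 mainPos1_11)

/-- A part. -/
noncomputable def mainPos1_13 : Arr ℕ :=
  (.node 469 mainPos1_9 mainPos1_12)

/-- A part. -/
noncomputable def mainPos1_14 : Arr ℕ :=
  (.node 1086 mainPos1_6 mainPos1_13)

/-- The array. -/
noncomputable def mainPos1 : Arr ℕ := mainPos1_14

/-- A part. -/
noncomputable def mainWords2_0 : Arr (List ℕ) :=
  (.node [37] (.node [38,35] (.node [36,37] (.node [35,37,35] (.node [36,38,36] (.node [39,40,38] (.node [39,38,36,36] (.node [37,35,41,38] (.node [38,35,37,40,38,36] .nil .nil) .nil) (.node [36,38,38,41,35] .nil .nil)) (.node [39,36,37,37] (.node [35,38,40,37,35] .nil .nil) (.node [38,39,40,39,36] .nil .nil))) (.node [40,38,38,35] (.node [37,36,39,36] (.node [39,41,39,35,35] .nil .nil) (.node [35,35,39,37,36] .nil .nil)) (.node [40,37,35,38] (.node [40,38,35,39,35] .nil .nil) (.node [40,37,35,39,37]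 .nil .nil)))) (.node [41,39,37] (.node [39,35,37,35] (.node [38,40,37,36] (.node [37,35,38,35,35] .nil .nil) (.node [35,41,38,36,36] .nil .nil)) (.node [39,40,39,37] (.node [37,41,36,38,35] .nil .nil) (.node [37,40,38,36,37] .nil .nil))) (.node [39,40,39,35] (.node [37,41,35,37] (.node [41,37,35,37,35] .nil .nil) (.node [40,36,39,38,36] .nil .nil)) (.node [36,36,38,38] (.node [41,35,38,39,35] .nil .nil) (.node [40,36,40,39,38] .nil .nil))))) (.node [35,41,35] (.node [36,36,37] (.node [41,38,35,35] (.node [41,35,37,36] (.node [37,37,35,35,35] .nil .nil) (.node [37,41,39,41,35] .nil .nil)) (.node [39,40,37,37] (.node [39,38,35,38,35] .nil .nil) (.node [35,38,40,35,37] .nil .nil))) (.node [40,36,39,35] (.node [37,41,39,36] (.node [36,37,41,35,35] .nil .nil) (.node [37,39,36,38,36] .nil .nil)) (.node [40,36,36,38] (.node [37,40,36,39,35] .nil .nil) (.node [41,35,35,35,38] .nil .nil)))) (.node [39,36,38] (.node [39,41,37,35] (.node [35,39,38,36]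 (.node [39,35,39,35,35] .nil .nil) (.node [40,38,35,37,36] .nil .nil)) (.node [37,37,41,37] (.node [36,38,40,38,35] .nil .nil) (.node [35,37,37,37,37] .nil .nil))) (.node [40,38,41,35] (.node [36,39,36,37] (.node [38,40,36,37,35] .nil .nil) (.node [37,36,36,39,36] .nil .nil)) (.node [37,40,39,38] (.node [41,37,41,39,35] .nil .nil) (.node [38,41,36,38,35,35] .nil .nil)))))) (.node [39,38] (.node [40,38,35] (.node [38,39,36] (.node [39,35,35,35] (.node [37,40,36,36] (.node [35,38,41,38] .nil .nil) (.node [37,36,39,41,35] .nil .nil)) (.node [35,39,37,37] (.node [40,37,41,37,35] .nil .nil) (.node [35,41,35,35,37] .nil .nil))) (.node [37,35,39,35] (.node [35,38,39,36] (.node [40,38,40,35,35] .nil .nil) (.node [37,39,40,37,36] .nil .nil)) (.node [36,40,35,38] (.node [39,36,36,39,35] .nil .nil) (.node [36,39,38,40,37] .nil .nil)))) (.node [37,35,38] (.node [37,37,37,35] (.node [39,36,38,36] (.node [40,38,38,35,35] .nil .nil) (.node [39,38,40,36,36]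 .nil .nil)) (.node [38,38,40,37] (.node [38,39,38,38,35] .nil .nil) (.node [36,40,35,37,37] .nil .nil))) (.node [36,37,41,35] (.node [39,37,36,37] (.node [36,38,36,37,35] .nil .nil) (.node [40,37,41,38,36] .nil .nil)) (.node [40,35,39,38] (.node [39,37,40,39,35] .nil .nil) (.node [38,40,39,41,38] .nil .nil))))) (.node [40,36,36] (.node [37,37,37] (.node [38,40,35,35] (.node [39,37,37,36] (.node [40,39,35,35,35] .nil .nil) (.node [41,35,37,36,36] .nil .nil)) (.node [37,36,39,37] (.node [39,36,36,38,35] .nil .nil) (.node [37,41,37,36,37] .nil .nil))) (.node [35,38,39,35] (.node [41,37,35,37] (.node [35,35,35,37,35] .nil .nil) (.node [39,35,38,38,36] .nil .nil)) (.node [37,39,36,38] (.node [39,37,37,39,35] .nil .nil) (.node [35,35,41,35,38] .nil .nil)))) (.node [35,39,38] (.node [38,36,38,35] (.node [39,40,38,36] (.node [40,37,39,35,35] .nil .nil) (.node [38,35,37,37,36] .nil .nil)) (.node [41,39,41,37] (.node [36,38,41,38,35] .nil .nil)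 (.node [38,38,39,37,37] .nil .nil))) (.node [37,36,36,36] (.node [39,41,36,37] (.node [36,39,37,37,35] .nil .nil) (.node [39,35,38,39,36] .nil .nil)) (.node [38,38,40,38] (.node [36,37,37,41,35] .nil .nil) (.node [36,40,37,35,37,35] .nil .nil))))))) (.node [37,36] (.node [41,37] (.node [41,37,35] (.node [41,38,36] (.node [39,41,38] (.node [36,39,36,36] (.node [37,37,41,38] .nil .nil) (.node [38,40,38,41,35] .nil .nil)) (.node [37,37,37,37] (.node [36,39,40,37,35] .nil .nil) (.node [35,39,35,35,37] .nil .nil))) (.node [35,41,38,35] (.node [37,37,39,36] (.node [39,37,40,35,35] .nil .nil) (.node [40,36,39,37,36] .nil .nil)) (.node [36,39,35,38] (.node [37,40,35,39,35] .nil .nil) (.node [41,37,37,39,37] .nil .nil)))) (.node [37,41,37] (.node [39,36,37,35] (.node [38,41,37,36] (.node [37,36,38,35,35] .nil .nil) (.node [35,41,39,36,36] .nil .nil)) (.node [37,37,40,37] (.node [35,38,38,38,35] .nil .nil) (.node [40,38,39,36,37] .nil .nil))) (.node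 [35,35,41,35] (.node [40,36,36,37] (.node [37,39,35,37,35] .nil .nil) (.node [35,37,40,38,36] .nil .nil)) (.node [37,41,38,38] (.node [41,39,38,39,35] .nil .nil) (.node [35,41,37,40,38] .nil .nil))))) (.node [36,36,36] (.node [40,36,37] (.node [38,39,35,35] (.node [41,36,37,36] (.node [38,38,35,35,35] .nil .nil) (.node [35,38,36,36,36] .nil .nil)) (.node [38,35,39,37] (.node [38,40,35,38,35] .nil .nil) (.node [41,38,41,35,37] .nil .nil))) (.node [37,37,39,35] (.node [38,35,35,37] (.node [36,38,41,35,35] .nil .nil) (.node [38,40,36,38,36] .nil .nil)) (.node [41,37,36,38] (.node [36,36,37,39,35] .nil .nil) (.node [38,38,38,35,38] .nil .nil)))) (.node [36,38,38] (.node [39,35,38,35] (.node [41,39,38,36] (.node [40,36,39,35,35] .nil .nil) (.node [41,37,36,37,36] .nil .nil)) (.node [41,38,41,37] (.node [36,39,40,38,35] .nil .nil) (.node [39,35,39,37,37] .nil .nil))) (.node [38,39,41,35] (.node [36,40,36,37] (.node [37,36,37,37,35] .nil .nil)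 (.node [41,36,37,39,36] .nil .nil)) (.node [35,37,40,38] (.node [41,37,35,41,35] .nil .nil) (.node [40,38,38,39,35,35] .nil .nil)))))) (.node [38,35,35] (.node [37,39,35] (.node [37,35,37] (.node [36,38,35,35] (.node [37,35,37,36] (.node [39,35,35,35,35] .nil .nil) (.node [40,38,39,41,35] .nil .nil)) (.node [40,39,37,37] (.node [38,35,35,38,35] .nil .nil) (.node [40,35,38,35,37] .nil .nil))) (.node [36,36,39,35] (.node [41,38,39,36] (.node [38,39,40,35,35] .nil .nil) (.node [37,39,41,37,36] .nil .nil)) (.node [37,41,35,38] (.node [39,38,36,39,35] .nil .nil) (.node [40,38,39,40,37] .nil .nil)))) (.node [41,35,38] (.node [38,40,37,35] (.node [36,38,38,36] (.node [39,40,38,35,35] .nil .nil) (.node [40,39,40,36,36] .nil .nil)) (.node [37,39,40,37] (.node [38,40,38,38,35] .nil .nil) (.node [36,38,36,37,37] .nil .nil))) (.node [35,38,41,35] (.node [36,38,36,37] (.node [36,39,36,37,35] .nil .nil) (.node [35,37,35,39,36] .nil .nil)) (.node [41,36,39,38]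 (.node [40,39,40,39,35] .nil .nil) (.node [38,38,38,35,35,35] .nil .nil))))) (.node [39,37,36] (.node [35,39,37] (.node [39,41,35,35] (.node [36,39,37,36] (.node [39,40,35,35,35] .nil .nil) (.node [40,38,38,36,36] .nil .nil)) (.node [39,37,39,37] (.node [40,39,36,38,35] .nil .nil) (.node [41,36,38,36,37] .nil .nil))) (.node [40,38,39,35] (.node [41,38,35,37] (.node [36,37,35,37,35] .nil .nil) (.node [39,40,38,38,36] .nil .nil)) (.node [37,41,36,38] (.node [35,41,37,39,35] .nil .nil) (.node [36,36,36,38,38] .nil .nil)))) (.node [41,39,38] (.node [35,38,38,35] (.node [37,35,39,36] (.node [39,38,39,35,35] .nil .nil) (.node [38,39,37,37,36] .nil .nil)) (.node [40,35,35,38] (.node [39,37,35,39,35] .nil .nil) (.node [41,37,40,37,37] .nil .nil))) (.node [35,37,36,36] (.node [41,35,37,37] (.node [37,40,37,37,35] .nil .nil) (.node [39,41,38,39,36] .nil .nil)) (.node [38,39,40,38] (.node [38,35,38,41,35] .nil .nil) (.node [36,37,39,37,37,35] .nil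 .nil))))))))

/-- A part. -/
noncomputable def mainWords2_1 : Arr (List ℕ) :=
  (.node [35,35] (.node [41,35] (.node [39,37] (.node [37,37,35] (.node [39,38,36] (.node [37,41,38] (.node [41,38,36,36] (.node [35,37,41,38] .nil .nil) (.node [41,39,38,41,35] .nil .nil)) (.node [41,36,37,37] (.node [38,38,40,37,35] .nil .nil) (.node [35,39,41,39,36] .nil .nil))) (.node [38,40,38,35] (.node [40,36,39,36] (.node [36,37,40,35,35] .nil .nil) (.node [41,35,39,37,36] .nil .nil)) (.node [39,38,35,38] (.node [37,39,35,39,35] .nil .nil) (.node [37,39,36,39,37] .nil .nil)))) (.node [38,40,37] (.node [41,35,37,35] (.node [35,41,37,36] (.node [40,35,38,35,35] .nil .nil) (.node [36,36,39,36,36] .nil .nil)) (.node [38,41,39,37] (.node [38,36,38,38,35] .nil .nil) (.node [41,37,39,36,37] .nil .nil))) (.node [38,41,39,35] (.node [36,36,36,37] (.node [40,38,35,37,35] .nil .nil) (.node [41,37,39,38,36] .nil .nil)) (.node [38,36,38,38] (.node [35,39,38,39,35]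 .nil .nil) (.node [35,39,40,39,38] .nil .nil))))) (.node [38,41,35] (.node [38,36,37] (.node [36,39,35,35] (.node [38,36,37,36] (.node [41,37,35,35,35] .nil .nil) (.node [41,36,36,36,36] .nil .nil)) (.node [35,35,39,37] (.node [36,39,35,38,35] .nil .nil) (.node [41,38,40,35,37] .nil .nil))) (.node [35,37,39,35] (.node [39,41,39,36] (.node [39,37,41,35,35] .nil .nil) (.node [41,39,36,38,36] .nil .nil)) (.node [36,37,36,38] (.node [37,41,36,39,35] .nil .nil) (.node [39,40,37,35,38] .nil .nil)))) (.node [41,36,38] (.node [37,35,38,35] (.node [37,39,38,36] (.node [37,36,39,35,35] .nil .nil) (.node [37,41,35,37,36] .nil .nil)) (.node [36,38,41,37] (.node [40,38,40,38,35] .nil .nil) (.node [36,40,37,37,37] .nil .nil))) (.node [36,39,41,35] (.node [38,39,36,37] (.node [38,41,36,37,35] .nil .nil) (.node [35,38,36,39,36] .nil .nil)) (.node [35,41,39,38] (.node [39,37,35,41,35] .nil .nil) (.node [39,36,37,39,35,35] .nil .nil)))))) (.node [41,38]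 (.node [35,39,35] (.node [41,39,36] (.node [41,35,35,35] (.node [39,40,36,36] (.node [35,39,41,38] .nil .nil) (.node [37,37,39,41,35] .nil .nil)) (.node [37,39,37,37] (.node [38,39,41,37,35] .nil .nil) (.node [39,41,37,35,37] .nil .nil))) (.node [39,35,39,35] (.node [38,38,39,36] (.node [35,39,40,35,35] .nil .nil) (.node [39,35,41,37,36] .nil .nil)) (.node [39,40,35,38] (.node [37,37,36,39,35] .nil .nil) (.node [38,35,39,40,37] .nil .nil)))) (.node [39,35,38] (.node [40,37,37,35] (.node [41,36,38,36] (.node [35,39,38,35,35] .nil .nil) (.node [37,39,40,36,36] .nil .nil)) (.node [40,38,40,37] (.node [41,39,38,38,35] .nil .nil) (.node [39,40,35,37,37] .nil .nil))) (.node [39,37,41,35] (.node [41,37,36,37] (.node [41,38,36,37,35] .nil .nil) (.node [35,35,35,39,36] .nil .nil)) (.node [36,36,39,38] (.node [36,39,40,39,35] .nil .nil) (.node [41,35,37,35,35,35] .nil .nil))))) (.node [36,37,36] (.node [40,37,37] (.node [37,41,35,35] (.node [41,37,37,36]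 (.node [37,40,35,35,35] .nil .nil) (.node [39,37,37,36,36] .nil .nil)) (.node [39,36,39,37] (.node [36,38,36,38,35] .nil .nil) (.node [39,36,38,36,37] .nil .nil))) (.node [38,38,39,35] (.node [38,38,35,37] (.node [38,35,35,37,35] .nil .nil) (.node [40,36,38,38,36] .nil .nil)) (.node [36,40,36,38] (.node [38,39,37,39,35] .nil .nil) (.node [40,36,37,36,38] .nil .nil)))) (.node [37,39,38] (.node [40,36,38,35] (.node [38,41,38,36] (.node [35,38,39,35,35] .nil .nil) (.node [36,37,37,37,36] .nil .nil)) (.node [37,35,35,38] (.node [40,39,41,38,35] .nil .nil) (.node [35,41,39,37,37] .nil .nil))) (.node [39,36,36,36] (.node [37,35,37,37] (.node [38,39,37,37,35] .nil .nil) (.node [36,36,38,39,36] .nil .nil)) (.node [35,39,40,38] (.node [37,39,37,41,35] .nil .nil) (.node [39,41,38,36,37,35] .nil .nil))))))) (.node [39,36] (.node [36,38] (.node [36,38,35] (.node [36,39,36] (.node [37,35,35,35] (.node [41,39,36,36] (.node [40,37,41,38] .nil .nil) (.node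 [38,35,39,41,35] .nil .nil)) (.node [40,37,37,37] (.node [36,37,41,37,35] .nil .nil) (.node [40,39,35,35,37] .nil .nil))) (.node [39,41,38,35] (.node [40,37,39,36] (.node [41,37,40,35,35] .nil .nil) (.node [41,38,40,37,36] .nil .nil)) (.node [40,39,35,38] (.node [36,36,36,39,35] .nil .nil) (.node [41,39,41,39,37] .nil .nil)))) (.node [39,41,37] (.node [41,36,37,35] (.node [37,35,38,36] (.node [41,36,38,35,35] .nil .nil) (.node [37,36,40,36,36] .nil .nil)) (.node [35,38,40,37] (.node [36,39,38,38,35] .nil .nil) (.node [37,39,41,36,37] .nil .nil))) (.node [38,35,41,35] (.node [35,37,36,37] (.node [37,40,35,37,35] .nil .nil) (.node [41,38,40,38,36] .nil .nil)) (.node [38,35,39,38] (.node [38,41,38,39,35] .nil .nil) (.node [35,35,39,40,38] .nil .nil))))) (.node [38,36,36] (.node [35,37,37] (.node [41,39,35,35] (.node [36,37,37,36] (.node [35,39,35,35,35] .nil .nil) (.node [35,39,36,36,36] .nil .nil)) (.node [41,35,39,37] (.node [37,41,35,38,35]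 .nil .nil) (.node [35,41,36,36,37] .nil .nil))) (.node [40,37,39,35] (.node [40,35,35,37] (.node [37,39,41,35,35] .nil .nil) (.node [38,41,36,38,36] .nil .nil)) (.node [35,39,36,38] (.node [39,36,37,39,35] .nil .nil) (.node [37,40,39,35,38] .nil .nil)))) (.node [39,38,38] (.node [41,35,38,35] (.node [37,40,38,36] (.node [35,37,39,35,35] .nil .nil) (.node [39,38,36,37,36] .nil .nil)) (.node [36,39,41,37] (.node [41,39,40,38,35] .nil .nil) (.node [39,36,39,37,37] .nil .nil))) (.node [41,39,41,35] (.node [35,41,36,37] (.node [36,37,37,37,35] .nil .nil) (.node [39,37,37,39,36] .nil .nil)) (.node [41,37,40,38] (.node [41,39,35,41,35] .nil .nil) (.node [35,37,39,41,35,35] .nil .nil)))))) (.node [40,35,35] (.node [40,39,35] (.node [40,35,37] (.node [39,38,35,35] (.node [39,35,37,36] (.node [35,37,35,35,35] .nil .nil) (.node [38,40,39,41,35] .nil .nil)) (.node [37,40,37,37] (.node [35,37,35,38,35] .nil .nil) (.node [36,36,40,35,37] .nil .nil)))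 (.node [38,36,39,35] (.node [38,40,39,36] (.node [41,39,40,35,35] .nil .nil) (.node [36,38,36,38,36] .nil .nil)) (.node [37,36,36,38] (.node [37,39,36,39,35] .nil .nil) (.node [38,36,38,41,37] .nil .nil)))) (.node [37,36,38] (.node [35,41,37,35] (.node [40,38,38,36] (.node [38,41,38,35,35] .nil .nil) (.node [38,35,35,37,36] .nil .nil)) (.node [35,37,41,37] (.node [41,37,40,38,35] .nil .nil) (.node [39,40,36,37,37] .nil .nil))) (.node [38,38,41,35] (.node [39,38,36,37] (.node [38,39,36,37,35] .nil .nil) (.node [39,38,35,39,36] .nil .nil)) (.node [41,37,39,38] (.node [39,37,41,39,35] .nil .nil) (.node [41,38,35,38,35,35] .nil .nil))))) (.node [41,37,36] (.node [37,39,37] (.node [37,35,37,35] (.node [40,39,37,36] (.node [38,41,35,35,35] .nil .nil) (.node [36,40,38,36,36] .nil .nil)) (.node [41,37,39,37] (.node [39,40,36,38,35] .nil .nil) (.node [41,38,38,36,37] .nil .nil))) (.node [37,40,39,35] (.node [38,40,35,37] (.node [39,37,35,37,35]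 .nil .nil) (.node [38,35,39,38,36] .nil .nil)) (.node [40,35,38,38] (.node [35,35,38,39,35] .nil .nil) (.node [38,39,41,38,38] .nil .nil)))) (.node [37,40,38] (.node [38,38,38,35] (.node [40,35,39,36] (.node [38,40,39,35,35] .nil .nil) (.node [41,39,37,37,36] .nil .nil)) (.node [37,37,35,38] (.node [36,38,35,39,35] .nil .nil) (.node [41,38,40,37,37] .nil .nil))) (.node [35,38,36,36] (.node [37,36,37,37] (.node [39,40,37,37,35] .nil .nil) (.node [38,38,40,39,36] .nil .nil)) (.node [41,39,40,38] (.node [40,36,38,41,35] .nil .nil) (.node [38,36,36,40,37,35] .nil .nil))))))))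

/-- A part. -/
noncomputable def mainWords2_2 : Arr (List ℕ) :=
  (.node [35] mainWords2_0 mainWords2_1)

/-- A part. -/
noncomputable def mainWords2_3 : Arr (List ℕ) :=
  (.node [38] (.node [39,35] (.node [37,37] (.node [36,37,35] (.node [38,38,36] (.node [35,41,38] (.node [40,38,36,36] (.node [38,35,41,38] .nil .nil) (.node [41,38,38,41,35] .nil .nil)) (.node [40,36,37,37] (.node [36,38,40,37,35] .nil .nil) (.node [41,38,41,39,36] .nil .nil))) (.node [37,40,38,35] (.node [38,36,39,36] (.node [35,37,40,35,35] .nil .nil) (.node [38,35,39,37,36] .nil .nil)) (.node [38,38,35,38] (.node [41,38,35,39,35] .nil .nil) (.node [35,39,36,39,37] .nil .nil)))) (.node [37,40,37] (.node [40,35,37,35] (.node [39,40,37,36] (.node [38,35,38,35,35] .nil .nil) (.node [38,35,39,36,36] .nil .nil)) (.node [35,41,39,37] (.node [37,36,38,38,35] .nil .nil) (.node [39,40,38,36,37] .nil .nil))) (.node [37,41,39,35] (.node [38,41,35,37] (.node [36,38,35,37,35] .nil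 .nil) (.node [39,37,39,38,36] .nil .nil)) (.node [37,36,38,38] (.node [39,38,38,39,35] .nil .nil) (.node [41,37,40,39,38] .nil .nil))))) (.node [37,41,35] (.node [37,36,37] (.node [35,39,35,35] (.node [37,36,37,36] (.node [40,37,35,35,35] .nil .nil) (.node [38,41,39,41,35] .nil .nil)) (.node [37,41,37,37] (.node [41,38,35,38,35] .nil .nil) (.node [39,38,40,35,37] .nil .nil))) (.node [41,36,39,35] (.node [38,41,39,36] (.node [37,37,41,35,35] .nil .nil) (.node [40,39,36,38,36] .nil .nil)) (.node [41,36,36,38] (.node [39,40,36,39,35] .nil .nil) (.node [35,37,35,35,38] .nil .nil)))) (.node [40,36,38] (.node [35,35,38,35] (.node [36,39,38,36] (.node [36,36,39,35,35] .nil .nil) (.node [41,38,35,37,36] .nil .nil)) (.node [39,37,41,37] (.node [38,38,40,38,35] .nil .nil) (.node [37,37,37,37,37] .nil .nil))) (.node [35,39,41,35] (.node [37,39,36,37] (.node [37,41,36,37,35] .nil .nil) (.node [35,37,36,39,36] .nil .nil)) (.node [39,40,39,38] (.node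 [35,35,35,41,35] .nil .nil) (.node [35,38,41,38,35,35] .nil .nil)))))) (.node [40,38] (.node [41,38,35] (.node [40,39,36] (.node [40,35,35,35] (.node [38,40,36,36] (.node [39,38,41,38] .nil .nil) (.node [41,36,39,41,35] .nil .nil)) (.node [36,39,37,37] (.node [35,39,41,37,35] .nil .nil) (.node [37,41,35,35,37] .nil .nil))) (.node [38,35,39,35] (.node [36,38,39,36] (.node [41,38,40,35,35] .nil .nil) (.node [38,35,41,37,36] .nil .nil)) (.node [37,40,35,38] (.node [41,36,36,39,35] .nil .nil) (.node [35,35,39,40,37] .nil .nil)))) (.node [38,35,38] (.node [39,37,37,35] (.node [40,36,38,36] (.node [41,38,38,35,35] .nil .nil) (.node [40,38,40,36,36] .nil .nil)) (.node [39,38,40,37] (.node [40,39,38,38,35] .nil .nil) (.node [37,40,35,37,37] .nil .nil))) (.node [37,37,41,35] (.node [40,37,36,37] (.node [40,38,36,37,35] .nil .nil) (.node [41,37,41,38,36] .nil .nil)) (.node [41,35,39,38] (.node [36,38,40,39,35] .nil .nil) (.node [40,35,37,35,35,35]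 .nil .nil))))) (.node [35,37,36] (.node [39,37,37] (.node [39,40,35,35] (.node [40,37,37,36] (.node [41,39,35,35,35] .nil .nil) (.node [36,37,37,36,36] .nil .nil)) (.node [38,36,39,37] (.node [35,38,36,38,35] .nil .nil) (.node [37,35,38,36,37] .nil .nil))) (.node [36,38,39,35] (.node [35,38,35,37] (.node [37,35,35,37,35] .nil .nil) (.node [40,35,38,38,36] .nil .nil)) (.node [41,39,36,38] (.node [37,39,37,39,35] .nil .nil) (.node [40,37,41,35,38] .nil .nil)))) (.node [36,39,38] (.node [39,36,38,35] (.node [37,41,38,36] (.node [41,37,39,35,35] .nil .nil) (.node [41,35,37,37,36] .nil .nil)) (.node [35,35,35,38] (.node [40,38,41,38,35] .nil .nil) (.node [39,38,39,37,37] .nil .nil))) (.node [38,36,36,36] (.node [35,35,37,37] (.node [37,39,37,37,35] .nil .nil) (.node [41,35,38,39,36] .nil .nil)) (.node [41,38,40,38] (.node [41,37,37,41,35] .nil .nil) (.node [37,37,40,35,37,35] .nil .nil))))))) (.node [38,36] (.node [35,38] (.node [35,38,35]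 (.node [35,39,36] (.node [35,35,35,35] (.node [37,39,36,36] (.node [39,37,41,38] .nil .nil) (.node [35,35,39,41,35] .nil .nil)) (.node [39,37,37,37] (.node [39,35,41,37,35] .nil .nil) (.node [36,39,35,35,37] .nil .nil))) (.node [38,41,38,35] (.node [39,37,39,36] (.node [40,37,40,35,35] .nil .nil) (.node [39,36,40,37,36] .nil .nil)) (.node [38,39,35,38] (.node [38,40,35,39,35] .nil .nil) (.node [38,39,37,39,37] .nil .nil)))) (.node [38,41,37] (.node [40,36,37,35] (.node [39,41,37,36] (.node [38,36,38,35,35] .nil .nil) (.node [39,41,39,36,36] .nil .nil)) (.node [40,37,40,37] (.node [36,38,38,38,35] .nil .nil) (.node [38,35,41,36,37] .nil .nil))) (.node [37,35,41,35] (.node [41,36,36,37] (.node [36,40,35,37,35] .nil .nil) (.node [38,38,40,38,36] .nil .nil)) (.node [39,41,38,38] (.node [36,40,38,39,35] .nil .nil) (.node [38,41,37,40,38] .nil .nil))))) (.node [37,36,36] (.node [41,36,37] (.node [40,39,35,35] (.node [35,37,37,36] (.node [39,38,35,35,35]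 .nil .nil) (.node [36,38,36,36,36] .nil .nil)) (.node [40,35,39,37] (.node [39,40,35,38,35] .nil .nil) (.node [36,40,36,36,37] .nil .nil))) (.node [39,37,39,35] (.node [39,35,35,37] (.node [35,39,41,35,35] .nil .nil) (.node [35,41,36,38,36] .nil .nil)) (.node [38,38,36,38] (.node [37,36,37,39,35] .nil .nil) (.node [41,38,38,35,38] .nil .nil)))) (.node [38,38,38] (.node [40,35,38,35] (.node [36,40,38,36] (.node [41,36,39,35,35] .nil .nil) (.node [36,38,36,37,36] .nil .nil)) (.node [35,39,41,37] (.node [38,39,40,38,35] .nil .nil) (.node [40,35,39,37,37] .nil .nil))) (.node [40,39,41,35] (.node [38,40,36,37] (.node [35,37,37,37,35] .nil .nil) (.node [37,37,37,39,36] .nil .nil)) (.node [36,37,40,38] (.node [40,38,35,41,35] .nil .nil) (.node [39,40,39,40,35,35] .nil .nil)))))) (.node [39,35,35] (.node [38,39,35] (.node [38,35,37] (.node [38,38,35,35] (.node [38,35,37,36] (.node [41,35,35,35,35] .nil .nil) (.node [36,40,39,41,35] .nil .nil))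 (.node [41,39,37,37] (.node [41,35,35,38,35] .nil .nil) (.node [35,38,38,35,37] .nil .nil))) (.node [37,36,39,35] (.node [37,40,39,36] (.node [40,39,40,35,35] .nil .nil) (.node [41,39,41,37,36] .nil .nil)) (.node [36,36,36,38] (.node [36,39,36,39,35] .nil .nil) (.node [39,35,37,41,37] .nil .nil)))) (.node [36,36,38] (.node [39,40,37,35] (.node [38,38,38,36] (.node [37,41,38,35,35] .nil .nil) (.node [35,35,35,37,36] .nil .nil)) (.node [38,39,40,37] (.node [39,40,38,38,35] .nil .nil) (.node [37,39,36,37,37] .nil .nil))) (.node [36,38,41,35] (.node [38,38,36,37] (.node [37,39,36,37,35] .nil .nil) (.node [38,38,35,39,36] .nil .nil)) (.node [37,37,39,38] (.node [37,37,41,39,35] .nil .nil) (.node [38,38,40,35,35,35] .nil .nil))))) (.node [40,37,36] (.node [36,39,37] (.node [35,35,37,35] (.node [38,39,37,36] (.node [37,41,35,35,35] .nil .nil) (.node [40,39,38,36,36] .nil .nil)) (.node [40,37,39,37] (.node [41,39,36,38,35] .nil .nil) (.node [40,38,38,36,37]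 .nil .nil))) (.node [41,38,39,35] (.node [36,40,35,37] (.node [37,37,35,37,35] .nil .nil) (.node [35,35,39,38,36] .nil .nil)) (.node [38,41,36,38] (.node [38,41,37,39,35] .nil .nil) (.node [36,37,36,38,38] .nil .nil)))) (.node [36,40,38] (.node [36,38,38,35] (.node [38,35,39,36] (.node [36,40,39,35,35] .nil .nil) (.node [40,39,37,37,36] .nil .nil)) (.node [36,37,35,38] (.node [35,38,35,39,35] .nil .nil) (.node [40,38,40,37,37] .nil .nil))) (.node [37,37,36,36] (.node [36,36,37,37] (.node [38,40,37,37,35] .nil .nil) (.node [36,38,40,39,36] .nil .nil)) (.node [40,39,40,38] (.node [39,35,38,41,35] .nil .nil) (.node [39,37,40,37,37,35] .nil .nil))))))))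

/-- A part. -/
noncomputable def mainWords2_4 : Arr (List ℕ) :=
  (.node [37,35] (.node [36,36] (.node [40,37] (.node [40,37,35] (.node [40,38,36] (.node [38,41,38] (.node [35,39,36,36] (.node [36,37,41,38] .nil .nil) (.node [37,40,38,41,35] .nil .nil)) (.node [36,37,37,37] (.node [35,39,40,37,35] .nil .nil) (.node [36,39,41,39,36] .nil .nil))) (.node [39,40,38,35] (.node [36,37,39,36] (.node [37,37,40,35,35] .nil .nil) (.node [36,36,39,37,36] .nil .nil)) (.node [41,38,35,38] (.node [40,39,35,39,35] .nil .nil) (.node [40,39,36,39,37] .nil .nil)))) (.node [39,40,37] (.node [38,36,37,35] (.node [37,41,37,36] (.node [36,36,38,35,35] .nil .nil) (.node [36,37,39,36,36] .nil .nil)) (.node [39,41,39,37] (.node [39,36,38,38,35] .nil .nil) (.node [38,38,39,36,37] .nil .nil))) (.node [39,41,39,35] (.node [39,36,36,37] (.node [41,38,35,37,35] .nil .nil) (.node [39,38,39,38,36] .nil .nil)) (.node [38,38,38,38] (.node [38,39,38,39,35] .nil .nil) (.node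 [37,35,37,40,38] .nil .nil))))) (.node [39,41,35] (.node [39,36,37] (.node [37,39,35,35] (.node [39,36,37,36] (.node [35,38,35,35,35] .nil .nil) (.node [37,37,36,36,36] .nil .nil)) (.node [37,35,39,37] (.node [37,39,35,38,35] .nil .nil) (.node [35,38,41,35,37] .nil .nil))) (.node [36,37,39,35] (.node [37,35,35,37] (.node [41,37,41,35,35] .nil .nil) (.node [37,40,36,38,36] .nil .nil)) (.node [40,37,36,38] (.node [38,41,36,39,35] .nil .nil) (.node [35,38,38,35,38] .nil .nil)))) (.node [35,38,38] (.node [38,35,38,35] (.node [38,39,38,36] (.node [39,36,39,35,35] .nil .nil) (.node [40,37,36,37,36] .nil .nil)) (.node [40,38,41,37] (.node [41,38,40,38,35] .nil .nil) (.node [35,41,37,37,37] .nil .nil))) (.node [37,39,41,35] (.node [40,39,36,37] (.node [39,41,36,37,35] .nil .nil) (.node [36,38,36,39,36] .nil .nil)) (.node [39,41,39,38] (.node [40,37,35,41,35] .nil .nil) (.node [38,35,38,39,35,35] .nil .nil)))))) (.node [35,35,35] (.node [36,39,35]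 (.node [35,35,37] (.node [35,38,35,35] (.node [35,35,37,36] (.node [40,39,41,38] .nil .nil) (.node [39,37,39,41,35] .nil .nil)) (.node [38,39,37,37] (.node [40,39,41,37,35] .nil .nil) (.node [37,35,38,35,37] .nil .nil))) (.node [40,35,39,35] (.node [39,38,39,36] (.node [37,39,40,35,35] .nil .nil) (.node [35,37,41,37,36] .nil .nil)) (.node [35,41,35,38] (.node [39,37,36,39,35] .nil .nil) (.node [37,37,39,40,37] .nil .nil)))) (.node [40,35,38] (.node [36,40,37,35] (.node [35,38,38,36] (.node [38,39,38,35,35] .nil .nil) (.node [38,39,40,36,36] .nil .nil)) (.node [35,39,40,37] (.node [37,40,38,38,35] .nil .nil) (.node [35,41,35,37,37] .nil .nil))) (.node [41,37,41,35] (.node [35,38,36,37] (.node [35,39,36,37,35] .nil .nil) (.node [37,35,35,39,36] .nil .nil)) (.node [37,36,39,38] (.node [37,39,40,39,35] .nil .nil) (.node [37,40,37,35,35,35] .nil .nil))))) (.node [37,37,36] (.node [41,37,37] (.node [38,41,35,35] (.node [35,39,37,36] (.node [38,40,35,35,35]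 .nil .nil) (.node [38,35,38,36,36] .nil .nil)) (.node [37,37,39,37] (.node [35,39,36,38,35] .nil .nil) (.node [40,36,38,36,37] .nil .nil))) (.node [39,38,39,35] (.node [40,38,35,37] (.node [41,35,35,37,35] .nil .nil) (.node [37,40,38,38,36] .nil .nil)) (.node [38,40,36,38] (.node [39,40,37,39,35] .nil .nil) (.node [39,40,37,36,38] .nil .nil)))) (.node [40,39,38] (.node [41,36,38,35] (.node [35,35,39,36] (.node [38,38,39,35,35] .nil .nil) (.node [41,37,37,37,36] .nil .nil)) (.node [38,35,35,38] (.node [37,35,35,39,35] .nil .nil) (.node [37,41,39,37,37] .nil .nil))) (.node [40,36,36,36] (.node [40,35,37,37] (.node [36,40,37,37,35] .nil .nil) (.node [38,38,38,39,36] .nil .nil)) (.node [36,39,40,38] (.node [41,39,37,41,35] .nil .nil) (.node [41,38,41,36,37,35] .nil .nil))))))) (.node [35,37] (.node [38,38] (.node [38,38,35] (.node [37,39,36] (.node [38,35,35,35] (.node [36,40,36,36] (.node [41,37,41,38] .nil .nil) (.node [41,35,39,41,35] .nil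 .nil)) (.node [41,37,37,37] (.node [37,37,41,37,35] .nil .nil) (.node [39,40,35,35,37] .nil .nil))) (.node [35,35,39,35] (.node [41,37,39,36] (.node [35,38,40,35,35] .nil .nil) (.node [36,39,40,37,36] .nil .nil)) (.node [41,39,35,38] (.node [37,36,36,39,35] .nil .nil) (.node [38,36,38,40,37] .nil .nil)))) (.node [35,35,38] (.node [36,37,37,35] (.node [38,36,38,36] (.node [36,38,38,35,35] .nil .nil) (.node [35,38,40,36,36] .nil .nil)) (.node [36,38,40,37] (.node [37,39,38,38,35] .nil .nil) (.node [41,39,41,36,37] .nil .nil))) (.node [39,35,41,35] (.node [36,37,36,37] (.node [35,38,36,37,35] .nil .nil) (.node [36,37,41,38,36] .nil .nil)) (.node [39,35,39,38] (.node [37,37,40,39,35] .nil .nil) (.node [41,35,38,41,38] .nil .nil))))) (.node [39,36,36] (.node [36,37,37] (.node [37,40,35,35] (.node [37,37,37,36] (.node [37,39,35,35,35] .nil .nil) (.node [40,39,36,36,36] .nil .nil)) (.node [36,36,39,37] (.node [38,36,36,38,35] .nil .nil) (.node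 [39,40,37,36,37] .nil .nil))) (.node [41,37,39,35] (.node [41,35,35,37] (.node [41,39,41,35,35] .nil .nil) (.node [37,35,38,38,36] .nil .nil)) (.node [36,39,36,38] (.node [41,36,37,39,35] .nil .nil) (.node [40,39,40,35,38] .nil .nil)))) (.node [41,38,38] (.node [36,36,38,35] (.node [38,40,38,36] (.node [36,37,39,35,35] .nil .nil) (.node [40,38,36,37,36] .nil .nil)) (.node [38,39,41,37] (.node [37,35,41,38,35] .nil .nil) (.node [39,37,39,37,37] .nil .nil))) (.node [36,36,36,36] (.node [37,41,36,37] (.node [35,39,37,37,35] .nil .nil) (.node [39,40,37,39,36] .nil .nil)) (.node [35,38,40,38] (.node [38,36,37,41,35] .nil .nil) (.node [35,39,37,35,37,35] .nil .nil)))))) (.node [41,35,35] (.node [41,39,35] (.node [41,35,37] (.node [40,38,35,35] (.node [40,35,37,36] (.node [36,37,35,35,35] .nil .nil) (.node [35,41,39,41,35] .nil .nil)) (.node [38,40,37,37] (.node [39,37,35,38,35] .nil .nil) (.node [38,36,40,35,37] .nil .nil))) (.node [39,36,39,35]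 (.node [39,40,39,36] (.node [35,37,41,35,35] .nil .nil) (.node [40,38,36,38,36] .nil .nil)) (.node [39,36,36,38] (.node [40,39,36,39,35] .nil .nil) (.node [38,35,39,41,37] .nil .nil)))) (.node [38,36,38] (.node [37,41,37,35] (.node [41,38,38,36] (.node [39,41,38,35,35] .nil .nil) (.node [36,38,35,37,36] .nil .nil)) (.node [36,37,41,37] (.node [35,38,40,38,35] .nil .nil) (.node [38,41,36,37,37] .nil .nil))) (.node [39,38,41,35] (.node [40,38,36,37] (.node [41,39,36,37,35] .nil .nil) (.node [41,38,35,39,36] .nil .nil)) (.node [36,40,39,38] (.node [40,37,41,39,35] .nil .nil) (.node [37,40,35,38,35,35] .nil .nil))))) (.node [35,38,36] (.node [40,39,37] (.node [38,35,37,35] (.node [36,40,37,36] (.node [39,41,35,35,35] .nil .nil) (.node [37,40,38,36,36] .nil .nil)) (.node [37,40,39,37] (.node [35,41,36,38,35] .nil .nil) (.node [37,39,38,36,37] .nil .nil))) (.node [38,40,39,35] (.node [35,41,35,37] (.node [40,37,35,37,35] .nil .nil) (.node [36,36,39,38,36]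 .nil .nil)) (.node [41,35,38,38] (.node [40,35,38,39,35] .nil .nil) (.node [35,41,36,39,38] .nil .nil)))) (.node [38,40,38] (.node [39,38,38,35] (.node [36,36,39,36] (.node [38,41,39,35,35] .nil .nil) (.node [39,40,37,37,36] .nil .nil)) (.node [39,37,35,38] (.node [39,38,35,39,35] .nil .nil) (.node [41,39,40,37,37] .nil .nil))) (.node [38,38,36,36] (.node [38,36,37,37] (.node [36,36,40,37,35] .nil .nil) (.node [41,38,40,39,36] .nil .nil)) (.node [35,35,41,38] (.node [35,38,38,41,35] .nil .nil) (.node [38,38,41,38,39,35] .nil .nil))))))))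

/-- A part. -/
noncomputable def mainWords2_5 : Arr (List ℕ) :=
  (.node [36] mainWords2_3 mainWords2_4)

/-- A part. -/
noncomputable def mainWords2_6 : Arr (List ℕ) :=
  (.node [] mainWords2_2 mainWords2_5)

/-- The array. -/
noncomputable def mainWords2 : Arr (List ℕ) := mainWords2_6

/-- A part. -/
noncomputable def mainPos2_0 : Arr ℕ :=
  (.node 0 (.node 0 (.node 0 (.node 620 (.node 234 (.node 825 (.node 0 (.node 181 .nil .nil) (.node 910 .nil .nil)) (.node 54 (.node 469 .nil .nil) .nil)) (.node 0 (.node 952 (.node 954 .nil .nil) (.node 433 .nil .nil)) (.node 260 (.node 0 .nil .nil) .nil))) (.node 0 (.node 720 (.node 364 (.node 275 .nil .nil) (.node 0 .nil .nil)) (.node 941 (.node 0 .nil .nil) .nil)) (.node 959 (.node 759 (.node 0 .nil .nil) (.node 117 .nil .nil)) (.node 928 (.node 0 .nil .nil) .nil)))) (.node 139 (.node 217 (.node 1005 (.node 60 (.node 351 .nil .nil) (.node 442 .nil .nil)) (.node 1010 (.node 569 .nil .nil) .nil))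 (.node 0 (.node 821 (.node 100 .nil .nil) (.node 187 .nil .nil)) (.node 1011 (.node 306 .nil .nil) .nil))) (.node 0 (.node 716 (.node 733 (.node 0 .nil .nil) (.node 742 .nil .nil)) (.node 0 (.node 218 .nil .nil) .nil)) (.node 0 (.node 112 (.node 401 .nil .nil) (.node 0 .nil .nil)) (.node 0 (.node 934 .nil .nil) .nil))))) (.node 0 (.node 92 (.node 0 (.node 0 (.node 527 (.node 313 .nil .nil) (.node 0 .nil .nil)) (.node 604 (.node 0 .nil .nil) .nil)) (.node 0 (.node 0 (.node 1016 .nil .nil) (.node 960 .nil .nil)) (.node 463 (.node 0 .nil .nil) .nil))) (.node 2 (.node 0 (.node 0 (.node 399 .nil .nil) (.node 534 .nil .nil)) (.node 529 (.node 0 .nil .nil) .nil)) (.node 544 (.node 994 (.node 614 .nil .nil) (.node 638 .nil .nil)) (.node 471 (.node 654 .nil .nil) .nil)))) (.node 0 (.node 458 (.node 888 (.node 0 (.node 588 .nil .nil) (.node 957 .nil .nil)) (.node 0 (.node 193 .nil .nil) .nil)) (.node 397 (.node 0 (.node 357 .nil .nil) (.node 617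 .nil .nil)) (.node 0 (.node 0 .nil .nil) .nil))) (.node 297 (.node 998 (.node 558 (.node 0 .nil .nil) (.node 0 .nil .nil)) (.node 601 (.node 0 .nil .nil) .nil)) (.node 776 (.node 0 (.node 76 .nil .nil) (.node 0 .nil .nil)) (.node 862 (.node 982 .nil .nil) .nil)))))) (.node 0 (.node 968 (.node 0 (.node 425 (.node 375 (.node 10 (.node 0 .nil .nil) (.node 236 .nil .nil)) (.node 0 (.node 800 .nil .nil) .nil)) (.node 0 (.node 0 (.node 896 .nil .nil) (.node 0 .nil .nil)) (.node 129 (.node 990 .nil .nil) .nil))) (.node 47 (.node 0 (.node 0 (.node 975 .nil .nil) (.node 431 .nil .nil)) (.node 250 (.node 892 .nil .nil) .nil)) (.node 176 (.node 771 (.node 0 .nil .nil) (.node 0 .nil .nil)) (.node 194 (.node 574 .nil .nil) .nil)))) (.node 0 (.node 655 (.node 452 (.node 773 (.node 0 .nil .nil) (.node 243 .nil .nil)) (.node 0 (.node 0 .nil .nil) .nil)) (.node 988 (.node 123 (.node 455 .nil .nil) (.node 690 .nil .nil)) (.node 856 (.node 839 .nil .nil)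 .nil))) (.node 827 (.node 564 (.node 1004 (.node 799 .nil .nil) (.node 0 .nil .nil)) (.node 372 (.node 437 .nil .nil) .nil)) (.node 0 (.node 763 (.node 0 .nil .nil) (.node 0 .nil .nil)) (.node 0 (.node 1 .nil .nil) .nil))))) (.node 0 (.node 78 (.node 83 (.node 0 (.node 732 (.node 882 .nil .nil) (.node 963 .nil .nil)) (.node 0 (.node 512 .nil .nil) .nil)) (.node 0 (.node 0 (.node 0 .nil .nil) (.node 790 .nil .nil)) (.node 0 (.node 0 .nil .nil) .nil))) (.node 303 (.node 114 (.node 0 (.node 648 .nil .nil) (.node 419 .nil .nil)) (.node 0 (.node 257 .nil .nil) .nil)) (.node 999 (.node 556 (.node 0 .nil .nil) (.node 539 .nil .nil)) (.node 311 (.node 0 .nil .nil) .nil)))) (.node 0 (.node 510 (.node 794 (.node 475 (.node 869 .nil .nil) (.node 488 .nil .nil)) (.node 272 (.node 1009 .nil .nil) .nil)) (.node 0 (.node 1017 (.node 0 .nil .nil) (.node 0 .nil .nil)) (.node 204 (.node 0 .nil .nil) .nil))) (.node 559 (.node 0 (.node 0 (.node 393 .nil .nil)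 (.node 0 .nil .nil)) (.node 1023 (.node 0 .nil .nil) .nil)) (.node 851 (.node 213 (.node 723 .nil .nil) .nil) (.node 0 (.node 0 .nil .nil) .nil)))))))

/-- A part. -/
noncomputable def mainPos2_1 : Arr ℕ :=
  (.node 0 (.node 470 (.node 107 (.node 0 (.node 0 (.node 0 (.node 0 (.node 930 .nil .nil) (.node 879 .nil .nil)) (.node 0 (.node 0 .nil .nil) .nil)) (.node 630 (.node 144 (.node 0 .nil .nil) (.node 903 .nil .nil)) (.node 0 (.node 57 .nil .nil) .nil))) (.node 743 (.node 729 (.node 0 (.node 0 .nil .nil) (.node 29 .nil .nil)) (.node 322 (.node 866 .nil .nil) .nil)) (.node 0 (.node 0 (.node 693 .nil .nil) (.node 756 .nil .nil)) (.node 253 (.node 270 .nil .nil) .nil)))) (.node 0 (.node 0 (.node 779 (.node 0 (.node 0 .nil .nil) (.node 0 .nil .nil)) (.node 0 (.node 921 .nil .nil) .nil)) (.node 38 (.node 23 (.node 549 .nil .nil) (.node 105 .nil .nil)) (.node 0 (.node 0 .nil .nil) .nil))) (.node 87 (.node 854 (.node 320 (.node 730 .nil .nil)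 (.node 531 .nil .nil)) (.node 50 (.node 121 .nil .nil) .nil)) (.node 0 (.node 847 (.node 653 .nil .nil) (.node 562 .nil .nil)) (.node 0 (.node 0 .nil .nil) .nil))))) (.node 482 (.node 0 (.node 789 (.node 0 (.node 0 (.node 0 .nil .nil) (.node 111 .nil .nil)) (.node 696 (.node 0 .nil .nil) .nil)) (.node 402 (.node 16 (.node 0 .nil .nil) (.node 150 .nil .nil)) (.node 0 (.node 804 .nil .nil) .nil))) (.node 398 (.node 760 (.node 0 (.node 508 .nil .nil) (.node 980 .nil .nil)) (.node 619 (.node 0 .nil .nil) .nil)) (.node 0 (.node 976 (.node 0 .nil .nil) (.node 88 .nil .nil)) (.node 894 (.node 251 .nil .nil) .nil)))) (.node 175 (.node 748 (.node 161 (.node 0 (.node 179 .nil .nil) (.node 0 .nil .nil)) (.node 0 (.node 783 .nil .nil) .nil)) (.node 0 (.node 979 (.node 0 .nil .nil) (.node 0 .nil .nil)) (.node 686 (.node 509 .nil .nil) .nil))) (.node 641 (.node 575 (.node 807 (.node 661 .nil .nil) (.node 113 .nil .nil)) (.node 278 (.node 0 .nil .nil)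 .nil)) (.node 0 (.node 0 (.node 41 .nil .nil) (.node 438 .nil .nil)) (.node 0 (.node 56 .nil .nil) .nil)))))) (.node 4 (.node 414 (.node 350 (.node 0 (.node 126 (.node 0 (.node 0 .nil .nil) (.node 0 .nil .nil)) (.node 0 (.node 0 .nil .nil) .nil)) (.node 0 (.node 865 (.node 687 .nil .nil) (.node 780 .nil .nil)) (.node 0 (.node 857 .nil .nil) .nil))) (.node 453 (.node 610 (.node 0 (.node 852 .nil .nil) (.node 0 .nil .nil)) (.node 0 (.node 643 .nil .nil) .nil)) (.node 0 (.node 0 (.node 262 .nil .nil) (.node 0 .nil .nil)) (.node 254 (.node 940 .nil .nil) .nil)))) (.node 305 (.node 0 (.node 754 (.node 222 (.node 445 .nil .nil) (.node 0 .nil .nil)) (.node 0 (.node 765 .nil .nil) .nil)) (.node 0 (.node 936 (.node 0 .nil .nil) (.node 261 .nil .nil)) (.node 0 (.node 636 .nil .nil) .nil))) (.node 210 (.node 0 (.node 0 (.node 0 .nil .nil) (.node 0 .nil .nil)) (.node 736 (.node 0 .nil .nil) .nil)) (.node 31 (.node 0 (.node 757 .nil .nil) (.node 535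 .nil .nil)) (.node 0 (.node 0 .nil .nil) .nil))))) (.node 0 (.node 379 (.node 215 (.node 334 (.node 0 (.node 0 .nil .nil) (.node 577 .nil .nil)) (.node 0 (.node 441 .nil .nil) .nil)) (.node 0 (.node 801 (.node 673 .nil .nil) (.node 0 .nil .nil)) (.node 0 (.node 327 .nil .nil) .nil))) (.node 197 (.node 0 (.node 590 (.node 0 .nil .nil) (.node 685 .nil .nil)) (.node 613 (.node 298 .nil .nil) .nil)) (.node 0 (.node 0 (.node 0 .nil .nil) (.node 0 .nil .nil)) (.node 608 (.node 0 .nil .nil) .nil)))) (.node 248 (.node 0 (.node 659 (.node 0 (.node 233 .nil .nil) (.node 927 .nil .nil)) (.node 0 (.node 0 .nil .nil) .nil)) (.node 0 (.node 421 (.node 0 .nil .nil) (.node 247 .nil .nil)) (.node 948 (.node 0 .nil .nil) .nil))) (.node 0 (.node 0 (.node 498 (.node 832 .nil .nil) (.node 461 .nil .nil)) (.node 606 (.node 939 .nil .nil) .nil)) (.node 447 (.node 168 (.node 265 .nil .nil) .nil) (.node 652 (.node 72 .nil .nil) .nil)))))))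

/-- A part. -/
noncomputable def mainPos2_2 : Arr ℕ :=
  (.node 848 mainPos2_0 mainPos2_1)

/-- A part. -/
noncomputable def mainPos2_3 : Arr ℕ :=
  (.node 0 (.node 900 (.node 477 (.node 200 (.node 279 (.node 436 (.node 955 (.node 0 .nil .nil) (.node 369 .nil .nil)) (.node 418 (.node 0 .nil .nil) .nil)) (.node 0 (.node 618 (.node 312 .nil .nil) (.node 450 .nil .nil)) (.node 594 (.node 0 .nil .nil) .nil))) (.node 365 (.node 205 (.node 237 (.node 472 .nil .nil) (.node 0 .nil .nil)) (.node 668 (.node 543 .nil .nil) .nil)) (.node 496 (.node 97 (.node 0 .nil .nil) (.node 96 .nil .nil)) (.node 338 (.node 454 .nil .nil) .nil)))) (.node 0 (.node 0 (.node 206 (.node 0 (.node 758 .nil .nil) (.node 725 .nil .nil)) (.node 0 (.node 0 .nil .nil) .nil)) (.node 473 (.node 1000 (.node 89 .nil .nil) (.node 694 .nil .nil)) (.node 0 (.node 11 .nil .nil) .nil))) (.node 573 (.node 332 (.node 0 (.node 0 .nil .nil) (.node 0 .nil .nil)) (.node 174 (.node 724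 .nil .nil) .nil)) (.node 146 (.node 171 (.node 0 .nil .nil) (.node 0 .nil .nil)) (.node 0 (.node 0 .nil .nil) .nil))))) (.node 811 (.node 0 (.node 440 (.node 0 (.node 985 (.node 446 .nil .nil) (.node 629 .nil .nil)) (.node 0 (.node 318 .nil .nil) .nil)) (.node 258 (.node 563 (.node 0 .nil .nil) (.node 738 .nil .nil)) (.node 679 (.node 104 .nil .nil) .nil))) (.node 0 (.node 0 (.node 513 (.node 538 .nil .nil) (.node 644 .nil .nil)) (.node 0 (.node 140 .nil .nil) .nil)) (.node 592 (.node 0 (.node 0 .nil .nil) (.node 0 .nil .nil)) (.node 18 (.node 746 .nil .nil) .nil)))) (.node 1008 (.node 0 (.node 0 (.node 256 (.node 0 .nil .nil) (.node 1022 .nil .nil)) (.node 626 (.node 835 .nil .nil) .nil)) (.node 524 (.node 0 (.node 0 .nil .nil) (.node 353 .nil .nil)) (.node 0 (.node 326 .nil .nil) .nil))) (.node 849 (.node 997 (.node 702 (.node 343 .nil .nil) (.node 670 .nil .nil)) (.node 426 (.node 0 .nil .nil) .nil)) (.node 912 (.node 342 (.node 809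 .nil .nil) (.node 791 .nil .nil)) (.node 0 (.node 0 .nil .nil) .nil)))))) (.node 0 (.node 0 (.node 156 (.node 0 (.node 495 (.node 434 (.node 0 .nil .nil) (.node 0 .nil .nil)) (.node 0 (.node 639 .nil .nil) .nil)) (.node 0 (.node 709 (.node 884 .nil .nil) (.node 0 .nil .nil)) (.node 77 (.node 284 .nil .nil) .nil))) (.node 214 (.node 515 (.node 245 (.node 908 .nil .nil) (.node 874 .nil .nil)) (.node 0 (.node 996 .nil .nil) .nil)) (.node 0 (.node 0 (.node 301 .nil .nil) (.node 294 .nil .nil)) (.node 680 (.node 0 .nil .nil) .nil)))) (.node 0 (.node 871 (.node 184 (.node 705 (.node 906 .nil .nil) (.node 766 .nil .nil)) (.node 815 (.node 130 .nil .nil) .nil)) (.node 611 (.node 932 (.node 12 .nil .nil) (.node 0 .nil .nil)) (.node 739 (.node 717 .nil .nil) .nil))) (.node 0 (.node 0 (.node 165 (.node 317 .nil .nil) (.node 0 .nil .nil)) (.node 0 (.node 878 .nil .nil) .nil)) (.node 0 (.node 219 (.node 792 .nil .nil) (.node 0 .nil .nil)) (.node 964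 (.node 0 .nil .nil) .nil))))) (.node 0 (.node 0 (.node 0 (.node 925 (.node 0 (.node 0 .nil .nil) (.node 51 .nil .nil)) (.node 0 (.node 844 .nil .nil) .nil)) (.node 949 (.node 267 (.node 0 .nil .nil) (.node 0 .nil .nil)) (.node 0 (.node 158 .nil .nil) .nil))) (.node 0 (.node 0 (.node 198 (.node 623 .nil .nil) (.node 384 .nil .nil)) (.node 487 (.node 989 .nil .nil) .nil)) (.node 983 (.node 0 (.node 728 .nil .nil) (.node 0 .nil .nil)) (.node 163 (.node 0 .nil .nil) .nil)))) (.node 0 (.node 991 (.node 0 (.node 191 (.node 0 .nil .nil) (.node 0 .nil .nil)) (.node 0 (.node 0 .nil .nil) .nil)) (.node 880 (.node 916 (.node 0 .nil .nil) (.node 962 .nil .nil)) (.node 408 (.node 737 .nil .nil) .nil))) (.node 647 (.node 984 (.node 0 (.node 42 .nil .nil) (.node 0 .nil .nil)) (.node 0 (.node 0 .nil .nil) .nil)) (.node 710 (.node 319 (.node 890 .nil .nil) .nil) (.node 0 (.node 80 .nil .nil) .nil)))))))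

/-- A part. -/
noncomputable def mainPos2_4 : Arr ℕ :=
  (.node 0 (.node 995 (.node 462 (.node 223 (.node 430 (.node 0 (.node 0 (.node 0 .nil .nil) (.node 229 .nil .nil)) (.node 734 (.node 612 .nil .nil) .nil)) (.node 0 (.node 145 (.node 0 .nil .nil) (.node 0 .nil .nil)) (.node 456 (.node 154 .nil .nil) .nil))) (.node 0 (.node 657 (.node 0 (.node 266 .nil .nil) (.node 755 .nil .nil)) (.node 0 (.node 875 .nil .nil) .nil)) (.node 950 (.node 0 (.node 125 .nil .nil) (.node 93 .nil .nil)) (.node 0 (.node 340 .nil .nil) .nil)))) (.node 164 (.node 0 (.node 0 (.node 0 (.node 0 .nil .nil) (.node 226 .nil .nil)) (.node 522 (.node 533 .nil .nil) .nil)) (.node 0 (.node 860 (.node 196 .nil .nil) (.node 0 .nil .nil)) (.node 259 (.node 0 .nil .nil) .nil))) (.node 802 (.node 0 (.node 0 (.node 0 .nil .nil) (.node 605 .nil .nil)) (.node 0 (.node 0 .nil .nil) .nil)) (.node 872 (.node 0 (.node 227 .nil .nil) (.node 0 .nil .nil)) (.node 0 (.node 3 .nil .nil)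 .nil))))) (.node 805 (.node 722 (.node 255 (.node 0 (.node 0 (.node 444 .nil .nil) (.node 376 .nil .nil)) (.node 0 (.node 0 .nil .nil) .nil)) (.node 0 (.node 240 (.node 0 .nil .nil) (.node 0 .nil .nil)) (.node 664 (.node 476 .nil .nil) .nil))) (.node 0 (.node 0 (.node 207 (.node 750 .nil .nil) (.node 410 .nil .nil)) (.node 0 (.node 101 .nil .nil) .nil)) (.node 0 (.node 823 (.node 0 .nil .nil) (.node 13 .nil .nil)) (.node 383 (.node 0 .nil .nil) .nil)))) (.node 0 (.node 0 (.node 0 (.node 0 (.node 0 .nil .nil) (.node 1020 .nil .nil)) (.node 84 (.node 208 .nil .nil) .nil)) (.node 79 (.node 307 (.node 576 .nil .nil) (.node 0 .nil .nil)) (.node 0 (.node 21 .nil .nil) .nil))) (.node 1003 (.node 0 (.node 494 (.node 596 .nil .nil) (.node 840 .nil .nil)) (.node 0 (.node 0 .nil .nil) .nil)) (.node 0 (.node 0 (.node 0 .nil .nil) (.node 147 .nil .nil)) (.node 548 (.node 768 .nil .nil) .nil)))))) (.node 0 (.node 0 (.node 712 (.node 672 (.node 91 (.node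 0 (.node 0 .nil .nil) (.node 0 .nil .nil)) (.node 0 (.node 132 .nil .nil) .nil)) (.node 0 (.node 637 (.node 0 .nil .nil) (.node 778 .nil .nil)) (.node 0 (.node 523 .nil .nil) .nil))) (.node 0 (.node 0 (.node 0 (.node 843 .nil .nil) (.node 0 .nil .nil)) (.node 370 (.node 32 .nil .nil) .nil)) (.node 75 (.node 0 (.node 0 .nil .nil) (.node 429 .nil .nil)) (.node 377 (.node 891 .nil .nil) .nil)))) (.node 0 (.node 0 (.node 718 (.node 48 (.node 422 .nil .nil) (.node 714 .nil .nil)) (.node 833 (.node 0 .nil .nil) .nil)) (.node 0 (.node 828 (.node 817 .nil .nil) (.node 0 .nil .nil)) (.node 285 (.node 0 .nil .nil) .nil))) (.node 0 (.node 706 (.node 289 (.node 812 .nil .nil) (.node 290 .nil .nil)) (.node 917 (.node 432 .nil .nil) .nil)) (.node 361 (.node 0 (.node 0 .nil .nil) (.node 252 .nil .nil)) (.node 316 (.node 0 .nil .nil) .nil))))) (.node 386 (.node 977 (.node 841 (.node 0 (.node 246 (.node 0 .nil .nil) (.node 0 .nil .nil)) (.node 678 (.node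 0 .nil .nil) .nil)) (.node 0 (.node 64 (.node 904 .nil .nil) (.node 0 .nil .nil)) (.node 0 (.node 271 .nil .nil) .nil))) (.node 966 (.node 276 (.node 25 (.node 0 .nil .nil) (.node 336 .nil .nil)) (.node 333 (.node 0 .nil .nil) .nil)) (.node 0 (.node 0 (.node 972 .nil .nil) (.node 1001 .nil .nil)) (.node 0 (.node 358 .nil .nil) .nil)))) (.node 889 (.node 632 (.node 0 (.node 0 (.node 658 .nil .nil) (.node 537 .nil .nil)) (.node 978 (.node 339 .nil .nil) .nil)) (.node 0 (.node 727 (.node 392 .nil .nil) (.node 0 .nil .nil)) (.node 264 (.node 367 .nil .nil) .nil))) (.node 0 (.node 0 (.node 0 (.node 0 .nil .nil) (.node 752 .nil .nil)) (.node 0 (.node 22 .nil .nil) .nil)) (.node 152 (.node 295 (.node 0 .nil .nil) .nil) (.node 0 (.node 511 .nil .nil) .nil)))))))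

/-- A part. -/
noncomputable def mainPos2_5 : Arr ℕ :=
  (.node 0 mainPos2_3 mainPos2_4)

/-- A part. -/
noncomputable def mainPos2_6 : Arr ℕ :=
  (.node 551 mainPos2_2 mainPos2_5)

/-- A part. -/
noncomputable def mainPos2_7 : Arr ℕ :=
  (.node 0 (.node 241 (.node 1019 (.node 0 (.node 153 (.node 0 (.node 516 (.node 0 .nil .nil) (.node 195 .nil .nil)) (.node 44 (.node 0 .nil .nil) .nil)) (.node 0 (.node 830 (.node 649 .nil .nil) (.node 0 .nil .nil)) (.node 838 (.node 0 .nil .nil) .nil))) (.node 895 (.node 855 (.node 0 (.node 708 .nil .nil) (.node 0 .nil .nil)) (.node 468 (.node 0 .nil .nil) .nil)) (.node 0 (.node 86 (.node 0 .nil .nil) (.node 589 .nil .nil)) (.node 0 (.node 0 .nil .nil) .nil)))) (.node 0 (.node 622 (.node 923 (.node 0 (.node 922 .nil .nil) (.node 0 .nil .nil)) (.node 102 (.node 671 .nil .nil) .nil)) (.node 0 (.node 0 (.node 0 .nil .nil) (.node 0 .nil .nil)) (.node 0 (.node 387 .nil .nil) .nil))) (.node 464 (.node 302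 (.node 0 (.node 0 .nil .nil) (.node 0 .nil .nil)) (.node 0 (.node 764 .nil .nil) .nil)) (.node 180 (.node 580 (.node 646 .nil .nil) (.node 519 .nil .nil)) (.node 798 (.node 106 .nil .nil) .nil))))) (.node 483 (.node 987 (.node 0 (.node 173 (.node 330 (.node 231 .nil .nil) (.node 0 .nil .nil)) (.node 603 (.node 0 .nil .nil) .nil)) (.node 1018 (.node 66 (.node 881 .nil .nil) (.node 490 .nil .nil)) (.node 308 (.node 0 .nil .nil) .nil))) (.node 55 (.node 0 (.node 0 (.node 946 .nil .nil) (.node 0 .nil .nil)) (.node 40 (.node 395 .nil .nil) .nil)) (.node 6 (.node 711 (.node 0 .nil .nil) (.node 199 .nil .nil)) (.node 532 (.node 567 .nil .nil) .nil)))) (.node 842 (.node 0 (.node 667 (.node 389 (.node 0 .nil .nil) (.node 394 .nil .nil)) (.node 692 (.node 0 .nil .nil) .nil)) (.node 0 (.node 0 (.node 0 .nil .nil) (.node 631 .nil .nil)) (.node 0 (.node 0 .nil .nil) .nil))) (.node 0 (.node 863 (.node 0 (.node 0 .nil .nil) (.node 354 .nil .nil)) (.node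 0 (.node 321 .nil .nil) .nil)) (.node 0 (.node 541 (.node 108 .nil .nil) (.node 0 .nil .nil)) (.node 0 (.node 287 .nil .nil) .nil)))))) (.node 681 (.node 0 (.node 0 (.node 0 (.node 0 (.node 633 (.node 188 .nil .nil) (.node 915 .nil .nil)) (.node 762 (.node 624 .nil .nil) .nil)) (.node 0 (.node 396 (.node 0 .nil .nil) (.node 160 .nil .nil)) (.node 909 (.node 782 .nil .nil) .nil))) (.node 0 (.node 0 (.node 822 (.node 813 .nil .nil) (.node 803 .nil .nil)) (.node 0 (.node 969 .nil .nil) .nil)) (.node 859 (.node 0 (.node 0 .nil .nil) (.node 0 .nil .nil)) (.node 0 (.node 0 .nil .nil) .nil)))) (.node 0 (.node 0 (.node 0 (.node 907 (.node 552 .nil .nil) (.node 486 .nil .nil)) (.node 0 (.node 0 .nil .nil) .nil)) (.node 581 (.node 786 (.node 0 .nil .nil) (.node 0 .nil .nil)) (.node 591 (.node 777 .nil .nil) .nil))) (.node 0 (.node 0 (.node 713 (.node 0 .nil .nil) (.node 349 .nil .nil)) (.node 0 (.node 131 .nil .nil) .nil)) (.node 0 (.node 82 (.node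 0 .nil .nil) (.node 0 .nil .nil)) (.node 767 (.node 14 .nil .nil) .nil))))) (.node 0 (.node 816 (.node 0 (.node 0 (.node 645 (.node 172 .nil .nil) (.node 37 .nil .nil)) (.node 0 (.node 185 .nil .nil) .nil)) (.node 864 (.node 0 (.node 810 .nil .nil) (.node 545 .nil .nil)) (.node 0 (.node 109 .nil .nil) .nil))) (.node 0 (.node 406 (.node 416 (.node 0 .nil .nil) (.node 924 .nil .nil)) (.node 141 (.node 0 .nil .nil) .nil)) (.node 0 (.node 0 (.node 749 .nil .nil) (.node 0 .nil .nil)) (.node 211 (.node 0 .nil .nil) .nil)))) (.node 407 (.node 0 (.node 0 (.node 0 (.node 0 .nil .nil) (.node 269 .nil .nil)) (.node 0 (.node 192 .nil .nil) .nil)) (.node 600 (.node 0 (.node 561 .nil .nil) (.node 0 .nil .nil)) (.node 0 (.node 0 .nil .nil) .nil))) (.node 296 (.node 20 (.node 457 (.node 747 .nil .nil) (.node 1002 .nil .nil)) (.node 467 (.node 0 .nil .nil) .nil)) (.node 745 (.node 493 (.node 846 .nil .nil) .nil) (.node 98 (.node 740 .nil .nil) .nil)))))))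

/-- A part. -/
noncomputable def mainPos2_8 : Arr ℕ :=
  (.node 0 (.node 0 (.node 0 (.node 0 (.node 474 (.node 586 (.node 0 (.node 602 .nil .nil) (.node 933 .nil .nil)) (.node 0 (.node 423 .nil .nil) .nil)) (.node 99 (.node 0 (.node 660 .nil .nil) (.node 94 .nil .nil)) (.node 695 (.node 492 .nil .nil) .nil))) (.node 793 (.node 937 (.node 707 (.node 0 .nil .nil) (.node 221 .nil .nil)) (.node 282 (.node 1013 .nil .nil) .nil)) (.node 388 (.node 0 (.node 0 .nil .nil) (.node 36 .nil .nil)) (.node 0 (.node 0 .nil .nil) .nil)))) (.node 824 (.node 202 (.node 0 (.node 0 (.node 304 .nil .nil) (.node 0 .nil .nil)) (.node 834 (.node 634 .nil .nil) .nil)) (.node 177 (.node 642 (.node 116 .nil .nil) (.node 344 .nil .nil)) (.node 228 (.node 704 .nil .nil) .nil))) (.node 0 (.node 244 (.node 0 (.node 926 .nil .nil) (.node 625 .nil .nil)) (.node 870 (.node 162 .nil .nil) .nil)) (.node 0 (.node 530 (.node 0 .nil .nil) (.node 0 .nil .nil)) (.node 190 (.node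 0 .nil .nil) .nil))))) (.node 947 (.node 203 (.node 0 (.node 635 (.node 566 (.node 0 .nil .nil) (.node 806 .nil .nil)) (.node 0 (.node 911 .nil .nil) .nil)) (.node 836 (.node 0 (.node 0 .nil .nil) (.node 0 .nil .nil)) (.node 682 (.node 385 .nil .nil) .nil))) (.node 0 (.node 0 (.node 0 (.node 0 .nil .nil) (.node 52 .nil .nil)) (.node 787 (.node 797 .nil .nil) .nil)) (.node 0 (.node 404 (.node 368 .nil .nil) (.node 62 .nil .nil)) (.node 209 (.node 831 .nil .nil) .nil)))) (.node 902 (.node 0 (.node 390 (.node 0 (.node 0 .nil .nil) (.node 0 .nil .nil)) (.node 443 (.node 585 .nil .nil) .nil)) (.node 291 (.node 0 (.node 0 .nil .nil) (.node 0 .nil .nil)) (.node 0 (.node 0 .nil .nil) .nil))) (.node 744 (.node 0 (.node 688 (.node 0 .nil .nil) (.node 465 .nil .nil)) (.node 110 (.node 867 .nil .nil) .nil)) (.node 0 (.node 309 (.node 49 .nil .nil) (.node 931 .nil .nil)) (.node 0 (.node 546 .nil .nil) .nil)))))) (.node 5 (.node 700 (.node 0 (.node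 818 (.node 0 (.node 775 (.node 0 .nil .nil) (.node 520 .nil .nil)) (.node 0 (.node 137 .nil .nil) .nil)) (.node 0 (.node 0 (.node 0 .nil .nil) (.node 17 .nil .nil)) (.node 0 (.node 944 .nil .nil) .nil))) (.node 0 (.node 466 (.node 808 (.node 0 .nil .nil) (.node 491 .nil .nil)) (.node 0 (.node 182 .nil .nil) .nil)) (.node 795 (.node 0 (.node 0 .nil .nil) (.node 119 .nil .nil)) (.node 90 (.node 0 .nil .nil) .nil)))) (.node 595 (.node 133 (.node 885 (.node 0 (.node 118 .nil .nil) (.node 858 .nil .nil)) (.node 0 (.node 363 .nil .nil) .nil)) (.node 981 (.node 726 (.node 540 .nil .nil) (.node 677 .nil .nil)) (.node 542 (.node 826 .nil .nil) .nil))) (.node 0 (.node 67 (.node 598 (.node 0 .nil .nil) (.node 721 .nil .nil)) (.node 0 (.node 355 .nil .nil) .nil)) (.node 0 (.node 597 (.node 0 .nil .nil) (.node 0 .nil .nil)) (.node 0 (.node 0 .nil .nil) .nil))))) (.node 0 (.node 0 (.node 0 (.node 24 (.node 0 (.node 819 .nil .nil) (.node 0 .nil .nil))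 (.node 0 (.node 506 .nil .nil) .nil)) (.node 0 (.node 59 (.node 81 .nil .nil) (.node 0 .nil .nil)) (.node 845 (.node 0 .nil .nil) .nil))) (.node 128 (.node 403 (.node 861 (.node 0 .nil .nil) (.node 669 .nil .nil)) (.node 698 (.node 905 .nil .nil) .nil)) (.node 420 (.node 0 (.node 143 .nil .nil) (.node 929 .nil .nil)) (.node 0 (.node 0 .nil .nil) .nil)))) (.node 517 (.node 212 (.node 0 (.node 0 (.node 0 .nil .nil) (.node 69 .nil .nil)) (.node 0 (.node 360 .nil .nil) .nil)) (.node 0 (.node 0 (.node 0 .nil .nil) (.node 731 .nil .nil)) (.node 918 (.node 0 .nil .nil) .nil))) (.node 0 (.node 46 (.node 814 (.node 0 .nil .nil) (.node 0 .nil .nil)) (.node 741 (.node 0 .nil .nil) .nil)) (.node 0 (.node 0 (.node 0 .nil .nil) .nil) (.node 0 (.node 0 .nil .nil) .nil)))))))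

/-- A part. -/
noncomputable def mainPos2_9 : Arr ℕ :=
  (.node 0 mainPos2_7 mainPos2_8)

/-- A part. -/
noncomputable def mainPos2_10 : Arr ℕ :=
  (.node 314 (.node 19 (.node 0 (.node 640 (.node 883 (.node 651 (.node 683 (.node 0 .nil .nil) (.node 0 .nil .nil)) (.node 0 (.node 0 .nil .nil) .nil)) (.node 0 (.node 0 (.node 572 .nil .nil) (.node 0 .nil .nil)) (.node 0 (.node 53 .nil .nil) .nil))) (.node 220 (.node 138 (.node 0 (.node 273 .nil .nil) (.node 405 .nil .nil)) (.node 27 (.node 0 .nil .nil) .nil)) (.node 224 (.node 0 (.node 0 .nil .nil) (.node 898 .nil .nil)) (.node 0 (.node 0 .nil .nil) .nil)))) (.node 0 (.node 0 (.node 965 (.node 0 (.node 914 .nil .nil) (.node 0 .nil .nil)) (.node 571 (.node 155 .nil .nil) .nil)) (.node 504 (.node 268 (.node 0 .nil .nil) (.node 500 .nil .nil)) (.node 0 (.node 0 .nil .nil) .nil))) (.node 232 (.node 479 (.node 0 (.node 662 .nil .nil) (.node 774 .nil .nil)) (.node 26 (.node 0 .nil .nil) .nil))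 (.node 656 (.node 58 (.node 0 .nil .nil) (.node 451 .nil .nil)) (.node 337 (.node 449 .nil .nil) .nil))))) (.node 481 (.node 0 (.node 0 (.node 0 (.node 526 (.node 151 .nil .nil) (.node 0 .nil .nil)) (.node 300 (.node 0 .nil .nil) .nil)) (.node 691 (.node 1012 (.node 0 .nil .nil) (.node 331 .nil .nil)) (.node 550 (.node 0 .nil .nil) .nil))) (.node 993 (.node 868 (.node 341 (.node 0 .nil .nil) (.node 122 .nil .nil)) (.node 0 (.node 0 .nil .nil) .nil)) (.node 263 (.node 0 (.node 0 .nil .nil) (.node 701 .nil .nil)) (.node 74 (.node 850 .nil .nil) .nil)))) (.node 956 (.node 0 (.node 609 (.node 292 (.node 0 .nil .nil) (.node 970 .nil .nil)) (.node 0 (.node 33 .nil .nil) .nil)) (.node 0 (.node 0 (.node 201 .nil .nil) (.node 0 .nil .nil)) (.node 0 (.node 0 .nil .nil) .nil))) (.node 547 (.node 0 (.node 958 (.node 34 .nil .nil) (.node 30 .nil .nil)) (.node 157 (.node 345 .nil .nil) .nil)) (.node 0 (.node 0 (.node 235 .nil .nil) (.node 359 .nil .nil))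 (.node 877 (.node 216 .nil .nil) .nil)))))) (.node 920 (.node 0 (.node 0 (.node 689 (.node 485 (.node 0 (.node 424 .nil .nil) (.node 0 .nil .nil)) (.node 0 (.node 1007 .nil .nil) .nil)) (.node 0 (.node 0 (.node 0 .nil .nil) (.node 945 .nil .nil)) (.node 0 (.node 0 .nil .nil) .nil))) (.node 0 (.node 772 (.node 518 (.node 853 .nil .nil) (.node 0 .nil .nil)) (.node 0 (.node 0 .nil .nil) .nil)) (.node 170 (.node 521 (.node 0 .nil .nil) (.node 0 .nil .nil)) (.node 873 (.node 0 .nil .nil) .nil)))) (.node 61 (.node 796 (.node 346 (.node 0 (.node 274 .nil .nil) (.node 0 .nil .nil)) (.node 448 (.node 95 .nil .nil) .nil)) (.node 280 (.node 753 (.node 371 .nil .nil) (.node 0 .nil .nil)) (.node 362 (.node 986 .nil .nil) .nil))) (.node 578 (.node 784 (.node 459 (.node 961 .nil .nil) (.node 0 .nil .nil)) (.node 0 (.node 0 .nil .nil) .nil)) (.node 0 (.node 0 (.node 528 .nil .nil) (.node 616 .nil .nil)) (.node 0 (.node 0 .nil .nil) .nil))))) (.node 45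 (.node 478 (.node 0 (.node 0 (.node 943 (.node 0 .nil .nil) (.node 0 .nil .nil)) (.node 347 (.node 785 .nil .nil) .nil)) (.node 0 (.node 829 (.node 43 .nil .nil) (.node 0 .nil .nil)) (.node 0 (.node 335 .nil .nil) .nil))) (.node 85 (.node 28 (.node 0 (.node 0 .nil .nil) (.node 374 .nil .nil)) (.node 0 (.node 579 .nil .nil) .nil)) (.node 0 (.node 0 (.node 356 .nil .nil) (.node 412 .nil .nil)) (.node 1021 (.node 348 .nil .nil) .nil)))) (.node 0 (.node 166 (.node 501 (.node 557 (.node 899 .nil .nil) (.node 0 .nil .nil)) (.node 242 (.node 0 .nil .nil) .nil)) (.node 0 (.node 582 (.node 0 .nil .nil) (.node 0 .nil .nil)) (.node 249 (.node 0 .nil .nil) .nil))) (.node 0 (.node 992 (.node 699 (.node 502 .nil .nil) (.node 0 .nil .nil)) (.node 674 (.node 0 .nil .nil) .nil)) (.node 0 (.node 411 (.node 0 .nil .nil) .nil) (.node 417 (.node 352 .nil .nil) .nil)))))))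

/-- A part. -/
noncomputable def mainPos2_11 : Arr ℕ :=
  (.node 0 (.node 0 (.node 751 (.node 329 (.node 409 (.node 0 (.node 967 (.node 0 .nil .nil) (.node 536 .nil .nil)) (.node 0 (.node 0 .nil .nil) .nil)) (.node 0 (.node 0 (.node 666 .nil .nil) (.node 183 .nil .nil)) (.node 497 (.node 71 .nil .nil) .nil))) (.node 120 (.node 0 (.node 0 (.node 382 .nil .nil) (.node 65 .nil .nil)) (.node 770 (.node 0 .nil .nil) .nil)) (.node 951 (.node 0 (.node 876 .nil .nil) (.node 650 .nil .nil)) (.node 935 (.node 953 .nil .nil) .nil)))) (.node 735 (.node 380 (.node 0 (.node 0 (.node 8 .nil .nil) (.node 525 .nil .nil)) (.node 0 (.node 310 .nil .nil) .nil)) (.node 0 (.node 63 (.node 0 .nil .nil) (.node 135 .nil .nil)) (.node 607 (.node 897 .nil .nil) .nil))) (.node 615 (.node 0 (.node 0 (.node 281 .nil .nil) (.node 283 .nil .nil)) (.node 0 (.node 0 .nil .nil) .nil)) (.node 0 (.node 0 (.node 178 .nil .nil) (.node 697 .nil .nil)) (.node 489 (.node 415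 .nil .nil) .nil))))) (.node 684 (.node 621 (.node 0 (.node 971 (.node 0 (.node 288 .nil .nil) (.node 887 .nil .nil)) (.node 675 (.node 293 .nil .nil) .nil)) (.node 788 (.node 0 (.node 514 .nil .nil) (.node 769 .nil .nil)) (.node 942 (.node 913 .nil .nil) .nil))) (.node 400 (.node 277 (.node 373 (.node 499 .nil .nil) (.node 0 .nil .nil)) (.node 570 (.node 0 .nil .nil) .nil)) (.node 159 (.node 0 (.node 391 .nil .nil) (.node 663 .nil .nil)) (.node 0 (.node 427 .nil .nil) .nil)))) (.node 0 (.node 893 (.node 0 (.node 0 (.node 189 .nil .nil) (.node 0 .nil .nil)) (.node 142 (.node 0 .nil .nil) .nil)) (.node 0 (.node 0 (.node 0 .nil .nil) (.node 381 .nil .nil)) (.node 0 (.node 127 .nil .nil) .nil))) (.node 938 (.node 39 (.node 593 (.node 1006 .nil .nil) (.node 484 .nil .nil)) (.node 0 (.node 0 .nil .nil) .nil)) (.node 555 (.node 583 (.node 73 .nil .nil) .nil) (.node 15 (.node 0 .nil .nil) .nil)))))) (.node 0 (.node 0 (.node 761 (.node 286 (.node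 820 (.node 0 (.node 974 .nil .nil) (.node 148 .nil .nil)) (.node 435 (.node 239 .nil .nil) .nil)) (.node 587 (.node 0 (.node 0 .nil .nil) (.node 0 .nil .nil)) (.node 325 (.node 0 .nil .nil) .nil))) (.node 584 (.node 0 (.node 0 (.node 565 .nil .nil) (.node 323 .nil .nil)) (.node 0 (.node 328 .nil .nil) .nil)) (.node 0 (.node 0 (.node 0 .nil .nil) (.node 149 .nil .nil)) (.node 0 (.node 703 .nil .nil) .nil)))) (.node 0 (.node 676 (.node 554 (.node 0 (.node 973 .nil .nil) (.node 886 .nil .nil)) (.node 0 (.node 186 .nil .nil) .nil)) (.node 299 (.node 837 (.node 0 .nil .nil) (.node 0 .nil .nil)) (.node 627 (.node 0 .nil .nil) .nil))) (.node 103 (.node 0 (.node 0 (.node 428 .nil .nil) (.node 124 .nil .nil)) (.node 0 (.node 136 .nil .nil) .nil)) (.node 0 (.node 315 (.node 68 .nil .nil) (.node 505 .nil .nil)) (.node 553 (.node 665 .nil .nil) .nil))))) (.node 0 (.node 503 (.node 1014 (.node 560 (.node 0 (.node 0 .nil .nil) (.node 919 .nil .nil))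 (.node 0 (.node 0 .nil .nil) .nil)) (.node 0 (.node 0 (.node 0 .nil .nil) (.node 0 .nil .nil)) (.node 0 (.node 781 .nil .nil) .nil))) (.node 0 (.node 413 (.node 0 (.node 0 .nil .nil) (.node 0 .nil .nil)) (.node 628 (.node 225 .nil .nil) .nil)) (.node 460 (.node 0 (.node 0 .nil .nil) (.node 70 .nil .nil)) (.node 507 (.node 324 .nil .nil) .nil)))) (.node 169 (.node 35 (.node 0 (.node 719 (.node 439 .nil .nil) (.node 0 .nil .nil)) (.node 167 (.node 0 .nil .nil) .nil)) (.node 0 (.node 134 (.node 7 .nil .nil) (.node 9 .nil .nil)) (.node 115 (.node 230 .nil .nil) .nil))) (.node 238 (.node 901 (.node 0 (.node 0 .nil .nil) (.node 366 .nil .nil)) (.node 480 (.node 0 .nil .nil) .nil)) (.node 0 (.node 715 (.node 0 .nil .nil) .nil) (.node 599 (.node 1015 .nil .nil) .nil)))))))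

/-- A part. -/
noncomputable def mainPos2_12 : Arr ℕ :=
  (.node 0 mainPos2_10 mainPos2_11)

/-- A part. -/
noncomputable def mainPos2_13 : Arr ℕ :=
  (.node 568 mainPos2_9 mainPos2_12)

/-- A part. -/
noncomputable def mainPos2_14 : Arr ℕ :=
  (.node 378 mainPos2_6 mainPos2_13)

/-- The array. -/
noncomputable def mainPos2 : Arr ℕ := mainPos2_14

/-- A part. -/
noncomputable def mainWords3_0 : Arr (List ℕ) :=
  (.node [] (.node [39] (.node [41] (.node [39,41] (.node [41,39,40,39] (.node [41,39,40,39,41] (.node [41,39,40,39,41,39,40] (.node [40,39,41,39,41,39,40,39,40] .nil .nil) .nil) (.node [39,41,39,40,39,41,39,40] (.node [41,39,40,39,40,39,40,39,41,39] .nil .nil) .nil)) (.node [39,41,39,40,39,41] (.node [41,39,40,39,41,39,40,39] (.node [40,39,41,39,40,39,41,39,41] .nil .nil) .nil) (.node [39,41,39,40,39,41,39,40,39] (.node [39,40,39,41,39,40,39,41,39,41] .nil .nil) .nil))) (.node [39,41,39,40,39] (.node [41,39,40,39,41,39] (.node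 [41,39,40,39,41,39,41] (.node [40,39,40,39,40,39,40,39,41] .nil .nil) .nil) (.node [39,41,39,40,39,41,39,41] (.node [41,39,41,39,41,39,41,39,41,39] .nil .nil) .nil)) (.node [39,41,39,40,39,41,39] (.node [41,39,40,39,41,39,41,39] (.node [41,39,41,39,40,39,40,39,40,39] .nil .nil) .nil) (.node [39,41,39,40,39,41,39,41,39] .nil .nil)))) (.node [41,39,40] (.node [39,41,39,40] (.node [41,39,40,39,40,39] (.node [41,39,40,39,40,39,41] (.node [41,39,41,39,40,39,41,39,40] .nil .nil) .nil) (.node [39,41,39,40,39,40,39,41] (.node [41,39,40,39,40,39,41,39,41,39] .nil .nil) .nil)) (.node [39,41,39,40,39,40,39] (.node [41,39,40,39,40,39,41,39] (.node [41,39,41,39,41,39,41,39,41] .nil .nil) .nil) (.node [39,41,39,40,39,40,39,41,39] (.node [41,39,40,39,40,39,41,39,41,39,40] .nil .nil) .nil))) (.node [41,39,40,39,40] (.node [39,41,39,40,39,40] (.node [41,39,40,39,40,39,40,39] (.node [41,39,40,39,41,39,40,39,41] .nil .nil) .nil) (.node [39,41,39,40,39,40,39,40,39]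 (.node [39,40,39,41,39,41,39,41,39,40] .nil .nil) .nil)) (.node [41,39,40,39,40,39,40] (.node [39,41,39,40,39,40,39,40] (.node [41,39,41,39,40,39,41,39,40,39] .nil .nil) .nil) (.node [41,39,40,39,40,39,40,39,40] .nil .nil))))) (.node [41,39] (.node [39,41,39] (.node [41,39,41,39] (.node [41,39,41,39,41] (.node [41,39,41,39,41,39,40] (.node [40,39,40,39,40,39,41,39,40] .nil .nil) .nil) (.node [39,41,39,41,39,41,39,40] (.node [41,39,40,39,41,39,40,39,41,39] .nil .nil) .nil)) (.node [39,41,39,41,39,41] (.node [41,39,41,39,41,39,40,39] (.node [41,39,40,39,41,39,41,39,41] .nil .nil) .nil) (.node [39,41,39,41,39,41,39,40,39] (.node [39,41,39,40,39,40,39,40,39,41,39] .nil .nil) .nil))) (.node [39,41,39,41,39] (.node [41,39,41,39,41,39] (.node [41,39,41,39,41,39,41] (.node [41,39,41,39,40,39,40,39,41] .nil .nil) .nil) (.node [39,41,39,41,39,41,39,41] (.node [39,40,39,40,39,40,39,41,39,40] .nil .nil) .nil)) (.node [39,41,39,41,39,41,39] (.node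 [41,39,41,39,41,39,41,39] (.node [41,39,41,39,41,39,40,39,40,39] .nil .nil) .nil) (.node [39,41,39,41,39,41,39,41,39] .nil .nil)))) (.node [41,39,41] (.node [39,41,39,41] (.node [41,39,41,39,40,39] (.node [41,39,41,39,40,39,41] (.node [40,39,41,39,41,39,41,39,40] .nil .nil) .nil) (.node [39,41,39,41,39,40,39,41] (.node [41,39,40,39,41,39,41,39,41,39] .nil .nil) .nil)) (.node [39,41,39,41,39,40,39] (.node [41,39,41,39,40,39,41,39] (.node [41,39,40,39,40,39,40,39,40,39] .nil .nil) .nil) (.node [39,41,39,41,39,40,39,41,39] .nil .nil))) (.node [41,39,41,39,40] (.node [39,41,39,41,39,40] (.node [41,39,41,39,40,39,40,39] (.node [40,39,40,39,40,39,41,39,41] .nil .nil) .nil) (.node [39,41,39,41,39,40,39,40,39] (.node [39,41,39,41,39,40,39,40,39,41] .nil .nil) .nil)) (.node [41,39,41,39,40,39,40] (.node [39,41,39,41,39,40,39,40] (.node [41,39,41,39,41,39,41,39,40,39] .nil .nil) .nil) (.node [41,39,41,39,40,39,40,39,40] .nil .nil)))))) (.node [40]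 (.node [40,39] (.node [39,40,39] (.node [40,39,41,39] (.node [40,39,41,39,41] (.node [40,39,41,39,41,39,40] (.node [41,39,41,39,41,39,40,39,40] .nil .nil) .nil) (.node [39,40,39,41,39,41,39,40] (.node [40,39,40,39,41,39,40,39,41,39] .nil .nil) .nil)) (.node [39,40,39,41,39,41] (.node [40,39,41,39,41,39,40,39] (.node [40,39,40,39,41,39,41,39,41] .nil .nil) .nil) (.node [39,40,39,41,39,41,39,40,39] (.node [39,40,39,41,39,41,39,41,39,40,39] .nil .nil) .nil))) (.node [39,40,39,41,39] (.node [40,39,41,39,41,39] (.node [40,39,41,39,41,39,41] (.node [41,39,40,39,40,39,40,39,41] .nil .nil) .nil) (.node [39,40,39,41,39,41,39,41] (.node [39,41,39,40,39,41,39,40,39,40] .nil .nil) .nil)) (.node [39,40,39,41,39,41,39] (.node [40,39,41,39,41,39,41,39] (.node [40,39,41,39,41,39,40,39,40,39] .nil .nil) .nil) (.node [39,40,39,41,39,41,39,41,39] .nil .nil)))) (.node [40,39,41] (.node [39,40,39,41] (.node [40,39,41,39,40,39] (.node [40,39,41,39,40,39,41]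 (.node [40,39,40,39,41,39,41,39,40] .nil .nil) .nil) (.node [39,40,39,41,39,40,39,41] (.node [40,39,40,39,41,39,41,39,41,39] .nil .nil) .nil)) (.node [39,40,39,41,39,40,39] (.node [40,39,41,39,40,39,41,39] (.node [40,39,40,39,40,39,40,39,40,39] .nil .nil) .nil) (.node [39,40,39,41,39,40,39,41,39] .nil .nil))) (.node [40,39,41,39,40] (.node [39,40,39,41,39,40] (.node [40,39,41,39,40,39,40,39] (.node [41,39,41,39,41,39,40,39,41] .nil .nil) .nil) (.node [39,40,39,41,39,40,39,40,39] (.node [39,41,39,40,39,40,39,40,39,41] .nil .nil) .nil)) (.node [40,39,41,39,40,39,40] (.node [39,40,39,41,39,40,39,40] (.node [40,39,41,39,41,39,41,39,40,39] .nil .nil) .nil) (.node [40,39,41,39,40,39,40,39,40] .nil .nil))))) (.node [39,40] (.node [40,39,40] (.node [39,40,39,40] (.node [40,39,40,39,40,39] (.node [40,39,40,39,40,39,41] (.node [40,39,41,39,40,39,41,39,40] .nil .nil) .nil) (.node [39,40,39,40,39,40,39,41] (.node [40,39,40,39,40,39,41,39,41,39] .nil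 .nil) .nil)) (.node [39,40,39,40,39,40,39] (.node [40,39,40,39,40,39,41,39] (.node [40,39,41,39,41,39,41,39,41] .nil .nil) .nil) (.node [39,40,39,40,39,40,39,41,39] (.node [41,39,41,39,40,39,41,39,40,39,40] .nil .nil) .nil))) (.node [40,39,40,39,40] (.node [39,40,39,40,39,40] (.node [40,39,40,39,40,39,40,39] (.node [40,39,40,39,41,39,40,39,41] .nil .nil) .nil) (.node [39,40,39,40,39,40,39,40,39] (.node [39,40,39,40,39,41,39,41,39,40] .nil .nil) .nil)) (.node [40,39,40,39,40,39,40] (.node [39,40,39,40,39,40,39,40] (.node [40,39,41,39,40,39,41,39,40,39] .nil .nil) .nil) (.node [40,39,40,39,40,39,40,39,40] .nil .nil)))) (.node [40,39,40,39] (.node [39,40,39,40,39] (.node [40,39,40,39,41,39] (.node [40,39,40,39,41,39,41] (.node [41,39,41,39,41,39,41,39,40] .nil .nil) .nil) (.node [39,40,39,40,39,41,39,41] (.node [40,39,41,39,41,39,41,39,41,39] .nil .nil) .nil)) (.node [39,40,39,40,39,41,39] (.node [40,39,40,39,41,39,41,39] (.node [40,39,41,39,40,39,40,39,40,39]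 .nil .nil) .nil) (.node [39,40,39,40,39,41,39,41,39] .nil .nil))) (.node [40,39,40,39,41] (.node [39,40,39,40,39,41] (.node [40,39,40,39,41,39,40,39] (.node [41,39,40,39,40,39,41,39,41] .nil .nil) .nil) (.node [39,40,39,40,39,41,39,40,39] (.node [39,41,39,41,39,41,39,40,39,41] .nil .nil) .nil)) (.node [40,39,40,39,41,39,40] (.node [39,40,39,40,39,41,39,40] (.node [40,39,40,39,40,39,40,39,41,39] .nil .nil) .nil) (.node [41,39,40,39,41,39,40,39,40] .nil .nil)))))))

/-- The array. -/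
noncomputable def mainWords3 : Arr (List ℕ) := mainWords3_0

/-- A part. -/
noncomputable def mainPos3_0 : Arr ℕ :=
  (.node 0 (.node 0 (.node 0 (.node 0 (.node 0 (.node 0 (.node 0 (.node 43 .nil .nil) (.node 0 .nil .nil)) (.node 153 (.node 0 .nil .nil) .nil)) (.node 0 (.node 0 (.node 0 .nil .nil) (.node 0 .nil .nil)) (.node 0 (.node 0 .nil .nil) .nil))) (.node 0 (.node 0 (.node 90 (.node 75 .nil .nil) (.node 0 .nil .nil)) (.node 149 (.node 0 .nil .nil) .nil)) (.node 0 (.node 0 (.node 0 .nil .nil) (.node 0 .nil .nil)) (.node 0 (.node 0 .nil .nil) .nil)))) (.node 0 (.node 140 (.node 0 (.node 0 (.node 5 .nil .nil) (.node 37 .nil .nil)) (.node 0 (.node 0 .nil .nil) .nil)) (.node 0 (.node 157 (.node 0 .nil .nil) (.node 0 .nil .nil)) (.node 85 (.node 0 .nil .nil) .nil))) (.node 0 (.node 0 (.node 0 (.node 0 .nil .nil) (.node 0 .nil .nil)) (.node 0 (.node 4 .nil .nil) .nil)) (.node 0 (.node 0 (.node 27 .nil .nil) (.node 0 .nil .nil)) (.node 0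 (.node 0 .nil .nil) .nil))))) (.node 0 (.node 74 (.node 0 (.node 0 (.node 0 (.node 0 .nil .nil) (.node 0 .nil .nil)) (.node 0 (.node 0 .nil .nil) .nil)) (.node 0 (.node 0 (.node 179 .nil .nil) (.node 0 .nil .nil)) (.node 0 (.node 0 .nil .nil) .nil))) (.node 0 (.node 0 (.node 0 (.node 0 .nil .nil) (.node 0 .nil .nil)) (.node 0 (.node 0 .nil .nil) .nil)) (.node 0 (.node 0 (.node 0 .nil .nil) (.node 0 .nil .nil)) (.node 0 (.node 0 .nil .nil) .nil)))) (.node 0 (.node 0 (.node 0 (.node 0 (.node 143 .nil .nil) (.node 0 .nil .nil)) (.node 0 (.node 0 .nil .nil) .nil)) (.node 0 (.node 0 (.node 151 .nil .nil) (.node 0 .nil .nil)) (.node 0 (.node 0 .nil .nil) .nil))) (.node 0 (.node 0 (.node 0 (.node 0 .nil .nil) (.node 0 .nil .nil)) (.node 0 (.node 0 .nil .nil) .nil)) (.node 39 (.node 0 (.node 0 .nil .nil) (.node 0 .nil .nil)) (.node 86 (.node 0 .nil .nil) .nil)))))) (.node 0 (.node 0 (.node 0 (.node 0 (.node 0 (.node 144 (.node 0 .nil .nil) (.node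 0 .nil .nil)) (.node 0 (.node 0 .nil .nil) .nil)) (.node 0 (.node 0 (.node 0 .nil .nil) (.node 0 .nil .nil)) (.node 0 (.node 0 .nil .nil) .nil))) (.node 104 (.node 0 (.node 0 (.node 0 .nil .nil) (.node 0 .nil .nil)) (.node 0 (.node 0 .nil .nil) .nil)) (.node 36 (.node 0 (.node 0 .nil .nil) (.node 0 .nil .nil)) (.node 0 (.node 0 .nil .nil) .nil)))) (.node 0 (.node 127 (.node 0 (.node 0 (.node 0 .nil .nil) (.node 0 .nil .nil)) (.node 0 (.node 0 .nil .nil) .nil)) (.node 178 (.node 0 (.node 0 .nil .nil) (.node 0 .nil .nil)) (.node 0 (.node 0 .nil .nil) .nil))) (.node 0 (.node 0 (.node 164 (.node 107 .nil .nil) (.node 0 .nil .nil)) (.node 0 (.node 0 .nil .nil) .nil)) (.node 0 (.node 0 (.node 0 .nil .nil) (.node 0 .nil .nil)) (.node 0 (.node 0 .nil .nil) .nil))))) (.node 0 (.node 0 (.node 0 (.node 0 (.node 29 (.node 0 .nil .nil) (.node 0 .nil .nil)) (.node 0 (.node 0 .nil .nil) .nil)) (.node 0 (.node 0 (.node 0 .nil .nil) (.node 0 .nil .nil))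 (.node 0 (.node 0 .nil .nil) .nil))) (.node 0 (.node 0 (.node 0 (.node 0 .nil .nil) (.node 0 .nil .nil)) (.node 0 (.node 0 .nil .nil) .nil)) (.node 0 (.node 0 (.node 0 .nil .nil) (.node 0 .nil .nil)) (.node 0 (.node 0 .nil .nil) .nil)))) (.node 0 (.node 0 (.node 0 (.node 0 (.node 0 .nil .nil) (.node 176 .nil .nil)) (.node 99 (.node 0 .nil .nil) .nil)) (.node 0 (.node 0 (.node 0 .nil .nil) (.node 0 .nil .nil)) (.node 0 (.node 0 .nil .nil) .nil))) (.node 0 (.node 0 (.node 0 (.node 0 .nil .nil) (.node 0 .nil .nil)) (.node 0 (.node 0 .nil .nil) .nil)) (.node 0 (.node 0 (.node 0 .nil .nil) .nil) (.node 0 (.node 0 .nil .nil) .nil)))))))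

/-- A part. -/
noncomputable def mainPos3_1 : Arr ℕ :=
  (.node 0 (.node 0 (.node 0 (.node 0 (.node 0 (.node 0 (.node 0 (.node 0 .nil .nil) (.node 0 .nil .nil)) (.node 0 (.node 0 .nil .nil) .nil)) (.node 0 (.node 0 (.node 0 .nil .nil) (.node 0 .nil .nil)) (.node 0 (.node 50 .nil .nil) .nil))) (.node 0 (.node 0 (.node 0 (.node 0 .nil .nil) (.node 71 .nil .nil)) (.node 0 (.node 0 .nil .nil) .nil)) (.node 0 (.node 0 (.node 0 .nil .nil) (.node 0 .nil .nil)) (.node 0 (.node 0 .nil .nil) .nil)))) (.node 0 (.node 0 (.node 0 (.node 0 (.node 0 .nil .nil) (.node 0 .nil .nil)) (.node 0 (.node 0 .nil .nil) .nil)) (.node 112 (.node 0 (.node 0 .nil .nil) (.node 0 .nil .nil)) (.node 0 (.node 0 .nil .nil) .nil))) (.node 0 (.node 0 (.node 0 (.node 0 .nil .nil) (.node 0 .nil .nil)) (.node 0 (.node 0 .nil .nil) .nil)) (.node 0 (.node 0 (.node 38 .nil .nil) (.node 0 .nil .nil)) (.node 0 (.node 0 .nil .nil) .nil))))) (.node 0 (.node 0 (.node 26 (.node 0 (.node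 0 (.node 0 .nil .nil) (.node 0 .nil .nil)) (.node 0 (.node 0 .nil .nil) .nil)) (.node 0 (.node 0 (.node 0 .nil .nil) (.node 0 .nil .nil)) (.node 0 (.node 160 .nil .nil) .nil))) (.node 0 (.node 0 (.node 0 (.node 0 .nil .nil) (.node 0 .nil .nil)) (.node 88 (.node 0 .nil .nil) .nil)) (.node 0 (.node 3 (.node 0 .nil .nil) (.node 0 .nil .nil)) (.node 0 (.node 0 .nil .nil) .nil)))) (.node 0 (.node 59 (.node 0 (.node 0 (.node 92 .nil .nil) (.node 0 .nil .nil)) (.node 0 (.node 0 .nil .nil) .nil)) (.node 0 (.node 134 (.node 0 .nil .nil) (.node 0 .nil .nil)) (.node 0 (.node 0 .nil .nil) .nil))) (.node 113 (.node 131 (.node 0 (.node 0 .nil .nil) (.node 0 .nil .nil)) (.node 0 (.node 0 .nil .nil) .nil)) (.node 0 (.node 0 (.node 0 .nil .nil) (.node 0 .nil .nil)) (.node 0 (.node 0 .nil .nil) .nil)))))) (.node 0 (.node 110 (.node 0 (.node 0 (.node 0 (.node 0 (.node 0 .nil .nil) (.node 0 .nil .nil)) (.node 0 (.node 0 .nil .nil) .nil)) (.node 0 (.node 162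 (.node 0 .nil .nil) (.node 0 .nil .nil)) (.node 0 (.node 0 .nil .nil) .nil))) (.node 0 (.node 0 (.node 0 (.node 0 .nil .nil) (.node 0 .nil .nil)) (.node 0 (.node 0 .nil .nil) .nil)) (.node 0 (.node 0 (.node 0 .nil .nil) (.node 0 .nil .nil)) (.node 0 (.node 0 .nil .nil) .nil)))) (.node 163 (.node 0 (.node 0 (.node 0 (.node 0 .nil .nil) (.node 0 .nil .nil)) (.node 0 (.node 0 .nil .nil) .nil)) (.node 0 (.node 96 (.node 0 .nil .nil) (.node 152 .nil .nil)) (.node 0 (.node 0 .nil .nil) .nil))) (.node 159 (.node 0 (.node 0 (.node 0 .nil .nil) (.node 0 .nil .nil)) (.node 174 (.node 0 .nil .nil) .nil)) (.node 0 (.node 0 (.node 49 .nil .nil) (.node 0 .nil .nil)) (.node 0 (.node 0 .nil .nil) .nil))))) (.node 0 (.node 0 (.node 0 (.node 0 (.node 0 (.node 0 .nil .nil) (.node 0 .nil .nil)) (.node 0 (.node 0 .nil .nil) .nil)) (.node 0 (.node 0 (.node 0 .nil .nil) (.node 0 .nil .nil)) (.node 0 (.node 0 .nil .nil) .nil))) (.node 0 (.node 0 (.node 0 (.node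 0 .nil .nil) (.node 0 .nil .nil)) (.node 0 (.node 0 .nil .nil) .nil)) (.node 0 (.node 0 (.node 0 .nil .nil) (.node 0 .nil .nil)) (.node 0 (.node 0 .nil .nil) .nil)))) (.node 109 (.node 0 (.node 0 (.node 0 (.node 0 .nil .nil) (.node 171 .nil .nil)) (.node 0 (.node 0 .nil .nil) .nil)) (.node 0 (.node 0 (.node 0 .nil .nil) (.node 0 .nil .nil)) (.node 0 (.node 0 .nil .nil) .nil))) (.node 0 (.node 0 (.node 0 (.node 55 .nil .nil) (.node 0 .nil .nil)) (.node 0 (.node 0 .nil .nil) .nil)) (.node 0 (.node 0 (.node 124 .nil .nil) .nil) (.node 23 (.node 0 .nil .nil) .nil)))))))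

/-- A part. -/
noncomputable def mainPos3_2 : Arr ℕ :=
  (.node 0 mainPos3_0 mainPos3_1)

/-- A part. -/
noncomputable def mainPos3_3 : Arr ℕ :=
  (.node 0 (.node 0 (.node 0 (.node 0 (.node 0 (.node 0 (.node 0 (.node 0 .nil .nil) (.node 95 .nil .nil)) (.node 0 (.node 0 .nil .nil) .nil)) (.node 0 (.node 167 (.node 0 .nil .nil) (.node 0 .nil .nil)) (.node 0 (.node 0 .nil .nil) .nil))) (.node 0 (.node 0 (.node 0 (.node 0 .nil .nil) (.node 0 .nil .nil)) (.node 7 (.node 0 .nil .nil) .nil)) (.node 0 (.node 0 (.node 0 .nil .nil) (.node 0 .nil .nil)) (.node 0 (.node 0 .nil .nil) .nil)))) (.node 0 (.node 0 (.node 0 (.node 0 (.node 0 .nil .nil) (.node 177 .nil .nil)) (.node 0 (.node 0 .nil .nil) .nil)) (.node 0 (.node 0 (.node 0 .nil .nil) (.node 0 .nil .nil)) (.node 0 (.node 0 .nil .nil) .nil))) (.node 0 (.node 0 (.node 0 (.node 0 .nil .nil) (.node 0 .nil .nil)) (.node 0 (.node 0 .nil .nil) .nil)) (.node 0 (.node 0 (.node 0 .nil .nil) (.node 0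 .nil .nil)) (.node 0 (.node 0 .nil .nil) .nil))))) (.node 125 (.node 0 (.node 0 (.node 0 (.node 0 (.node 0 .nil .nil) (.node 0 .nil .nil)) (.node 0 (.node 0 .nil .nil) .nil)) (.node 0 (.node 0 (.node 0 .nil .nil) (.node 0 .nil .nil)) (.node 16 (.node 0 .nil .nil) .nil))) (.node 0 (.node 0 (.node 0 (.node 0 .nil .nil) (.node 0 .nil .nil)) (.node 0 (.node 77 .nil .nil) .nil)) (.node 0 (.node 0 (.node 0 .nil .nil) (.node 0 .nil .nil)) (.node 0 (.node 0 .nil .nil) .nil)))) (.node 0 (.node 0 (.node 0 (.node 0 (.node 0 .nil .nil) (.node 165 .nil .nil)) (.node 28 (.node 0 .nil .nil) .nil)) (.node 0 (.node 0 (.node 0 .nil .nil) (.node 0 .nil .nil)) (.node 0 (.node 10 .nil .nil) .nil))) (.node 0 (.node 0 (.node 0 (.node 0 .nil .nil) (.node 0 .nil .nil)) (.node 0 (.node 0 .nil .nil) .nil)) (.node 0 (.node 0 (.node 0 .nil .nil) (.node 0 .nil .nil)) (.node 0 (.node 0 .nil .nil) .nil)))))) (.node 0 (.node 0 (.node 0 (.node 0 (.node 0 (.node 0 (.node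 0 .nil .nil) (.node 0 .nil .nil)) (.node 0 (.node 52 .nil .nil) .nil)) (.node 0 (.node 0 (.node 0 .nil .nil) (.node 0 .nil .nil)) (.node 0 (.node 0 .nil .nil) .nil))) (.node 0 (.node 0 (.node 0 (.node 0 .nil .nil) (.node 65 .nil .nil)) (.node 0 (.node 173 .nil .nil) .nil)) (.node 0 (.node 0 (.node 0 .nil .nil) (.node 0 .nil .nil)) (.node 81 (.node 0 .nil .nil) .nil)))) (.node 0 (.node 0 (.node 12 (.node 64 (.node 0 .nil .nil) (.node 18 .nil .nil)) (.node 0 (.node 0 .nil .nil) .nil)) (.node 0 (.node 0 (.node 0 .nil .nil) (.node 0 .nil .nil)) (.node 1 (.node 0 .nil .nil) .nil))) (.node 0 (.node 0 (.node 44 (.node 0 .nil .nil) (.node 0 .nil .nil)) (.node 0 (.node 89 .nil .nil) .nil)) (.node 0 (.node 14 (.node 0 .nil .nil) (.node 0 .nil .nil)) (.node 0 (.node 0 .nil .nil) .nil))))) (.node 0 (.node 0 (.node 0 (.node 123 (.node 0 (.node 0 .nil .nil) (.node 0 .nil .nil)) (.node 0 (.node 0 .nil .nil) .nil)) (.node 161 (.node 0 (.node 0 .nil .nil)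 (.node 0 .nil .nil)) (.node 0 (.node 0 .nil .nil) .nil))) (.node 0 (.node 0 (.node 0 (.node 0 .nil .nil) (.node 135 .nil .nil)) (.node 172 (.node 0 .nil .nil) .nil)) (.node 0 (.node 0 (.node 0 .nil .nil) (.node 0 .nil .nil)) (.node 94 (.node 0 .nil .nil) .nil)))) (.node 0 (.node 0 (.node 0 (.node 126 (.node 0 .nil .nil) (.node 0 .nil .nil)) (.node 0 (.node 0 .nil .nil) .nil)) (.node 0 (.node 0 (.node 0 .nil .nil) (.node 148 .nil .nil)) (.node 0 (.node 118 .nil .nil) .nil))) (.node 0 (.node 0 (.node 0 (.node 0 .nil .nil) (.node 0 .nil .nil)) (.node 0 (.node 0 .nil .nil) .nil)) (.node 0 (.node 0 (.node 0 .nil .nil) .nil) (.node 0 (.node 0 .nil .nil) .nil)))))))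

/-- A part. -/
noncomputable def mainPos3_4 : Arr ℕ :=
  (.node 0 (.node 0 (.node 0 (.node 0 (.node 0 (.node 0 (.node 0 (.node 0 .nil .nil) (.node 0 .nil .nil)) (.node 0 (.node 73 .nil .nil) .nil)) (.node 0 (.node 0 (.node 0 .nil .nil) (.node 0 .nil .nil)) (.node 0 (.node 0 .nil .nil) .nil))) (.node 0 (.node 0 (.node 0 (.node 0 .nil .nil) (.node 0 .nil .nil)) (.node 0 (.node 0 .nil .nil) .nil)) (.node 0 (.node 0 (.node 0 .nil .nil) (.node 69 .nil .nil)) (.node 0 (.node 0 .nil .nil) .nil)))) (.node 63 (.node 0 (.node 0 (.node 0 (.node 0 .nil .nil) (.node 0 .nil .nil)) (.node 0 (.node 116 .nil .nil) .nil)) (.node 0 (.node 0 (.node 0 .nil .nil) (.node 0 .nil .nil)) (.node 0 (.node 0 .nil .nil) .nil))) (.node 0 (.node 0 (.node 0 (.node 0 .nil .nil) (.node 0 .nil .nil)) (.node 0 (.node 0 .nil .nil) .nil)) (.node 0 (.node 0 (.node 0 .nil .nil) (.node 0 .nil .nil)) (.node 0 (.node 0 .nil .nil) .nil))))) (.node 0 (.node 114 (.node 0 (.node 0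 (.node 0 (.node 0 .nil .nil) (.node 0 .nil .nil)) (.node 0 (.node 0 .nil .nil) .nil)) (.node 0 (.node 22 (.node 0 .nil .nil) (.node 0 .nil .nil)) (.node 0 (.node 0 .nil .nil) .nil))) (.node 0 (.node 0 (.node 0 (.node 0 .nil .nil) (.node 0 .nil .nil)) (.node 0 (.node 0 .nil .nil) .nil)) (.node 0 (.node 0 (.node 0 .nil .nil) (.node 0 .nil .nil)) (.node 66 (.node 0 .nil .nil) .nil)))) (.node 0 (.node 0 (.node 0 (.node 0 (.node 0 .nil .nil) (.node 0 .nil .nil)) (.node 0 (.node 0 .nil .nil) .nil)) (.node 0 (.node 0 (.node 0 .nil .nil) (.node 0 .nil .nil)) (.node 0 (.node 0 .nil .nil) .nil))) (.node 0 (.node 0 (.node 0 (.node 0 .nil .nil) (.node 0 .nil .nil)) (.node 0 (.node 0 .nil .nil) .nil)) (.node 0 (.node 0 (.node 0 .nil .nil) (.node 0 .nil .nil)) (.node 0 (.node 0 .nil .nil) .nil)))))) (.node 0 (.node 0 (.node 0 (.node 0 (.node 0 (.node 0 (.node 0 .nil .nil) (.node 0 .nil .nil)) (.node 0 (.node 0 .nil .nil) .nil)) (.node 0 (.node 0 (.node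 0 .nil .nil) (.node 0 .nil .nil)) (.node 0 (.node 0 .nil .nil) .nil))) (.node 0 (.node 0 (.node 0 (.node 0 .nil .nil) (.node 0 .nil .nil)) (.node 0 (.node 62 .nil .nil) .nil)) (.node 0 (.node 0 (.node 0 .nil .nil) (.node 0 .nil .nil)) (.node 0 (.node 0 .nil .nil) .nil)))) (.node 0 (.node 0 (.node 0 (.node 0 (.node 0 .nil .nil) (.node 0 .nil .nil)) (.node 0 (.node 0 .nil .nil) .nil)) (.node 0 (.node 0 (.node 0 .nil .nil) (.node 0 .nil .nil)) (.node 0 (.node 0 .nil .nil) .nil))) (.node 0 (.node 0 (.node 0 (.node 0 .nil .nil) (.node 0 .nil .nil)) (.node 0 (.node 0 .nil .nil) .nil)) (.node 0 (.node 0 (.node 0 .nil .nil) (.node 0 .nil .nil)) (.node 57 (.node 0 .nil .nil) .nil))))) (.node 0 (.node 0 (.node 0 (.node 0 (.node 0 (.node 0 .nil .nil) (.node 0 .nil .nil)) (.node 0 (.node 0 .nil .nil) .nil)) (.node 0 (.node 0 (.node 0 .nil .nil) (.node 0 .nil .nil)) (.node 0 (.node 0 .nil .nil) .nil))) (.node 0 (.node 0 (.node 0 (.node 0 .nil .nil)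 (.node 0 .nil .nil)) (.node 0 (.node 0 .nil .nil) .nil)) (.node 0 (.node 0 (.node 0 .nil .nil) (.node 0 .nil .nil)) (.node 0 (.node 87 .nil .nil) .nil)))) (.node 0 (.node 0 (.node 0 (.node 0 (.node 0 .nil .nil) (.node 0 .nil .nil)) (.node 133 (.node 0 .nil .nil) .nil)) (.node 0 (.node 0 (.node 139 .nil .nil) (.node 0 .nil .nil)) (.node 0 (.node 0 .nil .nil) .nil))) (.node 0 (.node 0 (.node 0 (.node 0 .nil .nil) (.node 0 .nil .nil)) (.node 0 (.node 0 .nil .nil) .nil)) (.node 103 (.node 0 (.node 0 .nil .nil) .nil) (.node 0 (.node 0 .nil .nil) .nil)))))))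

/-- A part. -/
noncomputable def mainPos3_5 : Arr ℕ :=
  (.node 0 mainPos3_3 mainPos3_4)

/-- A part. -/
noncomputable def mainPos3_6 : Arr ℕ :=
  (.node 51 mainPos3_2 mainPos3_5)

/-- A part. -/
noncomputable def mainPos3_7 : Arr ℕ :=
  (.node 0 (.node 24 (.node 42 (.node 0 (.node 0 (.node 0 (.node 0 (.node 0 .nil .nil) (.node 0 .nil .nil)) (.node 8 (.node 0 .nil .nil) .nil)) (.node 0 (.node 0 (.node 0 .nil .nil) (.node 0 .nil .nil)) (.node 0 (.node 0 .nil .nil) .nil))) (.node 0 (.node 0 (.node 0 (.node 0 .nil .nil) (.node 0 .nil .nil)) (.node 0 (.node 0 .nil .nil) .nil)) (.node 0 (.node 98 (.node 0 .nil .nil) (.node 115 .nil .nil)) (.node 0 (.node 0 .nil .nil) .nil)))) (.node 0 (.node 117 (.node 0 (.node 0 (.node 0 .nil .nil) (.node 0 .nil .nil)) (.node 0 (.node 0 .nil .nil) .nil)) (.node 0 (.node 0 (.node 0 .nil .nil) (.node 0 .nil .nil)) (.node 0 (.node 0 .nil .nil) .nil))) (.node 0 (.node 0 (.node 0 (.node 0 .nil .nil) (.node 0 .nil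 .nil)) (.node 0 (.node 0 .nil .nil) .nil)) (.node 61 (.node 0 (.node 0 .nil .nil) (.node 0 .nil .nil)) (.node 0 (.node 0 .nil .nil) .nil))))) (.node 0 (.node 0 (.node 0 (.node 0 (.node 0 (.node 0 .nil .nil) (.node 0 .nil .nil)) (.node 0 (.node 0 .nil .nil) .nil)) (.node 0 (.node 0 (.node 0 .nil .nil) (.node 0 .nil .nil)) (.node 0 (.node 0 .nil .nil) .nil))) (.node 145 (.node 0 (.node 0 (.node 0 .nil .nil) (.node 0 .nil .nil)) (.node 0 (.node 0 .nil .nil) .nil)) (.node 0 (.node 0 (.node 0 .nil .nil) (.node 0 .nil .nil)) (.node 0 (.node 0 .nil .nil) .nil)))) (.node 0 (.node 0 (.node 13 (.node 0 (.node 0 .nil .nil) (.node 0 .nil .nil)) (.node 0 (.node 0 .nil .nil) .nil)) (.node 0 (.node 0 (.node 0 .nil .nil) (.node 91 .nil .nil)) (.node 0 (.node 0 .nil .nil) .nil))) (.node 0 (.node 0 (.node 0 (.node 0 .nil .nil) (.node 0 .nil .nil)) (.node 0 (.node 0 .nil .nil) .nil)) (.node 0 (.node 0 (.node 0 .nil .nil) (.node 0 .nil .nil)) (.node 0 (.node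 0 .nil .nil) .nil)))))) (.node 53 (.node 0 (.node 0 (.node 0 (.node 0 (.node 0 (.node 0 .nil .nil) (.node 0 .nil .nil)) (.node 0 (.node 0 .nil .nil) .nil)) (.node 0 (.node 0 (.node 0 .nil .nil) (.node 0 .nil .nil)) (.node 0 (.node 0 .nil .nil) .nil))) (.node 0 (.node 0 (.node 147 (.node 0 .nil .nil) (.node 0 .nil .nil)) (.node 0 (.node 0 .nil .nil) .nil)) (.node 0 (.node 0 (.node 0 .nil .nil) (.node 0 .nil .nil)) (.node 0 (.node 0 .nil .nil) .nil)))) (.node 0 (.node 0 (.node 0 (.node 40 (.node 76 .nil .nil) (.node 129 .nil .nil)) (.node 0 (.node 0 .nil .nil) .nil)) (.node 0 (.node 58 (.node 0 .nil .nil) (.node 0 .nil .nil)) (.node 0 (.node 0 .nil .nil) .nil))) (.node 0 (.node 0 (.node 0 (.node 0 .nil .nil) (.node 0 .nil .nil)) (.node 0 (.node 0 .nil .nil) .nil)) (.node 0 (.node 0 (.node 0 .nil .nil) (.node 0 .nil .nil)) (.node 67 (.node 0 .nil .nil) .nil))))) (.node 0 (.node 0 (.node 0 (.node 0 (.node 0 (.node 0 .nil .nil) (.node 20 .nil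 .nil)) (.node 0 (.node 30 .nil .nil) .nil)) (.node 155 (.node 0 (.node 0 .nil .nil) (.node 0 .nil .nil)) (.node 0 (.node 0 .nil .nil) .nil))) (.node 0 (.node 0 (.node 0 (.node 0 .nil .nil) (.node 122 .nil .nil)) (.node 0 (.node 0 .nil .nil) .nil)) (.node 0 (.node 0 (.node 0 .nil .nil) (.node 0 .nil .nil)) (.node 0 (.node 0 .nil .nil) .nil)))) (.node 0 (.node 0 (.node 0 (.node 0 (.node 0 .nil .nil) (.node 0 .nil .nil)) (.node 0 (.node 0 .nil .nil) .nil)) (.node 45 (.node 0 (.node 0 .nil .nil) (.node 0 .nil .nil)) (.node 0 (.node 0 .nil .nil) .nil))) (.node 0 (.node 0 (.node 0 (.node 0 .nil .nil) (.node 0 .nil .nil)) (.node 0 (.node 0 .nil .nil) .nil)) (.node 132 (.node 0 (.node 0 .nil .nil) .nil) (.node 0 (.node 0 .nil .nil) .nil)))))))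

/-- A part. -/
noncomputable def mainPos3_8 : Arr ℕ :=
  (.node 0 (.node 0 (.node 0 (.node 0 (.node 0 (.node 121 (.node 0 (.node 0 .nil .nil) (.node 0 .nil .nil)) (.node 0 (.node 0 .nil .nil) .nil)) (.node 0 (.node 0 (.node 93 .nil .nil) (.node 0 .nil .nil)) (.node 0 (.node 0 .nil .nil) .nil))) (.node 0 (.node 0 (.node 0 (.node 0 .nil .nil) (.node 0 .nil .nil)) (.node 0 (.node 0 .nil .nil) .nil)) (.node 0 (.node 0 (.node 0 .nil .nil) (.node 60 .nil .nil)) (.node 0 (.node 0 .nil .nil) .nil)))) (.node 0 (.node 0 (.node 0 (.node 0 (.node 0 .nil .nil) (.node 0 .nil .nil)) (.node 0 (.node 56 .nil .nil) .nil)) (.node 0 (.node 0 (.node 0 .nil .nil) (.node 25 .nil .nil)) (.node 0 (.node 0 .nil .nil) .nil))) (.node 0 (.node 0 (.node 0 (.node 0 .nil .nil) (.node 0 .nil .nil)) (.node 0 (.node 0 .nil .nil) .nil)) (.node 0 (.node 0 (.node 0 .nil .nil) (.node 0 .nil .nil)) (.node 80 (.node 0 .nil .nil) .nil))))) (.node 0 (.node 0 (.node 0 (.node 0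 (.node 0 (.node 0 .nil .nil) (.node 0 .nil .nil)) (.node 0 (.node 108 .nil .nil) .nil)) (.node 0 (.node 0 (.node 0 .nil .nil) (.node 0 .nil .nil)) (.node 0 (.node 136 .nil .nil) .nil))) (.node 0 (.node 0 (.node 0 (.node 0 .nil .nil) (.node 0 .nil .nil)) (.node 0 (.node 150 .nil .nil) .nil)) (.node 0 (.node 0 (.node 0 .nil .nil) (.node 0 .nil .nil)) (.node 0 (.node 0 .nil .nil) .nil)))) (.node 0 (.node 0 (.node 0 (.node 0 (.node 0 .nil .nil) (.node 0 .nil .nil)) (.node 0 (.node 0 .nil .nil) .nil)) (.node 0 (.node 0 (.node 0 .nil .nil) (.node 0 .nil .nil)) (.node 0 (.node 0 .nil .nil) .nil))) (.node 0 (.node 0 (.node 0 (.node 0 .nil .nil) (.node 0 .nil .nil)) (.node 0 (.node 0 .nil .nil) .nil)) (.node 0 (.node 0 (.node 0 .nil .nil) (.node 130 .nil .nil)) (.node 0 (.node 0 .nil .nil) .nil)))))) (.node 70 (.node 0 (.node 0 (.node 119 (.node 0 (.node 0 (.node 0 .nil .nil) (.node 0 .nil .nil)) (.node 0 (.node 0 .nil .nil) .nil)) (.node 0 (.node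 0 (.node 0 .nil .nil) (.node 0 .nil .nil)) (.node 0 (.node 154 .nil .nil) .nil))) (.node 0 (.node 0 (.node 0 (.node 0 .nil .nil) (.node 0 .nil .nil)) (.node 0 (.node 0 .nil .nil) .nil)) (.node 0 (.node 0 (.node 0 .nil .nil) (.node 169 .nil .nil)) (.node 0 (.node 0 .nil .nil) .nil)))) (.node 0 (.node 0 (.node 111 (.node 0 (.node 0 .nil .nil) (.node 83 .nil .nil)) (.node 0 (.node 0 .nil .nil) .nil)) (.node 0 (.node 158 (.node 0 .nil .nil) (.node 166 .nil .nil)) (.node 0 (.node 0 .nil .nil) .nil))) (.node 0 (.node 0 (.node 21 (.node 0 .nil .nil) (.node 0 .nil .nil)) (.node 0 (.node 0 .nil .nil) .nil)) (.node 0 (.node 0 (.node 0 .nil .nil) (.node 0 .nil .nil)) (.node 0 (.node 0 .nil .nil) .nil))))) (.node 0 (.node 0 (.node 0 (.node 0 (.node 0 (.node 137 .nil .nil) (.node 0 .nil .nil)) (.node 0 (.node 0 .nil .nil) .nil)) (.node 0 (.node 0 (.node 0 .nil .nil) (.node 0 .nil .nil)) (.node 0 (.node 0 .nil .nil) .nil))) (.node 0 (.node 105 (.node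 156 (.node 0 .nil .nil) (.node 46 .nil .nil)) (.node 0 (.node 0 .nil .nil) .nil)) (.node 0 (.node 0 (.node 0 .nil .nil) (.node 0 .nil .nil)) (.node 0 (.node 0 .nil .nil) .nil)))) (.node 0 (.node 0 (.node 0 (.node 0 (.node 0 .nil .nil) (.node 0 .nil .nil)) (.node 0 (.node 0 .nil .nil) .nil)) (.node 0 (.node 0 (.node 0 .nil .nil) (.node 0 .nil .nil)) (.node 0 (.node 0 .nil .nil) .nil))) (.node 0 (.node 0 (.node 0 (.node 0 .nil .nil) (.node 0 .nil .nil)) (.node 0 (.node 0 .nil .nil) .nil)) (.node 0 (.node 0 (.node 0 .nil .nil) .nil) (.node 0 (.node 0 .nil .nil) .nil)))))))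

/-- A part. -/
noncomputable def mainPos3_9 : Arr ℕ :=
  (.node 0 mainPos3_7 mainPos3_8)

/-- A part. -/
noncomputable def mainPos3_10 : Arr ℕ :=
  (.node 0 (.node 0 (.node 0 (.node 0 (.node 0 (.node 0 (.node 0 (.node 0 .nil .nil) (.node 0 .nil .nil)) (.node 0 (.node 0 .nil .nil) .nil)) (.node 0 (.node 0 (.node 0 .nil .nil) (.node 0 .nil .nil)) (.node 0 (.node 0 .nil .nil) .nil))) (.node 15 (.node 0 (.node 0 (.node 146 .nil .nil) (.node 0 .nil .nil)) (.node 0 (.node 0 .nil .nil) .nil)) (.node 0 (.node 0 (.node 0 .nil .nil) (.node 0 .nil .nil)) (.node 0 (.node 0 .nil .nil) .nil)))) (.node 0 (.node 0 (.node 0 (.node 0 (.node 0 .nil .nil) (.node 0 .nil .nil)) (.node 0 (.node 32 .nil .nil) .nil)) (.node 0 (.node 0 (.node 0 .nil .nil) (.node 0 .nil .nil)) (.node 0 (.node 0 .nil .nil) .nil))) (.node 0 (.node 0 (.node 0 (.node 0 .nil .nil) (.node 35 .nil .nil)) (.node 0 (.node 0 .nil .nil) .nil)) (.node 100 (.node 0 (.node 0 .nil .nil) (.node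 0 .nil .nil)) (.node 0 (.node 0 .nil .nil) .nil))))) (.node 0 (.node 0 (.node 0 (.node 0 (.node 0 (.node 0 .nil .nil) (.node 0 .nil .nil)) (.node 0 (.node 0 .nil .nil) .nil)) (.node 0 (.node 175 (.node 0 .nil .nil) (.node 0 .nil .nil)) (.node 0 (.node 0 .nil .nil) .nil))) (.node 0 (.node 0 (.node 0 (.node 0 .nil .nil) (.node 0 .nil .nil)) (.node 0 (.node 0 .nil .nil) .nil)) (.node 0 (.node 0 (.node 0 .nil .nil) (.node 97 .nil .nil)) (.node 0 (.node 0 .nil .nil) .nil)))) (.node 0 (.node 0 (.node 0 (.node 0 (.node 0 .nil .nil) (.node 0 .nil .nil)) (.node 0 (.node 0 .nil .nil) .nil)) (.node 0 (.node 0 (.node 0 .nil .nil) (.node 0 .nil .nil)) (.node 0 (.node 0 .nil .nil) .nil))) (.node 0 (.node 0 (.node 0 (.node 0 .nil .nil) (.node 48 .nil .nil)) (.node 0 (.node 0 .nil .nil) .nil)) (.node 0 (.node 0 (.node 0 .nil .nil) (.node 0 .nil .nil)) (.node 41 (.node 17 .nil .nil) .nil)))))) (.node 128 (.node 0 (.node 0 (.node 0 (.node 0 (.node 0 (.node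 0 .nil .nil) (.node 0 .nil .nil)) (.node 0 (.node 0 .nil .nil) .nil)) (.node 0 (.node 0 (.node 0 .nil .nil) (.node 0 .nil .nil)) (.node 0 (.node 0 .nil .nil) .nil))) (.node 0 (.node 0 (.node 0 (.node 0 .nil .nil) (.node 0 .nil .nil)) (.node 0 (.node 0 .nil .nil) .nil)) (.node 0 (.node 0 (.node 0 .nil .nil) (.node 0 .nil .nil)) (.node 170 (.node 0 .nil .nil) .nil)))) (.node 0 (.node 0 (.node 0 (.node 0 (.node 34 .nil .nil) (.node 0 .nil .nil)) (.node 0 (.node 0 .nil .nil) .nil)) (.node 0 (.node 0 (.node 0 .nil .nil) (.node 0 .nil .nil)) (.node 0 (.node 0 .nil .nil) .nil))) (.node 0 (.node 0 (.node 0 (.node 0 .nil .nil) (.node 0 .nil .nil)) (.node 0 (.node 0 .nil .nil) .nil)) (.node 0 (.node 0 (.node 0 .nil .nil) (.node 0 .nil .nil)) (.node 0 (.node 0 .nil .nil) .nil))))) (.node 0 (.node 0 (.node 0 (.node 0 (.node 0 (.node 0 .nil .nil) (.node 0 .nil .nil)) (.node 0 (.node 0 .nil .nil) .nil)) (.node 0 (.node 0 (.node 0 .nil .nil) (.node 0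 .nil .nil)) (.node 0 (.node 0 .nil .nil) .nil))) (.node 0 (.node 102 (.node 0 (.node 0 .nil .nil) (.node 0 .nil .nil)) (.node 0 (.node 0 .nil .nil) .nil)) (.node 0 (.node 0 (.node 0 .nil .nil) (.node 47 .nil .nil)) (.node 0 (.node 0 .nil .nil) .nil)))) (.node 0 (.node 0 (.node 0 (.node 0 (.node 0 .nil .nil) (.node 0 .nil .nil)) (.node 0 (.node 0 .nil .nil) .nil)) (.node 0 (.node 0 (.node 0 .nil .nil) (.node 0 .nil .nil)) (.node 0 (.node 0 .nil .nil) .nil))) (.node 0 (.node 0 (.node 0 (.node 0 .nil .nil) (.node 0 .nil .nil)) (.node 0 (.node 0 .nil .nil) .nil)) (.node 0 (.node 101 (.node 0 .nil .nil) .nil) (.node 0 (.node 0 .nil .nil) .nil)))))))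

/-- A part. -/
noncomputable def mainPos3_11 : Arr ℕ :=
  (.node 0 (.node 0 (.node 0 (.node 0 (.node 106 (.node 0 (.node 54 (.node 0 .nil .nil) (.node 0 .nil .nil)) (.node 0 (.node 0 .nil .nil) .nil)) (.node 0 (.node 0 (.node 0 .nil .nil) (.node 0 .nil .nil)) (.node 0 (.node 0 .nil .nil) .nil))) (.node 0 (.node 0 (.node 0 (.node 0 .nil .nil) (.node 0 .nil .nil)) (.node 0 (.node 0 .nil .nil) .nil)) (.node 0 (.node 0 (.node 0 .nil .nil) (.node 0 .nil .nil)) (.node 0 (.node 0 .nil .nil) .nil)))) (.node 0 (.node 33 (.node 0 (.node 0 (.node 0 .nil .nil) (.node 0 .nil .nil)) (.node 0 (.node 0 .nil .nil) .nil)) (.node 0 (.node 0 (.node 0 .nil .nil) (.node 0 .nil .nil)) (.node 0 (.node 0 .nil .nil) .nil))) (.node 0 (.node 0 (.node 0 (.node 0 .nil .nil) (.node 0 .nil .nil)) (.node 0 (.node 0 .nil .nil) .nil)) (.node 0 (.node 0 (.node 138 .nil .nil) (.node 0 .nil .nil)) (.node 0 (.node 0 .nil .nil) .nil))))) (.node 168 (.node 82 (.node 0 (.node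 0 (.node 0 (.node 0 .nil .nil) (.node 0 .nil .nil)) (.node 0 (.node 0 .nil .nil) .nil)) (.node 0 (.node 0 (.node 0 .nil .nil) (.node 0 .nil .nil)) (.node 0 (.node 0 .nil .nil) .nil))) (.node 0 (.node 0 (.node 0 (.node 0 .nil .nil) (.node 0 .nil .nil)) (.node 84 (.node 0 .nil .nil) .nil)) (.node 0 (.node 0 (.node 0 .nil .nil) (.node 0 .nil .nil)) (.node 0 (.node 0 .nil .nil) .nil)))) (.node 0 (.node 0 (.node 0 (.node 0 (.node 0 .nil .nil) (.node 0 .nil .nil)) (.node 0 (.node 0 .nil .nil) .nil)) (.node 0 (.node 0 (.node 0 .nil .nil) (.node 0 .nil .nil)) (.node 0 (.node 0 .nil .nil) .nil))) (.node 0 (.node 0 (.node 0 (.node 0 .nil .nil) (.node 0 .nil .nil)) (.node 0 (.node 0 .nil .nil) .nil)) (.node 0 (.node 0 (.node 0 .nil .nil) .nil) (.node 0 (.node 0 .nil .nil) .nil)))))) (.node 0 (.node 0 (.node 0 (.node 0 (.node 120 (.node 0 (.node 0 .nil .nil) (.node 141 .nil .nil)) (.node 0 (.node 0 .nil .nil) .nil)) (.node 0 (.node 0 (.node 0 .nil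 .nil) (.node 0 .nil .nil)) (.node 6 (.node 0 .nil .nil) .nil))) (.node 0 (.node 0 (.node 0 (.node 9 .nil .nil) (.node 79 .nil .nil)) (.node 0 (.node 78 .nil .nil) .nil)) (.node 0 (.node 0 (.node 0 .nil .nil) (.node 142 .nil .nil)) (.node 0 (.node 0 .nil .nil) .nil)))) (.node 0 (.node 0 (.node 0 (.node 0 (.node 0 .nil .nil) (.node 2 .nil .nil)) (.node 0 (.node 31 .nil .nil) .nil)) (.node 0 (.node 0 (.node 0 .nil .nil) (.node 0 .nil .nil)) (.node 0 (.node 0 .nil .nil) .nil))) (.node 0 (.node 0 (.node 0 (.node 0 .nil .nil) (.node 0 .nil .nil)) (.node 0 (.node 0 .nil .nil) .nil)) (.node 0 (.node 0 (.node 0 .nil .nil) (.node 0 .nil .nil)) (.node 0 (.node 0 .nil .nil) .nil))))) (.node 0 (.node 0 (.node 0 (.node 0 (.node 0 (.node 0 .nil .nil) (.node 0 .nil .nil)) (.node 0 (.node 0 .nil .nil) .nil)) (.node 0 (.node 0 (.node 0 .nil .nil) (.node 0 .nil .nil)) (.node 0 (.node 0 .nil .nil) .nil))) (.node 0 (.node 68 (.node 0 (.node 0 .nil .nil) (.node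 0 .nil .nil)) (.node 0 (.node 0 .nil .nil) .nil)) (.node 0 (.node 0 (.node 0 .nil .nil) (.node 11 .nil .nil)) (.node 0 (.node 19 .nil .nil) .nil)))) (.node 0 (.node 0 (.node 0 (.node 0 (.node 0 .nil .nil) (.node 0 .nil .nil)) (.node 0 (.node 0 .nil .nil) .nil)) (.node 0 (.node 0 (.node 0 .nil .nil) (.node 0 .nil .nil)) (.node 0 (.node 72 .nil .nil) .nil))) (.node 0 (.node 0 (.node 0 (.node 0 .nil .nil) (.node 0 .nil .nil)) (.node 0 (.node 0 .nil .nil) .nil)) (.node 0 (.node 0 (.node 0 .nil .nil) .nil) (.node 0 (.node 0 .nil .nil) .nil)))))))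

/-- A part. -/
noncomputable def mainPos3_12 : Arr ℕ :=
  (.node 0 mainPos3_10 mainPos3_11)

/-- A part. -/
noncomputable def mainPos3_13 : Arr ℕ :=
  (.node 0 mainPos3_9 mainPos3_12)

/-- A part. -/
noncomputable def mainPos3_14 : Arr ℕ :=
  (.node 0 mainPos3_6 mainPos3_13)

/-- The array. -/
noncomputable def mainPos3 : Arr ℕ := mainPos3_14

/-- The base. -/
def mainBase : List ℕ := [165,14,57,158]

/-- A level. -/
noncomputable def mainLv0 : Lv := ⟨1782, [0,1,33,34,35,36,37,38,39,40,41], mainWords0, []⟩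

/-- A level. -/
noncomputable def mainLv1 : Lv := ⟨1365, [1,33,34,35,36,37,38,39,40,41], mainWords1, []⟩

/-- A level. -/
noncomputable def mainLv2 : Lv := ⟨1024, [35,36,37,38,39,40,41], mainWords2, []⟩

/-- A level. -/
noncomputable def mainLv3 : Lv := ⟨180, [39,40,41], mainWords3, []⟩

/-- The levels. -/
noncomputable def mainLevels : List Lv := [mainLv0, mainLv1, mainLv2, mainLv3]

/-- The orbits. -/
def mainMasks : List ℕ := [0x3fffffffffffffffffffffffffffffffffffffffffffffffffffffffffffffffffffffffffffffffffffffffffffffffffffffffffffffffffffffffffffffffffffffffffffffffffffffffffffffffffffffffffffffffffffffffffffffffffffffffffffffffffffffffffffffffffffffffffffffffffffffffffffffffffffffffffffffffffffffffffffffffffffffffffffffffffffffffffffffffffffffffffffffffffffffffffffffffffffffffffffffffffffffffffffffffffffffffffffffffffffffffffffffffffffffffffffffffffffffffffffff,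
  0x3eee6ff4fdfaffdbdb98dfd3efbdfafdfff37dbffefffe3daffbeedffbf1fbef7df7edf4dfefeee3ea9fdffffe3bfcfa15739bfef77ffeb5bede7f9ff7fff6cbdffee9f77f8b6de9acbefabde9efffbffeffffcfefefffffcfff5fb3e7efb8fdeef35d4fbfbeceffe9f7f6f077d3fbddbfba9f7bdfffdff6fb3ebffefdfb63efd377df8ebd9ddbfea9fffebe6f3f7bbffeb7acbb76bf3fe7e72fabf7dfb3c76bd7ede75bf7f5fec3badf9e7f5fdf3b575bbedff7cfff3f8ffffecffe5b7fbec7feceef3cfdcedf7eecdedfebfa76fffb9f3ef6edf9ef7eae7f9beb1f7f458f,
  0x3e6c4d74fdf27fda4398de81cfbd5ae97f717cbfbed3fc39a7f3e2cbfa51fbef3dc1e5e45fe8ea626a1fd3ef7a3bfc2815739bdeb37bba31bede7d9fd277b08bdfce69b7508a686124b6babd418ad78fee66dc02ebefe7ecc8ff5791e7c518cd64e3554fbfbecafe8877f09077c3f3dd9ea89e7b59a0dfe4f32635a44dc123efd3539f80b98483eea87ffebe2f2b2b9d7eb788bb661712c6872b80a59793c72bc2a82752c7b5f68332d79e035f4018574bb49ff5cc1e3f8c9dfe8fda516e96c3feccef3ccdcadf76c8d6d1e8aa74f7f91f1c70edf1ea66a67f18eb1d2f040f,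
  0x10000044045031020118100000000000040004130042080882530281004002000400006000000042020000001810080000020080126200000040340110022008000848800000002000800000008010080000800000400480088500900000008804a1100220060000000200800240000000080002480002a08200000000000184000200000800010008190080240802000012801000010082000300008000c021008005000000800100008803000000000800005400000000011200020040100008080000010084000800c1c008104008000820006080000042080115010002]

/-- The centralising words. -/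
def centWs : List (List ℕ) := [[46],[50],[55],[56],[62],[65]]

/-- The centralising codes. -/
def centCodes : List ℕ := [0x37ac6989a9d47b2fcbd98f24cce98db07b192238e249554532d01aede7961c66d16dec918450a97895b644f404767f9d0cc060cba2a70004a8ac2db366e137b601b4168865321488319a8b0dbb48e004a126d5aea9e9c9648d8a291728ac222ad14967ca60026419cf6968d02a3881f85ea2d0d2793fc079581a98ed82566b4a8d251281212694adc826d92de475a5c1cc59aa928c9f928345676a9d1f25cb14c96355ecdf2b929d7b63169de4e01b2ac165c94d7a90b3d2f038fdc3ca8ccd644498e637dc7228e8f431e0835b52b5b65e8f88184cec863500aab45babaa3034fa949a48757472e548496022edef8f02498c033e5705b46f76189241aba703a26358ea06bfa32f6d70caea4200048b034dbf12e3eb64dacf2c1706b758376c24386ec9927facc890703370c49d63a3718d96b47f94bb6356677b7547352b52d9c6bc9ae572f70a2a30fa71405c50ecd2ede680a16d85c65f10c395ab282d718380365b4e51725d82849d0764524742d4ba2fdbcd571057f91ea4ae15b8a03300a2eb80fa010d3615e9bc72a5a31c9c50177c9c38ac08a710d07fbae5f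db2887520d80b19214e0e5b536c1910621b748f39aa129fb1416b5c5615b47c359713a487e5408b32cba1479957b3d5c37802e8ca11982db0c4491d8b5f02018205c34291fb5c910d792ab2e61d2c00b8de9d9ebe5308c8fc54d7a2eae4a73dd06339faa2ad03b2b49a30bf17d0c98b59ecfa2b8395c86af13d67e9f1cf44126d0b79265079df14e8a3a789bda9d889585c4b167e23a6efc0d02af39f527a8eec7a316cf210490cc4289b07c4ca709b111b1fab2832164bf593a51367edd606ab05a06f63997249eeea8715b395476d2f110c64133a1928abd95cd9e24f62a90014960c98627a3c00411b1a914991f48fc69611e6c5c8d0124a2eb05762132fa7e0eeb728f58950185e68a1bf26e50e8629364d88ef33bf1b9640276d620534cac5fb0f856bb96250334899c55d9ef25be42aef52981fb4483f6614213413ba172684175b4bcb9864f102cd85a58ca82e712d74a72807c3d7bd29889658d6e7b4dfa4f50c9c40f1273ad8e17c43724caed2de3d3d31390f88215f7ce22b2f6306cd6183ac03aa09f03b94b0f2cb1e8c915224a5670c5b84a5aed816de8fe1469a096508c07b119f04a676a66bcafd25c0838f920b9f06199333397115322f2b4faed15256b0c65089ebc14003e1d722ea77849bf385bb08a45141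8c0565a061b17b36835f7a449d10bec46d73baa66ef1e36d7385b2d16c40ef56be4c7323acb698b7666981a21d2aefb19e05f22acf32b487d157058f230d88791aeb0dcb465de83557934e1b279298b6a47550a67a725f17048a0e7f57742d8b4c1870dfb07b444e982207cebe65e9257ca48a7ead837809a9523bd4f06ac4a43af449ec6ca146132e58a76159123c1025ea09214d5294194754be533240d71c52a293955b8b3018e70f81592207ceafa94c80db16523ec181cc29a3915443d5b6cb34c3983bd0471cbd034c2c9c4b1c2a35fd096feeca885734ea942155e76c732d6c7a287038df4a1d882db96f515b64a75009c20a4b048138a7096c30432db6955955b66d98ed21754da0983bce7f2951d4e7443238066cb59714e310d4c98a986e051c04736b3d0837ac569f14b0138401ac058418a65a41d40cd8968d3ed1627df5a5f6756025c0857a5a819c4d13c466fb019aa6efb230961e7e83e70a6437d95011aae0de431e9cda1b33a75d4561bc2d8902a3da40d7af4cd5973ad5a4e0a232ec30fcdb76415b12453808fce359c74ef7045e92c5a6551879bb9f2102782566f0669f5222b212d936a6366f639ff8d30363f8fb40130a5cce1a4c6e12fcd68702913373cc504fb9898fd598bae54c73259658ef63e0f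62e41e7b3da14b2dc08388272c392f95846862ebc86a9f4ed8633b859b29d515831ddb474832c441a4e28e4acac0ce922a39456463b9b764cf705820f372ed44dd413149f26e10d44b750986679bd3de690a82100503c1175afb9e6b06084e13632d80bfd7d6dcabd67cc40f9629b716890e8e9bd718230b754b5375e317e7621853ccfc707b3a1d32dc27554d262ca7cba6075a9c682e9ad817d13b6d6accc99f3b550aa5b4a0750135c53633f24e1ccbb79a598da1d984775d643067ff35607ba2f2929a2604a6e8c21e15acb117bbbb16c3926c66051abb219a6a3ba13e7dc144c4ce91947b08fba22b9cf86a84cc6cbc790738be1980b73d542ea0b41af48d842126bac9ac92d35a8d17be3d1d719ba3fb21ccf16fef0ce2cc5bfc13ab8a61ff64d4860d47524a2f050929088719b096e23846e3f18eeba2181b0448de7cc94137123a6cfbef1341c853a8820ce45b7bc159e2552879d73c3c318226fce3bf32c715ada1c7a735f62f08606b02dfd74efe075b99981ab1b43be36525910c952860c5dfd378ab33a4691a56a900ec3f622b6070a90ad06829d019583918ab44d4654046d3ba413119885afe742b00b24bd9692f9a6415b6165409d565540aa1807aac7a1eaed03a5436dac9aeaff73ee98d81eef1e69a51d5f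4a6e39bc5f31615f937a8ce5185dda09769b0bd8c9872252147f1865f63e393360ea9bea2cad6998c653169d0a23aa2801d6b0a2d62768756363055713f99cdadc00db5a194193eb9d15631cc3a88edb9e77a92e9e06e231a619fee63d8a6a0f86862a4dac3d0188ea7d6a257dc8a067644c746474f7b90305b0c3f34b10194842a8fcb2732ba391c99b2480d270070c71b87b5d0156f2150c1311a829eb29b714af354302b899adf0accdbc36859070ef25509f2764eb6f5de917ac61d8d4a2ef36391e5a325a6541138cf4d1a892b9cc79d32d7b56248b4f4d1b123576602f2a435a320c29e96fad7e6971abbd3d99f4ab21899d26b7551084dfc6121463cbfda3db55b9ebfa922ca620ffca032445e1a56871207ded8d120db9302dc12143e3e78407e6fc54d278c7b6e6b34f0d2868e6d1222656cb9a5bb43c136f12bf578a8c02834af202acecbd614e0c70dd34f4482f041d5a904246ceb728f0550d1991ce4ee29830953f38f042e6c505a43dc17cf1c039e63c93996a65ca4ecc3e8d4261a0c4c9a19736a8bc5ade800e8ec09df6ab2a3871425c5ee89e3b825e17ddc8ed023628191e23ef45c7a2ba678778845ca5add694a610419aaa12afa741d36267675291e52cb5001cd19ac28f748d0cc641b73366d8a20ae003b41773b4221c8966654d4b91c6c1ac8cd484a7161392e874ab68ccb2b4266d064196b06365a36c09d11efc4029764f40def45ff2c44bda3ddd02c6da572a7920ced94c42da95fa2f1b84bd3f5959abb38c934b54232686dbcdab4ffa66416d7b87232fbe6f6a0daa1fbd2a1b3e204d4f76e0484d174c7e7aa90e1d06ca91c14afcaa343083ebc36df865e77,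
  0x11c1dc1852766f69634c2092ea628deb629ae1e0833e02b12ace298017c3551e2fd819d3356cdad83b899755905981c070fa2f3cf04e02e57b886693d491878029690d299d77956d3dc9b7c245b19e043d24bcdc94285efc5275f340cd400312bdcaa8e1349842a0d10f9403ef8fc3bb0272a1936ea0f93ecac2362c9010850bdeb98d012f46c80301ec0adffadb18ef51e675f597714101dd32559d429c4fef5a1e85b697d96174815ab535518a565a42bd2583e4162b076236639f3b66d86e776dda8c2ab0a446391a6745e3308a6cdd5a0da32089d57866fdaeecddfddcddca5ceb3482cf6d61de318b0a55b532374adb0795e37211937acb07e6ca41055c4cf8b729bdfbe868f6c304adc5808cb9a2778cafea30c8e44d1dae14d3ae04fe3e712730fa99f39ee9f71c7abdf7b03f529cc115e302ec25004d9914729423055a23b072920c017ab209aba8e6a36f262ebed0a52ef1e894497826ef03c55b8664e01d49382dcbda5a3e0274881ecf973aa33aea3b0e642201d7939284a9d7aa2dc9c859242f75f42d2946c2f1ded36b8a9f75d37da57854a09db10aaa9251e7a86514c0165e326b7240fae31245c4e589d2f86f674b0b240340321ae26cb1d385cc801e018f3059a17397259a99aceb309a2d91b380a88f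95616b3b4656f71b83ab1983d40a13beabba05df7b1c0e1e2e4f31952f5ca44a74a666e81c2b483a3459991a5e6ed451166bac4785a1835a4ac642088f10433e45569012417774cb0eb0c4b222ab8ef1fa428f6d261d91e3ae8a485cbb06674ce52054cb4ebe00cb74e6ff22443648960189cd476f2f929b2d31c0cc16b8a10dc62914fcbdd06154ba43f5706f131501abd899722dc262273968348852539c6b3a43b01072d08125e240aa4ef69a769b5ea043275e919cec49636a97b0c3e268e3ce0e6c9ba2a7231659600eb645e98540322029c747a1ad83b76a42aa6768ae8bf777536348571a74a0a07a72d8be00e5d39cb2b88b13d81ec82220e6724b9c762e21e9091a09ec1fe544cd29a79c8c6506678c2d89624ee5a0838a7c21a306eeb528c17757c2a836151b027d28b58f044dcc861aae1bb1aaed455fe7bb8165031d8d5654fa1c3f53a4f80f5ce67af101ab9aa1ecaf15d6bf51a1c2a4afe94f8ea47900b6f0061395738adea6b5c6632b316caca58c6461feb17f86b1ffd48c52e28712a6987b8512a8aabb4595f46c2f12f08fe9a4c96b8678d81f02c9069c28e6a880946b73ec762962a83b78291d0a2983f875e9257a08d1766dd117a499a180b65ad43b628416118e1b77442a904483a626cf2021c59143d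dbb090675deb92fabf9962cabc21693aae98011ab33221e5d71b9df3249944ea1aad58f08496f3ccabd5166d688890db7c597a9ab224b571dee90a418e08bacd313cf89ef11174163912cfd46aaabbe91950c0827cb5336b0d20335f7357f8e5c37814cbadfd4262eb30074b4c89328f515f5a17cbd01cf6e54b14f7647382f8d48fe8d5e43a121db7f2309191c0b36834bcc4ea9c16933fba8b22110324f58f99b4c18c393cce7b762861659c945a81bbc4a5bd88a8388d0bc7b9464c096ae4f51b165f7172d05ad9ee6fd2858a100341909619d92e41ee8b86719a5fda64e0ac26c56c689731712284aa5d51086c5d4f458652e8a9351c93ab78ed5ad5c7814c13f5806e8dd5cd36d70094ded188312fa116a9c02c82ce86e54a8981d333bd21b647162ebdd9d45e3c8960c56d37684cd8a086de4b74dfb59b7cfe362ab0bd3801f278c4d6241c88f0aeec401af34b647c9e987084371bac916a96a9cc79f4e511747ece4ce21d79619ea20ea635ba93d3f775959e9fc7105a6010d1e54c7678fb494a414ec5adbf8e0c4ddd41430f386b7b05a8a78504ad517ac9ac0b87d9433012e8dd0a8456255e776a224523379c425c1c53c03a3da01b08db454a811d614c427eba067aef5a4dc445aa006ca4aa19aeca966cd1cd5470c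7eaa34235f32e9bebdb11bb95deed674170628a7c4aeaebf364841a5184961e809d48d46ed5b13e83211f5be7fb6d65e11d28c9250f0bc4121f69c37bd895cfc2bcd190605f8ac97bd8090d3fadc7ca6f259445306120529981e85fdf5ecc9057c801b4ede47f014ec7971bcd0820462ad32783c3162c827dab1d0410186d2a1506f8e34d75211641b6d4d54cf0dd69c8c38442c5ac4a567ee3a19a8153681bfeafe141b5e4d8cb5d9b0d3282a3462d5c207e95c5c9b86fa9585496503784e4b8b0475b2ccd1f01f828e01e16a0819a1a4a918b6bc42b9ca167fefd94b31033485d7e6d3225aec17cf43a6f392c6a7204174291787b4015ca2c95632526b0eb094289259435f1be6c199e4f0482a4124b5d8ba1e7f4658b34747098949bc7294a57ac4a729aa7e6875cf4f0755ed01a65153f0a4fad12d6ce5b687fa3bf766a78fb381da0c6c70db9699da2d4d622822faf0c9521495130919bcdd4d8d75ed1381cd79bafb3b63f1882ede76c5d7c0cd84d2ecbb70ec3d1c06db386456db8a21e4cebab4cc7d2c1b7d109a53f68519794de5671c010c9e839b63fc6398d1456c987e841085b920b54197a77266f035c07c3e81146e155ef13d3c02296b39e782dfd4f1fb4d8cf8271389a07109f9269674b63dc55732a96561354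4d0461b52c56ae1aafa76afa2b25ec2e93ca2d57d10de99d5ee4ba7b33f18fd64010ce3271e25b4ca81bc220ca12f0310c95528262914983531f52470f9400970f78742ec60343264d8d7e2349f3662efcf23d467856b5e4b0692c0335b437040040ec96a3b4010181332a97d0d568545d4d932830011619572db80e01c3aa8bd5f1e0e71e45541c4650b541543a38b6612b15304c2fe36d60d1890c9923521870dcde8ec9849351482b11c4911c8ceca8b95423f2cb4d1a066b688934b1b1f2262570c36dc127a2ab5c30d2b49d3a5aaa8f9947403e6fc8da77d74c142069e8a4bcd34efc62f092469b2e86192ae674abb10ee16cd6a57dccfe56b31925b476a9c80a61c626b5f0453ad50d1c798a092e5b3b7096618d14728271cc14ea04fb01dd133e95a9d26a4d9a555159026e7986789a971657f4f936dcf60a48d8b7e837f0fc135a92c5682f339a5b739af28eeb3cd95c91f7bbca237201f44881e870c21a5891fe7cdacb4ba54c56adc93d065c82db3c2c9bf4fbc6b505342d3edd2cb68a3b76ca3e5f025c71a071b42fa5369bac18f3614d981b76733306c04fa710d8649e1cb09635637a417ec1e7f3aae49985dd082988de40c0ba09d4123501e6e5a89991a072e1539dcc60656ac63c880142dd5704c1341563c9794061a2dbc47aa0d3c3d93cf599343bfb3cb7ee63217227f95b241539152168eacdc7864890cea31340706a521acd263bade13769e525488d6e273a0dd1ad534a22ec138c1a736f290110dca312374805,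
  0x2630ea730775fa8f0160e9cc13611eb661afc0bc069b4be35394826a78aba4f476628367806cdcb626e665575a28ff7daadf0ac8f11fbb2c245404918cbb4255ae6e6fd22c01735e0485001ab56fc0aa31d93a8b481ac773ee1af48ab23920de44055800ea2629d223732d3c3a120631263b44e8af20043c09e87b9c3892757b14956d1b43d0098ba6bf138fe87507080b950d34d6688a5252192f750eddce53354243d14da15eba052ff60d3fc7c5816b2a87c322de5adcda5c3e19059d174a7e385e54fd9828497da2762da2698cc513c21ae1184e143f973dbe5ab279ba2729e44d96069f266f4962d0c07eef3d45965fb52a972f45c9bed45c449a5dbc869b2568e64c9de7648e0bd0c595ea1c1d52b702b2a22424869ce50532ebab7712552aa47d3ddf514812d3bee550b6f1a5d348b22a0b769d15ae5c6cef22bf848391483542db3d44462b68f6d53749aa9976333cd36a17113fb71824140d76760c6ed3c8bc277c5cd4d24b0621061b5760593b0de5e152c2a94f2008420080a43abfe7f0fc0ae83e11e52ce4f7266e21da26c1cdba6898e3abb597d8119d27e44cbfaf6ffa2edd2a62f9c7a3039c308dc91c268d2752b08cef85c02f22e8d2aa170455163629d61818eb691206b8de4a1a4588366956ecc0e3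5d548dadbef29c72d82b3d87e4aa35ae56145aa530fc44ee768b264115f8cac7d2e8010985d841708362301047614b5ebdb82e343db5a80b9d5db1bb11c637e717a30da160844bcee27c28c6680e61f6e8058a4f002f2364c51070e3bac9665b4749432e1d0df634b7883bc48d6ecae8eb6ba4b436559ac0e125aaf9a92e8a96e66de21ed9b5230855e7340a65c1e2eba54631b5270b1938238a5582382ba183d0b6e773a56e736e75a464edd13f94b7b625a5c6db3a5f6e8af7ac0701bca0c3401959e06a87aa18942163b6973337a4853bd6934860e6644e20595418008908991bab0e1f0c7b04a08451de2652d350b2977c1e0d1725e3bd00c601244d17e3f09e1a5a8dce0a07a1219a0795d704263276a8c79fa4f6d6c6ff622944ac36e8d2487f76d14ec8dd7874d4c81ebf8d5ea8e260e794ebbd569bba085da442b23e726601a0a426d13cf45fa418d34d6431a9973361b4fa31406dcfaa930169149248c4f67c7af98c07db076b636e9b1f078bcec867f9b086ec19ec79c69ae16e4638ddf53cde750b906ac2ab2a7e980b47c5560402d31d3c49cc5e8c8ec9d5c8ad8c1c17b1f8a15820ff58ab573379895c082854083cce56fd3f45326bdea9feff21c16954ab39ed0dd1faefab1c8a97ed0a2d8bd4bd49411c84a00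6b624b2c04ebf62d9895a5b89d42ba3a0d0bd3d91ad0f9178dd6c91c5693b1e066f88404677e4fed610d04126e4e4598cc65100162cefd39eb0c52d1819df460c18665e3e98b831828ddc674b3494b331224d74bb61201bcabac561259dac036ab23dace4b01e43b9818205b54fa30cf258c10426db2873568e7966a514f6dba12d3910f44402a452fc58a0d73c73b2b33a1a4b3d21b1848f4c9efb0402b69e58e2f6f0560ff92236c949cd641c2112b0c3b27a56b0e4ce93ce8294806ca3e6ed4ac7512e00b6b15136afde529c64333e49638d0d48110fb6010da0e845207858d4a541593e58c1dafab0f1f71baef1fa5403b54a2d6a2af5a09cd92a7783563a0a3a9820607183ddd260796a7b2caa9caf51f42e07b376269fe6ed02b418693c33e3e8f2881442ec4fa68dbb349b1cb760e8dfe2b1d1089a3dbdeb59073e9259abaf6bf9f0a291e64aadb4fb585976c7340a751e054c0c881990df69acf6165ec2f178e60e459f7a20d755e096d9c63416b9231454809591af2cf61e9e99ad51aa256265a1894da034519af4aab46152e9e6894a9f0c244b2c46fb281837c4e22476a9fe922c8b32bda543bd1512bd2caa9c151e1a0e5142d9db1ef74373d1870c138ec0957109771c4bc00ed402f977ad10d4fe34cb9485df04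eeb112dca6ecbd7651b4a0ce5a35feae3439365bdd29a29302fa600fbcdee4cc232a25d79cbfc26474fc82161683f1acd4586502ff9f3362d365ec4ceb309e3913260a06b18a18ce7430a26144ff86ee0ea419a260389c493623596dba57114747a9c5fbb40ae5ffd642d3135c5b6499cac92a4e35869985912d868ab9101e0074dd5d53909f8bd4f5b28aa0e3cb43eb194f568e3c361875f5782294cfd97513806912f5648cb00b6f099bcb8155f046db616afadd99127cd44cb4e635caa9b9be333ad6a4f0e989ca34759b71a150354cc77caa7351db3934ee5e4bbdd9399ed7aa0baeb80a215c6d115f2365ed7c4a23498004a40ab82d9901985b28bd1d8c5d885ddc2f7a1a4c1bb8aece6d42737b835de5550b022b471546007d63bd2dc91a65115abc4ae046e4cfba2799a5594c971b32d2fd19e148a3a25a224f6072abcf2ba22dd3bbc0b9d11def51e8c0e05dc3c51caf66766788ec8cd24abcb2966df2baa8f5c38bf80b7536a0654e8869c01f113e3b52348ad64690cd9b1b48ac350370780e12751355f6458ef64004da2463b0eca30fd309923869e08a4bb9e734db1dbd5db9cd39504534961cf91582eda52e1ee9ee2030209888cd3a1757dc5d1176e19c4a36fa0b25a78ca5898dba4284dc5e25022441d37daad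557225191e9287bf0f19ea0cdb6666e09388e4862ce14e06a6a56e4107a8f9e7e32685401c8747906689687921599386c68851fdaccd0516fab1e69fc5754e852f855861ae38c311618eb59641cf356b9bf87f4306002860f6791194b96df5d086878ad503d88dbf924fbec524a8b81508892103064369d3ca4e71e1e4ec746a097cc5a6aa381dde30c6921270d9f47d3b70a4f5d9af751b0047ce98d364af15d8ed9fe4adae680444ad0a27235114131898a908df188ea767c731915b07301789234d13bd9b5c1add7ee38455e154464456f1011e788dd0b4fccc2112b22c62b879507b2aa68cd0f78410ab9d6b7b61a16a84994a9961a5320a32c79adb5bc24d0158f76c46be432b36e3dbb072d7106490336732a742ee7182b0cbee18be3142b533094dcb40188037665f99985be46d604dfd42da888283145389da2400cd04c1954c0f8cbd89c046a443a4b9fb3c60381f0a036842ee951981a84466c661a2eb28ad58d837a972b41c92db00824c636c0a49b394708325f6a64d51f099885828cc26950098701d5fbec5087d88e650ddb018e5ae3463504d6ed0d72b13456200eb4e57345266ae913ed7cce8bad442c93b9b1df711813a1f6dae361670ed6ea67ab7960b8bcc19884c65b19646a8d1fb29864dbb5fb422143617bb25c8f076c997967c16b55905ddeb71ce98f298502178879e978f5705d61ed6ee588c75a95c4188e41714ea74c15ac19de2cbd964ce326d2a30e6e2fee4364d5275c03d88f450060d490a7e13e000,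
  0xcb9447b25613d6357ac55202ef38159b58f9575782128751844c6c71862f36e746d519049101ddca36a948a5f42726cc7491857997ba23051a82a5b21611eb8a4d6a66bf0057b62b4d4995e169e49809851de44d80afca424ee1f1149dec5c18690f4d21d611b936dfd50847e670d251918f186a03acb855c03f08b7e29f5a36e66df1f96494ca6d0e02e5d99621e1ce98fa161c432b2691d822f22fe7b48dd6033f3671ec674d3682b40bee9ea771052c8a4c8834260827694a7f4eba783a3cf0cb2a60f02d822d75c8ec2c48674bc73493c133a6300749e040c65350b9f2c63609b1c2617078d7cfb5f568ebd04088efe2daace6be0de604c51acffc543867134a13db5503a1dd3f4ed897836eec625086b5763e94580687b96b898a2586d1d1ab8f57a5c1dab1eb393b5b515d48c8120f955606e1bbe82e447c86bf97d64b0afaa370caae690c3565ee54d65a8a950670af80ab4883a8bd041d25747fa82ea340e7ce3ea54cb807e5473f46877a5a40a338d810ef1fb98138ff2ff8584aad96e9a10a98c46bb929ae254f761b292b5a8d31ca0de88f1914da25001a9a098a8fdf4c4a31c2b5a555f9b2b55d3464daa8fab12d0cc2cf8caf6386e72e85ec2079e95efd196318851fa0f51114fc404c9906d89e018e6449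c13a5eed1d3e2135720be79b18dc82014a8226c5356ac650deb44f27c49af1d543ae354b68066aaad8adbc1b9ebfec2c98b7997d4121b0a60d1ec721a1979e66680b9a5a84137c46cde3578b27c2e26246a40c66c61a63160a7a4a60335988e544c1f9207f10c4026f41155f03e12f154824dd3bf081889d67742d80c5507331612fa44ac9e84d07c22c2de550956d30430d2d4a4c25963b228ba5f90360aa0bac728d0c6dd754a884ce810ed6da2b67f8e364a1058ddc267d2d4bfdcdaa64965f240bb2b9eb189611fc014e822d6853b008e024d7d745e2e94264b91c5745591785c09b5d5e43a35c5091934ccdda7c31583a678c453939f7aa58221395efc8709b8cd7ece077d5747e4adc4487291e4616a4276eddb660206358c88a0aec04dbe915b837a5e6c43136218a725c5250eb767c41e609320967561e209d5c5676ca1f184efcedbc7286415d779b9a297377518d78a849e19f9323024fe8033067a9dc2f0005a491e829445880bb474038d368022f37593936e6c88c2589fb16d073e652e0b3e85b912d9fbca8cc48614c4f2a1651ef2c358d9614bbf09b27817391f0aa15e93d34933459ffb32f1f5697540b6d8db30ca8e0e6b9d2faa73a18cb43cab9276a6b997767b2c131194d9156ca4b0cf19842a59fb1e0b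8df168a23b452758f9846ee2fc668b229c1819eaa645118b9310cc96c3fb236ec91ed0d8f8a47334205a2ea32ada2acdbb0c06d945629ccc91a0d3db68a7332565a0c85ea84e4b20463ac17286f397aa49059e354c579c67d2c56d880990ab6869a9d046d6cc99813792017c2567312a21575c181a9478789facc6a153b06d2e18df97103a201686ba5f91a57b8d0cfacf94e59f3d40443698cda636291a6d9ad0334f006b6cea558980dc69402c50edc32330ea389a966b5d32881928d48f31c099595c28000b6806bbb87f9f8766efc3584f9ee2c51d8d484906cc107b9c2969660ab81116a4b83c3b8a474bb13bfc854f75f643c1581eb2975072f70a51158da9f66df211ad90c1c56fe1304d16c27a96f09c11a35339292dc98966dd1a6a415af4f49bfc46c2757bb1c2a831f7dad53d4fa5b8c30f43b08c2863c8036cb832bbd71ccd92500da809c3d7a73a30e0af5ca163d235ecb60845222a79617a0d0cdd41d7ce0bd2e29db0762350016492ef972ba008ebc493726266e2ad593611f5aa939183c8a2d9aad9b28b4162636cdd6c48585cff98f30ab62295a26747ca366b7583635435d785d502abc9ba643bc03b30a6574409aa2d76c87052905bdcf952d576a238f7ab51b9175783024b69ca452975edbc127849daf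83cf14e10978cff059bd8c1a22576245254ba3814c010ace0111f17987d5900be963f6a2ece17fd9657e2c06a32634c90ac466d9ed82a768c926b44ac31663904ddf29214c83fda9d4cdf74235cc8275279659dde2ca986579e24789e37a2a091f5a58717ea558186e68f96f2f2ab978e0eae451bc26794921672c7628e327c50e2add105b9798c95af77b05e9701c869e73e9a8538c0489ca4661c79475f8703121898eb3a4717f767033582d7b5f0341e16b25cd658b741d5cbd5131686812830ea062c92178ae31a1d13ac02afdb1ebc1ca3a83eb85b9238b55850d9ec385315c9afb8cd650fc4ca581dda4880b8ec697788b606c606c3bea5cfb58491119d80dd1a87a3e112316e22259235bc9776110ba12e82316cc757f6ad0b84561530d716ede33441df2126cdf81e65da0432251214319a2ae050b615a2bedda13312ec403a19d8d8b48ed84ed50edef6cd67b66111cb9a7539080f224af6dcb4a8874e2c1ac42e74562a9752e80877ef6cb8767ae2f355341ec580a0a5c794bb8e4bf69d24582896573ceeea45d4bde091c64df273a7cb6b7738675c6fdf0534ce73c0468bf0a0b791d9a53ccf4115500f9a24eb749e0bebea40c08f4b4165f65c244615297bcccdbe0e73b22f26ab51caca8a2e1996cf4f002da5a2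bb95803820591086ba0d6c0c4b0ea665360285d9edd0e3ec12946bab0b0fd51ecf38f8342a198f6fc1f531cc405501e9c696e80e72a971db4b58eba19e694d05e27105907c1d01b63b5141fcc8a43d66d05d993886eb8fcec6158bd62d0a2799f590665493758111e38e407a457bbb0e253ced8c9886690b6f2a09e5aba5612fad36f1783ac8d1db46fda35e16d784b6ce4923213e803092347a82e11a8cb3efb71cab0f14793ecc2536ac9853fe5aa3e4488bd275f3a66d102857d73a382dd49d6c8e26b016f1daab5af1a28b951adb6b06c366cff6052661828c9dca2998e6756e0e089e908469e2dcc0fa42926fbb804a946ea7cda1debd846b1cb4ef456a52da9c7cb35d10ba4b2d8a1320ed7a5b862ed59bc21e3747549ad5563a4ac4fb34198b0ba0134dabc0aef1d2c4f3ea41a9bb8d125498ad53d6d74ae963e09a8c572a2a41e9994a7c398f3ab9e6dda47571b792df7da759d6a4a3e684f6984a45b13a0abf943f0f66e4c380c10880e733c781a64147838a5329873dc51112f98658f5ac9a2b30c9390eacd96b31c40daed738eba5605492956a3494050bb923e8207759d61b3280c11b9d34fc50f871f70cc2f744e7f10436a444240fd0a5272500c5c3c5660fa50b27730774e38e70331e60251e08507b49d7602003cde8ff0dddb66e8da689b6d5ecef78cf2902107acd3cee90d2de364c80b812d340c2d1f32119d885bacd3b2eee8a2c1c887066bcf5bd0d49ea034115a8b65cbbb5e44cc0b2b4f01b2b85e5fa46800,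
  0xcba8403b13378be24a3bbb76a08b511be3b546a390a64594dccdb672b6e0564680cfc5b069b684d02a8682a720617cae5683068da98b660de65b8650a1d637d8ec9e409ee40abe2edec04449f1c7d96d0f1dce03996c1adb5ab188e0b54f04913c6b51da576644cfa7a4a9c55a988bd40b6aa69c253f70e11c052eab23a6ab2debd1d725906889c60e5360cea2b2b578cbad0daf639c6784134d89cffc071ea87c871eb3eef4321b83666452eb2cb4434cc168775b5dfae28567ecf4b01442f359a08f0a41f182156680e77249edb174895e3e627d9155725e13624ad506f7ea03c9ee5033abe808d5eae421e0286d588db0618450f79095b345897a243548923d8e9f41314704871ae343038da9a0e705e25001c3e13205f3649f6b99e9061db05706aa841728c77caf9e548e049da8073047c87f3710120fd6664659cc7a676189ad230aaa262ef20302afe4688a96b600d3ee964b92e870bbf158059eacdef128943dadec561994388d4b81ab9ac467b578bc77991861392d27ac2973547738beddc5e51c6c3dc86880c559c39a26614249e49360634c41510a1511d8220537191ae63a1bafc50a02843144a535d29c742dcde5a1883489c57b67b5d8114528e586e51d80e03283a84d00cf289c3cc9df688d28bf0182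46ceb7b6fa0531341ec6238ec35cbbaebb292e85bd46b85c940436e3a333b068c28a34bb25e6ece20a536851d00e514885a7754e7dc58ffb495c0afaf5c44e691822916e858d7d5aab4d6880d7a73aad2c959d8b256050f5487ee0765b5be3cd58aaed1c6f0232cd9318cb15854c7d4da11818c6cc185118c2dea28dc84e84a95b8c9953493c62540074a23d426dd35db6d97b69a940b523a43114040368a530a9492fa4f9674dbd118418c3e91da0e169a48cfa36f968cd9e3490b60939099608046d621e2b376585788942afe5988bf68dc30b6a074097f86c697351d0c5547aad2d7e2297b59852d79ca7bc14e9fea0cf3c605289db4ed56a82b74ab1324e4367388d8ce026771c90511c9a5c0260025e00848d1bcd1658d8e13c7c60345d654ba7a831c64447936609bf35b128300a3e4fc9fcee35b41e0125ce738f8ce8774306f41433cec2d2a0974bc088e51b16db72ba3752bfa283e7288f8d2a7637d4e549c90d8f68749890b79d8b076787a45fed51bd871b5c85d07d2c47dc8866d73efeb3141720968acac2d1fb0f4408f01791d03004cd223a80ec7c238338416863e6de853729812f0eb2d290cac01751abb7751460a3f17a893bb18adc104b4ea670cc9fc563255056e04824c9983a0770befad5cc485140f43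13546d2170124b704f5dc1c3ed97034a530d6a0131ee65b28a9625dcbce1990b865e9e0aac48345df1117d103c6b5eb0f5b5ebb67942356e0972b3e17b5fa628b161add65e9a3d3deb881e9ce06869bfc6b6049cb7c8a1730980c04eb70452cba5ab3583fc95d2c88103b24896279b7343b406b646eaddb4440d53178f05f4b05a3c950729b82b73c8e2db60f2a735092c5ee47207411c971722d2b57a6cbd383c60852d09930b796c39742d0cc02e1e2b3265cc3557b67140734eeae57ac68d270bd7b7632f841d72eb1f14064c3b590f634fbba505d4c9d526e9a05a69552aad953a07a4e79a69ab736e6a083c8b04f1366c24c3925713d7cd157c5c6ea4716a49e0388bfec25c2bdd38f8ec96ce139f37cbfb7c29e270e7531438c5ceb2b027606d6f3d5c82a419ee10b7ea38d933b713b7d8e8c70f4d8b765f2770405643913ea138e4ed805b8bea450b94628dd52d73ae36f31678d085b973ee90657676ad93dd5295a0dc49289a29aa8844a542f0338659a00b9570116e594fded73f24c6a5f62a53f6473283dfb2a61db09067d01d4af2f4210f514b1a718e482e13d6e4b10e20b2153ec78f7d8969935651b48c2a82b0860e95f1cecc79221b14b4a7e51a88593a22a0f2a3cb076e1980acc5027b0768536830bb85992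569822b57303a3ab9841ae40f01fb5a66e88d853395bed5151138b251b5306342e9b8aebb62b9859ea624caa44b381a525bcb083cf3a171c259a05de2e414dd57d89eae39dc646305dadbcb11582a2d99588e47d5498e99d409ea783faa817d02952e11850da950a2d90864141a4a1f11854ce0f6609854ab8145885c93d3785ea89ac9f92534e61341f3cd6eeb3a5b9e24d940a8019a50d3ed6b7b0f7d502505189d93aa747b37cf675244deb19bbc924d6f090aeaacb62d132939c9f684d63ba6f25d232196de86610f9b62149583765c8caf84b053d4670c5488a7496f79ce28b3ce7128b84a25799c7e10f1c02b73f436d2d566d76c846f63569e832edb0d18db813a3653cba745700c6c2c944f005b4690447708a65d05969ca6226dcbfb910c8b17142c9d221408d4e367cb51a2905f053c646450dab61016819190733235d37acea77a6133fd5d5c07e93ba2fcc98925e6ab6a71fef79f0d8cc3de3c026ecd94be333c3757dc9a200cb5557e88c8fbb48ffcf73ec76b6f082758af8eace69d267ad2ce736897c401cc958ea1469c837eca5291be386708e0c8d706918dd4fe376638c4c0736efda2cb7fd2710dc01b0c2a511532964926e4d4a299b4cd5312454c0912021d98c54e931dabb5266a6a8984023898818812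c42455aaa7b86f5ed450a09480d50ef47e575ffcf005db508f9a1b37375d5e6d2f75387a178ab893d2ee5867269b239a72f2c00b696c2d62b0b40726a4fb15d157a7cf511ceef75e57882a5599e779af4faac27de0e6432a646eeacb6b38a190d66b9a31b4a4a2e9f216d9258e97ec99a8bb69f899d860e97e8256729d126f3a09a9346fd9aa649309d94254a18f2504a92424349a3aac90199b048b1917ec66e08c518d656665abae3a644595eabfd47134b52041e064c762a73c2c1a29da042c418c36f320612cace52c5a6bcfe20ec783e9f854d32b69cfe96f4dc3cb40a40328840768ae42713e6861a5709328d374d78970709876c878a66ada8b0d40a41a8bf17ed8d55ba95b265d8d0dce8925f28fa2d95464c491bebe76e0c4cb54c2ad4eb210431afc4a0583751b3d0dd062dad44e56e41c5821815e436601114062a8080a81cd4b6fbbef2cf6573de71b3f974fc4b3da7b8afca5a12e4397e2c06c7b868c0905852ae6e6b13d1a715dd43ac76c6ca60e7796b21e3be7479c297ee32a824d3d118de4cfccd9122205a43899c9985700f437aa926aa5ee6bb506757d88cbd4b830beec7fa0b0557bc3ef9ecd3f1b6e15b37dad954909aabfa7442d775cc67f268a5398c8583ae646db0873bb59bf8587b956fe4e0819f2bac2206f0021f84406755a0a47b6ad5248cac1bdcd626f02806bae9fdd810d776305c5d03f9208257395123dfbdded4ede211859b063a26ded62015fb0689f84b5eaf20a6c183d86be8c1fe48c00800,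
  0x62c62208584dbb51227b6b76be54128d505aec928dc523ac43fcdd5a79da618944e965b03da68eb6e8770110c06934b19154546ab882944cdc2828027576c89451e2e51e4566776e8a23110b77416740b521b084671afb0302b6990a082873137657a5bed086908ef3e4af77f8d141cbfdbcfd5f1d8e37bbae326ac517bb8b93f8d2e5f4b9836c6415c7f807bf7a3b0219508217811c007cface1b8f565acb1d7c247e63f73cde28ab88eecab578ccad9add456810a3935b6bad08ede03442c79d9bb75746135fb6b14459114b14044dcdd6a1232f5215840a36c75de0ee397d015321d5d4b8bb088f387fb2c6c010c5848c28ef217cfa5b79a1da3552deaf17054092a4ebc6f85f5363521bb500a521570a4284a1ab7628341c8f1e37bb714d711a1ab2001650e011c883f9b55975d2339c6044c9b7767619e3f8028d13594da4f79b34529c0cadd231188fb1a95b1bd28031d08269c92b988c9433a8634e3ebcb7b0fc01403026977446f886407777b64c8aaf9801e8b68a29aa5ceea84bc71b551490938733ebc3d6221efd6bcd259750fdc076aca42068f28ec5dd5b2e95854edf586bad09c9fb0f02ad0e7c49572a1cd77524a27b84d0080562d7de200a065321bb659774abe6a9b5661502d53e2523179551abac43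798540e5a107c15aeab3505908daf118d609486c03117cc30cbbb03dab9bb1bd1b3da6d595c03b96d425b06a4e420fca029741d4b129b662861ee53e09e85d823b904e7747cadaa86b00d0c96348d3698a1a46ec2ba086c9baa8bef6032f4328fa2d772cde407a46b191eb4501cc6e366639851b8841de3584957336d6098e46ca7e35c26ed489acbdbd225b055f47a6c085939aa77304d9c5f9a2af6b829089a8ccc9a06dd12416e0984ec1791ca7f7f8b78764ca2e9c6d557c30be1c20e07383f13152c3b75c18ccb948e153669c994936ff92c4d6e2cfc6b03fb678f9cb23f8405a3e3d95d0ea31b2119a504ceccc24f5ae7613125e18d569cf408a0b6f8e1c6c25c594e016272d1fd995480f9f648d2f84ca9e8918e1b4d652a21683e10407caea51060077c3e59aae4ff0530065992b61d18412df37a4c40484fa8076c59a333540285a33bdbc030656b25c5533b4ad1c4b238c09d715ae7c107e08bd93d2f9557be11b6c9bfcd16e402a81bcbe00ec84fb76163db631c3cf61f683d38d786743466d563c82a05dc9a5ee5d6026cb7db57b1db9ec8eac22c0d605cf2dfd5a65ea0d00d2cf22731512a595f405b244e34eb29a06d40b914c04f27c1e61627777d494285913888bb755177ada86d0a390c0d65c0d450bed244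7a28822bfea222aacfb925a3832b0b52cb4157fa16e090bdd36071c508b2816746604d5915f96f658d996720e0a33eef3a11d1eb2e22acdd80bf326a95a056f10e68ae4ac0e35970e8878b09a07ca0d0f0a2444c3c7d5c8d45507e2ffea5c1013d07b42a19adf704aa5643174f93fcea6962765bb1f98b11ce3d303924e0fd65c8174e06ee8989ceaa280925f96ae67bf788ab0544b1806aaadef8a78137bd80667d7c7a0424f273ce32833b482e14a06cb6b16ee4e8bc011c37c3d2e5744f7949269a5d0b63b97f4211e40d6286b9736e93e04d16913b360a9e9d35ddb21d23a9a9d693e2e20abd496c46a74a6ad96a54315b52c250ae87a418f569e94943c749a9c4bcb375a7ce115b57a478f0a16558861cc0614e68b4563c70d0b4712882a7633d0e27a56c0f220cd85ea1fd3d9426ce4f4f7d335f092e8d5f87490ed8b68143d1615b8b78a639cad2c96a0cd985ba1b6ca32b0bd4cfe8c0bcc8310b5e2021e0b8abcda0d956e5a581263164cc096dc7ed14e500939787acea1938e94286f14ebd01928d88c8206184ee3e9d3e9ba64f3391a6087636061f2b673f1b2d8b9bf6ad31a011d2e747dba1a91274e5de10b9c396c2bc6a9f32229decc91a5e545f8f15cbd57da251309ff0c514b32177cdd29d7f66dd86669f5ed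82c55dab35a31e912041da29807d621d7fa3a9b5e7c6f6414d6fbcde6542722ecf65b97aed6c1dad5ac9a2616bb78295db924740225343e8e2bdcc536e5f34f21e1ec6a8f4096d2f895904731595df944985acb4a390e993689f136682a87f2a8d4c9f22e8aa567cc1b121d1318700a73cce62d5b144528d90b854f097464eb18e8c5984e8678fca7d3498f06debeddc9e6d0d85e6d4569937e72d682556b0756b40dd3a81fbe8b8a7ab4a0874b614e2da4f0c76bdc9deae114aab2a646415fa4a2d46b4a29b133e739794d23725b49054240e6335199b19c85de4aeb736670174562e0465293062305964b1d02b84a2ae946bba78c22a3850241628d5b4497575aa70884bdb00b12ad016007889bb81a765618d6d50ca6574d839c3426e6b9191e4c18861a65a1a0ed302fa1a066965f78f2b6d964551f4f0e5c124d0a890fc2bb122dd226c79526249094b9085ad7b8434d9394761b536c68ec78f688310185902c9cfb42234e8f161a0258f35224acdd1996849bfb5e045b77aae41a830e44e89d2a132a9103a8445b22a55b1add76e505f77a8243573874289564622a0b5c3518382c242547319258c23ce6242f6083a3721d47eefa0a306910146529178694f1c553842b1096033c96c8ba603336e52825fdb8e00ef93340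66f87f112033414162457b8f68d137e0dc5a55e06fb406cc7631579061d9f62467152a235c6149a42d82a69523a2bbee55bf6e062137938662c68b990e3085c469cae933225b5c4e4d4b44dd4cc30f39b5ebc36fe32aa72f027e0c0867b3b34b8e6b90188913c19aac79abd507795791e65167f48049cb6a401169b30ca610dfd83c6016183a76db3c71a457e9245c66ee2a07860717015504380850c10e015d8ecc68bbb3e9e0848ad9e3b80408c63b29892d2409ce2ac7584b1906252339c4b92e43901d20790e5c64925c2598cde7d1b1d6a74aac3ca5d0e83d14cca0afdba9bf5c091213c66eed476990fb9e2669d858b38438a558af3fb7633d3f33f4331003950d76766c7e0ba5cfa2b67f8314d3b651efab78a94b68a5933a566ab31a7bd284924090aa8da40d84aea42b2463c6dbdd178388779949c41192189835edf36d8566999306aaf4d015327e4aba210082e2797ecaf8a737915e645b8537d84eb0f11067b7a9f3d499070ffa22665b86e5a7ce0b779498df8c72792f1ab4f02192c09d23eb5d2a08d1a51e08da721a3ccc5fb6b49137052a95614727506c249f7e8b08555397dccdca5bf2abee9544440ba60cede1ebc1b9df6967b24cd3a2cd530f695d659a4b5047e2606d4fa9f24bbaebb586d73ac05a57d6dbc30752e6542e48151652b19eac602fcc911d9b951a0439a80d26ead0dc7c924f352ce74c2a779b31dcf6205b48ece27b4ab33c3f79d566034cc2e9ea6e762aa5d512d522ed7b64e8f7bf9ae400800]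

/-- A part. -/
noncomputable def centWords0_0 : Arr (List ℕ) :=
  (.node [4,0] (.node [0,0,0] (.node [4,2,0] (.node [1,2,1] (.node [1,2,1,0] (.node [5,2,5,0] (.node [0,2,4,0,0] (.node [3,1,1,0,1] .nil .nil) (.node [0,5,0,5,1,0] .nil .nil)) (.node [3,0,5,2,0] (.node [2,0,1,5,1] .nil .nil) .nil)) (.node [2,2,4,1] (.node [5,3,4,1,0] (.node [5,3,0,2,1] .nil .nil) .nil) (.node [3,1,1,4,0] (.node [5,1,1,3,0,0] .nil .nil) .nil))) (.node [5,1,3,0] (.node [2,0,2,1] (.node [5,5,1,1,0] (.node [0,5,0,1,1] .nil .nil) (.node [4,3,5,0,4,0] .nil .nil)) (.node [1,4,2,3,0] (.node [2,0,2,1,0,0] .nil .nil) .nil)) (.node [5,2,1,0,0] (.node [0,3,1,2,0] (.node [0,5,1,3,1] .nil .nil) .nil) (.node [4,0,0,5,0] (.node [0,3,3,1,1,0] .nil .nil) .nil)))) (.node [5,1,0,0] (.node [4,1,2,0] (.node [0,5,0,1] (.node [0,1,0,1,0] (.node [5,1,3,0,1] .nil .nil) (.node [3,0,0,2,2,0] .nil .nil)) (.node [4,4,0,3,0] (.node [0,3,1,0,0,0] .nil .nil) .nil)) (.node [2,5,5,1] (.node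 [5,1,0,2,0] (.node [5,5,3,2,1] .nil .nil) .nil) (.node [4,3,3,4,0] (.node [4,4,2,5,0,0] .nil .nil) .nil))) (.node [1,2,4,0] (.node [1,1,3,1] (.node [1,1,3,1,0] (.node [1,5,3,1,1] .nil .nil) .nil) (.node [3,1,5,3,0] (.node [4,2,1,2,0,0] .nil .nil) .nil)) (.node [5,4,2,0,0] (.node [2,2,3,2,0] (.node [0,4,1,4,1] .nil .nil) .nil) (.node [5,5,2,5,0] (.node [5,1,1,3,1,0] .nil .nil) .nil))))) (.node [2,5,0] (.node [5,4,1] (.node [5,4,1,0] (.node [4,1,0,1] (.node [5,2,5,0,0] (.node [0,3,2,0,1] .nil .nil) (.node [1,0,3,0,2,0] .nil .nil)) (.node [4,0,0,3,0] (.node [3,0,3,5,1] .nil .nil) .nil)) (.node [5,0,5,1] (.node [0,2,5,1,0] (.node [0,3,2,2,1] .nil .nil) .nil) (.node [4,0,2,4,0] (.node [4,0,0,4,0,0] .nil .nil) .nil))) (.node [1,5,3,0] (.node [4,3,2,1] (.node [0,3,2,1,0] (.node [0,5,2,1,1] .nil .nil) (.node [0,0,4,2,2,1] .nil .nil)) (.node [3,0,4,3,0] (.node [0,2,4,1,0,0] .nil .nil) .nil)) (.node [2,1,2,0,0] (.node [4,2,2,2,0] (.node [1,4,4,3,1]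 .nil .nil) .nil) (.node [2,0,1,5,0] (.node [1,3,1,2,1,0] .nil .nil) .nil)))) (.node [0,5,0,0] (.node [0,5,2,0] (.node [2,3,1,1] (.node [4,1,1,1,0] (.node [2,5,4,0,1] .nil .nil) (.node [1,3,3,5,2,0] .nil .nil)) (.node [2,4,1,3,0] (.node [3,2,3,0,0,0] .nil .nil) .nil)) (.node [0,4,0,0,0] (.node [0,5,0,2,0] (.node [2,3,5,2,1] .nil .nil) .nil) (.node [1,3,4,4,0] (.node [3,3,1,0,1,0] .nil .nil) .nil))) (.node [2,5,4,0] (.node [4,4,3,1] (.node [2,5,3,1,0] (.node [2,2,5,1,1] .nil .nil) .nil) (.node [2,2,0,4,0] (.node [5,4,4,2,0,0] .nil .nil) .nil)) (.node [1,3,3,0,0] (.node [3,1,4,2,0] (.node [4,0,4,4,1] .nil .nil) .nil) (.node [3,0,0,0,1] (.node [2,4,0,4,1,0] .nil .nil) .nil)))))) (.node [2,1,0] (.node [0,4,0] (.node [3,3,1] (.node [3,3,1,0] (.node [0,0,0,1] (.node [1,0,5,0,0] (.node [0,5,1,0,1] .nil .nil) (.node [2,0,1,0,2,0] .nil .nil)) (.node [1,3,5,2,0] (.node [0,4,1,5,1] .nil .nil) .nil)) (.node [1,4,4,1] (.node [2,5,4,1,0] (.node [5,1,1,2,1]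 .nil .nil) .nil) (.node [4,3,1,4,0] (.node [2,2,3,3,0,0] .nil .nil) .nil))) (.node [4,3,3,0] (.node [5,1,2,1] (.node [2,1,2,1,0] (.node [4,1,2,1,1] .nil .nil) (.node [5,0,2,1,0,1] .nil .nil)) (.node [2,4,3,3,0] (.node [0,2,3,1,0,0] .nil .nil) .nil)) (.node [2,4,1,0,0] (.node [3,4,1,2,0] (.node [3,4,2,3,1] .nil .nil) .nil) (.node [1,4,0,5,0] (.node [1,2,5,1,1,0] .nil .nil) .nil)))) (.node [2,3,0,0] (.node [4,3,2,0] (.node [0,1,1,1] (.node [0,3,0,1,0] (.node [2,0,4,0,1] .nil .nil) (.node [1,2,2,3,2,0] .nil .nil)) (.node [4,0,1,3,0] (.node [3,4,2,0,0,0] .nil .nil) .nil)) (.node [1,2,0,0,0] (.node [2,3,0,2,0] (.node [2,4,4,2,1] .nil .nil) .nil) (.node [1,1,4,4,0] (.node [1,0,0,0,1,0] .nil .nil) .nil))) (.node [5,3,4,0] (.node [4,2,3,1] (.node [0,3,3,1,0] (.node [0,4,4,1,1] .nil .nil) .nil) (.node [0,0,0,4,0] (.node [0,5,2,2,0,0] .nil .nil) .nil)) (.node [5,0,3,0,0] (.node [2,5,3,2,0] (.node [1,3,2,4,1] .nil .nil) .nil) (.node [4,2,3,5,0] (.node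 [5,2,4,3,1,0] .nil .nil) .nil))))) (.node [5,0,1] (.node [3,0,0,0] (.node [2,0,2,0] (.node [1,3,0,1] (.node [1,5,5,0,0] (.node [1,5,2,0,1] .nil .nil) (.node [4,1,0,1,2,0] .nil .nil)) (.node [3,2,0,3,0] (.node [1,1,5,5,1] .nil .nil) .nil)) (.node [2,2,5,1] (.node [0,0,0,2,0] (.node [1,2,3,2,1] .nil .nil) .nil) (.node [1,0,3,4,0] (.node [2,3,1,5,0,0] .nil .nil) .nil))) (.node [4,0,4,0] (.node [2,5,2,1] (.node [5,4,2,1,0] (.node [5,2,3,1,1] .nil .nil) .nil) (.node [3,4,4,3,0] (.node [5,2,5,1,0,0] .nil .nil) .nil)) (.node [5,2,2,0,0] (.node [0,0,3,2,0] (.node [1,2,0,4,1] .nil .nil) .nil) (.node [0,5,1,5,0] (.node [5,2,3,2,1,0] .nil .nil) .nil)))) (.node [3,0,1,0] (.node [3,0,3,0] (.node [4,4,1,1] (.node [2,3,1,1,0] (.node [1,5,5,0,1] .nil .nil) (.node [3,5,0,3,3,0] .nil .nil)) (.node [3,1,2,3,0] (.node [4,0,0,1,0,0] .nil .nil) .nil)) (.node [2,0,1,0,0] (.node [3,1,1,2,0] (.node [5,5,0,3,1] .nil .nil) .nil) (.node [5,0,5,4,0] (.node [0,4,2,1,1,0]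 .nil .nil) .nil))) (.node [0,1,5,0] (.node [4,0,4,1] (.node [4,1,4,1,0] (.node [0,1,0,2,1] .nil .nil) .nil) (.node [3,4,0,4,0] (.node [2,5,5,2,0,0] .nil .nil) .nil)) (.node [1,0,4,0,0] (.node [3,3,4,2,0] (.node [2,2,0,5,1] .nil .nil) .nil) (.node [0,5,0,0,1] (.node [1,5,3,4,1,0] .nil .nil) .nil)))))))

/-- A part. -/
noncomputable def centWords0_1 : Arr (List ℕ) :=
  (.node [2,1] (.node [4,0,0] (.node [2,3,0] (.node [5,2,1] (.node [5,2,1,0] (.node [3,3,5,0] (.node [1,4,4,0,0] (.node [0,3,1,0,1] .nil .nil) (.node [3,1,5,5,1,0] .nil .nil)) (.node [3,1,5,2,0] (.node [5,1,1,5,1] .nil .nil) .nil)) (.node [3,3,4,1] (.node [3,4,4,1,0] (.node [5,5,0,2,1] .nil .nil) .nil) (.node [4,2,1,4,0] (.node [1,3,2,3,0,0] .nil .nil) .nil))) (.node [3,2,3,0] (.node [1,1,2,1] (.node [3,0,2,1,0] (.node [2,0,1,1,1] .nil .nil) (.node [1,5,1,0,5,0] .nil .nil)) (.node [1,0,3,3,0] (.node [2,3,2,1,0,0] .nil .nil) .nil)) (.node [3,3,1,0,0] (.node [5,3,1,2,0] (.node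 [0,1,2,3,1] .nil .nil) .nil) (.node [2,2,0,5,0] (.node [1,5,4,1,1,0] .nil .nil) .nil)))) (.node [4,2,0,0] (.node [4,2,2,0] (.node [1,0,1,1] (.node [1,2,0,1,0] (.node [2,5,3,0,1] .nil .nil) (.node [0,2,0,3,2,0] .nil .nil)) (.node [5,5,0,3,0] (.node [1,1,2,0,0,0] .nil .nil) .nil)) (.node [3,1,0,0,0] (.node [4,2,0,2,0] (.node [0,1,4,2,1] .nil .nil) .nil) (.node [3,5,3,4,0] (.node [4,1,3,5,0,0] .nil .nil) .nil))) (.node [1,3,4,0] (.node [0,2,3,1] (.node [1,2,3,1,0] (.node [1,0,4,1,1] .nil .nil) .nil) (.node [2,3,5,3,0] (.node [5,3,1,2,0,0] .nil .nil) .nil)) (.node [5,5,2,0,0] (.node [1,4,3,2,0] (.node [3,1,2,4,1] .nil .nil) .nil) (.node [1,1,3,5,0] (.node [3,5,2,3,1,0] .nil .nil) .nil))))) (.node [1,0,1] (.node [3,5,1] (.node [3,5,1,0] (.node [3,2,0,1] (.node [3,3,5,0,0] (.node [2,4,2,0,1] .nil .nil) (.node [1,3,4,0,2,0] .nil .nil)) (.node [4,1,0,3,0] (.node [5,2,3,5,1] .nil .nil) .nil)) (.node [3,1,5,1] (.node [1,3,5,1,0] (.node [2,0,3,2,1]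 .nil .nil) .nil) (.node [2,1,2,4,0] (.node [5,0,4,4,0,0] .nil .nil) .nil))) (.node [0,0,4,0] (.node [3,4,2,1] (.node [0,4,2,1,0] (.node [4,1,3,1,1] .nil .nil) (.node [4,2,3,1,4,1] .nil .nil)) (.node [5,1,4,3,0] (.node [0,5,4,1,0,0] .nil .nil) .nil)) (.node [0,2,2,0,0] (.node [5,4,2,2,0] (.node [0,1,0,4,1] .nil .nil) .nil) (.node [0,3,1,5,0] (.node [0,1,3,2,1,0] .nil .nil) .nil)))) (.node [5,5,0,0] (.node [5,5,2,0] (.node [0,4,1,1] (.node [4,2,1,1,0] (.node [0,2,5,0,1] .nil .nil) (.node [2,3,0,1,3,0] .nil .nil)) (.node [3,5,1,3,0] (.node [5,5,3,0,0,0] .nil .nil) .nil)) (.node [5,4,0,0,0] (.node [1,0,1,2,0] (.node [4,1,0,3,1] .nil .nil) .nil) (.node [3,5,4,4,0] (.node [5,2,5,0,1,0] .nil .nil) .nil))) (.node [2,0,5,0] (.node [5,5,3,1] (.node [3,0,4,1,0] (.node [3,3,5,1,1] .nil .nil) .nil) (.node [2,3,0,4,0] (.node [1,2,5,2,0,0] .nil .nil) .nil)) (.node [1,4,3,0,0] (.node [2,2,4,2,0] (.node [1,3,5,4,1] .nil .nil) .nil) (.node [5,2,0,0,1] (.node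 [2,0,2,4,1,0] .nil .nil) .nil)))))) (.node [0,2,0] (.node [4,4,0] (.node [1,4,1] (.node [1,4,1,0] (.node [0,1,0,1] (.node [1,2,5,0,0] (.node [2,2,2,0,1] .nil .nil) (.node [2,5,1,0,2,0] .nil .nil)) (.node [3,5,5,2,0] (.node [1,5,1,5,1] .nil .nil) .nil)) (.node [5,5,4,1] (.node [3,0,5,1,0] (.node [3,3,1,2,1] .nil .nil) .nil) (.node [4,4,1,4,0] (.node [2,1,4,3,0,0] .nil .nil) .nil))) (.node [3,4,3,0] (.node [5,2,2,1] (.node [2,2,2,1,0] (.node [5,2,2,1,1] .nil .nil) (.node [0,0,2,5,0,1] .nil .nil)) (.node [2,5,3,3,0] (.node [5,3,3,1,0,0] .nil .nil) .nil)) (.node [1,5,1,0,0] (.node [0,0,2,2,0] (.node [5,2,3,3,1] .nil .nil) .nil) (.node [5,4,0,5,0] (.node [1,4,0,2,1,0] .nil .nil) .nil)))) (.node [1,4,0,0] (.node [2,4,2,0] (.node [4,2,1,1] (.node [2,5,0,1,0] (.node [3,3,4,0,1] .nil .nil) (.node [1,0,3,4,2,0] .nil .nil)) (.node [5,1,1,3,0] (.node [5,0,3,0,0,0] .nil .nil) .nil)) (.node [0,3,0,0,0] (.node [2,4,0,2,0] (.node [3,0,5,2,1] .nil .nil)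 .nil) (.node [5,1,4,4,0] (.node [0,0,1,0,1,0] .nil .nil) .nil))) (.node [3,4,4,0] (.node [5,3,3,1] (.node [3,4,3,1,0] (.node [2,5,4,1,1] .nil .nil) .nil) (.node [1,1,0,4,0] (.node [0,5,3,2,0,0] .nil .nil) .nil)) (.node [5,1,3,0,0] (.node [4,0,4,2,0] (.node [1,1,3,4,1] .nil .nil) .nil) (.node [1,0,5,5,0] (.node [3,2,5,3,1,0] .nil .nil) .nil))))) (.node [3,1,1] (.node [1,1,0,0] (.node [0,1,2,0] (.node [0,4,0,1] (.node [1,0,0,1,0] (.node [2,0,3,0,1] .nil .nil) (.node [2,5,3,1,2,0] .nil .nil)) (.node [5,3,0,3,0] (.node [4,0,1,0,0,0] .nil .nil) .nil)) (.node [2,3,5,1] (.node [5,0,0,2,0] (.node [3,4,3,2,1] .nil .nil) .nil) (.node [4,1,3,4,0] (.node [2,2,2,5,0,0] .nil .nil) .nil))) (.node [2,1,4,0] (.node [1,0,3,1] (.node [2,0,3,1,0] (.node [4,3,3,1,1] .nil .nil) .nil) (.node [5,0,5,3,0] (.node [5,1,1,2,0,0] .nil .nil) .nil)) (.node [5,3,2,0,0] (.node [4,0,3,2,0] (.node [5,1,1,4,1] .nil .nil) .nil) (.node [4,0,2,5,0] (.node [5,4,4,2,1,0] .nil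 .nil) .nil)))) (.node [3,1,1,0] (.node [1,1,3,0] (.node [3,5,1,1] (.node [5,4,1,1,0] (.node [3,2,0,1,1] .nil .nil) (.node [2,2,3,5,3,0] .nil .nil)) (.node [5,2,2,3,0] (.node [0,0,1,1,0,0] .nil .nil) .nil)) (.node [3,1,1,0,0] (.node [2,2,1,2,0] (.node [3,2,1,3,1] .nil .nil) .nil) (.node [0,5,5,4,0] (.node [3,0,3,1,1,0] .nil .nil) .nil))) (.node [5,1,5,0] (.node [3,1,4,1] (.node [2,2,4,1,0] (.node [1,3,0,2,1] .nil .nil) .nil) (.node [0,0,1,4,0] (.node [2,3,0,3,0,0] .nil .nil) .nil)) (.node [2,1,4,0,0] (.node [5,4,4,2,0] (.node [2,4,0,5,1] .nil .nil) .nil) (.node [0,0,1,0,1] (.node [0,1,5,4,1,0] .nil .nil) .nil)))))))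

/-- A part. -/
noncomputable def centWords0_2 : Arr (List ℕ) :=
  (.node [0,0] centWords0_0 centWords0_1)

/-- A part. -/
noncomputable def centWords0_3 : Arr (List ℕ) :=
  (.node [0,1] (.node [2,0,0] (.node [0,3,0] (.node [3,2,1] (.node [3,2,1,0] (.node [1,3,5,0] (.node [5,2,4,0,0] (.node [2,2,1,0,1] .nil .nil) (.node [5,0,2,5,1,0] .nil .nil)) (.node [0,1,5,2,0] (.node [3,1,1,5,1] .nil .nil) .nil)) (.node [0,3,4,1] (.node [1,4,4,1,0] (.node [2,5,0,2,1] .nil .nil) .nil) (.node [1,2,1,4,0] (.node [5,2,2,3,0,0] .nil .nil) .nil))) (.node [1,2,3,0] (.node [5,0,2,1] (.node [1,0,2,1,0] (.node [2,5,0,1,1] .nil .nil) (.node [0,1,1,1,4,0] .nil .nil)) (.node [3,4,2,3,0] (.node [5,0,2,1,0,0] .nil .nil) .nil)) (.node [1,3,1,0,0] (.node [2,3,1,2,0] (.node [2,5,1,3,1] .nil .nil) .nil) (.node [5,1,0,5,0] (.node [1,4,3,1,1,0] .nil .nil) .nil)))) (.node [2,2,0,0] (.node [0,2,2,0] (.node [5,5,0,1] (.node [2,1,0,1,0] (.node [1,4,3,0,1] .nil .nil) (.node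 [1,5,4,2,2,0] .nil .nil)) (.node [0,5,0,3,0] (.node [3,4,1,0,0,0] .nil .nil) .nil)) (.node [0,1,0,0,0] (.node [1,2,0,2,0] (.node [3,0,4,2,1] .nil .nil) .nil) (.node [2,4,3,4,0] (.node [2,5,2,5,0,0] .nil .nil) .nil))) (.node [5,2,4,0] (.node [3,1,3,1] (.node [4,1,3,1,0] (.node [5,5,3,1,1] .nil .nil) .nil) (.node [5,1,5,3,0] (.node [1,3,1,2,0,0] .nil .nil) .nil)) (.node [2,5,2,0,0] (.node [5,2,3,2,0] (.node [4,0,2,4,1] .nil .nil) .nil) (.node [3,0,3,5,0] (.node [3,4,1,3,1,0] .nil .nil) .nil))))) (.node [5,5,0] (.node [1,5,1] (.node [1,5,1,0] (.node [0,2,0,1] (.node [1,3,5,0,0] (.node [5,3,2,0,1] .nil .nil) (.node [3,0,3,0,2,0] .nil .nil)) (.node [1,1,0,3,0] (.node [0,1,3,5,1] .nil .nil) .nil)) (.node [1,1,5,1] (.node [3,2,5,1,0] (.node [4,4,2,2,1] .nil .nil) .nil) (.node [0,1,2,4,0] (.node [3,3,1,4,0,0] .nil .nil) .nil))) (.node [3,5,3,0] (.node [0,4,2,1] (.node [2,3,2,1,0] (.node [1,0,3,1,1] .nil .nil) (.node [3,4,1,1,3,1] .nil .nil)) (.node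 [2,1,4,3,0] (.node [1,3,4,1,0,0] .nil .nil) .nil)) (.node [4,1,2,0,0] (.node [0,4,2,2,0] (.node [1,5,4,3,1] .nil .nil) .nil) (.node [1,1,1,5,0] (.node [0,2,2,2,1,0] .nil .nil) .nil)))) (.node [2,5,0,0] (.node [2,5,2,0] (.node [4,3,1,1] (.node [0,2,1,1,0] (.node [0,0,5,0,1] .nil .nil) (.node [1,3,2,0,3,0] .nil .nil)) (.node [0,5,1,3,0] (.node [1,5,3,0,0,0] .nil .nil) .nil)) (.node [2,4,0,0,0] (.node [3,5,0,2,0] (.node [1,0,0,3,1] .nil .nil) .nil) (.node [1,5,4,4,0] (.node [2,4,3,0,1,0] .nil .nil) .nil))) (.node [0,0,5,0] (.node [0,5,3,1] (.node [1,0,4,1,0] (.node [5,2,5,1,1] .nil .nil) .nil) (.node [5,2,0,4,0] (.node [3,0,5,2,0,0] .nil .nil) .nil)) (.node [4,3,3,0,0] (.node [0,2,4,2,0] (.node [1,2,5,4,1] .nil .nil) .nil) (.node [3,2,0,0,1] (.node [5,4,1,4,1,0] .nil .nil) .nil)))))) (.node [4,1,0] (.node [2,4,0] (.node [5,3,1] (.node [5,3,1,0] (.node [4,0,0,1] (.node [3,1,5,0,0] (.node [2,0,2,0,1] .nil .nil) (.node [0,5,1,0,2,0] .nil .nil))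 (.node [5,3,5,2,0] (.node [2,4,1,5,1] .nil .nil) .nil)) (.node [2,5,4,1] (.node [0,0,5,1,0] (.node [3,2,1,2,1] .nil .nil) .nil) (.node [0,4,1,4,0] (.node [0,1,4,3,0,0] .nil .nil) .nil))) (.node [0,4,3,0] (.node [3,2,2,1] (.node [4,1,2,1,0] (.node [1,2,2,1,1] .nil .nil) (.node [2,3,5,3,0,1] .nil .nil)) (.node [5,4,3,3,0] (.node [4,2,3,1,0,0] .nil .nil) .nil)) (.node [4,4,1,0,0] (.node [2,5,1,2,0] (.node [5,1,3,3,1] .nil .nil) .nil) (.node [3,4,0,5,0] (.node [1,3,0,2,1,0] .nil .nil) .nil)))) (.node [4,3,0,0] (.node [0,4,2,0] (.node [2,2,1,1] (.node [4,3,0,1,0] (.node [1,1,4,0,1] .nil .nil) (.node [4,0,1,4,2,0] .nil .nil)) (.node [2,1,1,3,0] (.node [3,5,2,0,0,0] .nil .nil) .nil)) (.node [4,2,0,0,0] (.node [4,3,0,2,0] (.node [0,5,4,2,1] .nil .nil) .nil) (.node [3,1,4,4,0] (.node [1,2,0,0,1,0] .nil .nil) .nil))) (.node [1,4,4,0] (.node [1,3,3,1] (.node [0,4,3,1,0] (.node [5,4,4,1,1] .nil .nil) .nil) (.node [2,0,0,4,0] (.node [1,3,3,2,0,0] .nil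 .nil) .nil)) (.node [3,1,3,0,0] (.node [2,0,4,2,0] (.node [0,0,3,4,1] .nil .nil) .nil) (.node [4,3,3,5,0] (.node [0,4,4,3,1,0] .nil .nil) .nil))))) (.node [1,1,1] (.node [5,0,0,0] (.node [4,0,2,0] (.node [4,3,0,1] (.node [3,5,5,0,0] (.node [0,0,3,0,1] .nil .nil) (.node [2,0,2,1,2,0] .nil .nil)) (.node [5,2,0,3,0] (.node [3,2,5,5,1] .nil .nil) .nil)) (.node [0,3,5,1] (.node [3,0,0,2,0] (.node [0,4,3,2,1] .nil .nil) .nil) (.node [3,0,3,4,0] (.node [2,1,2,5,0,0] .nil .nil) .nil))) (.node [0,1,4,0] (.node [5,5,2,1] (.node [5,5,2,1,0] (.node [2,3,3,1,1] .nil .nil) .nil) (.node [2,5,4,3,0] (.node [5,3,5,1,0,0] .nil .nil) .nil)) (.node [1,3,2,0,0] (.node [2,0,3,2,0] (.node [3,3,0,4,1] .nil .nil) .nil) (.node [5,5,1,5,0] (.node [0,2,4,2,1,0] .nil .nil) .nil)))) (.node [1,1,1,0] (.node [5,0,3,0] (.node [0,5,1,1] (.node [4,3,1,1,0] (.node [0,1,0,1,1] .nil .nil) (.node [5,3,5,3,3,0] .nil .nil)) (.node [0,2,2,3,0] (.node [2,2,0,1,0,0] .nil .nil) .nil))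 (.node [1,1,1,0,0] (.node [5,1,1,2,0] (.node [4,1,1,3,1] .nil .nil) .nil) (.node [1,2,5,4,0] (.node [2,5,2,1,1,0] .nil .nil) .nil))) (.node [3,1,5,0] (.node [1,1,4,1] (.node [0,2,4,1,0] (.node [3,2,0,2,1] .nil .nil) .nil) (.node [1,5,0,4,0] (.node [2,0,0,3,0,0] .nil .nil) .nil)) (.node [3,0,4,0,0] (.node [0,4,4,2,0] (.node [0,4,0,5,1] .nil .nil) .nil) (.node [2,5,0,0,1] (.node [5,0,4,4,1,0] .nil .nil) .nil)))))))

/-- A part. -/
noncomputable def centWords0_4 : Arr (List ℕ) :=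
  (.node [4,1] (.node [0,1,0] (.node [4,3,0] (.node [1,3,1] (.node [1,3,1,0] (.node [0,5,5,0] (.node [1,5,4,0,0] (.node [2,4,1,0,1] .nil .nil) (.node [2,3,0,0,2,0] .nil .nil)) (.node [1,2,5,2,0] (.node [2,2,1,5,1] .nil .nil) .nil)) (.node [5,3,4,1] (.node [0,5,4,1,0] (.node [5,0,1,2,1] .nil .nil) .nil) (.node [1,3,1,4,0] (.node [3,1,3,3,0,0] .nil .nil) .nil))) (.node [5,2,3,0] (.node [3,1,2,1] (.node [5,0,2,1,0] (.node [0,1,2,1,1] .nil .nil) (.node [0,4,3,5,5,0] .nil .nil)) (.node [5,0,3,3,0] (.node [1,0,3,1,0,0] .nil .nil) .nil)) (.node [5,3,1,0,0] (.node [1,4,1,2,0] (.node [3,1,2,3,1] .nil .nil) .nil) (.node [5,2,0,5,0] (.node [0,0,5,1,1,0] .nil .nil) .nil)))) (.node [0,3,0,0] (.node [0,3,2,0] (.node [4,0,1,1] (.node [3,2,0,1,0] (.node [0,0,4,0,1] .nil .nil) (.node [3,3,0,3,2,0] .nil .nil)) (.node [1,0,1,3,0] (.node [0,4,2,0,0,0] .nil .nil) .nil)) (.node [5,1,0,0,0] (.node [0,3,0,2,0] (.node [3,3,4,2,1] .nil .nil) .nil) (.node [5,0,4,4,0]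 (.node [2,4,3,5,0,0] .nil .nil) .nil))) (.node [3,3,4,0] (.node [2,2,3,1] (.node [3,2,3,1,0] (.node [1,2,4,1,1] .nil .nil) .nil) (.node [5,3,5,3,0] (.node [1,0,2,2,0,0] .nil .nil) .nil)) (.node [2,0,3,0,0] (.node [5,4,3,2,0] (.node [5,1,2,4,1] .nil .nil) .nil) (.node [0,2,3,5,0] (.node [1,0,4,3,1,0] .nil .nil) .nil))))) (.node [3,0,1] (.node [1,0,0,0] (.node [0,0,2,0] (.node [5,2,0,1] (.node [5,3,5,0,0] (.node [5,4,2,0,1] .nil .nil) (.node [3,3,5,0,2,0] .nil .nil)) (.node [1,2,0,3,0] (.node [2,5,3,5,1] .nil .nil) .nil)) (.node [5,1,5,1] (.node [0,5,5,1,0] (.node [2,1,3,2,1] .nil .nil) .nil) (.node [0,5,2,4,0] (.node [4,0,0,5,0,0] .nil .nil) .nil))) (.node [2,0,4,0] (.node [5,4,2,1] (.node [2,4,2,1,0] (.node [3,2,3,1,1] .nil .nil) .nil) (.node [5,3,4,3,0] (.node [0,2,5,1,0,0] .nil .nil) .nil)) (.node [2,2,2,0,0] (.node [2,5,2,2,0] (.node [3,1,0,4,1] .nil .nil) .nil) (.node [3,3,1,5,0] (.node [4,1,3,2,1,0] .nil .nil) .nil)))) (.node [1,0,1,0]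 (.node [1,0,3,0] (.node [2,4,1,1] (.node [0,3,1,1,0] (.node [2,2,5,0,1] .nil .nil) (.node [2,3,1,2,3,0] .nil .nil)) (.node [1,0,2,3,0] (.node [3,0,5,0,0,0] .nil .nil) .nil)) (.node [0,0,1,0,0] (.node [5,0,1,2,0] (.node [5,4,0,3,1] .nil .nil) .nil) (.node [1,0,5,4,0] (.node [0,5,1,1,1,0] .nil .nil) .nil))) (.node [4,0,5,0] (.node [2,0,4,1] (.node [5,0,4,1,0] (.node [1,0,0,2,1] .nil .nil) .nil) (.node [1,4,0,4,0] (.node [2,3,5,2,0,0] .nil .nil) .nil)) (.node [3,4,3,0,0] (.node [0,3,4,2,0] (.node [0,0,0,5,1] .nil .nil) .nil) (.node [1,4,0,0,1] (.node [2,4,3,4,1,0] .nil .nil) .nil)))))) (.node [2,2,0] (.node [0,5,0] (.node [3,4,1] (.node [3,4,1,0] (.node [2,1,0,1] (.node [3,2,5,0,0] (.node [4,2,2,0,1] .nil .nil) (.node [4,4,2,0,2,0] .nil .nil)) (.node [2,0,0,3,0] (.node [1,2,2,5,1] .nil .nil) .nil)) (.node [2,0,5,1] (.node [4,1,5,1,0] (.node [3,4,1,2,1] .nil .nil) .nil) (.node [2,0,2,4,0] (.node [4,3,4,3,0,0] .nil .nil) .nil))) (.node [5,4,3,0]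 (.node [1,3,2,1] (.node [4,2,2,1,0] (.node [0,4,2,1,1] .nil .nil) (.node [3,0,4,4,1,1] .nil .nil)) (.node [5,5,3,3,0] (.node [3,1,4,1,0,0] .nil .nil) .nil)) (.node [3,5,1,0,0] (.node [1,2,2,2,0] (.node [0,1,4,3,1] .nil .nil) .nil) (.node [2,5,0,5,0] (.node [1,5,0,2,1,0] .nil .nil) .nil)))) (.node [4,4,0,0] (.node [4,4,2,0] (.node [0,3,1,1] (.node [5,5,0,1,0] (.node [5,3,4,0,1] .nil .nil) (.node [1,0,4,4,2,0] .nil .nil)) (.node [5,3,1,3,0] (.node [2,1,3,0,0,0] .nil .nil) .nil)) (.node [2,3,0,0,0] (.node [4,4,0,2,0] (.node [2,2,5,2,1] .nil .nil) .nil) (.node [2,2,4,4,0] (.node [4,2,1,0,1,0] .nil .nil) .nil))) (.node [0,5,4,0] (.node [1,4,3,1] (.node [5,4,3,1,0] (.node [1,0,5,1,1] .nil .nil) .nil) (.node [5,1,0,4,0] (.node [1,0,4,2,0,0] .nil .nil) .nil)) (.node [3,2,3,0,0] (.node [1,1,4,2,0] (.node [2,4,3,4,1] .nil .nil) .nil) (.node [0,3,5,5,0] (.node [5,2,0,4,1,0] .nil .nil) .nil))))) (.node [5,1,1] (.node [3,1,0,0] (.node [2,1,2,0] (.node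 [3,4,0,1] (.node [3,0,0,1,0] (.node [3,1,3,0,1] .nil .nil) (.node [4,2,4,1,2,0] .nil .nil)) (.node [1,4,0,3,0] (.node [2,2,1,0,0,0] .nil .nil) .nil)) (.node [5,3,5,1] (.node [2,1,0,2,0] (.node [0,5,3,2,1] .nil .nil) .nil) (.node [0,3,3,4,0] (.node [1,3,2,5,0,0] .nil .nil) .nil))) (.node [4,1,4,0] (.node [4,0,3,1] (.node [5,0,3,1,0] (.node [5,4,3,1,1] .nil .nil) .nil) (.node [1,1,5,3,0] (.node [2,2,1,2,0,0] .nil .nil) .nil)) (.node [3,4,2,0,0] (.node [0,2,3,2,0] (.node [1,3,1,4,1] .nil .nil) .nil) (.node [2,4,2,5,0] (.node [3,1,0,3,1,0] .nil .nil) .nil)))) (.node [5,1,1,0] (.node [3,1,3,0] (.node [0,0,2,1] (.node [1,5,1,1,0] (.node [3,4,0,1,1] .nil .nil) (.node [1,0,2,0,4,0] .nil .nil)) (.node [3,3,2,3,0] (.node [2,1,1,1,0,0] .nil .nil) .nil)) (.node [3,2,1,0,0] (.node [4,2,1,2,0] (.node [4,3,1,3,1] .nil .nil) .nil) (.node [1,0,0,5,0] (.node [3,2,3,1,1,0] .nil .nil) .nil))) (.node [2,2,5,0] (.node [0,2,4,1] (.node [1,3,4,1,0] (.node [3,3,0,2,1]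 .nil .nil) .nil) (.node [0,1,1,4,0] (.node [5,5,0,3,0,0] .nil .nil) .nil)) (.node [4,1,4,0,0] (.node [1,5,4,2,0] (.node [0,5,0,5,1] .nil .nil) .nil) (.node [0,1,1,0,1] (.node [3,0,0,5,1,0] .nil .nil) .nil)))))))

/-- A part. -/
noncomputable def centWords0_5 : Arr (List ℕ) :=
  (.node [2,0] centWords0_3 centWords0_4)

/-- A part. -/
noncomputable def centWords0_6 : Arr (List ℕ) :=
  (.node [0] centWords0_2 centWords0_5)

/-- A part. -/
noncomputable def centWords0_7 : Arr (List ℕ) :=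
  (.node [5,0] (.node [1,0,0] (.node [5,2,0] (.node [2,2,1] (.node [2,2,1,0] (.node [0,3,5,0] (.node [3,2,4,0,0] (.node [0,2,1,0,1] .nil .nil) (.node [2,5,0,5,1,0] .nil .nil)) (.node [4,0,5,2,0] (.node [0,1,1,5,1] .nil .nil) .nil)) (.node [3,2,4,1] (.node [0,4,4,1,0] (.node [0,5,0,2,1] .nil .nil) .nil) (.node [5,1,1,4,0] (.node [0,5,1,3,0,0] .nil .nil) .nil))) (.node [0,2,3,0] (.node [3,0,2,1] (.node [0,0,2,1,0] (.node [1,5,0,1,1] .nil .nil) (.node [0,3,0,1,4,0] .nil .nil)) (.node [2,4,2,3,0] (.node [3,0,2,1,0,0] .nil .nil) .nil)) (.node [0,3,1,0,0] (.node [1,3,1,2,0] (.node [1,5,1,3,1] .nil .nil) .nil) (.node [1,1,0,5,0] (.node [5,3,3,1,1,0] .nil .nil) .nil)))) (.node [1,2,0,0] (.node [5,1,2,0] (.node [2,5,0,1] (.node [1,1,0,1,0] (.node [5,2,3,0,1] .nil .nil) (.node [1,2,2,2,2,0] .nil .nil)) (.node [5,4,0,3,0] (.node [3,3,1,0,0,0] .nil .nil) .nil)) (.node [3,5,5,1] (.node [0,2,0,2,0] (.node [2,0,4,2,1] .nil .nil) .nil) (.node [0,4,3,4,0]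 (.node [5,4,2,5,0,0] .nil .nil) .nil))) (.node [3,2,4,0] (.node [2,1,3,1] (.node [2,1,3,1,0] (.node [2,5,3,1,1] .nil .nil) .nil) (.node [4,1,5,3,0] (.node [0,3,1,2,0,0] .nil .nil) .nil)) (.node [0,5,2,0,0] (.node [4,2,3,2,0] (.node [1,0,2,4,1] .nil .nil) .nil) (.node [0,0,3,5,0] (.node [5,2,1,3,1,0] .nil .nil) .nil))))) (.node [3,5,0] (.node [0,5,1] (.node [0,5,1,0] (.node [5,1,0,1] (.node [0,3,5,0,0] (.node [4,3,2,0,1] .nil .nil) (.node [2,0,3,0,2,0] .nil .nil)) (.node [0,1,0,3,0] (.node [4,0,3,5,1] .nil .nil) .nil)) (.node [0,1,5,1] (.node [1,2,5,1,0] (.node [0,4,2,2,1] .nil .nil) .nil) (.node [5,0,2,4,0] (.node [2,1,0,4,0,0] .nil .nil) .nil))) (.node [2,5,3,0] (.node [5,3,2,1] (.node [1,3,2,1,0] (.node [0,0,3,1,1] .nil .nil) (.node [1,2,0,4,2,1] .nil .nil)) (.node [1,1,4,3,0] (.node [1,2,4,1,0,0] .nil .nil) .nil)) (.node [3,1,2,0,0] (.node [5,2,2,2,0] (.node [2,4,4,3,1] .nil .nil) .nil) (.node [3,0,1,5,0] (.node [3,4,1,2,1,0] .nil .nil)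 .nil)))) (.node [1,5,0,0] (.node [1,5,2,0] (.node [3,3,1,1] (.node [5,1,1,1,0] (.node [5,5,4,0,1] .nil .nil) (.node [0,2,0,0,3,0] .nil .nil)) (.node [5,4,1,3,0] (.node [0,5,3,0,0,0] .nil .nil) .nil)) (.node [1,4,0,0,0] (.node [1,5,0,2,0] (.node [0,0,0,3,1] .nil .nil) .nil) (.node [5,3,4,4,0] (.node [0,2,2,0,1,0] .nil .nil) .nil))) (.node [5,5,4,0] (.node [5,4,3,1] (.node [3,5,3,1,0] (.node [4,2,5,1,1] .nil .nil) .nil) (.node [4,2,0,4,0] (.node [2,0,5,2,0,0] .nil .nil) .nil)) (.node [2,3,3,0,0] (.node [4,1,4,2,0] (.node [1,1,4,4,1] .nil .nil) .nil) (.node [0,2,0,0,1] (.node [1,4,1,4,1,0] .nil .nil) .nil)))))) (.node [3,1,0] (.node [1,4,0] (.node [4,3,1] (.node [4,3,1,0] (.node [2,0,0,1] (.node [2,1,5,0,0] (.node [3,5,1,0,1] .nil .nil) (.node [4,0,1,0,2,0] .nil .nil)) (.node [3,3,5,2,0] (.node [1,4,1,5,1] .nil .nil) .nil)) (.node [5,4,4,1] (.node [3,5,4,1,0] (.node [2,2,1,2,1] .nil .nil) .nil) (.node [5,3,1,4,0] (.node [4,0,4,3,0,0] .nil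 .nil) .nil))) (.node [5,3,3,0] (.node [0,2,2,1] (.node [3,1,2,1,0] (.node [5,1,2,1,1] .nil .nil) (.node [2,2,2,1,0,1] .nil .nil)) (.node [3,4,3,3,0] (.node [2,2,3,1,0,0] .nil .nil) .nil)) (.node [3,4,1,0,0] (.node [4,4,1,2,0] (.node [0,1,3,3,1] .nil .nil) .nil) (.node [2,4,0,5,0] (.node [3,0,0,2,1,0] .nil .nil) .nil)))) (.node [3,3,0,0] (.node [5,3,2,0] (.node [1,2,1,1] (.node [3,3,0,1,0] (.node [0,1,4,0,1] .nil .nil) (.node [1,1,5,3,2,0] .nil .nil)) (.node [1,1,1,3,0] (.node [2,5,2,0,0,0] .nil .nil) .nil)) (.node [2,2,0,0,0] (.node [3,3,0,2,0] (.node [3,4,4,2,1] .nil .nil) .nil) (.node [2,1,4,4,0] (.node [5,1,0,0,1,0] .nil .nil) .nil))) (.node [0,4,4,0] (.node [0,3,3,1] (.node [1,3,3,1,0] (.node [3,4,4,1,1] .nil .nil) .nil) (.node [1,0,0,4,0] (.node [3,1,3,2,0,0] .nil .nil) .nil)) (.node [1,1,3,0,0] (.node [3,5,3,2,0] (.node [5,3,2,4,1] .nil .nil) .nil) (.node [2,3,3,5,0] (.node [3,3,4,3,1,0] .nil .nil) .nil))))) (.node [0,1,1] (.node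 [4,0,0,0] (.node [3,0,2,0] (.node [2,3,0,1] (.node [2,5,5,0,0] (.node [5,5,2,0,1] .nil .nil) (.node [5,5,0,1,2,0] .nil .nil)) (.node [4,2,0,3,0] (.node [2,1,5,5,1] .nil .nil) .nil)) (.node [3,2,5,1] (.node [1,0,0,2,0] (.node [2,2,3,2,1] .nil .nil) .nil) (.node [2,0,3,4,0] (.node [0,5,1,5,0,0] .nil .nil) .nil))) (.node [5,0,4,0] (.node [3,5,2,1] (.node [2,5,2,1,0] (.node [1,3,3,1,1] .nil .nil) .nil) (.node [5,4,4,3,0] (.node [4,3,5,1,0,0] .nil .nil) .nil)) (.node [0,3,2,0,0] (.node [1,0,3,2,0] (.node [4,2,0,4,1] .nil .nil) .nil) (.node [1,5,1,5,0] (.node [5,0,4,2,1,0] .nil .nil) .nil)))) (.node [5,0,1,0] (.node [4,0,3,0] (.node [5,4,1,1] (.node [3,3,1,1,0] (.node [1,0,0,1,1] .nil .nil) (.node [0,0,5,3,3,0] .nil .nil)) (.node [5,1,2,3,0] (.node [3,1,0,1,0,0] .nil .nil) .nil)) (.node [0,1,1,0,0] (.node [4,1,1,2,0] (.node [2,1,1,3,1] .nil .nil) .nil) (.node [0,1,5,4,0] (.node [3,4,2,1,1,0] .nil .nil) .nil))) (.node [1,1,5,0] (.node [5,0,4,1]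 (.node [5,1,4,1,0] (.node [3,1,0,2,1] .nil .nil) .nil) (.node [5,4,0,4,0] (.node [1,0,0,3,0,0] .nil .nil) .nil)) (.node [2,0,4,0,0] (.node [4,3,4,2,0] (.node [5,2,0,5,1] .nil .nil) .nil) (.node [1,5,0,0,1] (.node [2,0,4,4,1,0] .nil .nil) .nil)))))))

/-- A part. -/
noncomputable def centWords0_8 : Arr (List ℕ) :=
  (.node [3,1] (.node [5,0,0] (.node [3,3,0] (.node [0,3,1] (.node [0,3,1,0] (.node [5,3,5,0] (.node [3,4,4,0,0] (.node [4,3,1,0,1] .nil .nil) (.node [0,3,0,0,2,0] .nil .nil)) (.node [5,1,5,2,0] (.node [0,2,1,5,1] .nil .nil) .nil)) (.node [4,3,4,1] (.node [5,4,4,1,0] (.node [2,0,1,2,1] .nil .nil) .nil) (.node [0,3,1,4,0] (.node [0,5,2,3,0,0] .nil .nil) .nil))) (.node [4,2,3,0] (.node [2,1,2,1] (.node [4,0,2,1,0] (.node [3,0,1,1,1] .nil .nil) (.node [0,3,0,3,5,0] .nil .nil)) (.node [3,0,3,3,0] (.node [1,5,2,1,0,0] .nil .nil) .nil)) (.node [4,3,1,0,0] (.node [0,4,1,2,0] (.node [1,1,2,3,1] .nil .nil) .nil) (.node [4,2,0,5,0] (.node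 [3,5,4,1,1,0] .nil .nil) .nil)))) (.node [5,2,0,0] (.node [5,2,2,0] (.node [2,0,1,1] (.node [2,2,0,1,0] (.node [3,5,3,0,1] .nil .nil) (.node [5,2,0,3,2,0] .nil .nil)) (.node [0,0,1,3,0] (.node [1,2,2,0,0,0] .nil .nil) .nil)) (.node [4,1,0,0,0] (.node [5,2,0,2,0] (.node [0,3,4,2,1] .nil .nil) .nil) (.node [3,0,4,4,0] (.node [2,3,3,5,0,0] .nil .nil) .nil))) (.node [2,3,4,0] (.node [1,2,3,1] (.node [2,2,3,1,0] (.node [3,1,4,1,1] .nil .nil) .nil) (.node [3,3,5,3,0] (.node [1,4,1,2,0,0] .nil .nil) .nil)) (.node [0,0,3,0,0] (.node [3,4,3,2,0] (.node [4,1,2,4,1] .nil .nil) .nil) (.node [3,1,3,5,0] (.node [2,0,3,3,1,0] .nil .nil) .nil))))) (.node [2,0,1] (.node [5,5,1] (.node [5,5,1,0] (.node [4,2,0,1] (.node [4,3,5,0,0] (.node [3,4,2,0,1] .nil .nil) (.node [4,3,4,0,2,0] .nil .nil)) (.node [5,1,0,3,0] (.node [0,5,3,5,1] .nil .nil) .nil)) (.node [4,1,5,1] (.node [3,3,5,1,0] (.node [5,0,3,2,1] .nil .nil) .nil) (.node [1,3,2,4,0] (.node [1,3,4,4,0,0]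 .nil .nil) .nil))) (.node [1,0,4,0] (.node [4,4,2,1] (.node [1,4,2,1,0] (.node [5,1,3,1,1] .nil .nil) .nil) (.node [3,3,4,3,0] (.node [1,1,5,1,0,0] .nil .nil) .nil)) (.node [1,2,2,0,0] (.node [1,5,2,2,0] (.node [1,1,0,4,1] .nil .nil) .nil) (.node [2,3,1,5,0] (.node [3,1,3,2,1,0] .nil .nil) .nil)))) (.node [0,0,1,0] (.node [0,0,3,0] (.node [1,4,1,1] (.node [5,2,1,1,0] (.node [1,2,5,0,1] .nil .nil) (.node [2,1,1,1,3,0] .nil .nil)) (.node [0,0,2,3,0] (.node [2,5,4,0,0,0] .nil .nil) .nil)) (.node [0,5,0,0,0] (.node [3,0,1,2,0] (.node [2,3,0,3,1] .nil .nil) .nil) (.node [0,0,5,4,0] (.node [5,3,5,0,1,0] .nil .nil) .nil))) (.node [3,0,5,0] (.node [1,0,4,1] (.node [4,0,4,1,0] (.node [0,5,5,1,1] .nil .nil) .nil) (.node [5,3,0,4,0] (.node [0,3,5,2,0,0] .nil .nil) .nil)) (.node [2,4,3,0,0] (.node [4,2,4,2,0] (.node [0,5,5,4,1] .nil .nil) .nil) (.node [0,4,0,0,1] (.node [3,1,2,4,1,0] .nil .nil) .nil)))))) (.node [1,2,0] (.node [5,4,0] (.node [2,4,1]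 (.node [2,4,1,0] (.node [1,1,0,1] (.node [2,2,5,0,0] (.node [3,2,2,0,1] .nil .nil) (.node [0,4,2,0,2,0] .nil .nil)) (.node [0,0,0,3,0] (.node [0,1,2,5,1] .nil .nil) .nil)) (.node [0,0,5,1] (.node [5,0,5,1,0] (.node [4,3,1,2,1] .nil .nil) .nil) (.node [1,0,2,4,0] (.node [1,2,4,3,0,0] .nil .nil) .nil))) (.node [4,4,3,0] (.node [0,3,2,1] (.node [3,2,2,1,0] (.node [2,3,2,1,1] .nil .nil) (.node [2,2,5,3,1,1] .nil .nil)) (.node [3,5,3,3,0] (.node [1,5,3,1,0,0] .nil .nil) .nil)) (.node [2,5,1,0,0] (.node [0,2,2,2,0] (.node [1,0,4,3,1] .nil .nil) .nil) (.node [0,5,0,5,0] (.node [0,5,0,2,1,0] .nil .nil) .nil)))) (.node [2,4,0,0] (.node [3,4,2,0] (.node [5,2,1,1] (.node [3,5,0,1,0] (.node [4,3,4,0,1] .nil .nil) (.node [3,4,3,4,2,0] .nil .nil)) (.node [5,2,1,3,0] (.node [1,1,3,0,0,0] .nil .nil) .nil)) (.node [1,3,0,0,0] (.node [3,4,0,2,0] (.node [4,0,5,2,1] .nil .nil) .nil) (.node [1,2,4,4,0] (.node [3,2,1,0,1,0] .nil .nil) .nil))) (.node [5,4,4,0]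 (.node [0,4,3,1] (.node [4,4,3,1,0] (.node [5,5,4,1,1] .nil .nil) .nil) (.node [3,1,0,4,0] (.node [2,5,3,2,0,0] .nil .nil) .nil)) (.node [2,2,3,0,0] (.node [0,1,4,2,0] (.node [5,1,3,4,1] .nil .nil) .nil) (.node [2,0,5,5,0] (.node [0,1,0,4,1,0] .nil .nil) .nil))))) (.node [4,1,1] (.node [2,1,0,0] (.node [1,1,2,0] (.node [1,4,0,1] (.node [2,0,0,1,0] (.node [3,0,3,0,1] .nil .nil) (.node [1,2,4,1,2,0] .nil .nil)) (.node [0,4,0,3,0] (.node [0,2,1,0,0,0] .nil .nil) .nil)) (.node [3,3,5,1] (.node [0,1,0,2,0] (.node [4,4,3,2,1] .nil .nil) .nil) (.node [2,2,3,4,0] (.node [5,2,2,5,0,0] .nil .nil) .nil))) (.node [3,1,4,0] (.node [3,0,3,1] (.node [4,0,3,1,0] (.node [3,4,3,1,1] .nil .nil) .nil) (.node [0,1,5,3,0] (.node [1,2,1,2,0,0] .nil .nil) .nil)) (.node [0,4,2,0,0] (.node [5,0,3,2,0] (.node [1,2,1,4,1] .nil .nil) .nil) (.node [3,2,2,5,0] (.node [3,5,5,2,1,0] .nil .nil) .nil)))) (.node [4,1,1,0] (.node [2,1,3,0] (.node [5,5,1,1] (.node [0,5,1,1,0]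 (.node [4,2,0,1,1] .nil .nil) (.node [1,5,3,5,3,0] .nil .nil)) (.node [1,3,2,3,0] (.node [2,0,1,1,0,0] .nil .nil) .nil)) (.node [0,2,1,0,0] (.node [3,2,1,2,0] (.node [0,3,1,3,1] .nil .nil) .nil) (.node [2,5,5,4,0] (.node [3,1,3,1,1,0] .nil .nil) .nil))) (.node [0,2,5,0] (.node [4,1,4,1] (.node [0,3,4,1,0] (.node [2,3,0,2,1] .nil .nil) .nil) (.node [3,0,1,4,0] (.node [2,5,0,3,0,0] .nil .nil) .nil)) (.node [3,1,4,0,0] (.node [0,5,4,2,0] (.node [5,4,0,5,1] .nil .nil) .nil) (.node [1,0,1,0,1] (.node [1,1,5,4,1,0] .nil .nil) .nil)))))))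

/-- A part. -/
noncomputable def centWords0_9 : Arr (List ℕ) :=
  (.node [1,0] centWords0_7 centWords0_8)

/-- A part. -/
noncomputable def centWords0_10 : Arr (List ℕ) :=
  (.node [1,1] (.node [3,0,0] (.node [1,3,0] (.node [4,2,1] (.node [4,2,1,0] (.node [2,3,5,0] (.node [0,4,4,0,0] (.node [5,2,1,0,1] .nil .nil) (.node [4,1,2,5,1,0] .nil .nil)) (.node [1,1,5,2,0] (.node [4,1,1,5,1] .nil .nil) .nil)) (.node [1,3,4,1] (.node [2,4,4,1,0] (.node [3,5,0,2,1] .nil .nil) .nil) (.node [2,2,1,4,0] (.node [0,3,2,3,0,0] .nil .nil) .nil))) (.node [2,2,3,0] (.node [0,1,2,1] (.node [2,0,2,1,0] (.node [5,5,0,1,1] .nil .nil) (.node [0,4,0,5,4,0] .nil .nil)) (.node [0,0,3,3,0] (.node [0,3,2,1,0,0] .nil .nil) .nil)) (.node [2,3,1,0,0] (.node [3,3,1,2,0] (.node [5,5,1,3,1] .nil .nil) .nil) (.node [0,2,0,5,0] (.node [3,5,3,1,1,0] .nil .nil) .nil)))) (.node [3,2,0,0] (.node [2,2,2,0] (.node [0,0,1,1] (.node [3,1,0,1,0] (.node [4,4,3,0,1] .nil .nil) (.node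 [4,1,5,2,2,0] .nil .nil)) (.node [1,5,0,3,0] (.node [1,0,2,0,0,0] .nil .nil) .nil)) (.node [2,1,0,0,0] (.node [3,2,0,2,0] (.node [4,0,4,2,1] .nil .nil) .nil) (.node [4,4,3,4,0] (.node [5,0,3,5,0,0] .nil .nil) .nil))) (.node [0,3,4,0] (.node [5,1,3,1] (.node [5,1,3,1,0] (.node [0,0,4,1,1] .nil .nil) .nil) (.node [2,2,5,3,0] (.node [2,3,1,2,0,0] .nil .nil) .nil)) (.node [3,5,2,0,0] (.node [0,4,3,2,0] (.node [5,0,2,4,1] .nil .nil) .nil) (.node [4,0,3,5,0] (.node [2,2,2,3,1,0] .nil .nil) .nil))))) (.node [0,0,1] (.node [2,5,1] (.node [2,5,1,0] (.node [2,2,0,1] (.node [2,3,5,0,0] (.node [1,4,2,0,1] .nil .nil) (.node [5,2,4,0,2,0] .nil .nil)) (.node [2,1,0,3,0] (.node [1,2,3,5,1] .nil .nil) .nil)) (.node [2,1,5,1] (.node [0,3,5,1,0] (.node [0,0,3,2,1] .nil .nil) .nil) (.node [1,1,2,4,0] (.node [0,5,2,4,0,0] .nil .nil) .nil))) (.node [5,5,3,0] (.node [1,4,2,1] (.node [3,3,2,1,0] (.node [3,1,3,1,1] .nil .nil) (.node [3,0,1,4,3,1] .nil .nil)) (.node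 [4,1,4,3,0] (.node [5,3,4,1,0,0] .nil .nil) .nil)) (.node [5,1,2,0,0] (.node [2,4,2,2,0] (.node [1,2,5,3,1] .nil .nil) .nil) (.node [4,1,1,5,0] (.node [1,4,2,2,1,0] .nil .nil) .nil)))) (.node [3,5,0,0] (.node [3,5,2,0] (.node [5,3,1,1] (.node [2,2,1,1,0] (.node [4,0,5,0,1] .nil .nil) (.node [3,4,2,0,3,0] .nil .nil)) (.node [1,5,1,3,0] (.node [2,5,3,0,0,0] .nil .nil) .nil)) (.node [3,4,0,0,0] (.node [0,0,1,2,0] (.node [0,1,0,3,1] .nil .nil) .nil) (.node [2,5,4,4,0] (.node [2,5,3,0,1,0] .nil .nil) .nil))) (.node [1,0,5,0] (.node [2,5,3,1] (.node [2,0,4,1,0] (.node [0,3,5,1,1] .nil .nil) .nil) (.node [1,3,0,4,0] (.node [4,0,5,2,0,0] .nil .nil) .nil)) (.node [0,4,3,0,0] (.node [1,2,4,2,0] (.node [0,3,5,4,1] .nil .nil) .nil) (.node [4,2,0,0,1] (.node [1,0,2,4,1,0] .nil .nil) .nil)))))) (.node [5,1,0] (.node [3,4,0] (.node [0,4,1] (.node [0,4,1,0] (.node [5,0,0,1] (.node [5,1,5,0,0] (.node [3,0,2,0,1] .nil .nil) (.node [1,5,1,0,2,0] .nil .nil))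 (.node [0,5,5,2,0] (.node [0,5,1,5,1] .nil .nil) .nil)) (.node [3,5,4,1] (.node [2,0,5,1,0] (.node [5,2,1,2,1] .nil .nil) .nil) (.node [1,4,1,4,0] (.node [1,1,4,3,0,0] .nil .nil) .nil))) (.node [1,4,3,0] (.node [4,2,2,1] (.node [1,2,2,1,0] (.node [3,2,2,1,1] .nil .nil) (.node [1,2,5,4,0,1] .nil .nil)) (.node [0,5,3,3,0] (.node [4,3,3,1,0,0] .nil .nil) .nil)) (.node [5,4,1,0,0] (.node [3,5,1,2,0] (.node [0,2,3,3,1] .nil .nil) .nil) (.node [4,4,0,5,0] (.node [0,4,0,2,1,0] .nil .nil) .nil)))) (.node [0,4,0,0] (.node [1,4,2,0] (.node [3,2,1,1] (.node [5,3,0,1,0] (.node [0,3,4,0,1] .nil .nil) (.node [1,1,1,4,2,0] .nil .nil)) (.node [3,1,1,3,0] (.node [2,0,3,0,0,0] .nil .nil) .nil)) (.node [5,2,0,0,0] (.node [5,3,0,2,0] (.node [0,0,5,2,1] .nil .nil) .nil) (.node [4,1,4,4,0] (.node [4,4,0,0,1,0] .nil .nil) .nil))) (.node [2,4,4,0] (.node [2,3,3,1] (.node [2,4,3,1,0] (.node [1,5,4,1,1] .nil .nil) .nil) (.node [0,1,0,4,0] (.node [5,3,3,2,0,0] .nil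 .nil) .nil)) (.node [4,1,3,0,0] (.node [3,0,4,2,0] (.node [2,0,3,4,1] .nil .nil) .nil) (.node [5,3,3,5,0] (.node [3,4,4,3,1,0] .nil .nil) .nil))))) (.node [2,1,1] (.node [0,1,0,0] (.node [5,0,2,0] (.node [5,3,0,1] (.node [0,0,0,1,0] (.node [1,0,3,0,1] .nil .nil) (.node [3,3,3,1,2,0] .nil .nil)) (.node [1,3,0,3,0] (.node [0,0,1,0,0,0] .nil .nil) .nil)) (.node [1,3,5,1] (.node [4,0,0,2,0] (.node [2,4,3,2,1] .nil .nil) .nil) (.node [0,1,3,4,0] (.node [4,1,2,5,0,0] .nil .nil) .nil))) (.node [1,1,4,0] (.node [0,0,3,1] (.node [1,0,3,1,0] (.node [3,3,3,1,1] .nil .nil) .nil) (.node [2,0,5,3,0] (.node [3,1,1,2,0,0] .nil .nil) .nil)) (.node [3,3,2,0,0] (.node [3,0,3,2,0] (.node [2,5,0,4,1] .nil .nil) .nil) (.node [0,0,2,5,0] (.node [1,2,4,2,1,0] .nil .nil) .nil)))) (.node [2,1,1,0] (.node [0,1,3,0] (.node [2,5,1,1] (.node [5,3,1,1,0] (.node [1,2,0,1,1] .nil .nil) (.node [5,3,0,4,3,0] .nil .nil)) (.node [1,2,2,3,0] (.node [3,2,0,1,0,0] .nil .nil)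 .nil)) (.node [2,1,1,0,0] (.node [0,2,1,2,0] (.node [1,2,1,3,1] .nil .nil) .nil) (.node [3,2,5,4,0] (.node [5,5,2,1,1,0] .nil .nil) .nil))) (.node [4,1,5,0] (.node [2,1,4,1] (.node [1,2,4,1,0] (.node [4,2,0,2,1] .nil .nil) .nil) (.node [3,5,0,4,0] (.node [5,2,0,3,0,0] .nil .nil) .nil)) (.node [1,1,4,0,0] (.node [1,4,4,2,0] (.node [1,4,0,5,1] .nil .nil) .nil) (.node [5,5,0,0,1] (.node [2,5,4,4,1,0] .nil .nil) .nil)))))))

/-- A part. -/
noncomputable def centWords0_11 : Arr (List ℕ) :=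
  (.node [5,1] (.node [1,1,0] (.node [5,3,0] (.node [2,3,1] (.node [2,3,1,0] (.node [3,5,5,0] (.node [0,0,5,0,0] (.node [3,4,1,0,1] .nil .nil) (.node [0,0,1,0,2,0] .nil .nil)) (.node [5,2,5,2,0] (.node [1,3,1,5,1] .nil .nil) .nil)) (.node [0,4,4,1] (.node [1,5,4,1,0] (.node [0,1,1,2,1] .nil .nil) .nil) (.node [3,3,1,4,0] (.node [4,1,3,3,0,0] .nil .nil) .nil))) (.node [0,3,3,0] (.node [4,1,2,1] (.node [1,1,2,1,0] (.node [3,1,2,1,1] .nil .nil) (.node [5,5,2,0,0,1] .nil .nil)) (.node [1,4,3,3,0] (.node [2,0,3,1,0,0] .nil .nil) .nil)) (.node [1,4,1,0,0] (.node [2,4,1,2,0] (.node [3,3,2,3,1] .nil .nil) .nil) (.node [1,3,0,5,0] (.node [3,0,5,1,1,0] .nil .nil) .nil)))) (.node [1,3,0,0] (.node [2,3,2,0] (.node [5,0,1,1] (.node [4,2,0,1,0] (.node [1,0,4,0,1] .nil .nil) (.node [5,1,2,3,2,0] .nil .nil)) (.node [3,0,1,3,0] (.node [1,4,2,0,0,0] .nil .nil) .nil)) (.node [0,2,0,0,0] (.node [1,3,0,2,0] (.node [0,4,4,2,1] .nil .nil) .nil) (.node [0,1,4,4,0]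 (.node [3,1,5,5,0,0] .nil .nil) .nil))) (.node [4,3,4,0] (.node [3,2,3,1] (.node [5,2,3,1,0] (.node [1,3,4,1,1] .nil .nil) .nil) (.node [3,5,5,3,0] (.node [3,2,2,2,0,0] .nil .nil) .nil)) (.node [3,0,3,0,0] (.node [1,5,3,2,0] (.node [3,2,2,4,1] .nil .nil) .nil) (.node [1,2,3,5,0] (.node [2,0,4,3,1,0] .nil .nil) .nil))))) (.node [4,0,1] (.node [2,0,0,0] (.node [1,0,2,0] (.node [0,3,0,1] (.node [0,5,5,0,0] (.node [0,5,2,0,1] .nil .nil) (.node [4,0,0,1,2,0] .nil .nil)) (.node [2,2,0,3,0] (.node [0,1,5,5,1] .nil .nil) .nil)) (.node [1,2,5,1] (.node [1,5,5,1,0] (.node [5,1,3,2,1] .nil .nil) .nil) (.node [5,5,2,4,0] (.node [4,1,0,5,0,0] .nil .nil) .nil))) (.node [3,0,4,0] (.node [0,5,2,1] (.node [4,4,2,1,0] (.node [4,2,3,1,1] .nil .nil) .nil) (.node [1,4,4,3,0] (.node [2,2,5,1,0,0] .nil .nil) .nil)) (.node [3,2,2,0,0] (.node [5,5,2,2,0] (.node [5,1,0,4,1] .nil .nil) .nil) (.node [5,3,1,5,0] (.node [0,2,3,2,1,0] .nil .nil) .nil)))) (.node [2,0,1,0]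 (.node [2,0,3,0] (.node [3,4,1,1] (.node [1,3,1,1,0] (.node [5,2,5,0,1] .nil .nil) (.node [0,1,0,3,3,0] .nil .nil)) (.node [5,0,2,3,0] (.node [3,0,0,1,0,0] .nil .nil) .nil)) (.node [1,0,1,0,0] (.node [2,1,1,2,0] (.node [0,5,0,3,1] .nil .nil) .nil) (.node [4,0,5,4,0] (.node [1,2,2,1,1,0] .nil .nil) .nil))) (.node [5,0,5,0] (.node [3,0,4,1] (.node [0,1,4,1,0] (.node [4,0,0,2,1] .nil .nil) .nil) (.node [2,4,0,4,0] (.node [5,3,5,2,0,0] .nil .nil) .nil)) (.node [0,0,4,0,0] (.node [2,3,4,2,0] (.node [1,0,0,5,1] .nil .nil) .nil) (.node [5,4,0,0,1] (.node [3,4,3,4,1,0] .nil .nil) .nil)))))) (.node [3,2,0] (.node [1,5,0] (.node [4,4,1] (.node [4,4,1,0] (.node [3,1,0,1] (.node [4,2,5,0,0] (.node [5,2,2,0,1] .nil .nil) (.node [5,5,2,0,2,0] .nil .nil)) (.node [3,0,0,3,0] (.node [5,3,2,5,1] .nil .nil) .nil)) (.node [4,0,5,1] (.node [5,1,5,1,0] (.node [5,4,1,2,1] .nil .nil) .nil) (.node [3,0,2,4,0] (.node [5,3,4,3,0,0] .nil .nil) .nil))) (.node [0,5,3,0]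 (.node [2,3,2,1] (.node [5,2,2,1,0] (.node [1,4,2,1,1] .nil .nil) (.node [5,0,4,4,1,1] .nil .nil)) (.node [0,0,4,3,0] (.node [5,1,4,1,0,0] .nil .nil) .nil)) (.node [1,1,2,0,0] (.node [2,2,2,2,0] (.node [1,1,4,3,1] .nil .nil) .nil) (.node [5,5,0,5,0] (.node [3,5,0,2,1,0] .nil .nil) .nil)))) (.node [5,4,0,0] (.node [5,4,2,0] (.node [1,3,1,1] (.node [2,1,1,1,0] (.node [1,5,4,0,1] .nil .nil) (.node [1,1,0,5,2,0] .nil .nil)) (.node [0,4,1,3,0] (.node [3,1,3,0,0,0] .nil .nil) .nil)) (.node [5,3,0,0,0] (.node [5,4,0,2,0] (.node [0,3,5,2,1] .nil .nil) .nil) (.node [4,2,4,4,0] (.node [1,3,1,0,1,0] .nil .nil) .nil))) (.node [1,5,4,0] (.node [2,4,3,1] (.node [1,5,3,1,0] (.node [4,0,5,1,1] .nil .nil) .nil) (.node [0,2,0,4,0] (.node [2,3,4,2,0,0] .nil .nil) .nil)) (.node [5,2,3,0,0] (.node [2,1,4,2,0] (.node [1,0,4,4,1] .nil .nil) .nil) (.node [4,3,5,5,0] (.node [1,4,0,4,1,0] .nil .nil) .nil))))) (.node [0,2,1] (.node [4,1,0,0] (.node [3,1,2,0] (.node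 [5,4,0,1] (.node [4,0,0,1,0] (.node [4,1,3,0,1] .nil .nil) (.node [4,3,5,1,2,0] .nil .nil)) (.node [3,4,0,3,0] (.node [4,2,1,0,0,0] .nil .nil) .nil)) (.node [1,5,5,1] (.node [4,1,0,2,0] (.node [3,5,3,2,1] .nil .nil) .nil) (.node [2,3,3,4,0] (.node [2,3,2,5,0,0] .nil .nil) .nil))) (.node [0,2,4,0] (.node [5,0,3,1] (.node [0,1,3,1,0] (.node [0,5,3,1,1] .nil .nil) .nil) (.node [2,1,5,3,0] (.node [3,2,1,2,0,0] .nil .nil) .nil)) (.node [4,4,2,0,0] (.node [1,2,3,2,0] (.node [2,3,1,4,1] .nil .nil) .nil) (.node [5,4,2,5,0] (.node [0,5,0,3,1,0] .nil .nil) .nil)))) (.node [0,2,1,0] (.node [4,1,3,0] (.node [1,0,2,1] (.node [2,5,1,1,0] (.node [4,4,0,1,1] .nil .nil) (.node [1,2,2,0,4,0] .nil .nil)) (.node [4,3,2,3,0] (.node [5,2,1,1,0,0] .nil .nil) .nil)) (.node [4,2,1,0,0] (.node [5,2,1,2,0] (.node [5,3,1,3,1] .nil .nil) .nil) (.node [2,0,0,5,0] (.node [5,2,3,1,1,0] .nil .nil) .nil))) (.node [4,2,5,0] (.node [1,2,4,1] (.node [4,3,4,1,0] (.node [4,3,0,2,1]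 .nil .nil) .nil) (.node [1,1,1,4,0] (.node [2,1,1,3,0,0] .nil .nil) .nil)) (.node [5,1,4,0,0] (.node [1,0,5,2,0] (.node [1,0,1,5,1] .nil .nil) .nil) (.node [2,1,1,0,1] (.node [4,2,0,5,1,0] .nil .nil) .nil)))))))

/-- A part. -/
noncomputable def centWords0_12 : Arr (List ℕ) :=
  (.node [3,0] centWords0_10 centWords0_11)

/-- A part. -/
noncomputable def centWords0_13 : Arr (List ℕ) :=
  (.node [1] centWords0_9 centWords0_12)

/-- A part. -/
noncomputable def centWords0_14 : Arr (List ℕ) :=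
  (.node [] centWords0_6 centWords0_13)

/-- The array. -/
noncomputable def centWords0 : Arr (List ℕ) := centWords0_14

/-- A part. -/
noncomputable def centPos0_0 : Arr ℕ :=
  (.node 511 (.node 1416 (.node 1342 (.node 1230 (.node 583 (.node 475 (.node 1037 (.node 728 .nil .nil) (.node 1574 .nil .nil)) (.node 1524 (.node 497 .nil .nil) .nil)) (.node 0 (.node 102 (.node 1610 .nil .nil) (.node 957 .nil .nil)) (.node 677 (.node 469 .nil .nil) .nil))) (.node 1531 (.node 730 (.node 1279 (.node 1438 .nil .nil) (.node 1575 .nil .nil)) (.node 1527 (.node 250 .nil .nil) .nil)) (.node 1520 (.node 770 (.node 29 .nil .nil) (.node 1504 .nil .nil)) (.node 1482 (.node 146 .nil .nil) .nil)))) (.node 1165 (.node 66 (.node 129 (.node 769 (.node 1570 .nil .nil) (.node 1207 .nil .nil)) (.node 388 (.node 168 .nil .nil) .nil)) (.node 242 (.node 673 (.node 1177 .nil .nil) (.node 775 .nil .nil)) (.node 1246 (.node 340 .nil .nil) .nil))) (.node 1539 (.node 74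 (.node 434 (.node 985 .nil .nil) (.node 450 .nil .nil)) (.node 329 (.node 895 .nil .nil) .nil)) (.node 415 (.node 355 (.node 1074 .nil .nil) (.node 28 .nil .nil)) (.node 701 (.node 186 .nil .nil) .nil))))) (.node 89 (.node 981 (.node 1528 (.node 774 (.node 248 (.node 576 .nil .nil) (.node 1401 .nil .nil)) (.node 1129 (.node 1155 .nil .nil) .nil)) (.node 336 (.node 156 (.node 81 .nil .nil) (.node 648 .nil .nil)) (.node 237 (.node 609 .nil .nil) .nil))) (.node 1298 (.node 0 (.node 1049 (.node 208 .nil .nil) (.node 1423 .nil .nil)) (.node 212 (.node 1261 .nil .nil) .nil)) (.node 1257 (.node 406 (.node 1002 .nil .nil) (.node 640 .nil .nil)) (.node 1470 (.node 281 .nil .nil) .nil)))) (.node 909 (.node 1455 (.node 1228 (.node 1076 (.node 696 .nil .nil) (.node 946 .nil .nil)) (.node 586 (.node 253 .nil .nil) .nil)) (.node 510 (.node 35 (.node 1599 .nil .nil) (.node 1134 .nil .nil)) (.node 375 (.node 679 .nil .nil) .nil))) (.node 777 (.node 527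 (.node 1008 (.node 1473 .nil .nil) (.node 136 .nil .nil)) (.node 0 (.node 337 .nil .nil) .nil)) (.node 891 (.node 0 (.node 577 .nil .nil) (.node 195 .nil .nil)) (.node 548 (.node 397 .nil .nil) .nil)))))) (.node 532 (.node 887 (.node 1094 (.node 1122 (.node 1297 (.node 0 (.node 1509 .nil .nil) (.node 854 .nil .nil)) (.node 913 (.node 741 .nil .nil) .nil)) (.node 939 (.node 68 (.node 1100 .nil .nil) (.node 823 .nil .nil)) (.node 1339 (.node 1171 .nil .nil) .nil))) (.node 737 (.node 51 (.node 1287 (.node 614 .nil .nil) (.node 559 .nil .nil)) (.node 879 (.node 322 .nil .nil) .nil)) (.node 1565 (.node 76 (.node 350 .nil .nil) (.node 1514 .nil .nil)) (.node 949 (.node 93 .nil .nil) .nil)))) (.node 973 (.node 685 (.node 819 (.node 633 (.node 1572 .nil .nil) (.node 376 .nil .nil)) (.node 1285 (.node 1039 .nil .nil) .nil)) (.node 530 (.node 187 (.node 1607 .nil .nil) (.node 773 .nil .nil)) (.node 1136 (.node 1241 .nil .nil) .nil))) (.node 229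 (.node 1109 (.node 0 (.node 0 .nil .nil) (.node 861 .nil .nil)) (.node 0 (.node 1255 .nil .nil) .nil)) (.node 715 (.node 1439 (.node 855 .nil .nil) (.node 1612 .nil .nil)) (.node 1071 (.node 293 .nil .nil) .nil))))) (.node 1124 (.node 130 (.node 1373 (.node 853 (.node 1290 (.node 245 .nil .nil) (.node 575 .nil .nil)) (.node 0 (.node 845 .nil .nil) .nil)) (.node 0 (.node 420 (.node 99 .nil .nil) (.node 0 .nil .nil)) (.node 746 (.node 326 .nil .nil) .nil))) (.node 13 (.node 1421 (.node 1591 (.node 956 .nil .nil) (.node 1552 .nil .nil)) (.node 1582 (.node 1362 .nil .nil) .nil)) (.node 722 (.node 1453 (.node 1302 .nil .nil) (.node 1176 .nil .nil)) (.node 651 (.node 1130 .nil .nil) .nil)))) (.node 198 (.node 1148 (.node 1485 (.node 812 (.node 0 .nil .nil) (.node 0 .nil .nil)) (.node 1449 (.node 396 .nil .nil) .nil)) (.node 158 (.node 991 (.node 1596 .nil .nil) (.node 395 .nil .nil)) (.node 463 (.node 598 .nil .nil) .nil))) (.node 305 (.node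 1208 (.node 319 (.node 338 .nil .nil) (.node 1 .nil .nil)) (.node 280 (.node 560 .nil .nil) .nil)) (.node 594 (.node 821 (.node 672 .nil .nil) .nil) (.node 503 (.node 0 .nil .nil) .nil)))))))

/-- A part. -/
noncomputable def centPos0_1 : Arr ℕ :=
  (.node 0 (.node 1030 (.node 1170 (.node 443 (.node 0 (.node 1540 (.node 509 (.node 1516 .nil .nil) (.node 12 .nil .nil)) (.node 299 (.node 947 .nil .nil) .nil)) (.node 193 (.node 627 (.node 1042 .nil .nil) (.node 367 .nil .nil)) (.node 710 (.node 1303 .nil .nil) .nil))) (.node 592 (.node 48 (.node 0 (.node 1617 .nil .nil) (.node 64 .nil .nil)) (.node 461 (.node 1269 .nil .nil) .nil)) (.node 360 (.node 521 (.node 783 .nil .nil) (.node 0 .nil .nil)) (.node 1365 (.node 439 .nil .nil) .nil)))) (.node 856 (.node 809 (.node 286 (.node 1454 (.node 590 .nil .nil) (.node 0 .nil .nil)) (.node 1011 (.node 0 .nil .nil) .nil)) (.node 573 (.node 807 (.node 1602 .nil .nil) (.node 1443 .nil .nil)) (.node 863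 (.node 300 .nil .nil) .nil))) (.node 1427 (.node 1125 (.node 502 (.node 0 .nil .nil) (.node 1598 .nil .nil)) (.node 1548 (.node 1009 .nil .nil) .nil)) (.node 91 (.node 0 (.node 22 .nil .nil) (.node 318 .nil .nil)) (.node 626 (.node 1086 .nil .nil) .nil))))) (.node 543 (.node 75 (.node 1038 (.node 529 (.node 1578 (.node 1377 .nil .nil) (.node 0 .nil .nil)) (.node 0 (.node 1499 .nil .nil) .nil)) (.node 838 (.node 791 (.node 1095 .nil .nil) (.node 537 .nil .nil)) (.node 1518 (.node 1597 .nil .nil) .nil))) (.node 873 (.node 1294 (.node 0 (.node 1444 .nil .nil) (.node 1322 .nil .nil)) (.node 1515 (.node 0 .nil .nil) .nil)) (.node 0 (.node 1483 (.node 100 .nil .nil) (.node 1381 .nil .nil)) (.node 1537 (.node 599 .nil .nil) .nil)))) (.node 162 (.node 1066 (.node 433 (.node 261 (.node 1542 .nil .nil) (.node 155 .nil .nil)) (.node 1436 (.node 172 .nil .nil) .nil)) (.node 124 (.node 0 (.node 745 .nil .nil) (.node 520 .nil .nil)) (.node 834 (.node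 827 .nil .nil) .nil))) (.node 1282 (.node 1093 (.node 0 (.node 50 .nil .nil) (.node 1202 .nil .nil)) (.node 210 (.node 1400 .nil .nil) .nil)) (.node 1616 (.node 1025 (.node 1326 .nil .nil) (.node 0 .nil .nil)) (.node 1363 (.node 748 .nil .nil) .nil)))))) (.node 1419 (.node 0 (.node 387 (.node 373 (.node 678 (.node 1586 (.node 1394 .nil .nil) (.node 414 .nil .nil)) (.node 987 (.node 562 .nil .nil) .nil)) (.node 335 (.node 1420 (.node 906 .nil .nil) (.node 479 .nil .nil)) (.node 595 (.node 1353 .nil .nil) .nil))) (.node 704 (.node 184 (.node 1220 (.node 692 .nil .nil) (.node 797 .nil .nil)) (.node 1059 (.node 445 .nil .nil) .nil)) (.node 1434 (.node 1163 (.node 131 .nil .nil) (.node 297 .nil .nil)) (.node 528 (.node 566 .nil .nil) .nil)))) (.node 266 (.node 107 (.node 0 (.node 1567 (.node 620 .nil .nil) (.node 1239 .nil .nil)) (.node 345 (.node 4 .nil .nil) .nil)) (.node 1505 (.node 425 (.node 342 .nil .nil) (.node 358 .nil .nil)) (.node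 1088 (.node 1266 .nil .nil) .nil))) (.node 1560 (.node 1212 (.node 365 (.node 535 .nil .nil) (.node 0 .nil .nil)) (.node 589 (.node 542 .nil .nil) .nil)) (.node 0 (.node 686 (.node 926 .nil .nil) (.node 569 .nil .nil)) (.node 254 (.node 1153 .nil .nil) .nil))))) (.node 1068 (.node 550 (.node 822 (.node 334 (.node 1096 (.node 1135 .nil .nil) (.node 1289 .nil .nil)) (.node 389 (.node 69 .nil .nil) .nil)) (.node 929 (.node 110 (.node 1058 .nil .nil) (.node 1431 .nil .nil)) (.node 332 (.node 0 .nil .nil) .nil))) (.node 374 (.node 744 (.node 743 (.node 0 .nil .nil) (.node 0 .nil .nil)) (.node 888 (.node 368 .nil .nil) .nil)) (.node 814 (.node 1351 (.node 649 .nil .nil) (.node 1258 .nil .nil)) (.node 1375 (.node 1425 .nil .nil) .nil)))) (.node 330 (.node 499 (.node 857 (.node 1031 (.node 455 .nil .nil) (.node 0 .nil .nil)) (.node 0 (.node 6 .nil .nil) .nil)) (.node 1519 (.node 516 (.node 1272 .nil .nil) (.node 1310 .nil .nil)) (.node 999 (.node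 1301 .nil .nil) .nil))) (.node 731 (.node 534 (.node 1005 (.node 1312 .nil .nil) (.node 1281 .nil .nil)) (.node 0 (.node 1078 .nil .nil) .nil)) (.node 1142 (.node 1372 (.node 650 .nil .nil) .nil) (.node 600 (.node 356 .nil .nil) .nil)))))))

/-- A part. -/
noncomputable def centPos0_2 : Arr ℕ :=
  (.node 1026 centPos0_0 centPos0_1)

/-- A part. -/
noncomputable def centPos0_3 : Arr ℕ :=
  (.node 0 (.node 147 (.node 667 (.node 400 (.node 1562 (.node 145 (.node 0 (.node 1396 .nil .nil) (.node 1435 .nil .nil)) (.node 1120 (.node 785 .nil .nil) .nil)) (.node 267 (.node 383 (.node 0 .nil .nil) (.node 1028 .nil .nil)) (.node 1126 (.node 1189 .nil .nil) .nil))) (.node 1186 (.node 174 (.node 1090 (.node 344 .nil .nil) (.node 0 .nil .nil)) (.node 818 (.node 142 .nil .nil) .nil)) (.node 662 (.node 1111 (.node 1417 .nil .nil) (.node 1127 .nil .nil)) (.node 551 (.node 244 .nil .nil) .nil)))) (.node 232 (.node 536 (.node 571 (.node 0 (.node 128 .nil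 .nil) (.node 1133 .nil .nil)) (.node 914 (.node 15 .nil .nil) .nil)) (.node 1458 (.node 813 (.node 1083 .nil .nil) (.node 1001 .nil .nil)) (.node 1234 (.node 0 .nil .nil) .nil))) (.node 1338 (.node 277 (.node 839 (.node 1323 .nil .nil) (.node 333 .nil .nil)) (.node 0 (.node 492 .nil .nil) .nil)) (.node 664 (.node 1459 (.node 1547 .nil .nil) (.node 1489 .nil .nil)) (.node 36 (.node 1313 .nil .nil) .nil))))) (.node 1463 (.node 871 (.node 638 (.node 262 (.node 1512 (.node 555 .nil .nil) (.node 1262 .nil .nil)) (.node 133 (.node 0 .nil .nil) .nil)) (.node 1091 (.node 359 (.node 0 .nil .nil) (.node 98 .nil .nil)) (.node 321 (.node 1355 .nil .nil) .nil))) (.node 978 (.node 0 (.node 830 (.node 1532 .nil .nil) (.node 700 .nil .nil)) (.node 763 (.node 1276 .nil .nil) .nil)) (.node 923 (.node 0 (.node 799 .nil .nil) (.node 444 .nil .nil)) (.node 1184 (.node 1614 .nil .nil) .nil)))) (.node 1191 (.node 178 (.node 844 (.node 1017 (.node 669 .nil .nil)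 (.node 324 .nil .nil)) (.node 899 (.node 226 .nil .nil) .nil)) (.node 437 (.node 843 (.node 1307 .nil .nil) (.node 892 .nil .nil)) (.node 889 (.node 309 .nil .nil) .nil))) (.node 270 (.node 121 (.node 0 (.node 512 .nil .nil) (.node 910 .nil .nil)) (.node 1549 (.node 656 .nil .nil) .nil)) (.node 817 (.node 903 (.node 1319 .nil .nil) (.node 1314 .nil .nil)) (.node 1395 (.node 421 .nil .nil) .nil)))))) (.node 1183 (.node 452 (.node 1530 (.node 1538 (.node 794 (.node 1089 (.node 268 .nil .nil) (.node 0 .nil .nil)) (.node 882 (.node 221 .nil .nil) .nil)) (.node 1145 (.node 0 (.node 165 .nil .nil) (.node 393 .nil .nil)) (.node 0 (.node 591 .nil .nil) .nil))) (.node 707 (.node 1274 (.node 152 (.node 1334 .nil .nil) (.node 382 .nil .nil)) (.node 526 (.node 1387 .nil .nil) .nil)) (.node 990 (.node 652 (.node 779 .nil .nil) (.node 1164 .nil .nil)) (.node 357 (.node 623 .nil .nil) .nil)))) (.node 747 (.node 1216 (.node 1589 (.node 1174 (.node 1550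 .nil .nil) (.node 363 .nil .nil)) (.node 1013 (.node 1327 .nil .nil) .nil)) (.node 1139 (.node 616 (.node 766 .nil .nil) (.node 1587 .nil .nil)) (.node 765 (.node 758 .nil .nil) .nil))) (.node 584 (.node 217 (.node 413 (.node 1422 .nil .nil) (.node 967 .nil .nil)) (.node 757 (.node 1613 .nil .nil) .nil)) (.node 1397 (.node 1022 (.node 0 .nil .nil) (.node 1337 .nil .nil)) (.node 801 (.node 994 .nil .nil) .nil))))) (.node 900 (.node 327 (.node 323 (.node 1060 (.node 539 (.node 148 .nil .nil) (.node 282 .nil .nil)) (.node 1474 (.node 1340 .nil .nil) .nil)) (.node 954 (.node 1460 (.node 1481 .nil .nil) (.node 1402 .nil .nil)) (.node 0 (.node 0 .nil .nil) .nil))) (.node 644 (.node 653 (.node 1506 (.node 570 .nil .nil) (.node 127 .nil .nil)) (.node 255 (.node 632 .nil .nil) .nil)) (.node 230 (.node 0 (.node 0 .nil .nil) (.node 352 .nil .nil)) (.node 0 (.node 1380 .nil .nil) .nil)))) (.node 454 (.node 1084 (.node 1566 (.node 1045 (.node 554 .nil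 .nil) (.node 549 .nil .nil)) (.node 1411 (.node 1243 .nil .nil) .nil)) (.node 1079 (.node 150 (.node 176 .nil .nil) (.node 289 .nil .nil)) (.node 1211 (.node 611 .nil .nil) .nil))) (.node 750 (.node 1440 (.node 668 (.node 1521 .nil .nil) (.node 780 .nil .nil)) (.node 1200 (.node 965 .nil .nil) .nil)) (.node 578 (.node 850 (.node 271 .nil .nil) .nil) (.node 811 (.node 1128 .nil .nil) .nil)))))))

/-- A part. -/
noncomputable def centPos0_4 : Arr ℕ :=
  (.node 3 (.node 473 (.node 346 (.node 263 (.node 1046 (.node 1147 (.node 0 (.node 1252 .nil .nil) (.node 343 .nil .nil)) (.node 753 (.node 734 .nil .nil) .nil)) (.node 190 (.node 911 (.node 478 .nil .nil) (.node 0 .nil .nil)) (.node 225 (.node 1409 .nil .nil) .nil))) (.node 0 (.node 605 (.node 740 (.node 1315 .nil .nil) (.node 866 .nil .nil)) (.node 896 (.node 557 .nil .nil) .nil)) (.node 199 (.node 553 (.node 1209 .nil .nil) (.node 0 .nil .nil)) (.node 1082 (.node 1369 .nil .nil) .nil))))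 (.node 313 (.node 0 (.node 1271 (.node 0 (.node 0 .nil .nil) (.node 865 .nil .nil)) (.node 180 (.node 1347 .nil .nil) .nil)) (.node 0 (.node 556 (.node 1194 .nil .nil) (.node 759 .nil .nil)) (.node 480 (.node 197 .nil .nil) .nil))) (.node 0 (.node 7 (.node 354 (.node 0 .nil .nil) (.node 608 .nil .nil)) (.node 1487 (.node 1092 .nil .nil) .nil)) (.node 825 (.node 0 (.node 622 .nil .nil) (.node 1430 .nil .nil)) (.node 0 (.node 1249 .nil .nil) .nil))))) (.node 955 (.node 24 (.node 702 (.node 1236 (.node 858 (.node 1526 .nil .nil) (.node 1343 .nil .nil)) (.node 517 (.node 1525 .nil .nil) .nil)) (.node 412 (.node 1218 (.node 201 .nil .nil) (.node 781 .nil .nil)) (.node 663 (.node 657 .nil .nil) .nil))) (.node 0 (.node 0 (.node 806 (.node 953 .nil .nil) (.node 637 .nil .nil)) (.node 431 (.node 708 .nil .nil) .nil)) (.node 1063 (.node 181 (.node 852 .nil .nil) (.node 952 .nil .nil)) (.node 805 (.node 0 .nil .nil) .nil)))) (.node 1003 (.node 457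 (.node 754 (.node 1476 (.node 1229 .nil .nil) (.node 424 .nil .nil)) (.node 1502 (.node 1254 .nil .nil) .nil)) (.node 379 (.node 18 (.node 1558 .nil .nil) (.node 90 .nil .nil)) (.node 468 (.node 572 .nil .nil) .nil))) (.node 126 (.node 1242 (.node 273 (.node 411 .nil .nil) (.node 1491 .nil .nil)) (.node 207 (.node 601 .nil .nil) .nil)) (.node 471 (.node 1452 (.node 0 .nil .nil) (.node 0 .nil .nil)) (.node 1226 (.node 243 .nil .nil) .nil)))))) (.node 0 (.node 328 (.node 123 (.node 0 (.node 693 (.node 1015 (.node 1016 .nil .nil) (.node 19 .nil .nil)) (.node 862 (.node 739 .nil .nil) .nil)) (.node 1300 (.node 924 (.node 1051 .nil .nil) (.node 220 .nil .nil)) (.node 980 (.node 292 .nil .nil) .nil))) (.node 490 (.node 796 (.node 70 (.node 0 .nil .nil) (.node 624 .nil .nil)) (.node 742 (.node 20 .nil .nil) .nil)) (.node 209 (.node 1101 (.node 0 .nil .nil) (.node 1418 .nil .nil)) (.node 1235 (.node 886 .nil .nil) .nil)))) (.node 764 (.node 0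 (.node 671 (.node 1043 (.node 1370 .nil .nil) (.node 636 .nil .nil)) (.node 71 (.node 1366 .nil .nil) .nil)) (.node 659 (.node 0 (.node 0 .nil .nil) (.node 0 .nil .nil)) (.node 223 (.node 0 .nil .nil) .nil))) (.node 1595 (.node 840 (.node 676 (.node 1102 .nil .nil) (.node 998 .nil .nil)) (.node 1227 (.node 1150 .nil .nil) .nil)) (.node 974 (.node 1471 (.node 1593 .nil .nil) (.node 1579 .nil .nil)) (.node 1104 (.node 85 .nil .nil) .nil))))) (.node 1154 (.node 304 (.node 378 (.node 1605 (.node 581 (.node 0 .nil .nil) (.node 62 .nil .nil)) (.node 1034 (.node 113 .nil .nil) .nil)) (.node 203 (.node 944 (.node 14 .nil .nil) (.node 1324 .nil .nil)) (.node 902 (.node 751 .nil .nil) .nil))) (.node 0 (.node 470 (.node 132 (.node 788 .nil .nil) (.node 191 .nil .nil)) (.node 621 (.node 398 .nil .nil) .nil)) (.node 274 (.node 567 (.node 938 .nil .nil) (.node 942 .nil .nil)) (.node 259 (.node 1161 .nil .nil) .nil)))) (.node 88 (.node 366 (.node 1553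 (.node 1534 (.node 1498 .nil .nil) (.node 96 .nil .nil)) (.node 1305 (.node 832 .nil .nil) .nil)) (.node 1523 (.node 713 (.node 1497 .nil .nil) (.node 793 .nil .nil)) (.node 683 (.node 466 .nil .nil) .nil))) (.node 916 (.node 1551 (.node 1113 (.node 306 .nil .nil) (.node 1461 .nil .nil)) (.node 0 (.node 1168 .nil .nil) .nil)) (.node 580 (.node 1112 (.node 1507 .nil .nil) .nil) (.node 0 (.node 17 .nil .nil) .nil)))))))

/-- A part. -/
noncomputable def centPos0_5 : Arr ℕ :=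
  (.node 2 centPos0_3 centPos0_4)

/-- A part. -/
noncomputable def centPos0_6 : Arr ℕ :=
  (.node 1309 centPos0_2 centPos0_5)

/-- A part. -/
noncomputable def centPos0_7 : Arr ℕ :=
  (.node 1283 (.node 606 (.node 462 (.node 1410 (.node 166 (.node 1361 (.node 37 (.node 0 .nil .nil) (.node 1181 .nil .nil)) (.node 1462 (.node 0 .nil .nil) .nil)) (.node 804 (.node 544 (.node 800 .nil .nil) (.node 1143 .nil .nil)) (.node 1335 (.node 0 .nil .nil) .nil))) (.node 1047 (.node 878 (.node 1224 (.node 880 .nil .nil) (.node 1456 .nil .nil)) (.node 1185 (.node 1432 .nil .nil) .nil)) (.node 1072 (.node 112 (.node 0 .nil .nil) (.node 1085 .nil .nil)) (.node 0 (.node 311 .nil .nil) .nil)))) (.node 377 (.node 533 (.node 1067 (.node 1132 (.node 418 .nil .nil) (.node 45 .nil .nil)) (.node 890 (.node 1167 .nil .nil) .nil)) (.node 42 (.node 1544 (.node 568 .nil .nil) (.node 46 .nil .nil)) (.node 1581 (.node 824 .nil .nil) .nil))) (.node 674 (.node 231 (.node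 138 (.node 489 .nil .nil) (.node 538 .nil .nil)) (.node 1179 (.node 1480 .nil .nil) .nil)) (.node 1350 (.node 1064 (.node 57 .nil .nil) (.node 1331 .nil .nil)) (.node 982 (.node 1382 .nil .nil) .nil))))) (.node 1428 (.node 684 (.node 772 (.node 719 (.node 690 (.node 0 .nil .nil) (.node 9 .nil .nil)) (.node 59 (.node 341 .nil .nil) .nil)) (.node 0 (.node 448 (.node 399 .nil .nil) (.node 1594 .nil .nil)) (.node 294 (.node 0 .nil .nil) .nil))) (.node 1149 (.node 810 (.node 645 (.node 200 .nil .nil) (.node 876 .nil .nil)) (.node 545 (.node 218 .nil .nil) .nil)) (.node 931 (.node 0 (.node 960 .nil .nil) (.node 732 .nil .nil)) (.node 236 (.node 630 .nil .nil) .nil)))) (.node 1156 (.node 625 (.node 194 (.node 1344 (.node 579 .nil .nil) (.node 283 .nil .nil)) (.node 482 (.node 0 .nil .nil) .nil)) (.node 188 (.node 423 (.node 975 .nil .nil) (.node 0 .nil .nil)) (.node 405 (.node 1210 .nil .nil) .nil))) (.node 720 (.node 1486 (.node 558 (.node 483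 .nil .nil) (.node 215 .nil .nil)) (.node 943 (.node 1557 .nil .nil) .nil)) (.node 993 (.node 582 (.node 122 .nil .nil) (.node 173 .nil .nil)) (.node 315 (.node 738 .nil .nil) .nil)))))) (.node 1333 (.node 1278 (.node 841 (.node 1609 (.node 1576 (.node 0 (.node 523 .nil .nil) (.node 1472 .nil .nil)) (.node 1447 (.node 1392 .nil .nil) .nil)) (.node 756 (.node 724 (.node 655 .nil .nil) (.node 0 .nil .nil)) (.node 301 (.node 476 .nil .nil) .nil))) (.node 670 (.node 26 (.node 1465 (.node 120 .nil .nil) (.node 1032 .nil .nil)) (.node 1010 (.node 868 .nil .nil) .nil)) (.node 1330 (.node 486 (.node 278 .nil .nil) (.node 0 .nil .nil)) (.node 0 (.node 307 .nil .nil) .nil)))) (.node 1056 (.node 464 (.node 0 (.node 884 (.node 103 .nil .nil) (.node 695 .nil .nil)) (.node 977 (.node 989 .nil .nil) .nil)) (.node 1536 (.node 1546 (.node 1545 .nil .nil) (.node 1415 .nil .nil)) (.node 392 (.node 716 .nil .nil) .nil))) (.node 485 (.node 782 (.node 295 (.node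 787 .nil .nil) (.node 1511 .nil .nil)) (.node 0 (.node 1608 .nil .nil) .nil)) (.node 1240 (.node 58 (.node 1563 .nil .nil) (.node 596 .nil .nil)) (.node 1376 (.node 647 .nil .nil) .nil))))) (.node 984 (.node 1087 (.node 440 (.node 0 (.node 459 (.node 0 .nil .nil) (.node 588 .nil .nil)) (.node 1204 (.node 688 .nil .nil) .nil)) (.node 239 (.node 1469 (.node 1448 .nil .nil) (.node 934 .nil .nil)) (.node 0 (.node 1583 .nil .nil) .nil))) (.node 1253 (.node 275 (.node 1325 (.node 95 .nil .nil) (.node 494 .nil .nil)) (.node 1152 (.node 1299 .nil .nil) .nil)) (.node 1383 (.node 1399 (.node 402 .nil .nil) (.node 1316 .nil .nil)) (.node 348 (.node 1233 .nil .nil) .nil)))) (.node 0 (.node 44 (.node 227 (.node 0 (.node 1160 .nil .nil) (.node 1580 .nil .nil)) (.node 106 (.node 422 .nil .nil) .nil)) (.node 1018 (.node 927 (.node 654 .nil .nil) (.node 0 .nil .nil)) (.node 83 (.node 381 .nil .nil) .nil))) (.node 111 (.node 298 (.node 1321 (.node 1021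 .nil .nil) (.node 154 .nil .nil)) (.node 971 (.node 1118 .nil .nil) .nil)) (.node 288 (.node 835 (.node 972 .nil .nil) .nil) (.node 285 (.node 78 .nil .nil) .nil)))))))

/-- A part. -/
noncomputable def centPos0_8 : Arr ℕ :=
  (.node 11 (.node 1162 (.node 394 (.node 1600 (.node 666 (.node 0 (.node 177 (.node 874 .nil .nil) (.node 904 .nil .nil)) (.node 409 (.node 1180 .nil .nil) .nil)) (.node 786 (.node 718 (.node 219 .nil .nil) (.node 104 .nil .nil)) (.node 1346 (.node 139 .nil .nil) .nil))) (.node 1070 (.node 167 (.node 1389 (.node 214 .nil .nil) (.node 1048 .nil .nil)) (.node 1173 (.node 362 .nil .nil) .nil)) (.node 1603 (.node 607 (.node 919 .nil .nil) (.node 61 .nil .nil)) (.node 771 (.node 1529 .nil .nil) .nil)))) (.node 836 (.node 1559 (.node 1329 (.node 894 (.node 1584 .nil .nil) (.node 883 .nil .nil)) (.node 1475 (.node 1250 .nil .nil) .nil)) (.node 429 (.node 959 (.node 1044 .nil .nil) (.node 726 .nil .nil)) (.node 1140 (.node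 179 .nil .nil) .nil))) (.node 721 (.node 501 (.node 714 (.node 604 .nil .nil) (.node 1306 .nil .nil)) (.node 869 (.node 1069 .nil .nil) .nil)) (.node 316 (.node 1588 (.node 1268 .nil .nil) (.node 966 .nil .nil)) (.node 370 (.node 0 .nil .nil) .nil))))) (.node 1061 (.node 0 (.node 846 (.node 988 (.node 1260 (.node 1099 .nil .nil) (.node 675 .nil .nil)) (.node 970 (.node 1195 .nil .nil) .nil)) (.node 171 (.node 1138 (.node 789 .nil .nil) (.node 0 .nil .nil)) (.node 1256 (.node 749 .nil .nil) .nil))) (.node 73 (.node 1169 (.node 175 (.node 451 .nil .nil) (.node 1158 .nil .nil)) (.node 144 (.node 1014 .nil .nil) .nil)) (.node 711 (.node 487 (.node 508 .nil .nil) (.node 1451 .nil .nil)) (.node 449 (.node 467 .nil .nil) .nil)))) (.node 0 (.node 1360 (.node 1357 (.node 72 (.node 1408 .nil .nil) (.node 1317 .nil .nil)) (.node 1097 (.node 63 .nil .nil) .nil)) (.node 945 (.node 257 (.node 524 .nil .nil) (.node 917 .nil .nil)) (.node 0 (.node 760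 .nil .nil) .nil))) (.node 1318 (.node 1080 (.node 442 (.node 1273 .nil .nil) (.node 1248 .nil .nil)) (.node 1293 (.node 60 .nil .nil) .nil)) (.node 1606 (.node 351 (.node 875 .nil .nil) (.node 725 .nil .nil)) (.node 506 (.node 0 .nil .nil) .nil)))))) (.node 617 (.node 1182 (.node 0 (.node 1103 (.node 815 (.node 948 (.node 169 .nil .nil) (.node 546 .nil .nil)) (.node 160 (.node 23 .nil .nil) .nil)) (.node 1407 (.node 1146 (.node 803 .nil .nil) (.node 515 .nil .nil)) (.node 641 (.node 697 .nil .nil) .nil))) (.node 893 (.node 0 (.node 153 (.node 276 .nil .nil) (.node 1245 .nil .nil)) (.node 928 (.node 1378 .nil .nil) .nil)) (.node 1413 (.node 241 (.node 564 .nil .nil) (.node 1296 .nil .nil)) (.node 252 (.node 642 .nil .nil) .nil)))) (.node 0 (.node 849 (.node 915 (.node 314 (.node 937 .nil .nil) (.node 643 .nil .nil)) (.node 182 (.node 0 .nil .nil) .nil)) (.node 1157 (.node 820 (.node 453 .nil .nil) (.node 1033 .nil .nil)) (.node 249 (.node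 1213 .nil .nil) .nil))) (.node 1004 (.node 997 (.node 385 (.node 115 .nil .nil) (.node 371 .nil .nil)) (.node 284 (.node 986 .nil .nil) .nil)) (.node 310 (.node 698 (.node 833 .nil .nil) (.node 0 .nil .nil)) (.node 0 (.node 404 .nil .nil) .nil))))) (.node 391 (.node 474 (.node 848 (.node 1110 (.node 460 (.node 0 .nil .nil) (.node 1029 .nil .nil)) (.node 33 (.node 1223 .nil .nil) .nil)) (.node 561 (.node 1406 (.node 456 .nil .nil) (.node 1568 .nil .nil)) (.node 681 (.node 0 .nil .nil) .nil))) (.node 1222 (.node 872 (.node 1277 (.node 258 .nil .nil) (.node 768 .nil .nil)) (.node 996 (.node 1348 .nil .nil) .nil)) (.node 597 (.node 995 (.node 0 .nil .nil) (.node 0 .nil .nil)) (.node 1020 (.node 1077 .nil .nil) .nil)))) (.node 1466 (.node 905 (.node 925 (.node 1205 (.node 1247 .nil .nil) (.node 447 .nil .nil)) (.node 1023 (.node 1019 .nil .nil) .nil)) (.node 709 (.node 816 (.node 216 .nil .nil) (.node 767 .nil .nil)) (.node 0 (.node 137 .nil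 .nil) .nil))) (.node 1426 (.node 1215 (.node 116 (.node 213 .nil .nil) (.node 290 .nil .nil)) (.node 1311 (.node 646 .nil .nil) .nil)) (.node 80 (.node 761 (.node 935 .nil .nil) .nil) (.node 247 (.node 907 .nil .nil) .nil)))))))

/-- A part. -/
noncomputable def centPos0_9 : Arr ℕ :=
  (.node 1437 centPos0_7 centPos0_8)

/-- A part. -/
noncomputable def centPos0_10 : Arr ℕ :=
  (.node 1412 (.node 1429 (.node 540 (.node 1151 (.node 353 (.node 238 (.node 10 (.node 369 .nil .nil) (.node 881 .nil .nil)) (.node 1116 (.node 941 .nil .nil) .nil)) (.node 1393 (.node 390 (.node 808 .nil .nil) (.node 1585 .nil .nil)) (.node 0 (.node 1106 .nil .nil) .nil))) (.node 0 (.node 0 (.node 240 (.node 1441 .nil .nil) (.node 308 .nil .nil)) (.node 493 (.node 495 .nil .nil) .nil)) (.node 918 (.node 1477 (.node 1175 .nil .nil) (.node 1188 .nil .nil)) (.node 1187 (.node 729 .nil .nil) .nil)))) (.node 1490 (.node 1618 (.node 386 (.node 477 (.node 1388 .nil .nil)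 (.node 1533 .nil .nil)) (.node 1192 (.node 205 .nil .nil) .nil)) (.node 1467 (.node 1501 (.node 587 .nil .nil) (.node 491 .nil .nil)) (.node 86 (.node 1280 .nil .nil) .nil))) (.node 1336 (.node 105 (.node 0 (.node 234 .nil .nil) (.node 1352 .nil .nil)) (.node 1172 (.node 790 .nil .nil) .nil)) (.node 613 (.node 97 (.node 1231 .nil .nil) (.node 1265 .nil .nil)) (.node 5 (.node 964 .nil .nil) .nil))))) (.node 565 (.node 49 (.node 1522 (.node 0 (.node 1414 (.node 1555 .nil .nil) (.node 860 .nil .nil)) (.node 1137 (.node 1468 .nil .nil) .nil)) (.node 969 (.node 1054 (.node 269 .nil .nil) (.node 1308 .nil .nil)) (.node 504 (.node 574 .nil .nil) .nil))) (.node 325 (.node 1098 (.node 488 (.node 25 .nil .nil) (.node 498 .nil .nil)) (.node 661 (.node 1107 .nil .nil) .nil)) (.node 842 (.node 1464 (.node 706 .nil .nil) (.node 1057 .nil .nil)) (.node 1619 (.node 34 .nil .nil) .nil)))) (.node 108 (.node 1488 (.node 372 (.node 0 (.node 1259 .nil .nil)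 (.node 920 .nil .nil)) (.node 798 (.node 235 .nil .nil) .nil)) (.node 1244 (.node 159 (.node 921 .nil .nil) (.node 1237 .nil .nil)) (.node 631 (.node 472 .nil .nil) .nil))) (.node 1494 (.node 505 (.node 1364 (.node 1196 .nil .nil) (.node 320 .nil .nil)) (.node 1027 (.node 912 .nil .nil) .nil)) (.node 1535 (.node 1024 (.node 31 .nil .nil) (.node 52 .nil .nil)) (.node 1386 (.node 84 .nil .nil) .nil)))))) (.node 531 (.node 1592 (.node 1564 (.node 1390 (.node 1604 (.node 870 (.node 1341 .nil .nil) (.node 1115 .nil .nil)) (.node 183 (.node 41 .nil .nil) .nil)) (.node 1270 (.node 1345 (.node 417 .nil .nil) (.node 950 .nil .nil)) (.node 279 (.node 1291 .nil .nil) .nil))) (.node 778 (.node 733 (.node 629 (.node 47 .nil .nil) (.node 1590 .nil .nil)) (.node 619 (.node 859 .nil .nil) .nil)) (.node 79 (.node 1131 (.node 547 .nil .nil) (.node 0 .nil .nil)) (.node 260 (.node 0 .nil .nil) .nil)))) (.node 465 (.node 933 (.node 1332 (.node 1201 (.node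 1050 .nil .nil) (.node 114 .nil .nil)) (.node 1404 (.node 1349 .nil .nil) .nil)) (.node 1304 (.node 0 (.node 380 .nil .nil) (.node 347 .nil .nil)) (.node 32 (.node 755 .nil .nil) .nil))) (.node 426 (.node 1006 (.node 1055 (.node 446 .nil .nil) (.node 1036 .nil .nil)) (.node 1053 (.node 189 .nil .nil) .nil)) (.node 936 (.node 1543 (.node 204 .nil .nil) (.node 1368 .nil .nil)) (.node 196 (.node 901 .nil .nil) .nil))))) (.node 694 (.node 1284 (.node 658 (.node 1075 (.node 660 (.node 1500 .nil .nil) (.node 518 .nil .nil)) (.node 0 (.node 0 .nil .nil) .nil)) (.node 602 (.node 705 (.node 1359 .nil .nil) (.node 1446 .nil .nil)) (.node 1062 (.node 1166 .nil .nil) .nil))) (.node 717 (.node 776 (.node 228 (.node 1513 .nil .nil) (.node 1493 .nil .nil)) (.node 16 (.node 612 .nil .nil) .nil)) (.node 87 (.node 1424 (.node 908 .nil .nil) (.node 1197 .nil .nil)) (.node 303 (.node 963 .nil .nil) .nil)))) (.node 1554 (.node 0 (.node 1358 (.node 339 (.node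 101 .nil .nil) (.node 1496 .nil .nil)) (.node 752 (.node 224 .nil .nil) .nil)) (.node 403 (.node 43 (.node 1121 .nil .nil) (.node 364 .nil .nil)) (.node 628 (.node 432 .nil .nil) .nil))) (.node 416 (.node 206 (.node 157 (.node 951 .nil .nil) (.node 0 .nil .nil)) (.node 291 (.node 1251 .nil .nil) .nil)) (.node 635 (.node 1193 (.node 1040 .nil .nil) .nil) (.node 1556 (.node 0 .nil .nil) .nil)))))))

/-- A part. -/
noncomputable def centPos0_11 : Arr ℕ :=
  (.node 407 (.node 246 (.node 802 (.node 1495 (.node 1219 (.node 211 (.node 1073 (.node 222 .nil .nil) (.node 185 .nil .nil)) (.node 968 (.node 1178 .nil .nil) .nil)) (.node 500 (.node 1206 (.node 53 .nil .nil) (.node 1391 .nil .nil)) (.node 484 (.node 1403 .nil .nil) .nil))) (.node 202 (.node 118 (.node 1035 (.node 826 .nil .nil) (.node 54 .nil .nil)) (.node 1615 (.node 703 .nil .nil) .nil)) (.node 525 (.node 401 (.node 0 .nil .nil) (.node 1573 .nil .nil)) (.node 8 (.node 408 .nil .nil)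 .nil)))) (.node 507 (.node 680 (.node 161 (.node 1144 (.node 0 .nil .nil) (.node 0 .nil .nil)) (.node 0 (.node 1214 .nil .nil) .nil)) (.node 828 (.node 897 (.node 514 .nil .nil) (.node 735 .nil .nil)) (.node 1114 (.node 723 .nil .nil) .nil))) (.node 27 (.node 0 (.node 1569 (.node 541 .nil .nil) (.node 727 .nil .nil)) (.node 712 (.node 256 .nil .nil) .nil)) (.node 349 (.node 21 (.node 1356 .nil .nil) (.node 1367 .nil .nil)) (.node 1457 (.node 1052 .nil .nil) .nil))))) (.node 0 (.node 1379 (.node 1065 (.node 430 (.node 1267 (.node 119 .nil .nil) (.node 958 .nil .nil)) (.node 410 (.node 634 .nil .nil) .nil)) (.node 1217 (.node 851 (.node 56 .nil .nil) (.node 762 .nil .nil)) (.node 1571 (.node 552 .nil .nil) .nil))) (.node 1611 (.node 1264 (.node 1492 (.node 1354 .nil .nil) (.node 1000 .nil .nil)) (.node 435 (.node 272 .nil .nil) .nil)) (.node 864 (.node 1445 (.node 784 .nil .nil) (.node 976 .nil .nil)) (.node 829 (.node 1198 .nil .nil) .nil))))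 (.node 885 (.node 65 (.node 1263 (.node 513 (.node 932 .nil .nil) (.node 125 .nil .nil)) (.node 384 (.node 1225 .nil .nil) .nil)) (.node 428 (.node 0 (.node 170 .nil .nil) (.node 481 .nil .nil)) (.node 1433 (.node 877 .nil .nil) .nil))) (.node 1541 (.node 847 (.node 983 (.node 264 .nil .nil) (.node 67 .nil .nil)) (.node 0 (.node 1295 .nil .nil) .nil)) (.node 361 (.node 117 (.node 1405 .nil .nil) .nil) (.node 699 (.node 792 .nil .nil) .nil)))))) (.node 1288 (.node 682 (.node 94 (.node 1510 (.node 1384 (.node 1275 (.node 0 .nil .nil) (.node 1238 .nil .nil)) (.node 164 (.node 496 .nil .nil) .nil)) (.node 1141 (.node 992 (.node 1190 .nil .nil) (.node 0 .nil .nil)) (.node 1398 (.node 251 .nil .nil) .nil))) (.node 1601 (.node 1159 (.node 438 (.node 1517 .nil .nil) (.node 687 .nil .nil)) (.node 458 (.node 77 .nil .nil) .nil)) (.node 831 (.node 1371 (.node 109 .nil .nil) (.node 0 .nil .nil)) (.node 979 (.node 610 .nil .nil) .nil)))) (.node 1105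 (.node 593 (.node 40 (.node 143 (.node 795 .nil .nil) (.node 441 .nil .nil)) (.node 296 (.node 618 .nil .nil) .nil)) (.node 30 (.node 585 (.node 1374 .nil .nil) (.node 1012 .nil .nil)) (.node 1484 (.node 837 .nil .nil) .nil))) (.node 1007 (.node 1286 (.node 1108 (.node 615 .nil .nil) (.node 317 .nil .nil)) (.node 522 (.node 691 .nil .nil) .nil)) (.node 312 (.node 1479 (.node 1561 .nil .nil) (.node 1232 .nil .nil)) (.node 134 (.node 0 .nil .nil) .nil))))) (.node 519 (.node 1508 (.node 82 (.node 0 (.node 1577 (.node 1385 .nil .nil) (.node 1117 .nil .nil)) (.node 149 (.node 1123 .nil .nil) .nil)) (.node 961 (.node 0 (.node 603 .nil .nil) (.node 689 .nil .nil)) (.node 1442 (.node 141 .nil .nil) .nil))) (.node 639 (.node 1478 (.node 436 (.node 1221 .nil .nil) (.node 38 .nil .nil)) (.node 1041 (.node 302 .nil .nil) .nil)) (.node 867 (.node 151 (.node 898 .nil .nil) (.node 930 .nil .nil)) (.node 1320 (.node 922 .nil .nil) .nil)))) (.node 39 (.node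 331 (.node 0 (.node 0 (.node 1503 .nil .nil) (.node 265 .nil .nil)) (.node 1203 (.node 192 .nil .nil) .nil)) (.node 1081 (.node 1119 (.node 427 .nil .nil) (.node 1450 .nil .nil)) (.node 736 (.node 1328 .nil .nil) .nil))) (.node 940 (.node 233 (.node 163 (.node 140 .nil .nil) (.node 419 .nil .nil)) (.node 287 (.node 1199 .nil .nil) .nil)) (.node 563 (.node 92 (.node 135 .nil .nil) .nil) (.node 665 (.node 1292 .nil .nil) .nil)))))))

/-- A part. -/
noncomputable def centPos0_12 : Arr ℕ :=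
  (.node 962 centPos0_10 centPos0_11)

/-- A part. -/
noncomputable def centPos0_13 : Arr ℕ :=
  (.node 55 centPos0_9 centPos0_12)

/-- A part. -/
noncomputable def centPos0_14 : Arr ℕ :=
  (.node 0 centPos0_6 centPos0_13)

/-- The array. -/
noncomputable def centPos0 : Arr ℕ := centPos0_14

/-- A part. -/
noncomputable def centWords1_0 : Arr (List ℕ) :=
  (.node [2,2] (.node [2,3] (.node [2,3,2] (.node [4,3,3] (.node [4,4,3,2] (.node [2,3,5,3] (.node [4,2,3,5,2] (.node [2,3,4,3,4,2] .nil .nil) .nil) (.node [5,5,4,2,2,2] (.node [3,5,5,3,3,2,2] .nil .nil) .nil)) (.node [3,3,3,3,2] (.node [3,3,2,4,3] (.node [5,3,5,3,2,3] .nil .nil) .nil) (.node [3,3,3,5,2,2] .nil .nil))) (.node [2,4,2,3] (.node [5,5,3,2,2] (.node [3,4,4,2,3] (.node [3,3,4,2,5,2] .nil .nil) .nil) (.node [2,2,2,4,2,2] (.node [3,4,3,3,4,4,2,2] .nil .nil) .nil)) (.node [5,2,3,4,2] (.node [2,5,2,5,3] (.node [3,4,3,2,4,3] .nil .nil) .nil) (.node [3,2,3,4,3,2] .nil .nil)))) (.node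 [5,3,2,2] (.node [5,5,4,2] (.node [3,5,2,2,2] (.node [5,2,2,2,3] (.node [3,3,5,4,4,2] .nil .nil) .nil) (.node [4,4,3,3,2,2] (.node [2,3,4,3,3,3,2] .nil .nil) .nil)) (.node [2,5,5,3,2] (.node [2,2,4,4,3] (.node [5,3,3,2,3,3] .nil .nil) .nil) (.node [3,4,3,3,3,2] .nil .nil))) (.node [4,2,4,3] (.node [3,2,5,2,2] (.node [5,2,4,3,3] (.node [4,3,2,5,5,2] .nil .nil) .nil) (.node [3,3,5,4,2,2] .nil .nil)) (.node [4,2,5,4,2] (.node [5,3,2,2,2,2] (.node [4,3,3,2,5,3] .nil .nil) .nil) (.node [4,3,5,5,3,2] .nil .nil))))) (.node [2,5,2] (.node [5,5,3] (.node [3,3,4,2] (.node [5,2,2,2,2] (.node [4,2,5,5,2] (.node [3,2,3,4,4,2] .nil .nil) .nil) (.node [3,5,2,3,2,2] (.node [4,3,3,4,4,2,2] .nil .nil) .nil)) (.node [4,2,4,3,2] (.node [4,2,3,4,3] (.node [3,3,5,4,2,3] .nil .nil) .nil) (.node [5,2,3,2,3,2] .nil .nil))) (.node [2,4,3,3] (.node [5,3,4,2,2] (.node [2,2,2,3,3] (.node [2,5,5,2,5,2] .nil .nil) .nil) (.node [3,2,4,4,2,2] .nil .nil)) (.node [5,2,4,4,2]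 (.node [3,5,3,5,3] (.node [2,3,3,3,4,3] .nil .nil) .nil) (.node [5,2,3,5,3,2] .nil .nil)))) (.node [2,2,3,2] (.node [3,5,5,2] (.node [4,3,3,2,2] (.node [5,2,3,2,3] (.node [4,4,3,5,4,2] .nil .nil) .nil) (.node [5,4,4,3,2,2] (.node [4,3,3,5,5,3,2] .nil .nil) .nil)) (.node [2,4,2,4,2] (.node [3,3,5,4,3] (.node [3,4,3,4,3,3] .nil .nil) .nil) (.node [3,3,5,3,3,2] .nil .nil))) (.node [5,4,4,3] (.node [3,2,2,3,2] (.node [2,2,5,3,3] (.node [3,4,4,2,2,3] .nil .nil) .nil) (.node [3,4,2,5,2,2] .nil .nil)) (.node [5,2,2,5,2] (.node [2,2,4,2,2,2] (.node [5,5,4,3,2,2,2] .nil .nil) .nil) (.node [3,5,5,2,4,2] .nil .nil)))))) (.node [2,2,2] (.node [2,4,2] (.node [4,4,3] (.node [3,2,4,2] (.node [2,5,5,3] (.node [2,5,3,5,2] (.node [5,2,2,4,4,2] .nil .nil) .nil) (.node [4,2,2,3,2,2] (.node [4,2,2,2,4,2,2] .nil .nil) .nil)) (.node [5,4,3,3,2] (.node [4,4,2,4,3] (.node [4,3,4,4,2,3] .nil .nil) .nil) (.node [3,3,2,2,3,2] .nil .nil))) (.node [3,5,2,3] (.node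 [5,2,4,2,2] (.node [3,2,5,2,3] (.node [2,2,5,2,5,2] .nil .nil) .nil) (.node [4,3,3,4,2,2] .nil .nil)) (.node [3,5,3,4,2] (.node [2,4,3,5,3] (.node [3,3,5,2,4,3] .nil .nil) .nil) (.node [4,3,4,4,3,2] .nil .nil)))) (.node [5,4,2,2] (.node [2,3,5,2] (.node [4,2,3,2,2] (.node [4,4,2,2,3] (.node [5,5,2,5,4,2] .nil .nil) .nil) (.node [4,2,4,3,2,2] (.node [3,5,4,2,4,3,2] .nil .nil) .nil)) (.node [4,2,2,4,2] (.node [2,5,4,4,3] (.node [4,4,2,4,3,3] .nil .nil) .nil) (.node [4,2,4,3,3,2] .nil .nil))) (.node [4,3,4,3] (.node [3,3,5,2,2] (.node [2,4,4,3,3] (.node [5,3,2,2,2,3] .nil .nil) .nil) (.node [3,3,2,5,2,2] .nil .nil)) (.node [3,5,5,4,2] (.node [2,4,3,2,2,2] (.node [3,2,2,2,2,2,2] .nil .nil) .nil) (.node [3,2,3,2,4,2] .nil .nil))))) (.node [3,2,3] (.node [5,2,2,2] (.node [3,4,4,2] (.node [2,4,2,2,2] (.node [5,3,5,5,2] (.node [3,4,3,4,4,2] .nil .nil) .nil) (.node [2,3,3,3,2,2] (.node [3,4,2,3,5,2,2] .nil .nil) .nil)) (.node [5,3,4,3,2] (.node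 [5,3,3,4,3] (.node [2,3,2,2,3,3] .nil .nil) .nil) (.node [4,2,3,3,3,2] .nil .nil))) (.node [2,5,3,3] (.node [2,5,4,2,2] (.node [5,3,2,3,3] (.node [5,2,5,3,5,2] .nil .nil) .nil) (.node [3,5,4,4,2,2] .nil .nil)) (.node [5,3,4,4,2] (.node [3,2,2,2,2,2] (.node [4,2,2,4,4,3] .nil .nil) .nil) (.node [2,2,5,5,3,2] .nil .nil)))) (.node [4,3,3,2] (.node [5,2,2,3] (.node [4,4,3,2,2] (.node [5,5,3,2,3] (.node [2,3,2,2,5,2] .nil .nil) .nil) (.node [3,2,5,3,2,2] (.node [5,2,3,4,3,4,2] .nil .nil) .nil)) (.node [5,5,2,4,2] (.node [2,3,2,5,3] (.node [3,3,2,5,3,3] .nil .nil) .nil) (.node [5,4,2,4,3,2] .nil .nil))) (.node [2,2,5,3] (.node [4,3,2,3,2] (.node [4,3,5,3,3] (.node [2,4,2,3,2,3] .nil .nil) .nil) (.node [3,5,2,5,2,2] .nil .nil)) (.node [2,5,2,5,2] (.node [5,3,4,2,2,2] (.node [3,3,5,2,3,2,2] .nil .nil) .nil) (.node [3,4,2,3,4,2] .nil .nil)))))))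

/-- A part. -/
noncomputable def centWords1_1 : Arr (List ℕ) :=
  (.node [4,2] (.node [4,3] (.node [4,3,2] (.node [2,4,3] (.node [5,5,3,2] (.node [4,3,5,3] (.node [3,3,3,5,2] (.node [2,3,5,3,4,2] .nil .nil) .nil) (.node [2,5,5,2,2,2] (.node [2,5,2,4,3,2,2] .nil .nil) .nil)) (.node [5,3,3,3,2] (.node [5,3,2,4,3] (.node [3,3,2,4,2,3] .nil .nil) .nil) (.node [5,2,5,5,2,2] .nil .nil))) (.node [5,4,2,3] (.node [3,2,4,2,2] (.node [2,5,4,2,3] (.node [5,3,4,2,5,2] .nil .nil) .nil) (.node [5,3,2,4,2,2] .nil .nil)) (.node [3,4,3,4,2] (.node [4,3,3,5,3] (.node [3,4,4,2,4,3] .nil .nil) .nil) (.node [3,3,3,4,3,2] .nil .nil)))) (.node [3,4,2,2] (.node [4,2,5,2] (.node [2,2,3,2,2] (.node [4,3,2,2,3] (.node [3,5,5,4,4,2] .nil .nil) .nil) (.node [5,5,3,3,2,2] (.node [2,4,3,2,4,3,2] .nil .nil) .nil)) (.node [2,2,2,4,2] (.node [2,3,4,4,3] (.node [3,4,4,2,3,3] .nil .nil) .nil) (.node [3,5,3,3,3,2] .nil .nil))) (.node [2,3,4,3] (.node [5,2,5,2,2] (.node [4,3,4,3,3]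 (.node [4,3,3,5,5,2] .nil .nil) .nil) (.node [3,5,5,4,2,2] .nil .nil)) (.node [3,3,5,4,2] (.node [2,5,2,2,2,2] (.node [2,4,3,3,5,3] .nil .nil) .nil) (.node [5,3,2,2,4,2] .nil .nil))))) (.node [5,5,2] (.node [3,2,2,2] (.node [5,3,4,2] (.node [4,3,2,2,2] (.node [3,3,5,5,2] (.node [3,3,3,4,4,2] .nil .nil) .nil) (.node [3,2,3,3,2,2] (.node [4,2,4,2,5,2,2] .nil .nil) .nil)) (.node [2,3,4,3,2] (.node [3,3,3,4,3] (.node [4,3,2,5,2,3] .nil .nil) .nil) (.node [4,4,3,2,3,2] .nil .nil))) (.node [4,4,3,3] (.node [3,4,4,2,2] (.node [5,2,2,3,3] (.node [3,2,3,3,5,2] .nil .nil) .nil) (.node [3,3,4,4,2,2] .nil .nil)) (.node [3,3,4,4,2] (.node [4,2,5,5,3] (.node [5,5,3,3,4,3] .nil .nil) .nil) (.node [4,3,3,5,3,2] .nil .nil)))) (.node [5,2,3,2] (.node [3,2,2,3] (.node [2,4,3,2,2] (.node [5,4,3,2,3] (.node [4,3,5,5,4,2] .nil .nil) .nil) (.node [3,5,4,3,2,2] (.node [2,3,2,3,2,4,2] .nil .nil) .nil)) (.node [4,4,2,4,2] (.node [3,2,2,5,3] (.node [2,3,5,4,3,3]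 .nil .nil) .nil) (.node [4,3,2,4,3,2] .nil .nil))) (.node [3,5,4,3] (.node [2,3,2,3,2] (.node [4,2,5,3,3] (.node [3,5,4,2,2,3] .nil .nil) .nil) (.node [5,4,2,5,2,2] .nil .nil)) (.node [3,4,2,5,2] (.node [3,3,4,2,2,2] (.node [3,3,3,5,2,2,2] .nil .nil) .nil) (.node [5,2,2,3,4,2] .nil .nil)))))) (.node [4,2,2] (.node [4,4,2] (.node [2,5,3] (.node [5,2,4,2] (.node [3,2,2,2,2] (.node [2,2,5,5,2] (.node [2,4,2,4,4,2] .nil .nil) .nil) (.node [3,3,2,3,2,2] (.node [5,5,3,3,4,2,2] .nil .nil) .nil)) (.node [3,5,3,3,2] (.node [2,5,2,4,3] (.node [2,5,4,4,2,3] .nil .nil) .nil) (.node [3,5,2,2,3,2] .nil .nil))) (.node [3,2,3,3] (.node [3,3,4,2,2] (.node [2,3,5,2,3] (.node [2,3,5,2,5,2] .nil .nil) .nil) (.node [3,4,3,4,2,2] .nil .nil)) (.node [3,2,4,4,2] (.node [4,4,3,5,3] (.node [3,4,2,3,4,3] .nil .nil) .nil) (.node [3,2,3,5,3,2] .nil .nil)))) (.node [3,5,2,2] (.node [5,3,5,2] (.node [2,3,3,2,2] (.node [3,2,3,2,3] (.node [4,3,3,5,4,2] .nil .nil) .nil)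 (.node [3,3,4,3,2,2] (.node [3,5,3,3,4,3,2] .nil .nil) .nil)) (.node [2,3,2,4,2] (.node [4,2,5,4,3] (.node [2,5,2,4,3,3] .nil .nil) .nil) (.node [2,2,5,3,3,2] .nil .nil))) (.node [2,4,4,3] (.node [5,3,5,2,2] (.node [5,4,4,3,3] (.node [4,3,3,2,2,3] .nil .nil) .nil) (.node [5,3,2,5,2,2] .nil .nil)) (.node [3,2,2,5,2] (.node [3,5,3,2,2,2] (.node [4,3,3,2,2,2,2] .nil .nil) .nil) (.node [2,5,4,2,4,2] .nil .nil))))) (.node [5,2,3] (.node [3,3,2,2] (.node [2,5,4,2] (.node [4,4,2,2,2] (.node [3,2,2,2,3] (.node [3,5,3,4,4,2] .nil .nil) .nil) (.node [5,3,3,3,2,2] (.node [2,3,4,3,2,3,2] .nil .nil) .nil)) (.node [2,3,5,3,2] (.node [2,5,3,4,3] (.node [4,3,2,2,3,3] .nil .nil) .nil) (.node [3,3,3,3,3,2] .nil .nil))) (.node [5,5,3,3] (.node [5,5,4,2,2] (.node [4,4,2,3,3] (.node [5,2,2,5,5,2] .nil .nil) .nil) (.node [2,2,5,4,2,2] .nil .nil)) (.node [5,5,4,4,2] (.node [3,3,2,2,2,2] (.node [3,2,3,4,4,3] .nil .nil) .nil) (.node [5,2,5,5,3,2] .nil .nil))))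 (.node [2,4,3,2] (.node [4,3,2,3] (.node [2,5,3,2,2] (.node [3,2,4,2,3] (.node [2,2,4,2,5,2] .nil .nil) .nil) (.node [5,3,5,3,2,2] (.node [2,3,4,4,2,2,3] .nil .nil) .nil)) (.node [3,2,3,4,2] (.node [4,3,2,5,3] (.node [4,3,3,5,3,3] .nil .nil) .nil) (.node [5,5,2,4,3,2] .nil .nil))) (.node [4,2,5,3] (.node [5,5,2,3,2] (.node [2,5,5,3,3] (.node [3,3,4,3,2,3] .nil .nil) .nil) (.node [4,2,3,5,2,2] .nil .nil)) (.node [5,5,2,5,2] (.node [5,4,4,2,2,2] (.node [3,3,2,3,3,2,2] .nil .nil) .nil) (.node [5,4,2,3,4,2] .nil .nil)))))))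

/-- A part. -/
noncomputable def centWords1_2 : Arr (List ℕ) :=
  (.node [2] centWords1_0 centWords1_1)

/-- A part. -/
noncomputable def centWords1_3 : Arr (List ℕ) :=
  (.node [3,2] (.node [3,3] (.node [3,3,2] (.node [5,3,3] (.node [3,5,3,2] (.node [3,3,5,3] (.node [2,3,3,5,2] (.node [4,3,4,3,4,2] .nil .nil) .nil) (.node [3,3,5,2,2,2] (.node [5,4,2,4,3,2,2] .nil .nil) .nil)) (.node [4,3,3,3,2] (.node [4,3,2,4,3] (.node [4,2,2,4,2,3] .nil .nil) .nil) (.node [3,4,3,5,2,2] .nil .nil))) (.node [4,4,2,3] (.node [2,2,4,2,2] (.node [5,4,4,2,3] (.node [4,3,4,2,5,2] .nil .nil) .nil) (.node [4,3,2,4,2,2] .nil .nil)) (.node [5,3,3,4,2] (.node [2,3,3,5,3] (.node [2,5,3,2,4,3] .nil .nil) .nil) (.node [4,2,3,4,3,2] .nil .nil)))) (.node [2,4,2,2] (.node [2,2,5,2] (.node [5,5,2,2,2] (.node [3,3,2,2,3] (.node [4,3,5,4,4,2] .nil .nil) .nil) (.node [2,5,3,3,2,2] (.node [2,3,5,3,3,3,2] .nil .nil) .nil)) (.node [3,5,5,3,2] (.node [4,2,4,4,3] (.node [3,5,3,2,3,3]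 .nil .nil) .nil) (.node [2,5,3,3,3,2] .nil .nil))) (.node [5,2,4,3] (.node [4,2,5,2,2] (.node [3,3,4,3,3] (.node [2,3,3,5,5,2] .nil .nil) .nil) (.node [4,3,5,4,2,2] .nil .nil)) (.node [5,2,5,4,2] (.node [4,4,2,2,2,2] (.node [5,2,4,2,5,3] .nil .nil) .nil) (.node [5,3,5,5,3,2] .nil .nil))))) (.node [3,5,2] (.node [2,2,2,2] (.node [4,3,4,2] (.node [3,3,2,2,2] (.node [2,3,5,5,2] (.node [4,2,3,4,4,2] .nil .nil) .nil) (.node [2,2,3,3,2,2] (.node [3,3,5,4,4,2,2] .nil .nil) .nil)) (.node [5,2,4,3,2] (.node [5,2,3,4,3] (.node [3,3,2,5,2,3] .nil .nil) .nil) (.node [3,4,3,2,3,2] .nil .nil))) (.node [3,4,3,3] (.node [2,4,4,2,2] (.node [3,2,2,3,3] (.node [3,4,2,3,5,2] .nil .nil) .nil) (.node [2,3,4,4,2,2] .nil .nil)) (.node [2,3,4,4,2] (.node [5,5,3,5,3] (.node [3,4,3,3,4,3] .nil .nil) .nil) (.node [3,3,3,5,3,2] .nil .nil)))) (.node [3,2,3,2] (.node [2,2,2,3] (.node [5,3,3,2,2] (.node [3,4,3,2,3] (.node [3,3,5,5,4,2] .nil .nil) .nil) (.node [2,5,4,3,2,2]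 (.node [2,5,5,2,2,4,2] .nil .nil) .nil)) (.node [3,4,2,4,2] (.node [4,3,5,4,3] (.node [3,5,3,4,3,3] .nil .nil) .nil) (.node [2,3,2,4,3,2] .nil .nil))) (.node [2,5,4,3] (.node [5,2,2,3,2] (.node [3,2,5,3,3] (.node [5,4,4,2,2,3] .nil .nil) .nil) (.node [4,4,2,5,2,2] .nil .nil)) (.node [2,4,2,5,2] (.node [2,3,4,2,2,2] (.node [5,3,5,3,2,2,2] .nil .nil) .nil) (.node [3,2,2,3,4,2] .nil .nil)))))) (.node [3,2,2] (.node [3,4,2] (.node [5,4,3] (.node [4,2,4,2] (.node [2,2,2,2,2] (.node [3,5,3,5,2] (.node [5,3,2,4,4,2] .nil .nil) .nil) (.node [2,3,2,3,2,2] (.node [4,4,3,3,4,2,2] .nil .nil) .nil)) (.node [2,5,3,3,2] (.node [5,4,2,4,3] (.node [5,3,4,4,2,3] .nil .nil) .nil) (.node [4,3,2,2,3,2] .nil .nil))) (.node [2,2,3,3] (.node [2,3,4,2,2] (.node [4,2,5,2,3] (.node [4,2,5,2,5,2] .nil .nil) .nil) (.node [5,3,3,4,2,2] .nil .nil)) (.node [2,2,4,4,2] (.node [3,4,3,5,3] (.node [2,4,2,3,4,3] .nil .nil) .nil) (.node [2,2,3,5,3,2] .nil .nil)))) (.node [2,5,2,2]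 (.node [3,3,5,2] (.node [5,2,3,2,2] (.node [5,4,2,2,3] (.node [2,3,3,5,4,2] .nil .nil) .nil) (.node [5,2,4,3,2,2] (.node [5,5,4,2,4,3,2] .nil .nil) .nil)) (.node [5,2,2,4,2] (.node [3,5,4,4,3] (.node [5,4,2,4,3,3] .nil .nil) .nil) (.node [2,5,4,3,3,2] .nil .nil))) (.node [5,3,4,3] (.node [4,3,5,2,2] (.node [3,4,4,3,3] (.node [3,4,2,2,2,3] .nil .nil) .nil) (.node [4,3,2,5,2,2] .nil .nil)) (.node [2,2,2,5,2] (.node [5,4,3,2,2,2] (.node [3,3,3,2,2,2,2] .nil .nil) .nil) (.node [3,4,4,2,4,2] .nil .nil))))) (.node [4,2,3] (.node [2,3,2,2] (.node [5,4,4,2] (.node [3,4,2,2,2] (.node [2,2,2,2,3] (.node [2,5,3,4,4,2] .nil .nil) .nil) (.node [4,3,3,3,2,2] (.node [2,4,3,2,2,3,2] .nil .nil) .nil)) (.node [3,4,4,3,2] (.node [4,4,3,4,3] (.node [3,3,2,2,3,3] .nil .nil) .nil) (.node [2,3,3,3,3,2] .nil .nil))) (.node [3,5,3,3] (.node [3,5,4,2,2] (.node [2,4,2,3,3] (.node [3,2,2,5,5,2] .nil .nil) .nil) (.node [5,5,4,4,2,2] .nil .nil)) (.node [3,5,4,4,2]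 (.node [4,2,2,2,2,2] (.node [2,4,2,4,4,3] .nil .nil) .nil) (.node [3,2,5,5,3,2] .nil .nil)))) (.node [5,3,3,2] (.node [2,3,2,3] (.node [5,4,3,2,2] (.node [2,2,4,2,3] (.node [3,4,2,2,5,2] .nil .nil) .nil) (.node [5,2,5,3,2,2] (.node [2,2,3,3,5,5,2] .nil .nil) .nil)) (.node [2,2,3,4,2] (.node [3,3,2,5,3] (.node [3,4,2,5,3,3] .nil .nil) .nil) (.node [3,5,2,4,3,2] .nil .nil))) (.node [3,2,5,3] (.node [5,3,2,3,2] (.node [5,3,5,3,3] (.node [5,5,2,3,2,3] .nil .nil) .nil) (.node [5,5,2,5,2,2] .nil .nil)) (.node [3,5,2,5,2] (.node [3,4,4,2,2,2] (.node [5,2,2,3,3,2,2] .nil .nil) .nil) (.node [4,4,2,3,4,2] .nil .nil)))))))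

/-- A part. -/
noncomputable def centWords1_4 : Arr (List ℕ) :=
  (.node [5,2] (.node [5,3] (.node [5,3,2] (.node [3,4,3] (.node [2,2,4,2] (.node [5,3,5,3] (.node [4,3,3,5,2] (.node [4,2,2,4,4,2] .nil .nil) .nil) (.node [3,5,5,2,2,2] (.node [4,3,3,4,3,2,2] .nil .nil) .nil)) (.node [2,4,3,3,2] (.node [3,4,2,4,3] (.node [4,2,4,4,2,3] .nil .nil) .nil) (.node [2,3,2,2,3,2] .nil .nil))) (.node [2,5,2,3] (.node [4,2,4,2,2] (.node [3,5,4,2,3] (.node [2,4,4,2,5,2] .nil .nil) .nil) (.node [3,5,2,4,2,2] .nil .nil)) (.node [4,4,3,4,2] (.node [5,3,3,5,3] (.node [2,5,4,2,4,3] .nil .nil) .nil) (.node [5,3,3,4,3,2] .nil .nil)))) (.node [4,4,2,2] (.node [5,2,5,2] (.node [3,2,3,2,2] (.node [3,4,2,2,3] (.node [5,2,2,5,4,2] .nil .nil) .nil) (.node [3,2,4,3,2,2] (.node [2,5,4,2,4,3,2] .nil .nil) .nil)) (.node [3,2,2,4,2] (.node [5,3,4,4,3] (.node [2,4,2,4,3,3] .nil .nil) .nil) (.node [5,5,3,3,3,2] .nil .nil))) (.node [3,3,4,3] (.node [2,3,5,2,2] (.node [5,3,4,3,3]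 (.node [5,2,2,2,2,3] .nil .nil) .nil) (.node [2,2,2,5,2,2] .nil .nil)) (.node [4,3,5,4,2] (.node [4,3,3,2,2,2] (.node [5,4,3,3,5,3] .nil .nil) .nil) (.node [5,5,2,2,4,2] .nil .nil))))) (.node [2,2,3] (.node [4,2,2,2] (.node [2,4,4,2] (.node [5,3,2,2,2] (.node [4,3,5,5,2] (.node [2,4,3,4,4,2] .nil .nil) .nil) (.node [5,2,3,3,2,2] (.node [2,3,4,2,5,2,2] .nil .nil) .nil)) (.node [3,3,4,3,2] (.node [4,3,3,4,3] (.node [4,3,3,5,2,3] .nil .nil) .nil) (.node [3,2,3,3,3,2] .nil .nil))) (.node [5,4,3,3] (.node [5,4,4,2,2] (.node [3,3,2,3,3] (.node [2,2,5,3,5,2] .nil .nil) .nil) (.node [4,3,4,4,2,2] .nil .nil)) (.node [4,3,4,4,2] (.node [2,2,2,2,2,2] (.node [3,2,2,4,4,3] .nil .nil) .nil) (.node [5,3,3,5,3,2] .nil .nil)))) (.node [3,3,3,2] (.node [4,2,2,3] (.node [3,4,3,2,2] (.node [3,5,3,2,3] (.node [2,2,2,2,5,2] .nil .nil) .nil) (.node [5,5,4,3,2,2] (.node [4,3,4,4,2,4,2] .nil .nil) .nil)) (.node [5,4,2,4,2] (.node [4,2,2,5,3] (.node [4,3,5,4,3,3]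 .nil .nil) .nil) (.node [2,4,2,4,3,2] .nil .nil))) (.node [5,5,4,3] (.node [3,3,2,3,2] (.node [3,3,5,3,3] (.node [2,3,2,3,2,3] .nil .nil) .nil) (.node [2,5,2,5,2,2] .nil .nil)) (.node [4,4,2,5,2] (.node [4,3,4,2,2,2] (.node [2,2,5,5,2,2,2] .nil .nil) .nil) (.node [2,3,2,3,4,2] .nil .nil)))))) (.node [5,2,2] (.node [5,4,2] (.node [3,5,3] (.node [2,3,4,2] (.node [4,2,2,2,2] (.node [3,2,5,5,2] (.node [5,4,2,4,4,2] .nil .nil) .nil) (.node [4,3,2,3,2,2] (.node [3,3,2,4,4,2,2] .nil .nil) .nil)) (.node [3,2,4,3,2] (.node [3,5,2,4,3] (.node [5,2,5,4,2,3] .nil .nil) .nil) (.node [4,2,3,2,3,2] .nil .nil))) (.node [4,2,3,3] (.node [4,3,4,2,2] (.node [3,3,5,2,3] (.node [3,3,5,2,5,2] .nil .nil) .nil) (.node [4,4,3,4,2,2] .nil .nil)) (.node [4,2,4,4,2] (.node [2,5,3,5,3] (.node [4,4,2,3,4,3] .nil .nil) .nil) (.node [4,2,3,5,3,2] .nil .nil)))) (.node [5,5,2,2] (.node [2,5,5,2] (.node [3,3,3,2,2] (.node [4,2,3,2,3] (.node [5,3,3,5,4,2] .nil .nil) .nil)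 (.node [5,3,4,3,2,2] (.node [2,5,3,3,5,3,2] .nil .nil) .nil)) (.node [5,3,2,4,2] (.node [5,2,5,4,3] (.node [2,3,3,4,3,3] .nil .nil) .nil) (.node [5,2,5,3,3,2] .nil .nil))) (.node [3,4,4,3] (.node [2,5,5,2,2] (.node [3,5,4,3,3] (.node [4,3,4,2,2,3] .nil .nil) .nil) (.node [2,4,2,5,2,2] .nil .nil)) (.node [4,2,2,5,2] (.node [5,5,3,2,2,2] (.node [2,2,5,2,2,2,2] .nil .nil) .nil) (.node [3,5,4,2,4,2] .nil .nil))))) (.node [2,3,3] (.node [4,3,2,2] (.node [3,5,4,2] (.node [5,4,2,2,2] (.node [4,2,2,2,3] (.node [5,5,3,4,4,2] .nil .nil) .nil) (.node [3,4,3,3,2,2] (.node [3,4,3,3,3,3,2] .nil .nil) .nil)) (.node [3,3,5,3,2] (.node [5,5,3,4,3] (.node [2,3,3,2,3,3] .nil .nil) .nil) (.node [4,3,3,3,3,2] .nil .nil))) (.node [3,2,4,3] (.node [2,2,5,2,2] (.node [4,2,4,3,3] (.node [2,3,2,5,5,2] .nil .nil) .nil) (.node [2,3,5,4,2,2] .nil .nil)) (.node [2,2,5,4,2] (.node [4,3,2,2,2,2] (.node [4,4,2,5,4,3] .nil .nil) .nil) (.node [3,3,5,5,3,2] .nil .nil))))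 (.node [3,4,3,2] (.node [5,3,2,3] (.node [3,5,3,2,2] (.node [2,4,4,2,3] (.node [4,2,4,2,5,2] .nil .nil) .nil) (.node [3,5,5,3,2,2] (.node [4,3,5,3,4,3,3] .nil .nil) .nil)) (.node [4,2,3,4,2] (.node [2,4,2,5,3] (.node [5,3,3,2,4,3] .nil .nil) .nil) (.node [2,2,3,4,3,2] .nil .nil))) (.node [5,2,5,3] (.node [2,3,3,3,2] (.node [2,3,2,4,3] (.node [2,5,4,3,2,3] .nil .nil) .nil) (.node [5,2,3,5,2,2] .nil .nil)) (.node [3,2,3,5,2] (.node [3,5,4,2,2,2] (.node [5,4,3,3,3,2,2] .nil .nil) .nil) (.node [2,5,2,3,4,2] .nil .nil)))))))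

/-- A part. -/
noncomputable def centWords1_5 : Arr (List ℕ) :=
  (.node [3] centWords1_3 centWords1_4)

/-- A part. -/
noncomputable def centWords1_6 : Arr (List ℕ) :=
  (.node [] centWords1_2 centWords1_5)

/-- The array. -/
noncomputable def centWords1 : Arr (List ℕ) := centWords1_6

/-- A part. -/
noncomputable def centPos1_0 : Arr ℕ :=
  (.node 0 (.node 162 (.node 0 (.node 398 (.node 0 (.node 128 (.node 276 (.node 0 .nil .nil) (.node 554 .nil .nil)) (.node 110 (.node 306 .nil .nil) .nil)) (.node 0 (.node 0 (.node 0 .nil .nil) (.node 313 .nil .nil)) (.node 0 (.node 64 .nil .nil) .nil))) (.node 262 (.node 114 (.node 432 (.node 154 .nil .nil) (.node 0 .nil .nil)) (.node 0 (.node 0 .nil .nil) .nil)) (.node 0 (.node 0 (.node 0 .nil .nil) (.node 327 .nil .nil)) (.node 650 (.node 0 .nil .nil) .nil)))) (.node 0 (.node 0 (.node 0 (.node 0 (.node 0 .nil .nil) (.node 0 .nil .nil)) (.node 0 (.node 0 .nil .nil) .nil)) (.node 0 (.node 290 (.node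 357 .nil .nil) (.node 373 .nil .nil)) (.node 401 (.node 0 .nil .nil) .nil))) (.node 0 (.node 646 (.node 0 (.node 0 .nil .nil) (.node 54 .nil .nil)) (.node 0 (.node 0 .nil .nil) .nil)) (.node 0 (.node 80 (.node 0 .nil .nil) (.node 0 .nil .nil)) (.node 0 (.node 219 .nil .nil) .nil))))) (.node 0 (.node 0 (.node 0 (.node 0 (.node 336 (.node 0 .nil .nil) (.node 528 .nil .nil)) (.node 0 (.node 302 .nil .nil) .nil)) (.node 0 (.node 581 (.node 333 .nil .nil) (.node 0 .nil .nil)) (.node 0 (.node 325 .nil .nil) .nil))) (.node 0 (.node 0 (.node 0 (.node 0 .nil .nil) (.node 0 .nil .nil)) (.node 0 (.node 0 .nil .nil) .nil)) (.node 0 (.node 0 (.node 0 .nil .nil) (.node 0 .nil .nil)) (.node 237 (.node 344 .nil .nil) .nil)))) (.node 515 (.node 0 (.node 0 (.node 321 (.node 112 .nil .nil) (.node 0 .nil .nil)) (.node 411 (.node 0 .nil .nil) .nil)) (.node 0 (.node 0 (.node 613 .nil .nil) (.node 0 .nil .nil)) (.node 303 (.node 534 .nil .nil) .nil))) (.node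 0 (.node 317 (.node 0 (.node 523 .nil .nil) (.node 0 .nil .nil)) (.node 0 (.node 0 .nil .nil) .nil)) (.node 361 (.node 0 (.node 0 .nil .nil) (.node 0 .nil .nil)) (.node 0 (.node 151 .nil .nil) .nil)))))) (.node 229 (.node 386 (.node 427 (.node 0 (.node 0 (.node 0 (.node 0 .nil .nil) (.node 0 .nil .nil)) (.node 0 (.node 0 .nil .nil) .nil)) (.node 172 (.node 0 (.node 0 .nil .nil) (.node 215 .nil .nil)) (.node 279 (.node 0 .nil .nil) .nil))) (.node 0 (.node 424 (.node 502 (.node 0 .nil .nil) (.node 0 .nil .nil)) (.node 583 (.node 0 .nil .nil) .nil)) (.node 0 (.node 0 (.node 0 .nil .nil) (.node 0 .nil .nil)) (.node 16 (.node 210 .nil .nil) .nil)))) (.node 190 (.node 304 (.node 0 (.node 433 (.node 328 .nil .nil) (.node 566 .nil .nil)) (.node 131 (.node 0 .nil .nil) .nil)) (.node 529 (.node 0 (.node 0 .nil .nil) (.node 446 .nil .nil)) (.node 0 (.node 429 .nil .nil) .nil))) (.node 0 (.node 0 (.node 0 (.node 0 .nil .nil) (.node 0 .nil .nil)) (.node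 0 (.node 406 .nil .nil) .nil)) (.node 519 (.node 436 (.node 0 .nil .nil) (.node 0 .nil .nil)) (.node 234 (.node 287 .nil .nil) .nil))))) (.node 0 (.node 0 (.node 0 (.node 0 (.node 0 (.node 60 .nil .nil) (.node 608 .nil .nil)) (.node 0 (.node 0 .nil .nil) .nil)) (.node 0 (.node 364 (.node 348 .nil .nil) (.node 0 .nil .nil)) (.node 265 (.node 0 .nil .nil) .nil))) (.node 0 (.node 249 (.node 395 (.node 0 .nil .nil) (.node 0 .nil .nil)) (.node 285 (.node 450 .nil .nil) .nil)) (.node 0 (.node 0 (.node 88 .nil .nil) (.node 0 .nil .nil)) (.node 538 (.node 607 .nil .nil) .nil)))) (.node 622 (.node 23 (.node 0 (.node 0 (.node 0 .nil .nil) (.node 0 .nil .nil)) (.node 0 (.node 351 .nil .nil) .nil)) (.node 0 (.node 0 (.node 283 .nil .nil) (.node 0 .nil .nil)) (.node 0 (.node 0 .nil .nil) .nil))) (.node 0 (.node 0 (.node 498 (.node 665 .nil .nil) (.node 0 .nil .nil)) (.node 31 (.node 0 .nil .nil) .nil)) (.node 0 (.node 0 (.node 0 .nil .nil) .nil) (.node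 0 (.node 0 .nil .nil) .nil)))))))

/-- A part. -/
noncomputable def centPos1_1 : Arr ℕ :=
  (.node 0 (.node 96 (.node 0 (.node 0 (.node 0 (.node 610 (.node 0 (.node 27 .nil .nil) (.node 0 .nil .nil)) (.node 0 (.node 0 .nil .nil) .nil)) (.node 434 (.node 0 (.node 0 .nil .nil) (.node 0 .nil .nil)) (.node 0 (.node 7 .nil .nil) .nil))) (.node 0 (.node 0 (.node 0 (.node 0 .nil .nil) (.node 0 .nil .nil)) (.node 98 (.node 594 .nil .nil) .nil)) (.node 0 (.node 443 (.node 670 .nil .nil) (.node 0 .nil .nil)) (.node 51 (.node 0 .nil .nil) .nil)))) (.node 0 (.node 0 (.node 322 (.node 311 (.node 0 .nil .nil) (.node 0 .nil .nil)) (.node 0 (.node 0 .nil .nil) .nil)) (.node 0 (.node 86 (.node 0 .nil .nil) (.node 0 .nil .nil)) (.node 0 (.node 0 .nil .nil) .nil))) (.node 0 (.node 0 (.node 0 (.node 0 .nil .nil) (.node 0 .nil .nil)) (.node 483 (.node 0 .nil .nil) .nil)) (.node 0 (.node 0 (.node 403 .nil .nil) (.node 225 .nil .nil)) (.node 0 (.node 579 .nil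 .nil) .nil))))) (.node 0 (.node 355 (.node 204 (.node 0 (.node 0 (.node 0 .nil .nil) (.node 0 .nil .nil)) (.node 0 (.node 0 .nil .nil) .nil)) (.node 0 (.node 0 (.node 14 .nil .nil) (.node 153 .nil .nil)) (.node 158 (.node 648 .nil .nil) .nil))) (.node 0 (.node 0 (.node 0 (.node 358 .nil .nil) (.node 0 .nil .nil)) (.node 0 (.node 0 .nil .nil) .nil)) (.node 0 (.node 662 (.node 70 .nil .nil) (.node 0 .nil .nil)) (.node 0 (.node 0 .nil .nil) .nil)))) (.node 0 (.node 0 (.node 0 (.node 0 (.node 62 .nil .nil) (.node 0 .nil .nil)) (.node 47 (.node 0 .nil .nil) .nil)) (.node 604 (.node 0 (.node 264 .nil .nil) (.node 442 .nil .nil)) (.node 299 (.node 0 .nil .nil) .nil))) (.node 367 (.node 489 (.node 0 (.node 0 .nil .nil) (.node 457 .nil .nil)) (.node 0 (.node 180 .nil .nil) .nil)) (.node 0 (.node 28 (.node 0 .nil .nil) (.node 0 .nil .nil)) (.node 305 (.node 381 .nil .nil) .nil)))))) (.node 0 (.node 0 (.node 0 (.node 156 (.node 0 (.node 0 (.node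 248 .nil .nil) (.node 208 .nil .nil)) (.node 0 (.node 507 .nil .nil) .nil)) (.node 0 (.node 422 (.node 628 .nil .nil) (.node 222 .nil .nil)) (.node 0 (.node 173 .nil .nil) .nil))) (.node 323 (.node 0 (.node 0 (.node 0 .nil .nil) (.node 620 .nil .nil)) (.node 590 (.node 55 .nil .nil) .nil)) (.node 493 (.node 0 (.node 0 .nil .nil) (.node 0 .nil .nil)) (.node 0 (.node 533 .nil .nil) .nil)))) (.node 0 (.node 0 (.node 0 (.node 85 (.node 0 .nil .nil) (.node 0 .nil .nil)) (.node 0 (.node 0 .nil .nil) .nil)) (.node 557 (.node 0 (.node 445 .nil .nil) (.node 0 .nil .nil)) (.node 0 (.node 0 .nil .nil) .nil))) (.node 0 (.node 356 (.node 0 (.node 0 .nil .nil) (.node 0 .nil .nil)) (.node 0 (.node 5 .nil .nil) .nil)) (.node 0 (.node 232 (.node 0 .nil .nil) (.node 201 .nil .nil)) (.node 0 (.node 467 .nil .nil) .nil))))) (.node 347 (.node 0 (.node 0 (.node 0 (.node 428 (.node 0 .nil .nil) (.node 375 .nil .nil)) (.node 0 (.node 0 .nil .nil) .nil)) (.node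 0 (.node 431 (.node 244 .nil .nil) (.node 203 .nil .nil)) (.node 0 (.node 0 .nil .nil) .nil))) (.node 563 (.node 0 (.node 0 (.node 0 .nil .nil) (.node 0 .nil .nil)) (.node 11 (.node 0 .nil .nil) .nil)) (.node 312 (.node 224 (.node 0 .nil .nil) (.node 564 .nil .nil)) (.node 0 (.node 0 .nil .nil) .nil)))) (.node 0 (.node 0 (.node 0 (.node 0 (.node 56 .nil .nil) (.node 0 .nil .nil)) (.node 0 (.node 0 .nil .nil) .nil)) (.node 0 (.node 635 (.node 117 .nil .nil) (.node 526 .nil .nil)) (.node 0 (.node 0 .nil .nil) .nil))) (.node 115 (.node 0 (.node 0 (.node 400 .nil .nil) (.node 647 .nil .nil)) (.node 0 (.node 40 .nil .nil) .nil)) (.node 288 (.node 0 (.node 365 .nil .nil) .nil) (.node 0 (.node 0 .nil .nil) .nil)))))))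

/-- A part. -/
noncomputable def centPos1_2 : Arr ℕ :=
  (.node 420 centPos1_0 centPos1_1)

/-- A part. -/
noncomputable def centPos1_3 : Arr ℕ :=
  (.node 0 (.node 0 (.node 547 (.node 509 (.node 0 (.node 123 (.node 0 (.node 301 .nil .nil) (.node 44 .nil .nil)) (.node 0 (.node 135 .nil .nil) .nil)) (.node 0 (.node 0 (.node 0 .nil .nil) (.node 103 .nil .nil)) (.node 0 (.node 0 .nil .nil) .nil))) (.node 0 (.node 0 (.node 585 (.node 0 .nil .nil) (.node 0 .nil .nil)) (.node 671 (.node 0 .nil .nil) .nil)) (.node 0 (.node 0 (.node 213 .nil .nil) (.node 0 .nil .nil)) (.node 0 (.node 617 .nil .nil) .nil)))) (.node 0 (.node 425 (.node 601 (.node 0 (.node 0 .nil .nil) (.node 0 .nil .nil)) (.node 593 (.node 0 .nil .nil) .nil)) (.node 0 (.node 0 (.node 399 .nil .nil) (.node 0 .nil .nil)) (.node 0 (.node 0 .nil .nil) .nil))) (.node 0 (.node 342 (.node 0 (.node 0 .nil .nil) (.node 277 .nil .nil)) (.node 0 (.node 544 .nil .nil) .nil)) (.node 0 (.node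 0 (.node 0 .nil .nil) (.node 0 .nil .nil)) (.node 0 (.node 545 .nil .nil) .nil))))) (.node 0 (.node 0 (.node 0 (.node 0 (.node 0 (.node 0 .nil .nil) (.node 0 .nil .nil)) (.node 631 (.node 0 .nil .nil) .nil)) (.node 0 (.node 0 (.node 0 .nil .nil) (.node 419 .nil .nil)) (.node 274 (.node 326 .nil .nil) .nil))) (.node 152 (.node 0 (.node 0 (.node 527 .nil .nil) (.node 0 .nil .nil)) (.node 0 (.node 494 .nil .nil) .nil)) (.node 0 (.node 0 (.node 0 .nil .nil) (.node 0 .nil .nil)) (.node 0 (.node 0 .nil .nil) .nil)))) (.node 0 (.node 0 (.node 0 (.node 0 (.node 0 .nil .nil) (.node 0 .nil .nil)) (.node 181 (.node 216 .nil .nil) .nil)) (.node 0 (.node 0 (.node 0 .nil .nil) (.node 654 .nil .nil)) (.node 38 (.node 0 .nil .nil) .nil))) (.node 595 (.node 0 (.node 0 (.node 461 .nil .nil) (.node 516 .nil .nil)) (.node 260 (.node 667 .nil .nil) .nil)) (.node 45 (.node 125 (.node 0 .nil .nil) (.node 0 .nil .nil)) (.node 94 (.node 296 .nil .nil) .nil))))))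 (.node 0 (.node 481 (.node 0 (.node 573 (.node 394 (.node 169 (.node 0 .nil .nil) (.node 0 .nil .nil)) (.node 92 (.node 626 .nil .nil) .nil)) (.node 541 (.node 0 (.node 34 .nil .nil) (.node 0 .nil .nil)) (.node 0 (.node 63 .nil .nil) .nil))) (.node 0 (.node 453 (.node 314 (.node 0 .nil .nil) (.node 408 .nil .nil)) (.node 175 (.node 658 .nil .nil) .nil)) (.node 0 (.node 562 (.node 0 .nil .nil) (.node 0 .nil .nil)) (.node 0 (.node 0 .nil .nil) .nil)))) (.node 266 (.node 397 (.node 49 (.node 551 (.node 32 .nil .nil) (.node 0 .nil .nil)) (.node 372 (.node 0 .nil .nil) .nil)) (.node 0 (.node 0 (.node 588 .nil .nil) (.node 294 .nil .nil)) (.node 0 (.node 0 .nil .nil) .nil))) (.node 0 (.node 462 (.node 0 (.node 548 .nil .nil) (.node 101 .nil .nil)) (.node 0 (.node 0 .nil .nil) .nil)) (.node 506 (.node 0 (.node 0 .nil .nil) (.node 0 .nil .nil)) (.node 0 (.node 0 .nil .nil) .nil))))) (.node 0 (.node 0 (.node 0 (.node 149 (.node 597 (.node 0 .nil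 .nil) (.node 298 .nil .nil)) (.node 663 (.node 0 .nil .nil) .nil)) (.node 0 (.node 0 (.node 438 .nil .nil) (.node 0 .nil .nil)) (.node 0 (.node 0 .nil .nil) .nil))) (.node 0 (.node 346 (.node 0 (.node 531 .nil .nil) (.node 0 .nil .nil)) (.node 0 (.node 0 .nil .nil) .nil)) (.node 0 (.node 0 (.node 0 .nil .nil) (.node 0 .nil .nil)) (.node 0 (.node 0 .nil .nil) .nil)))) (.node 0 (.node 587 (.node 0 (.node 140 (.node 0 .nil .nil) (.node 0 .nil .nil)) (.node 71 (.node 0 .nil .nil) .nil)) (.node 615 (.node 0 (.node 0 .nil .nil) (.node 9 .nil .nil)) (.node 0 (.node 0 .nil .nil) .nil))) (.node 0 (.node 437 (.node 160 (.node 0 .nil .nil) (.node 0 .nil .nil)) (.node 0 (.node 157 .nil .nil) .nil)) (.node 576 (.node 0 (.node 343 .nil .nil) .nil) (.node 0 (.node 0 .nil .nil) .nil)))))))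

/-- A part. -/
noncomputable def centPos1_4 : Arr ℕ :=
  (.node 612 (.node 0 (.node 0 (.node 379 (.node 179 (.node 454 (.node 0 (.node 163 .nil .nil) (.node 0 .nil .nil)) (.node 0 (.node 278 .nil .nil) .nil)) (.node 0 (.node 458 (.node 623 .nil .nil) (.node 0 .nil .nil)) (.node 0 (.node 251 .nil .nil) .nil))) (.node 0 (.node 469 (.node 0 (.node 0 .nil .nil) (.node 0 .nil .nil)) (.node 0 (.node 0 .nil .nil) .nil)) (.node 0 (.node 0 (.node 0 .nil .nil) (.node 0 .nil .nil)) (.node 0 (.node 259 .nil .nil) .nil)))) (.node 0 (.node 0 (.node 387 (.node 0 (.node 0 .nil .nil) (.node 0 .nil .nil)) (.node 600 (.node 99 .nil .nil) .nil)) (.node 0 (.node 0 (.node 127 .nil .nil) (.node 0 .nil .nil)) (.node 235 (.node 0 .nil .nil) .nil))) (.node 0 (.node 0 (.node 0 (.node 0 .nil .nil) (.node 636 .nil .nil)) (.node 136 (.node 0 .nil .nil) .nil)) (.node 227 (.node 0 (.node 0 .nil .nil) (.node 471 .nil .nil)) (.node 0 (.node 0 .nil .nil) .nil))))) (.node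 592 (.node 0 (.node 0 (.node 0 (.node 0 (.node 0 .nil .nil) (.node 0 .nil .nil)) (.node 0 (.node 0 .nil .nil) .nil)) (.node 0 (.node 0 (.node 0 .nil .nil) (.node 465 .nil .nil)) (.node 0 (.node 0 .nil .nil) .nil))) (.node 0 (.node 0 (.node 503 (.node 616 .nil .nil) (.node 0 .nil .nil)) (.node 0 (.node 0 .nil .nil) .nil)) (.node 0 (.node 74 (.node 0 .nil .nil) (.node 0 .nil .nil)) (.node 0 (.node 0 .nil .nil) .nil)))) (.node 0 (.node 269 (.node 0 (.node 532 (.node 0 .nil .nil) (.node 0 .nil .nil)) (.node 0 (.node 0 .nil .nil) .nil)) (.node 426 (.node 517 (.node 78 .nil .nil) (.node 0 .nil .nil)) (.node 521 (.node 0 .nil .nil) .nil))) (.node 478 (.node 660 (.node 669 (.node 0 .nil .nil) (.node 0 .nil .nil)) (.node 0 (.node 0 .nil .nil) .nil)) (.node 42 (.node 0 (.node 0 .nil .nil) (.node 0 .nil .nil)) (.node 0 (.node 536 .nil .nil) .nil)))))) (.node 0 (.node 73 (.node 240 (.node 0 (.node 0 (.node 0 (.node 0 .nil .nil) (.node 300 .nil .nil))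 (.node 0 (.node 0 .nil .nil) .nil)) (.node 0 (.node 0 (.node 2 .nil .nil) (.node 37 .nil .nil)) (.node 0 (.node 565 .nil .nil) .nil))) (.node 0 (.node 0 (.node 0 (.node 0 .nil .nil) (.node 0 .nil .nil)) (.node 349 (.node 337 .nil .nil) .nil)) (.node 0 (.node 464 (.node 0 .nil .nil) (.node 0 .nil .nil)) (.node 496 (.node 385 .nil .nil) .nil)))) (.node 627 (.node 0 (.node 0 (.node 390 (.node 111 .nil .nil) (.node 353 .nil .nil)) (.node 0 (.node 307 .nil .nil) .nil)) (.node 69 (.node 0 (.node 0 .nil .nil) (.node 0 .nil .nil)) (.node 0 (.node 0 .nil .nil) .nil))) (.node 0 (.node 0 (.node 8 (.node 0 .nil .nil) (.node 293 .nil .nil)) (.node 0 (.node 22 .nil .nil) .nil)) (.node 193 (.node 0 (.node 0 .nil .nil) (.node 659 .nil .nil)) (.node 0 (.node 132 .nil .nil) .nil))))) (.node 484 (.node 0 (.node 456 (.node 0 (.node 499 (.node 0 .nil .nil) (.node 596 .nil .nil)) (.node 370 (.node 247 .nil .nil) .nil)) (.node 0 (.node 0 (.node 0 .nil .nil)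 (.node 200 .nil .nil)) (.node 124 (.node 0 .nil .nil) .nil))) (.node 0 (.node 185 (.node 245 (.node 231 .nil .nil) (.node 0 .nil .nil)) (.node 0 (.node 492 .nil .nil) .nil)) (.node 91 (.node 76 (.node 335 .nil .nil) (.node 0 .nil .nil)) (.node 0 (.node 0 .nil .nil) .nil)))) (.node 0 (.node 0 (.node 0 (.node 629 (.node 159 .nil .nil) (.node 0 .nil .nil)) (.node 0 (.node 0 .nil .nil) .nil)) (.node 632 (.node 0 (.node 0 .nil .nil) (.node 0 .nil .nil)) (.node 568 (.node 0 .nil .nil) .nil))) (.node 560 (.node 0 (.node 0 (.node 0 .nil .nil) (.node 0 .nil .nil)) (.node 0 (.node 18 .nil .nil) .nil)) (.node 107 (.node 0 (.node 0 .nil .nil) .nil) (.node 0 (.node 382 .nil .nil) .nil)))))))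

/-- A part. -/
noncomputable def centPos1_5 : Arr ℕ :=
  (.node 0 centPos1_3 centPos1_4)

/-- A part. -/
noncomputable def centPos1_6 : Arr ℕ :=
  (.node 0 centPos1_2 centPos1_5)

/-- A part. -/
noncomputable def centPos1_7 : Arr ℕ :=
  (.node 205 (.node 638 (.node 552 (.node 238 (.node 0 (.node 417 (.node 0 (.node 0 .nil .nil) (.node 57 .nil .nil)) (.node 0 (.node 0 .nil .nil) .nil)) (.node 0 (.node 189 (.node 0 .nil .nil) (.node 0 .nil .nil)) (.node 0 (.node 0 .nil .nil) .nil))) (.node 0 (.node 310 (.node 0 (.node 642 .nil .nil) (.node 0 .nil .nil)) (.node 0 (.node 0 .nil .nil) .nil)) (.node 35 (.node 177 (.node 0 .nil .nil) (.node 505 .nil .nil)) (.node 0 (.node 0 .nil .nil) .nil)))) (.node 0 (.node 630 (.node 619 (.node 0 (.node 362 .nil .nil) (.node 466 .nil .nil)) (.node 380 (.node 0 .nil .nil) .nil)) (.node 0 (.node 146 (.node 267 .nil .nil) (.node 0 .nil .nil)) (.node 0 (.node 261 .nil .nil) .nil))) (.node 256 (.node 0 (.node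 0 (.node 0 .nil .nil) (.node 59 .nil .nil)) (.node 0 (.node 0 .nil .nil) .nil)) (.node 500 (.node 29 (.node 0 .nil .nil) (.node 0 .nil .nil)) (.node 0 (.node 206 .nil .nil) .nil))))) (.node 282 (.node 578 (.node 0 (.node 0 (.node 535 (.node 0 .nil .nil) (.node 36 .nil .nil)) (.node 0 (.node 0 .nil .nil) .nil)) (.node 0 (.node 504 (.node 624 .nil .nil) (.node 0 .nil .nil)) (.node 448 (.node 0 .nil .nil) .nil))) (.node 24 (.node 0 (.node 0 (.node 0 .nil .nil) (.node 0 .nil .nil)) (.node 0 (.node 0 .nil .nil) .nil)) (.node 0 (.node 0 (.node 0 .nil .nil) (.node 116 .nil .nil)) (.node 0 (.node 0 .nil .nil) .nil)))) (.node 0 (.node 0 (.node 0 (.node 0 (.node 46 .nil .nil) (.node 0 .nil .nil)) (.node 221 (.node 0 .nil .nil) .nil)) (.node 0 (.node 0 (.node 275 .nil .nil) (.node 0 .nil .nil)) (.node 83 (.node 199 .nil .nil) .nil))) (.node 0 (.node 474 (.node 0 (.node 223 .nil .nil) (.node 144 .nil .nil)) (.node 0 (.node 376 .nil .nil) .nil)) (.node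 0 (.node 270 (.node 514 .nil .nil) (.node 0 .nil .nil)) (.node 0 (.node 118 .nil .nil) .nil)))))) (.node 67 (.node 0 (.node 0 (.node 392 (.node 559 (.node 0 (.node 639 .nil .nil) (.node 30 .nil .nil)) (.node 0 (.node 524 .nil .nil) .nil)) (.node 0 (.node 0 (.node 0 .nil .nil) (.node 0 .nil .nil)) (.node 0 (.node 360 .nil .nil) .nil))) (.node 0 (.node 0 (.node 166 (.node 0 .nil .nil) (.node 396 .nil .nil)) (.node 0 (.node 0 .nil .nil) .nil)) (.node 0 (.node 0 (.node 447 .nil .nil) (.node 0 .nil .nil)) (.node 0 (.node 50 .nil .nil) .nil)))) (.node 106 (.node 0 (.node 0 (.node 297 (.node 263 .nil .nil) (.node 129 .nil .nil)) (.node 0 (.node 0 .nil .nil) .nil)) (.node 416 (.node 668 (.node 0 .nil .nil) (.node 490 .nil .nil)) (.node 0 (.node 480 .nil .nil) .nil))) (.node 0 (.node 455 (.node 0 (.node 230 .nil .nil) (.node 0 .nil .nil)) (.node 0 (.node 95 .nil .nil) .nil)) (.node 407 (.node 0 (.node 0 .nil .nil) (.node 81 .nil .nil)) (.node 0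 (.node 0 .nil .nil) .nil))))) (.node 410 (.node 488 (.node 0 (.node 0 (.node 0 (.node 0 .nil .nil) (.node 0 .nil .nil)) (.node 0 (.node 0 .nil .nil) .nil)) (.node 0 (.node 236 (.node 202 .nil .nil) (.node 194 .nil .nil)) (.node 0 (.node 393 .nil .nil) .nil))) (.node 161 (.node 188 (.node 0 (.node 212 .nil .nil) (.node 217 .nil .nil)) (.node 253 (.node 0 .nil .nil) .nil)) (.node 0 (.node 510 (.node 39 .nil .nil) (.node 89 .nil .nil)) (.node 0 (.node 13 .nil .nil) .nil)))) (.node 0 (.node 0 (.node 0 (.node 0 (.node 0 .nil .nil) (.node 0 .nil .nil)) (.node 0 (.node 0 .nil .nil) .nil)) (.node 0 (.node 0 (.node 187 .nil .nil) (.node 0 .nil .nil)) (.node 0 (.node 0 .nil .nil) .nil))) (.node 289 (.node 0 (.node 0 (.node 540 .nil .nil) (.node 316 .nil .nil)) (.node 192 (.node 0 .nil .nil) .nil)) (.node 254 (.node 90 (.node 0 .nil .nil) .nil) (.node 340 (.node 0 .nil .nil) .nil)))))))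

/-- A part. -/
noncomputable def centPos1_8 : Arr ℕ :=
  (.node 0 (.node 0 (.node 0 (.node 611 (.node 574 (.node 0 (.node 0 (.node 0 .nil .nil) (.node 126 .nil .nil)) (.node 657 (.node 0 .nil .nil) .nil)) (.node 228 (.node 0 (.node 65 .nil .nil) (.node 491 .nil .nil)) (.node 0 (.node 0 .nil .nil) .nil))) (.node 0 (.node 0 (.node 435 (.node 100 .nil .nil) (.node 168 .nil .nil)) (.node 570 (.node 0 .nil .nil) .nil)) (.node 226 (.node 0 (.node 104 .nil .nil) (.node 0 .nil .nil)) (.node 0 (.node 0 .nil .nil) .nil)))) (.node 255 (.node 0 (.node 0 (.node 0 (.node 0 .nil .nil) (.node 295 .nil .nil)) (.node 61 (.node 0 .nil .nil) .nil)) (.node 0 (.node 0 (.node 511 .nil .nil) (.node 0 .nil .nil)) (.node 0 (.node 0 .nil .nil) .nil))) (.node 0 (.node 449 (.node 0 (.node 477 .nil .nil) (.node 0 .nil .nil)) (.node 0 (.node 388 .nil .nil) .nil)) (.node 0 (.node 0 (.node 0 .nil .nil) (.node 0 .nil .nil)) (.node 0 (.node 0 .nil .nil) .nil))))) (.node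 664 (.node 0 (.node 584 (.node 0 (.node 0 (.node 0 .nil .nil) (.node 164 .nil .nil)) (.node 195 (.node 651 .nil .nil) .nil)) (.node 0 (.node 0 (.node 0 .nil .nil) (.node 0 .nil .nil)) (.node 0 (.node 241 .nil .nil) .nil))) (.node 0 (.node 0 (.node 0 (.node 167 .nil .nil) (.node 625 .nil .nil)) (.node 268 (.node 0 .nil .nil) .nil)) (.node 0 (.node 0 (.node 0 .nil .nil) (.node 513 .nil .nil)) (.node 473 (.node 0 .nil .nil) .nil)))) (.node 0 (.node 0 (.node 0 (.node 0 (.node 0 .nil .nil) (.node 0 .nil .nil)) (.node 186 (.node 0 .nil .nil) .nil)) (.node 0 (.node 143 (.node 12 .nil .nil) (.node 0 .nil .nil)) (.node 0 (.node 0 .nil .nil) .nil))) (.node 549 (.node 68 (.node 0 (.node 0 .nil .nil) (.node 0 .nil .nil)) (.node 0 (.node 0 .nil .nil) .nil)) (.node 0 (.node 0 (.node 586 .nil .nil) (.node 0 .nil .nil)) (.node 0 (.node 0 .nil .nil) .nil)))))) (.node 53 (.node 0 (.node 0 (.node 666 (.node 0 (.node 0 (.node 87 .nil .nil) (.node 0 .nil .nil))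 (.node 0 (.node 0 .nil .nil) .nil)) (.node 0 (.node 284 (.node 0 .nil .nil) (.node 0 .nil .nil)) (.node 0 (.node 377 .nil .nil) .nil))) (.node 324 (.node 0 (.node 315 (.node 341 .nil .nil) (.node 133 .nil .nil)) (.node 520 (.node 0 .nil .nil) .nil)) (.node 0 (.node 0 (.node 485 .nil .nil) (.node 543 .nil .nil)) (.node 0 (.node 0 .nil .nil) .nil)))) (.node 0 (.node 0 (.node 0 (.node 0 (.node 77 .nil .nil) (.node 0 .nil .nil)) (.node 0 (.node 0 .nil .nil) .nil)) (.node 0 (.node 0 (.node 497 .nil .nil) (.node 609 .nil .nil)) (.node 0 (.node 0 .nil .nil) .nil))) (.node 0 (.node 0 (.node 644 (.node 569 .nil .nil) (.node 0 .nil .nil)) (.node 10 (.node 281 .nil .nil) .nil)) (.node 0 (.node 145 (.node 0 .nil .nil) (.node 0 .nil .nil)) (.node 0 (.node 139 .nil .nil) .nil))))) (.node 52 (.node 368 (.node 369 (.node 0 (.node 105 (.node 0 .nil .nil) (.node 233 .nil .nil)) (.node 0 (.node 0 .nil .nil) .nil)) (.node 0 (.node 0 (.node 430 .nil .nil)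 (.node 522 .nil .nil)) (.node 605 (.node 0 .nil .nil) .nil))) (.node 0 (.node 421 (.node 0 (.node 0 .nil .nil) (.node 0 .nil .nil)) (.node 384 (.node 0 .nil .nil) .nil)) (.node 0 (.node 463 (.node 0 .nil .nil) (.node 0 .nil .nil)) (.node 0 (.node 414 .nil .nil) .nil)))) (.node 598 (.node 0 (.node 0 (.node 0 (.node 0 .nil .nil) (.node 332 .nil .nil)) (.node 0 (.node 0 .nil .nil) .nil)) (.node 0 (.node 0 (.node 141 .nil .nil) (.node 0 .nil .nil)) (.node 0 (.node 0 .nil .nil) .nil))) (.node 618 (.node 271 (.node 1 (.node 405 .nil .nil) (.node 319 .nil .nil)) (.node 0 (.node 580 .nil .nil) .nil)) (.node 350 (.node 0 (.node 330 .nil .nil) .nil) (.node 482 (.node 645 .nil .nil) .nil)))))))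

/-- A part. -/
noncomputable def centPos1_9 : Arr ℕ :=
  (.node 0 centPos1_7 centPos1_8)

/-- A part. -/
noncomputable def centPos1_10 : Arr ℕ :=
  (.node 475 (.node 0 (.node 3 (.node 25 (.node 0 (.node 0 (.node 0 (.node 0 .nil .nil) (.node 93 .nil .nil)) (.node 0 (.node 0 .nil .nil) .nil)) (.node 525 (.node 0 (.node 0 .nil .nil) (.node 0 .nil .nil)) (.node 0 (.node 561 .nil .nil) .nil))) (.node 0 (.node 0 (.node 0 (.node 134 .nil .nil) (.node 0 .nil .nil)) (.node 174 (.node 0 .nil .nil) .nil)) (.node 0 (.node 0 (.node 184 .nil .nil) (.node 26 .nil .nil)) (.node 0 (.node 113 .nil .nil) .nil)))) (.node 0 (.node 0 (.node 0 (.node 614 (.node 352 .nil .nil) (.node 0 .nil .nil)) (.node 0 (.node 0 .nil .nil) .nil)) (.node 655 (.node 0 (.node 0 .nil .nil) (.node 0 .nil .nil)) (.node 0 (.node 0 .nil .nil) .nil))) (.node 0 (.node 198 (.node 0 (.node 0 .nil .nil) (.node 182 .nil .nil)) (.node 0 (.node 0 .nil .nil) .nil)) (.node 0 (.node 383 (.node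 0 .nil .nil) (.node 0 .nil .nil)) (.node 0 (.node 606 .nil .nil) .nil))))) (.node 633 (.node 0 (.node 0 (.node 0 (.node 0 (.node 0 .nil .nil) (.node 413 .nil .nil)) (.node 0 (.node 518 .nil .nil) .nil)) (.node 197 (.node 0 (.node 165 .nil .nil) (.node 0 .nil .nil)) (.node 0 (.node 82 .nil .nil) .nil))) (.node 0 (.node 0 (.node 0 (.node 0 .nil .nil) (.node 48 .nil .nil)) (.node 0 (.node 487 .nil .nil) .nil)) (.node 0 (.node 571 (.node 0 .nil .nil) (.node 0 .nil .nil)) (.node 171 (.node 0 .nil .nil) .nil)))) (.node 191 (.node 0 (.node 84 (.node 0 (.node 17 .nil .nil) (.node 404 .nil .nil)) (.node 0 (.node 0 .nil .nil) .nil)) (.node 0 (.node 0 (.node 286 .nil .nil) (.node 257 .nil .nil)) (.node 0 (.node 0 .nil .nil) .nil))) (.node 0 (.node 0 (.node 142 (.node 567 .nil .nil) (.node 6 .nil .nil)) (.node 0 (.node 637 .nil .nil) .nil)) (.node 0 (.node 0 (.node 0 .nil .nil) (.node 120 .nil .nil)) (.node 320 (.node 0 .nil .nil) .nil)))))) (.node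 130 (.node 273 (.node 558 (.node 643 (.node 599 (.node 0 (.node 479 .nil .nil) (.node 0 .nil .nil)) (.node 0 (.node 0 .nil .nil) .nil)) (.node 0 (.node 0 (.node 0 .nil .nil) (.node 0 .nil .nil)) (.node 0 (.node 589 .nil .nil) .nil))) (.node 0 (.node 0 (.node 0 (.node 0 .nil .nil) (.node 0 .nil .nil)) (.node 0 (.node 0 .nil .nil) .nil)) (.node 0 (.node 0 (.node 0 .nil .nil) (.node 0 .nil .nil)) (.node 0 (.node 0 .nil .nil) .nil)))) (.node 0 (.node 0 (.node 0 (.node 280 (.node 0 .nil .nil) (.node 621 .nil .nil)) (.node 0 (.node 252 .nil .nil) .nil)) (.node 470 (.node 0 (.node 582 .nil .nil) (.node 0 .nil .nil)) (.node 0 (.node 0 .nil .nil) .nil))) (.node 0 (.node 0 (.node 0 (.node 334 .nil .nil) (.node 258 .nil .nil)) (.node 0 (.node 0 .nil .nil) .nil)) (.node 575 (.node 415 (.node 0 .nil .nil) (.node 292 .nil .nil)) (.node 0 (.node 374 .nil .nil) .nil))))) (.node 412 (.node 75 (.node 0 (.node 0 (.node 0 (.node 0 .nil .nil) (.node 0 .nil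 .nil)) (.node 0 (.node 0 .nil .nil) .nil)) (.node 0 (.node 0 (.node 0 .nil .nil) (.node 0 .nil .nil)) (.node 0 (.node 0 .nil .nil) .nil))) (.node 0 (.node 0 (.node 0 (.node 0 .nil .nil) (.node 0 .nil .nil)) (.node 66 (.node 0 .nil .nil) .nil)) (.node 0 (.node 0 (.node 553 .nil .nil) (.node 0 .nil .nil)) (.node 0 (.node 459 .nil .nil) .nil)))) (.node 656 (.node 0 (.node 0 (.node 0 (.node 0 .nil .nil) (.node 0 .nil .nil)) (.node 0 (.node 0 .nil .nil) .nil)) (.node 572 (.node 0 (.node 0 .nil .nil) (.node 591 .nil .nil)) (.node 0 (.node 0 .nil .nil) .nil))) (.node 0 (.node 0 (.node 0 (.node 0 .nil .nil) (.node 0 .nil .nil)) (.node 148 (.node 641 .nil .nil) .nil)) (.node 0 (.node 440 (.node 418 .nil .nil) .nil) (.node 331 (.node 0 .nil .nil) .nil)))))))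

/-- A part. -/
noncomputable def centPos1_11 : Arr ℕ :=
  (.node 0 (.node 58 (.node 338 (.node 0 (.node 0 (.node 0 (.node 0 (.node 409 .nil .nil) (.node 0 .nil .nil)) (.node 196 (.node 0 .nil .nil) .nil)) (.node 472 (.node 0 (.node 121 .nil .nil) (.node 508 .nil .nil)) (.node 318 (.node 0 .nil .nil) .nil))) (.node 0 (.node 0 (.node 72 (.node 246 .nil .nil) (.node 119 .nil .nil)) (.node 0 (.node 250 .nil .nil) .nil)) (.node 138 (.node 452 (.node 0 .nil .nil) (.node 329 .nil .nil)) (.node 0 (.node 0 .nil .nil) .nil)))) (.node 0 (.node 486 (.node 0 (.node 102 (.node 0 .nil .nil) (.node 0 .nil .nil)) (.node 0 (.node 0 .nil .nil) .nil)) (.node 0 (.node 218 (.node 0 .nil .nil) (.node 0 .nil .nil)) (.node 0 (.node 0 .nil .nil) .nil))) (.node 108 (.node 0 (.node 0 (.node 4 .nil .nil) (.node 512 .nil .nil)) (.node 0 (.node 0 .nil .nil) .nil)) (.node 0 (.node 0 (.node 0 .nil .nil) (.node 309 .nil .nil)) (.node 0 (.node 15 .nil .nil) .nil))))) (.node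 0 (.node 0 (.node 0 (.node 0 (.node 0 (.node 0 .nil .nil) (.node 0 .nil .nil)) (.node 0 (.node 33 .nil .nil) .nil)) (.node 0 (.node 0 (.node 546 .nil .nil) (.node 0 .nil .nil)) (.node 0 (.node 0 .nil .nil) .nil))) (.node 0 (.node 0 (.node 0 (.node 308 .nil .nil) (.node 0 .nil .nil)) (.node 0 (.node 345 .nil .nil) .nil)) (.node 0 (.node 147 (.node 495 .nil .nil) (.node 661 .nil .nil)) (.node 0 (.node 0 .nil .nil) .nil)))) (.node 0 (.node 0 (.node 0 (.node 272 (.node 0 .nil .nil) (.node 640 .nil .nil)) (.node 0 (.node 402 .nil .nil) .nil)) (.node 0 (.node 0 (.node 0 .nil .nil) (.node 220 .nil .nil)) (.node 602 (.node 0 .nil .nil) .nil))) (.node 603 (.node 0 (.node 0 (.node 0 .nil .nil) (.node 0 .nil .nil)) (.node 0 (.node 634 .nil .nil) .nil)) (.node 460 (.node 0 (.node 0 .nil .nil) .nil) (.node 0 (.node 0 .nil .nil) .nil)))))) (.node 150 (.node 550 (.node 211 (.node 178 (.node 0 (.node 291 (.node 0 .nil .nil) (.node 243 .nil .nil)) (.node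 0 (.node 649 .nil .nil) .nil)) (.node 556 (.node 0 (.node 214 .nil .nil) (.node 0 .nil .nil)) (.node 371 (.node 0 .nil .nil) .nil))) (.node 0 (.node 0 (.node 0 (.node 0 .nil .nil) (.node 176 .nil .nil)) (.node 359 (.node 0 .nil .nil) .nil)) (.node 0 (.node 423 (.node 391 .nil .nil) (.node 0 .nil .nil)) (.node 155 (.node 137 .nil .nil) .nil)))) (.node 389 (.node 0 (.node 354 (.node 0 (.node 0 .nil .nil) (.node 441 .nil .nil)) (.node 170 (.node 0 .nil .nil) .nil)) (.node 0 (.node 0 (.node 0 .nil .nil) (.node 0 .nil .nil)) (.node 530 (.node 378 .nil .nil) .nil))) (.node 242 (.node 0 (.node 183 (.node 0 .nil .nil) (.node 97 .nil .nil)) (.node 444 (.node 0 .nil .nil) .nil)) (.node 0 (.node 0 (.node 79 .nil .nil) (.node 0 .nil .nil)) (.node 0 (.node 0 .nil .nil) .nil))))) (.node 653 (.node 0 (.node 0 (.node 0 (.node 43 (.node 439 .nil .nil) (.node 0 .nil .nil)) (.node 537 (.node 501 .nil .nil) .nil)) (.node 0 (.node 0 (.node 539 .nil .nil) (.node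 239 .nil .nil)) (.node 0 (.node 0 .nil .nil) .nil))) (.node 0 (.node 0 (.node 19 (.node 0 .nil .nil) (.node 0 .nil .nil)) (.node 451 (.node 366 .nil .nil) .nil)) (.node 0 (.node 109 (.node 207 .nil .nil) (.node 0 .nil .nil)) (.node 0 (.node 41 .nil .nil) .nil)))) (.node 476 (.node 0 (.node 0 (.node 0 (.node 0 .nil .nil) (.node 0 .nil .nil)) (.node 0 (.node 0 .nil .nil) .nil)) (.node 20 (.node 0 (.node 0 .nil .nil) (.node 21 .nil .nil)) (.node 0 (.node 555 .nil .nil) .nil))) (.node 0 (.node 339 (.node 0 (.node 0 .nil .nil) (.node 363 .nil .nil)) (.node 0 (.node 0 .nil .nil) .nil)) (.node 468 (.node 209 (.node 0 .nil .nil) .nil) (.node 652 (.node 542 .nil .nil) .nil)))))))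

/-- A part. -/
noncomputable def centPos1_12 : Arr ℕ :=
  (.node 577 centPos1_10 centPos1_11)

/-- A part. -/
noncomputable def centPos1_13 : Arr ℕ :=
  (.node 122 centPos1_9 centPos1_12)

/-- A part. -/
noncomputable def centPos1_14 : Arr ℕ :=
  (.node 0 centPos1_6 centPos1_13)

/-- The array. -/
noncomputable def centPos1 : Arr ℕ := centPos1_14

/-- A part. -/
noncomputable def centWords2_0 : Arr (List ℕ) :=
  (.node [] (.node [4] (.node [4,4] (.node [5,5,4] .nil .nil) .nil) (.node [5,5] .nil .nil)) (.node [5] (.node [5,4] (.node [5,5,4,4] .nil .nil) .nil) (.node [5,4,4] .nil .nil)))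

/-- The array. -/
noncomputable def centWords2 : Arr (List ℕ) := centWords2_0

/-- A part. -/
noncomputable def centPos2_0 : Arr ℕ :=
  (.node 0 (.node 0 (.node 0 (.node 0 (.node 0 (.node 0 (.node 0 (.node 0 .nil .nil) (.node 0 .nil .nil)) (.node 0 (.node 0 .nil .nil) .nil)) (.node 0 (.node 0 (.node 0 .nil .nil) (.node 0 .nil .nil)) (.node 0 (.node 0 .nil .nil) .nil))) (.node 0 (.node 0 (.node 0 (.node 0 .nil .nil) (.node 0 .nil .nil)) (.node 0 (.node 0 .nil .nil) .nil)) (.node 0 (.node 0 (.node 0 .nil .nil) (.node 0 .nil .nil)) (.node 0 (.node 0 .nil .nil) .nil)))) (.node 0 (.node 0 (.node 0 (.node 0 (.node 0 .nil .nil) (.node 0 .nil .nil)) (.node 0 (.node 0 .nil .nil) .nil)) (.node 0 (.node 0 (.node 0 .nil .nil) (.node 0 .nil .nil)) (.node 0 (.node 0 .nil .nil) .nil))) (.node 0 (.node 0 (.node 0 (.node 0 .nil .nil) (.node 0 .nil .nil)) (.node 0 (.node 0 .nil .nil) .nil)) (.node 0 (.node 0 (.node 0 .nil .nil) (.node 0 .nil .nil)) (.node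 0 (.node 0 .nil .nil) .nil))))) (.node 0 (.node 0 (.node 0 (.node 0 (.node 0 (.node 0 .nil .nil) (.node 0 .nil .nil)) (.node 0 (.node 0 .nil .nil) .nil)) (.node 0 (.node 0 (.node 0 .nil .nil) (.node 0 .nil .nil)) (.node 0 (.node 0 .nil .nil) .nil))) (.node 0 (.node 0 (.node 0 (.node 0 .nil .nil) (.node 0 .nil .nil)) (.node 0 (.node 0 .nil .nil) .nil)) (.node 0 (.node 0 (.node 0 .nil .nil) (.node 0 .nil .nil)) (.node 0 (.node 0 .nil .nil) .nil)))) (.node 0 (.node 0 (.node 0 (.node 0 (.node 0 .nil .nil) (.node 0 .nil .nil)) (.node 0 (.node 0 .nil .nil) .nil)) (.node 0 (.node 0 (.node 0 .nil .nil) (.node 0 .nil .nil)) (.node 0 (.node 0 .nil .nil) .nil))) (.node 0 (.node 0 (.node 0 (.node 0 .nil .nil) (.node 0 .nil .nil)) (.node 0 (.node 0 .nil .nil) .nil)) (.node 0 (.node 0 (.node 0 .nil .nil) (.node 0 .nil .nil)) (.node 0 (.node 0 .nil .nil) .nil)))))) (.node 0 (.node 0 (.node 0 (.node 0 (.node 0 (.node 0 (.node 0 .nil .nil) (.node 0 .nil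 .nil)) (.node 0 (.node 0 .nil .nil) .nil)) (.node 0 (.node 0 (.node 0 .nil .nil) (.node 0 .nil .nil)) (.node 0 (.node 0 .nil .nil) .nil))) (.node 0 (.node 0 (.node 0 (.node 0 .nil .nil) (.node 0 .nil .nil)) (.node 0 (.node 0 .nil .nil) .nil)) (.node 0 (.node 0 (.node 0 .nil .nil) (.node 0 .nil .nil)) (.node 0 (.node 0 .nil .nil) .nil)))) (.node 0 (.node 0 (.node 0 (.node 0 (.node 0 .nil .nil) (.node 0 .nil .nil)) (.node 0 (.node 0 .nil .nil) .nil)) (.node 0 (.node 0 (.node 0 .nil .nil) (.node 0 .nil .nil)) (.node 0 (.node 0 .nil .nil) .nil))) (.node 0 (.node 0 (.node 0 (.node 0 .nil .nil) (.node 0 .nil .nil)) (.node 0 (.node 0 .nil .nil) .nil)) (.node 0 (.node 0 (.node 0 .nil .nil) (.node 0 .nil .nil)) (.node 0 (.node 0 .nil .nil) .nil))))) (.node 0 (.node 0 (.node 0 (.node 0 (.node 0 (.node 0 .nil .nil) (.node 0 .nil .nil)) (.node 0 (.node 0 .nil .nil) .nil)) (.node 0 (.node 0 (.node 0 .nil .nil) (.node 0 .nil .nil)) (.node 0 (.node 0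 .nil .nil) .nil))) (.node 0 (.node 0 (.node 0 (.node 0 .nil .nil) (.node 0 .nil .nil)) (.node 0 (.node 0 .nil .nil) .nil)) (.node 0 (.node 0 (.node 0 .nil .nil) (.node 0 .nil .nil)) (.node 0 (.node 0 .nil .nil) .nil)))) (.node 0 (.node 0 (.node 0 (.node 0 (.node 0 .nil .nil) (.node 0 .nil .nil)) (.node 0 (.node 0 .nil .nil) .nil)) (.node 0 (.node 0 (.node 0 .nil .nil) (.node 0 .nil .nil)) (.node 0 (.node 0 .nil .nil) .nil))) (.node 0 (.node 0 (.node 0 (.node 0 .nil .nil) (.node 0 .nil .nil)) (.node 0 (.node 0 .nil .nil) .nil)) (.node 0 (.node 0 (.node 0 .nil .nil) .nil) (.node 0 (.node 0 .nil .nil) .nil)))))))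

/-- A part. -/
noncomputable def centPos2_1 : Arr ℕ :=
  (.node 0 (.node 0 (.node 0 (.node 0 (.node 0 (.node 0 (.node 0 (.node 0 .nil .nil) (.node 0 .nil .nil)) (.node 0 (.node 0 .nil .nil) .nil)) (.node 0 (.node 0 (.node 0 .nil .nil) (.node 0 .nil .nil)) (.node 0 (.node 0 .nil .nil) .nil))) (.node 0 (.node 0 (.node 0 (.node 0 .nil .nil) (.node 0 .nil .nil)) (.node 0 (.node 0 .nil .nil) .nil)) (.node 0 (.node 0 (.node 0 .nil .nil) (.node 0 .nil .nil)) (.node 0 (.node 0 .nil .nil) .nil)))) (.node 0 (.node 0 (.node 1 (.node 0 (.node 0 .nil .nil) (.node 0 .nil .nil)) (.node 0 (.node 0 .nil .nil) .nil)) (.node 0 (.node 0 (.node 0 .nil .nil) (.node 0 .nil .nil)) (.node 0 (.node 0 .nil .nil) .nil))) (.node 0 (.node 0 (.node 0 (.node 0 .nil .nil) (.node 0 .nil .nil)) (.node 0 (.node 0 .nil .nil) .nil)) (.node 0 (.node 0 (.node 0 .nil .nil) (.node 0 .nil .nil)) (.node 0 (.node 0 .nil .nil) .nil))))) (.node 0 (.node 0 (.node 0 (.node 0 (.node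 0 (.node 0 .nil .nil) (.node 0 .nil .nil)) (.node 0 (.node 0 .nil .nil) .nil)) (.node 0 (.node 0 (.node 0 .nil .nil) (.node 0 .nil .nil)) (.node 0 (.node 0 .nil .nil) .nil))) (.node 0 (.node 0 (.node 0 (.node 0 .nil .nil) (.node 0 .nil .nil)) (.node 0 (.node 0 .nil .nil) .nil)) (.node 0 (.node 0 (.node 0 .nil .nil) (.node 0 .nil .nil)) (.node 0 (.node 0 .nil .nil) .nil)))) (.node 0 (.node 0 (.node 0 (.node 0 (.node 0 .nil .nil) (.node 0 .nil .nil)) (.node 0 (.node 0 .nil .nil) .nil)) (.node 0 (.node 0 (.node 0 .nil .nil) (.node 0 .nil .nil)) (.node 0 (.node 0 .nil .nil) .nil))) (.node 0 (.node 0 (.node 0 (.node 0 .nil .nil) (.node 0 .nil .nil)) (.node 0 (.node 0 .nil .nil) .nil)) (.node 0 (.node 0 (.node 0 .nil .nil) (.node 0 .nil .nil)) (.node 0 (.node 0 .nil .nil) .nil)))))) (.node 0 (.node 0 (.node 0 (.node 0 (.node 0 (.node 0 (.node 0 .nil .nil) (.node 0 .nil .nil)) (.node 0 (.node 0 .nil .nil) .nil)) (.node 0 (.node 0 (.node 0 .nil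 .nil) (.node 0 .nil .nil)) (.node 0 (.node 0 .nil .nil) .nil))) (.node 0 (.node 0 (.node 0 (.node 0 .nil .nil) (.node 0 .nil .nil)) (.node 0 (.node 0 .nil .nil) .nil)) (.node 0 (.node 0 (.node 0 .nil .nil) (.node 0 .nil .nil)) (.node 0 (.node 0 .nil .nil) .nil)))) (.node 0 (.node 0 (.node 0 (.node 0 (.node 0 .nil .nil) (.node 0 .nil .nil)) (.node 0 (.node 0 .nil .nil) .nil)) (.node 0 (.node 0 (.node 0 .nil .nil) (.node 0 .nil .nil)) (.node 0 (.node 0 .nil .nil) .nil))) (.node 0 (.node 0 (.node 0 (.node 0 .nil .nil) (.node 0 .nil .nil)) (.node 0 (.node 0 .nil .nil) .nil)) (.node 0 (.node 0 (.node 0 .nil .nil) (.node 0 .nil .nil)) (.node 0 (.node 0 .nil .nil) .nil))))) (.node 0 (.node 0 (.node 0 (.node 0 (.node 0 (.node 0 .nil .nil) (.node 0 .nil .nil)) (.node 0 (.node 0 .nil .nil) .nil)) (.node 0 (.node 0 (.node 0 .nil .nil) (.node 0 .nil .nil)) (.node 0 (.node 0 .nil .nil) .nil))) (.node 0 (.node 0 (.node 0 (.node 0 .nil .nil) (.node 0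 .nil .nil)) (.node 0 (.node 0 .nil .nil) .nil)) (.node 0 (.node 0 (.node 0 .nil .nil) (.node 0 .nil .nil)) (.node 0 (.node 0 .nil .nil) .nil)))) (.node 0 (.node 0 (.node 0 (.node 0 (.node 0 .nil .nil) (.node 0 .nil .nil)) (.node 0 (.node 0 .nil .nil) .nil)) (.node 0 (.node 0 (.node 0 .nil .nil) (.node 0 .nil .nil)) (.node 0 (.node 0 .nil .nil) .nil))) (.node 0 (.node 0 (.node 0 (.node 0 .nil .nil) (.node 0 .nil .nil)) (.node 0 (.node 0 .nil .nil) .nil)) (.node 0 (.node 0 (.node 0 .nil .nil) .nil) (.node 0 (.node 0 .nil .nil) .nil)))))))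

/-- A part. -/
noncomputable def centPos2_2 : Arr ℕ :=
  (.node 0 centPos2_0 centPos2_1)

/-- A part. -/
noncomputable def centPos2_3 : Arr ℕ :=
  (.node 0 (.node 0 (.node 0 (.node 0 (.node 0 (.node 0 (.node 0 (.node 0 .nil .nil) (.node 0 .nil .nil)) (.node 0 (.node 0 .nil .nil) .nil)) (.node 0 (.node 0 (.node 0 .nil .nil) (.node 0 .nil .nil)) (.node 0 (.node 0 .nil .nil) .nil))) (.node 0 (.node 0 (.node 0 (.node 0 .nil .nil) (.node 0 .nil .nil)) (.node 0 (.node 0 .nil .nil) .nil)) (.node 0 (.node 0 (.node 0 .nil .nil) (.node 0 .nil .nil)) (.node 0 (.node 0 .nil .nil) .nil)))) (.node 0 (.node 0 (.node 0 (.node 0 (.node 0 .nil .nil) (.node 0 .nil .nil)) (.node 0 (.node 0 .nil .nil) .nil)) (.node 0 (.node 0 (.node 0 .nil .nil) (.node 0 .nil .nil)) (.node 0 (.node 0 .nil .nil) .nil))) (.node 0 (.node 0 (.node 0 (.node 0 .nil .nil) (.node 0 .nil .nil)) (.node 0 (.node 0 .nil .nil) .nil)) (.node 0 (.node 0 (.node 0 .nil .nil) (.node 0 .nil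 .nil)) (.node 0 (.node 0 .nil .nil) .nil))))) (.node 0 (.node 0 (.node 0 (.node 0 (.node 0 (.node 0 .nil .nil) (.node 0 .nil .nil)) (.node 0 (.node 0 .nil .nil) .nil)) (.node 0 (.node 0 (.node 0 .nil .nil) (.node 0 .nil .nil)) (.node 0 (.node 0 .nil .nil) .nil))) (.node 0 (.node 0 (.node 0 (.node 0 .nil .nil) (.node 0 .nil .nil)) (.node 0 (.node 0 .nil .nil) .nil)) (.node 0 (.node 0 (.node 0 .nil .nil) (.node 0 .nil .nil)) (.node 0 (.node 0 .nil .nil) .nil)))) (.node 0 (.node 0 (.node 0 (.node 0 (.node 0 .nil .nil) (.node 0 .nil .nil)) (.node 0 (.node 0 .nil .nil) .nil)) (.node 0 (.node 0 (.node 0 .nil .nil) (.node 0 .nil .nil)) (.node 0 (.node 0 .nil .nil) .nil))) (.node 0 (.node 0 (.node 0 (.node 0 .nil .nil) (.node 0 .nil .nil)) (.node 0 (.node 0 .nil .nil) .nil)) (.node 0 (.node 0 (.node 0 .nil .nil) (.node 0 .nil .nil)) (.node 0 (.node 0 .nil .nil) .nil)))))) (.node 0 (.node 0 (.node 0 (.node 0 (.node 0 (.node 0 (.node 0 .nil .nil)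 (.node 0 .nil .nil)) (.node 0 (.node 0 .nil .nil) .nil)) (.node 0 (.node 0 (.node 0 .nil .nil) (.node 0 .nil .nil)) (.node 0 (.node 0 .nil .nil) .nil))) (.node 0 (.node 0 (.node 0 (.node 0 .nil .nil) (.node 0 .nil .nil)) (.node 0 (.node 0 .nil .nil) .nil)) (.node 0 (.node 0 (.node 0 .nil .nil) (.node 0 .nil .nil)) (.node 0 (.node 0 .nil .nil) .nil)))) (.node 0 (.node 0 (.node 0 (.node 0 (.node 0 .nil .nil) (.node 0 .nil .nil)) (.node 0 (.node 0 .nil .nil) .nil)) (.node 0 (.node 0 (.node 0 .nil .nil) (.node 0 .nil .nil)) (.node 0 (.node 0 .nil .nil) .nil))) (.node 0 (.node 0 (.node 0 (.node 0 .nil .nil) (.node 0 .nil .nil)) (.node 0 (.node 0 .nil .nil) .nil)) (.node 0 (.node 0 (.node 0 .nil .nil) (.node 0 .nil .nil)) (.node 0 (.node 0 .nil .nil) .nil))))) (.node 0 (.node 0 (.node 0 (.node 0 (.node 0 (.node 0 .nil .nil) (.node 0 .nil .nil)) (.node 0 (.node 0 .nil .nil) .nil)) (.node 0 (.node 0 (.node 0 .nil .nil) (.node 0 .nil .nil)) (.node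 0 (.node 0 .nil .nil) .nil))) (.node 0 (.node 0 (.node 0 (.node 0 .nil .nil) (.node 0 .nil .nil)) (.node 0 (.node 0 .nil .nil) .nil)) (.node 0 (.node 0 (.node 0 .nil .nil) (.node 0 .nil .nil)) (.node 0 (.node 0 .nil .nil) .nil)))) (.node 0 (.node 0 (.node 0 (.node 0 (.node 0 .nil .nil) (.node 0 .nil .nil)) (.node 0 (.node 0 .nil .nil) .nil)) (.node 0 (.node 0 (.node 0 .nil .nil) (.node 2 .nil .nil)) (.node 0 (.node 0 .nil .nil) .nil))) (.node 0 (.node 0 (.node 0 (.node 0 .nil .nil) (.node 0 .nil .nil)) (.node 0 (.node 0 .nil .nil) .nil)) (.node 0 (.node 0 (.node 0 .nil .nil) .nil) (.node 0 (.node 0 .nil .nil) .nil)))))))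

/-- A part. -/
noncomputable def centPos2_4 : Arr ℕ :=
  (.node 0 (.node 0 (.node 0 (.node 0 (.node 0 (.node 0 (.node 0 (.node 0 .nil .nil) (.node 0 .nil .nil)) (.node 0 (.node 0 .nil .nil) .nil)) (.node 0 (.node 0 (.node 0 .nil .nil) (.node 0 .nil .nil)) (.node 0 (.node 0 .nil .nil) .nil))) (.node 0 (.node 0 (.node 0 (.node 0 .nil .nil) (.node 0 .nil .nil)) (.node 0 (.node 0 .nil .nil) .nil)) (.node 0 (.node 0 (.node 0 .nil .nil) (.node 0 .nil .nil)) (.node 0 (.node 0 .nil .nil) .nil)))) (.node 0 (.node 0 (.node 0 (.node 0 (.node 0 .nil .nil) (.node 0 .nil .nil)) (.node 0 (.node 0 .nil .nil) .nil)) (.node 0 (.node 0 (.node 0 .nil .nil) (.node 0 .nil .nil)) (.node 0 (.node 0 .nil .nil) .nil))) (.node 0 (.node 0 (.node 0 (.node 0 .nil .nil) (.node 0 .nil .nil)) (.node 0 (.node 0 .nil .nil) .nil)) (.node 0 (.node 0 (.node 0 .nil .nil) (.node 0 .nil .nil)) (.node 0 (.node 0 .nil .nil) .nil))))) (.node 0 (.node 0 (.node 0 (.node 0 (.node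 0 (.node 0 .nil .nil) (.node 0 .nil .nil)) (.node 0 (.node 0 .nil .nil) .nil)) (.node 0 (.node 0 (.node 0 .nil .nil) (.node 0 .nil .nil)) (.node 0 (.node 0 .nil .nil) .nil))) (.node 0 (.node 0 (.node 0 (.node 0 .nil .nil) (.node 0 .nil .nil)) (.node 0 (.node 0 .nil .nil) .nil)) (.node 0 (.node 0 (.node 0 .nil .nil) (.node 0 .nil .nil)) (.node 0 (.node 0 .nil .nil) .nil)))) (.node 0 (.node 0 (.node 0 (.node 0 (.node 0 .nil .nil) (.node 0 .nil .nil)) (.node 0 (.node 0 .nil .nil) .nil)) (.node 0 (.node 0 (.node 0 .nil .nil) (.node 0 .nil .nil)) (.node 0 (.node 0 .nil .nil) .nil))) (.node 0 (.node 0 (.node 0 (.node 0 .nil .nil) (.node 0 .nil .nil)) (.node 0 (.node 0 .nil .nil) .nil)) (.node 0 (.node 0 (.node 0 .nil .nil) (.node 0 .nil .nil)) (.node 0 (.node 0 .nil .nil) .nil)))))) (.node 0 (.node 0 (.node 0 (.node 0 (.node 0 (.node 0 (.node 0 .nil .nil) (.node 0 .nil .nil)) (.node 0 (.node 0 .nil .nil) .nil)) (.node 0 (.node 0 (.node 6 .nil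 .nil) (.node 0 .nil .nil)) (.node 0 (.node 0 .nil .nil) .nil))) (.node 0 (.node 0 (.node 0 (.node 0 .nil .nil) (.node 0 .nil .nil)) (.node 0 (.node 0 .nil .nil) .nil)) (.node 0 (.node 0 (.node 0 .nil .nil) (.node 0 .nil .nil)) (.node 0 (.node 0 .nil .nil) .nil)))) (.node 0 (.node 0 (.node 0 (.node 0 (.node 0 .nil .nil) (.node 0 .nil .nil)) (.node 0 (.node 0 .nil .nil) .nil)) (.node 0 (.node 0 (.node 0 .nil .nil) (.node 0 .nil .nil)) (.node 0 (.node 0 .nil .nil) .nil))) (.node 0 (.node 0 (.node 0 (.node 0 .nil .nil) (.node 0 .nil .nil)) (.node 0 (.node 0 .nil .nil) .nil)) (.node 0 (.node 0 (.node 0 .nil .nil) (.node 0 .nil .nil)) (.node 0 (.node 0 .nil .nil) .nil))))) (.node 0 (.node 0 (.node 0 (.node 0 (.node 0 (.node 0 .nil .nil) (.node 0 .nil .nil)) (.node 0 (.node 0 .nil .nil) .nil)) (.node 0 (.node 0 (.node 0 .nil .nil) (.node 0 .nil .nil)) (.node 0 (.node 0 .nil .nil) .nil))) (.node 0 (.node 0 (.node 0 (.node 0 .nil .nil) (.node 0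 .nil .nil)) (.node 0 (.node 0 .nil .nil) .nil)) (.node 0 (.node 0 (.node 0 .nil .nil) (.node 0 .nil .nil)) (.node 0 (.node 0 .nil .nil) .nil)))) (.node 0 (.node 0 (.node 0 (.node 0 (.node 0 .nil .nil) (.node 0 .nil .nil)) (.node 0 (.node 0 .nil .nil) .nil)) (.node 0 (.node 0 (.node 0 .nil .nil) (.node 0 .nil .nil)) (.node 0 (.node 0 .nil .nil) .nil))) (.node 0 (.node 0 (.node 0 (.node 0 .nil .nil) (.node 0 .nil .nil)) (.node 0 (.node 0 .nil .nil) .nil)) (.node 0 (.node 0 (.node 0 .nil .nil) .nil) (.node 0 (.node 0 .nil .nil) .nil)))))))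

/-- A part. -/
noncomputable def centPos2_5 : Arr ℕ :=
  (.node 0 centPos2_3 centPos2_4)

/-- A part. -/
noncomputable def centPos2_6 : Arr ℕ :=
  (.node 0 centPos2_2 centPos2_5)

/-- A part. -/
noncomputable def centPos2_7 : Arr ℕ :=
  (.node 0 (.node 0 (.node 0 (.node 0 (.node 0 (.node 0 (.node 0 (.node 0 .nil .nil) (.node 0 .nil .nil)) (.node 0 (.node 0 .nil .nil) .nil)) (.node 0 (.node 0 (.node 0 .nil .nil) (.node 0 .nil .nil)) (.node 0 (.node 0 .nil .nil) .nil))) (.node 0 (.node 0 (.node 0 (.node 0 .nil .nil) (.node 0 .nil .nil)) (.node 0 (.node 0 .nil .nil) .nil)) (.node 4 (.node 0 (.node 0 .nil .nil) (.node 0 .nil .nil)) (.node 0 (.node 0 .nil .nil) .nil)))) (.node 0 (.node 0 (.node 0 (.node 0 (.node 0 .nil .nil) (.node 0 .nil .nil)) (.node 0 (.node 0 .nil .nil) .nil)) (.node 0 (.node 0 (.node 0 .nil .nil) (.node 0 .nil .nil)) (.node 0 (.node 0 .nil .nil) .nil))) (.node 0 (.node 0 (.node 0 (.node 0 .nil .nil) (.node 0 .nil .nil))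 (.node 0 (.node 0 .nil .nil) .nil)) (.node 0 (.node 0 (.node 0 .nil .nil) (.node 0 .nil .nil)) (.node 0 (.node 0 .nil .nil) .nil))))) (.node 0 (.node 0 (.node 0 (.node 0 (.node 0 (.node 0 .nil .nil) (.node 5 .nil .nil)) (.node 0 (.node 0 .nil .nil) .nil)) (.node 0 (.node 0 (.node 0 .nil .nil) (.node 0 .nil .nil)) (.node 0 (.node 0 .nil .nil) .nil))) (.node 0 (.node 0 (.node 0 (.node 0 .nil .nil) (.node 0 .nil .nil)) (.node 0 (.node 0 .nil .nil) .nil)) (.node 0 (.node 0 (.node 0 .nil .nil) (.node 0 .nil .nil)) (.node 0 (.node 0 .nil .nil) .nil)))) (.node 0 (.node 0 (.node 0 (.node 0 (.node 0 .nil .nil) (.node 0 .nil .nil)) (.node 0 (.node 0 .nil .nil) .nil)) (.node 0 (.node 0 (.node 0 .nil .nil) (.node 0 .nil .nil)) (.node 0 (.node 0 .nil .nil) .nil))) (.node 0 (.node 0 (.node 0 (.node 0 .nil .nil) (.node 0 .nil .nil)) (.node 0 (.node 0 .nil .nil) .nil)) (.node 0 (.node 0 (.node 0 .nil .nil) (.node 0 .nil .nil)) (.node 0 (.node 0 .nil .nil)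 .nil)))))) (.node 0 (.node 0 (.node 0 (.node 0 (.node 0 (.node 0 (.node 0 .nil .nil) (.node 0 .nil .nil)) (.node 0 (.node 0 .nil .nil) .nil)) (.node 0 (.node 0 (.node 0 .nil .nil) (.node 0 .nil .nil)) (.node 0 (.node 0 .nil .nil) .nil))) (.node 0 (.node 0 (.node 0 (.node 0 .nil .nil) (.node 0 .nil .nil)) (.node 0 (.node 0 .nil .nil) .nil)) (.node 0 (.node 0 (.node 0 .nil .nil) (.node 0 .nil .nil)) (.node 0 (.node 0 .nil .nil) .nil)))) (.node 0 (.node 0 (.node 0 (.node 0 (.node 0 .nil .nil) (.node 0 .nil .nil)) (.node 0 (.node 0 .nil .nil) .nil)) (.node 0 (.node 0 (.node 0 .nil .nil) (.node 0 .nil .nil)) (.node 0 (.node 0 .nil .nil) .nil))) (.node 0 (.node 0 (.node 0 (.node 0 .nil .nil) (.node 0 .nil .nil)) (.node 0 (.node 0 .nil .nil) .nil)) (.node 0 (.node 0 (.node 0 .nil .nil) (.node 0 .nil .nil)) (.node 0 (.node 0 .nil .nil) .nil))))) (.node 0 (.node 0 (.node 0 (.node 0 (.node 0 (.node 0 .nil .nil) (.node 0 .nil .nil)) (.node 0 (.node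 0 .nil .nil) .nil)) (.node 0 (.node 0 (.node 0 .nil .nil) (.node 0 .nil .nil)) (.node 0 (.node 0 .nil .nil) .nil))) (.node 0 (.node 0 (.node 0 (.node 0 .nil .nil) (.node 0 .nil .nil)) (.node 0 (.node 0 .nil .nil) .nil)) (.node 0 (.node 0 (.node 3 .nil .nil) (.node 0 .nil .nil)) (.node 0 (.node 0 .nil .nil) .nil)))) (.node 0 (.node 0 (.node 0 (.node 0 (.node 0 .nil .nil) (.node 0 .nil .nil)) (.node 0 (.node 0 .nil .nil) .nil)) (.node 0 (.node 0 (.node 0 .nil .nil) (.node 0 .nil .nil)) (.node 0 (.node 0 .nil .nil) .nil))) (.node 0 (.node 0 (.node 0 (.node 0 .nil .nil) (.node 0 .nil .nil)) (.node 0 (.node 0 .nil .nil) .nil)) (.node 0 (.node 0 (.node 0 .nil .nil) .nil) (.node 0 (.node 0 .nil .nil) .nil)))))))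

/-- A part. -/
noncomputable def centPos2_8 : Arr ℕ :=
  (.node 0 (.node 0 (.node 0 (.node 0 (.node 0 (.node 0 (.node 0 (.node 0 .nil .nil) (.node 0 .nil .nil)) (.node 0 (.node 0 .nil .nil) .nil)) (.node 0 (.node 0 (.node 0 .nil .nil) (.node 0 .nil .nil)) (.node 0 (.node 0 .nil .nil) .nil))) (.node 0 (.node 0 (.node 0 (.node 0 .nil .nil) (.node 0 .nil .nil)) (.node 0 (.node 0 .nil .nil) .nil)) (.node 0 (.node 0 (.node 0 .nil .nil) (.node 0 .nil .nil)) (.node 0 (.node 0 .nil .nil) .nil)))) (.node 0 (.node 0 (.node 0 (.node 0 (.node 0 .nil .nil) (.node 0 .nil .nil)) (.node 0 (.node 0 .nil .nil) .nil)) (.node 0 (.node 0 (.node 0 .nil .nil) (.node 0 .nil .nil)) (.node 0 (.node 0 .nil .nil) .nil))) (.node 0 (.node 0 (.node 0 (.node 0 .nil .nil) (.node 0 .nil .nil)) (.node 0 (.node 0 .nil .nil) .nil)) (.node 0 (.node 0 (.node 0 .nil .nil) (.node 0 .nil .nil)) (.node 0 (.node 0 .nil .nil) .nil))))) (.node 0 (.node 0 (.node 0 (.node 0 (.node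 0 (.node 0 .nil .nil) (.node 0 .nil .nil)) (.node 0 (.node 0 .nil .nil) .nil)) (.node 0 (.node 0 (.node 0 .nil .nil) (.node 0 .nil .nil)) (.node 0 (.node 0 .nil .nil) .nil))) (.node 0 (.node 0 (.node 0 (.node 0 .nil .nil) (.node 0 .nil .nil)) (.node 0 (.node 0 .nil .nil) .nil)) (.node 0 (.node 0 (.node 0 .nil .nil) (.node 0 .nil .nil)) (.node 0 (.node 0 .nil .nil) .nil)))) (.node 0 (.node 0 (.node 0 (.node 0 (.node 0 .nil .nil) (.node 0 .nil .nil)) (.node 0 (.node 0 .nil .nil) .nil)) (.node 0 (.node 0 (.node 0 .nil .nil) (.node 0 .nil .nil)) (.node 0 (.node 0 .nil .nil) .nil))) (.node 0 (.node 0 (.node 0 (.node 0 .nil .nil) (.node 0 .nil .nil)) (.node 0 (.node 0 .nil .nil) .nil)) (.node 0 (.node 0 (.node 0 .nil .nil) (.node 0 .nil .nil)) (.node 0 (.node 0 .nil .nil) .nil)))))) (.node 0 (.node 0 (.node 0 (.node 0 (.node 0 (.node 0 (.node 0 .nil .nil) (.node 0 .nil .nil)) (.node 0 (.node 0 .nil .nil) .nil)) (.node 0 (.node 0 (.node 0 .nil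 .nil) (.node 0 .nil .nil)) (.node 0 (.node 0 .nil .nil) .nil))) (.node 0 (.node 0 (.node 0 (.node 0 .nil .nil) (.node 0 .nil .nil)) (.node 0 (.node 0 .nil .nil) .nil)) (.node 0 (.node 0 (.node 0 .nil .nil) (.node 0 .nil .nil)) (.node 0 (.node 0 .nil .nil) .nil)))) (.node 0 (.node 0 (.node 0 (.node 0 (.node 0 .nil .nil) (.node 0 .nil .nil)) (.node 0 (.node 0 .nil .nil) .nil)) (.node 0 (.node 0 (.node 0 .nil .nil) (.node 0 .nil .nil)) (.node 0 (.node 0 .nil .nil) .nil))) (.node 0 (.node 0 (.node 0 (.node 0 .nil .nil) (.node 0 .nil .nil)) (.node 8 (.node 0 .nil .nil) .nil)) (.node 0 (.node 0 (.node 0 .nil .nil) (.node 0 .nil .nil)) (.node 0 (.node 0 .nil .nil) .nil))))) (.node 0 (.node 0 (.node 0 (.node 0 (.node 0 (.node 0 .nil .nil) (.node 0 .nil .nil)) (.node 0 (.node 0 .nil .nil) .nil)) (.node 0 (.node 0 (.node 0 .nil .nil) (.node 0 .nil .nil)) (.node 0 (.node 0 .nil .nil) .nil))) (.node 0 (.node 0 (.node 0 (.node 0 .nil .nil) (.node 0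 .nil .nil)) (.node 0 (.node 0 .nil .nil) .nil)) (.node 0 (.node 0 (.node 0 .nil .nil) (.node 0 .nil .nil)) (.node 0 (.node 0 .nil .nil) .nil)))) (.node 0 (.node 0 (.node 0 (.node 0 (.node 0 .nil .nil) (.node 0 .nil .nil)) (.node 0 (.node 0 .nil .nil) .nil)) (.node 0 (.node 0 (.node 0 .nil .nil) (.node 0 .nil .nil)) (.node 0 (.node 0 .nil .nil) .nil))) (.node 0 (.node 0 (.node 0 (.node 0 .nil .nil) (.node 0 .nil .nil)) (.node 0 (.node 0 .nil .nil) .nil)) (.node 0 (.node 0 (.node 0 .nil .nil) .nil) (.node 0 (.node 0 .nil .nil) .nil)))))))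

/-- A part. -/
noncomputable def centPos2_9 : Arr ℕ :=
  (.node 0 centPos2_7 centPos2_8)

/-- A part. -/
noncomputable def centPos2_10 : Arr ℕ :=
  (.node 0 (.node 0 (.node 0 (.node 0 (.node 0 (.node 0 (.node 0 (.node 0 .nil .nil) (.node 0 .nil .nil)) (.node 0 (.node 0 .nil .nil) .nil)) (.node 0 (.node 0 (.node 0 .nil .nil) (.node 0 .nil .nil)) (.node 0 (.node 0 .nil .nil) .nil))) (.node 0 (.node 0 (.node 0 (.node 0 .nil .nil) (.node 0 .nil .nil)) (.node 0 (.node 0 .nil .nil) .nil)) (.node 0 (.node 0 (.node 0 .nil .nil) (.node 0 .nil .nil)) (.node 0 (.node 0 .nil .nil) .nil)))) (.node 0 (.node 0 (.node 0 (.node 0 (.node 0 .nil .nil) (.node 0 .nil .nil)) (.node 0 (.node 0 .nil .nil) .nil)) (.node 0 (.node 0 (.node 0 .nil .nil) (.node 0 .nil .nil)) (.node 0 (.node 0 .nil .nil) .nil))) (.node 0 (.node 0 (.node 0 (.node 0 .nil .nil) (.node 0 .nil .nil)) (.node 0 (.node 0 .nil .nil) .nil)) (.node 0 (.node 0 (.node 0 .nil .nil) (.node 0 .nil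 .nil)) (.node 0 (.node 0 .nil .nil) .nil))))) (.node 0 (.node 0 (.node 0 (.node 0 (.node 0 (.node 0 .nil .nil) (.node 0 .nil .nil)) (.node 0 (.node 0 .nil .nil) .nil)) (.node 0 (.node 0 (.node 0 .nil .nil) (.node 0 .nil .nil)) (.node 0 (.node 0 .nil .nil) .nil))) (.node 0 (.node 0 (.node 0 (.node 0 .nil .nil) (.node 0 .nil .nil)) (.node 0 (.node 0 .nil .nil) .nil)) (.node 0 (.node 0 (.node 0 .nil .nil) (.node 0 .nil .nil)) (.node 0 (.node 0 .nil .nil) .nil)))) (.node 0 (.node 0 (.node 0 (.node 0 (.node 0 .nil .nil) (.node 0 .nil .nil)) (.node 0 (.node 0 .nil .nil) .nil)) (.node 0 (.node 0 (.node 0 .nil .nil) (.node 0 .nil .nil)) (.node 0 (.node 0 .nil .nil) .nil))) (.node 0 (.node 0 (.node 0 (.node 0 .nil .nil) (.node 0 .nil .nil)) (.node 0 (.node 0 .nil .nil) .nil)) (.node 0 (.node 0 (.node 0 .nil .nil) (.node 0 .nil .nil)) (.node 0 (.node 0 .nil .nil) .nil)))))) (.node 0 (.node 0 (.node 0 (.node 0 (.node 0 (.node 0 (.node 0 .nil .nil)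 (.node 0 .nil .nil)) (.node 0 (.node 0 .nil .nil) .nil)) (.node 0 (.node 0 (.node 0 .nil .nil) (.node 0 .nil .nil)) (.node 0 (.node 0 .nil .nil) .nil))) (.node 0 (.node 0 (.node 0 (.node 0 .nil .nil) (.node 0 .nil .nil)) (.node 0 (.node 0 .nil .nil) .nil)) (.node 0 (.node 0 (.node 0 .nil .nil) (.node 0 .nil .nil)) (.node 0 (.node 0 .nil .nil) .nil)))) (.node 0 (.node 0 (.node 0 (.node 0 (.node 0 .nil .nil) (.node 0 .nil .nil)) (.node 0 (.node 0 .nil .nil) .nil)) (.node 0 (.node 0 (.node 0 .nil .nil) (.node 0 .nil .nil)) (.node 0 (.node 0 .nil .nil) .nil))) (.node 0 (.node 0 (.node 0 (.node 0 .nil .nil) (.node 0 .nil .nil)) (.node 0 (.node 0 .nil .nil) .nil)) (.node 0 (.node 0 (.node 0 .nil .nil) (.node 0 .nil .nil)) (.node 0 (.node 0 .nil .nil) .nil))))) (.node 0 (.node 0 (.node 0 (.node 0 (.node 0 (.node 0 .nil .nil) (.node 0 .nil .nil)) (.node 0 (.node 0 .nil .nil) .nil)) (.node 0 (.node 0 (.node 0 .nil .nil) (.node 0 .nil .nil)) (.node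 0 (.node 0 .nil .nil) .nil))) (.node 0 (.node 0 (.node 0 (.node 0 .nil .nil) (.node 0 .nil .nil)) (.node 0 (.node 0 .nil .nil) .nil)) (.node 0 (.node 0 (.node 0 .nil .nil) (.node 0 .nil .nil)) (.node 0 (.node 0 .nil .nil) .nil)))) (.node 0 (.node 0 (.node 0 (.node 0 (.node 0 .nil .nil) (.node 0 .nil .nil)) (.node 0 (.node 0 .nil .nil) .nil)) (.node 0 (.node 0 (.node 0 .nil .nil) (.node 0 .nil .nil)) (.node 0 (.node 0 .nil .nil) .nil))) (.node 0 (.node 0 (.node 0 (.node 0 .nil .nil) (.node 0 .nil .nil)) (.node 0 (.node 0 .nil .nil) .nil)) (.node 0 (.node 0 (.node 0 .nil .nil) .nil) (.node 0 (.node 0 .nil .nil) .nil)))))))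

/-- A part. -/
noncomputable def centPos2_11 : Arr ℕ :=
  (.node 0 (.node 0 (.node 0 (.node 0 (.node 0 (.node 0 (.node 0 (.node 0 .nil .nil) (.node 0 .nil .nil)) (.node 0 (.node 0 .nil .nil) .nil)) (.node 0 (.node 0 (.node 0 .nil .nil) (.node 0 .nil .nil)) (.node 0 (.node 0 .nil .nil) .nil))) (.node 0 (.node 0 (.node 0 (.node 0 .nil .nil) (.node 7 .nil .nil)) (.node 0 (.node 0 .nil .nil) .nil)) (.node 0 (.node 0 (.node 0 .nil .nil) (.node 0 .nil .nil)) (.node 0 (.node 0 .nil .nil) .nil)))) (.node 0 (.node 0 (.node 0 (.node 0 (.node 0 .nil .nil) (.node 0 .nil .nil)) (.node 0 (.node 0 .nil .nil) .nil)) (.node 0 (.node 0 (.node 0 .nil .nil) (.node 0 .nil .nil)) (.node 0 (.node 0 .nil .nil) .nil))) (.node 0 (.node 0 (.node 0 (.node 0 .nil .nil) (.node 0 .nil .nil)) (.node 0 (.node 0 .nil .nil) .nil)) (.node 0 (.node 0 (.node 0 .nil .nil) (.node 0 .nil .nil)) (.node 0 (.node 0 .nil .nil) .nil))))) (.node 0 (.node 0 (.node 0 (.node 0 (.node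 0 (.node 0 .nil .nil) (.node 0 .nil .nil)) (.node 0 (.node 0 .nil .nil) .nil)) (.node 0 (.node 0 (.node 0 .nil .nil) (.node 0 .nil .nil)) (.node 0 (.node 0 .nil .nil) .nil))) (.node 0 (.node 0 (.node 0 (.node 0 .nil .nil) (.node 0 .nil .nil)) (.node 0 (.node 0 .nil .nil) .nil)) (.node 0 (.node 0 (.node 0 .nil .nil) (.node 0 .nil .nil)) (.node 0 (.node 0 .nil .nil) .nil)))) (.node 0 (.node 0 (.node 0 (.node 0 (.node 0 .nil .nil) (.node 0 .nil .nil)) (.node 0 (.node 0 .nil .nil) .nil)) (.node 0 (.node 0 (.node 0 .nil .nil) (.node 0 .nil .nil)) (.node 0 (.node 0 .nil .nil) .nil))) (.node 0 (.node 0 (.node 0 (.node 0 .nil .nil) (.node 0 .nil .nil)) (.node 0 (.node 0 .nil .nil) .nil)) (.node 0 (.node 0 (.node 0 .nil .nil) .nil) (.node 0 (.node 0 .nil .nil) .nil)))))) (.node 0 (.node 0 (.node 0 (.node 0 (.node 0 (.node 0 (.node 0 .nil .nil) (.node 0 .nil .nil)) (.node 0 (.node 0 .nil .nil) .nil)) (.node 0 (.node 0 (.node 0 .nil .nil) (.node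 0 .nil .nil)) (.node 0 (.node 0 .nil .nil) .nil))) (.node 0 (.node 0 (.node 0 (.node 0 .nil .nil) (.node 0 .nil .nil)) (.node 0 (.node 0 .nil .nil) .nil)) (.node 0 (.node 0 (.node 0 .nil .nil) (.node 0 .nil .nil)) (.node 0 (.node 0 .nil .nil) .nil)))) (.node 0 (.node 0 (.node 0 (.node 0 (.node 0 .nil .nil) (.node 0 .nil .nil)) (.node 0 (.node 0 .nil .nil) .nil)) (.node 0 (.node 0 (.node 0 .nil .nil) (.node 0 .nil .nil)) (.node 0 (.node 0 .nil .nil) .nil))) (.node 0 (.node 0 (.node 0 (.node 0 .nil .nil) (.node 0 .nil .nil)) (.node 0 (.node 0 .nil .nil) .nil)) (.node 0 (.node 0 (.node 0 .nil .nil) (.node 0 .nil .nil)) (.node 0 (.node 0 .nil .nil) .nil))))) (.node 0 (.node 0 (.node 0 (.node 0 (.node 0 (.node 0 .nil .nil) (.node 0 .nil .nil)) (.node 0 (.node 0 .nil .nil) .nil)) (.node 0 (.node 0 (.node 0 .nil .nil) (.node 0 .nil .nil)) (.node 0 (.node 0 .nil .nil) .nil))) (.node 0 (.node 0 (.node 0 (.node 0 .nil .nil) (.node 0 .nil .nil))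 (.node 0 (.node 0 .nil .nil) .nil)) (.node 0 (.node 0 (.node 0 .nil .nil) (.node 0 .nil .nil)) (.node 0 (.node 0 .nil .nil) .nil)))) (.node 0 (.node 0 (.node 0 (.node 0 (.node 0 .nil .nil) (.node 0 .nil .nil)) (.node 0 (.node 0 .nil .nil) .nil)) (.node 0 (.node 0 (.node 0 .nil .nil) (.node 0 .nil .nil)) (.node 0 (.node 0 .nil .nil) .nil))) (.node 0 (.node 0 (.node 0 (.node 0 .nil .nil) (.node 0 .nil .nil)) (.node 0 (.node 0 .nil .nil) .nil)) (.node 0 (.node 0 (.node 0 .nil .nil) .nil) (.node 0 (.node 0 .nil .nil) .nil)))))))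

/-- A part. -/
noncomputable def centPos2_12 : Arr ℕ :=
  (.node 0 centPos2_10 centPos2_11)

/-- A part. -/
noncomputable def centPos2_13 : Arr ℕ :=
  (.node 0 centPos2_9 centPos2_12)

/-- A part. -/
noncomputable def centPos2_14 : Arr ℕ :=
  (.node 0 centPos2_6 centPos2_13)

/-- The array. -/
noncomputable def centPos2 : Arr ℕ := centPos2_14

/-- The base. -/
def centBase : List ℕ := [0,1,2]

/-- A level. -/
noncomputable def centLv0 : Lv := ⟨1620, [0,1,2,3,4,5], centWords0, []⟩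

/-- A level. -/
noncomputable def centLv1 : Lv := ⟨672, [2,3,4,5], centWords1, []⟩

/-- A level. -/
noncomputable def centLv2 : Lv := ⟨9, [4,5], centWords2, []⟩

/-- The levels. -/
noncomputable def centLevels : List Lv := [centLv0, centLv1, centLv2]

/-- The orbits. -/
def centMasks : List ℕ := [0x17efffefffbad7fefedfffff6fbedffbfff7fff7fffffdf77fffb7fff7fdfffb6fbfefffdffbffffffdffde5fefffefffffffffff7fffffffeeff7fbfdfffeffdffdffedffdfbeffffdffffffdfffdffffff57f7ffdfffff7fff9fcefebffedfffefdffdfffefeefeffffffcfffdfbd7bf7e7dfffffffff7ffffbffb77ffffffff7fd7fdfcffffffb7dbffbffffdfffff5ff7bfff7fff7befbffddfffffe5dfffff7fffff7ffffffffffdfff7effff7fffffbfffdd6ffbbffff6ffbefbffefffffffdfdfdfffdbfbffdfdfffffdff7feefefffffefefffffbff7ffdffff5ff,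
  0x42d6809511045ce4e1380f92a28d2d90f666781145b50104465913a95e917f02bbccfd580e9a64001c181011ebf2cbe4f399260c62a4800c224206054cb229e11400865c8511e19bd9e33dbcdea7019879750237a1055a80db38540801d6a550e00800094e088a06bc020b08b40c0058250285d907a9e021bc2b362120250c50b1c85f96c6249083001498981982112a4700060a013d2a260afcc7a01c200fb62a7a12800085166282d84000442dc52398b16b38002a18004422b0200072bb97a40410903180082a002c330185f305484e390150964b7fd3566c755c9a54e,
  0x20000000000000000000000000000400000000000010000000000000000000000000000000000000000000000000000000000000000000000000000010000000000000000002000000000000000000000000000000000000000000000000000000000000000000000001000000000000000000000000000000000000000000000000000000000000000000000000000000000000000000000000000000000010000000000000000000000000000000000000008000000000000000000000000000000000000000000000000000000000000000000000004]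

/-- An element normalising the first. -/
def hLetter : ℕ := 42

/-- An element of order seven. -/
def sLetter : ℕ := 66

/-- Exponents giving the base. -/
def es : List ℕ := [0,1,2]

/-- Its fixed points. -/
def fx : List ℕ := [165,252,672,974]

/-- The first two base points. -/
def b0 : ℕ := 165

/-- The second. -/
def b1 : ℕ := 14

/-- Key points. -/
def kpts : List ℕ := [262,1002,1547,1559]

/-- The outer images. -/
def twistWords : List (List ℕ) := [[0],
  [40,35,0,0,0,37,34,35,1,41,39,41,39,37,41,39,41]]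

/-- The digits of the outer permutation. -/
def sigDigits : List ℕ := [264,71,137,105]

/-- The second solution. -/
def jT : ℕ := 1363

/-- The conditions. -/
def conds : List (List ℕ × ℕ) := [([8], 6), ([1], 7)]

end Cfsg.Agent.SuzOut.Data
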