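import Cfsg.Agent.OutTab.Slp

/-!
A quicker check of straight line programs.
-/

set_option autoImplicit false

namespace Cfsg.Agent.SuzOut

open Cfsg.Agent.Compute Cfsg.Agent.StemCert

/-- Apply listed codes. -/
noncomputable def appC (w : ℕ) (cl : List ℕ) (x : ℕ) : ℕ :=
  List.rec (motive := fun _ => ℕ) x (fun c _ y => getField w c y) cl

theorem appC_map (w : ℕ) (cs : List ℕ) :
    ∀ (wd : List ℕ) (x : ℕ), appC w (wd.map fun s => cs.getD s 0) x = appW w cs wd x
  | [], _ => rfl
  | s :: wd, x => by
    show getField w (cs.getD s 0) (appC w (wd.map fun s => cs.getD s 0) x) =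
      getField w (cs.getD s 0) (appW w cs wd x)
    rw [appC_map w cs wd x]

/-- Programs, with the codes fetched once. -/
noncomputable def slpFastB (n w k : ℕ) (cs : List ℕ) (ws : List (List ℕ)) : Bool :=
  allBelow k fun s => Nat.blt s 2 || (allB (fun t => Nat.blt t s) (ws.getD s []) &&
    forceN (cs.getD s 0) fun c => forceL ((ws.getD s []).map fun t => cs.getD t 0) fun cl =>
      allBelow n fun p => Nat.beq (appC w cl p) (getField w c p))

theorem slpB_of_fast {n w k : ℕ} {cs : List ℕ} {ws : List (List ℕ)}
    (h : slpFastB n w k cs ws = true) : OutTab.slpB n w k cs ws = true := by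
  refine allBelow_eq_true.mpr fun s hs => ?_
  have h' := allBelow_eq_true.mp h s hs
  simp only [forceN_eq, forceL_eq, appC_map] at h' ⊢
  exact h'

end Cfsg.Agent.SuzOut
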