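import Cfsg.Agent.SuzOut.Codes
import Cfsg.Agent.SuzOut.Base
import Cfsg.Agent.SuzOut.Fast
import Cfsg.Agent.LeechModel.Words
import Cfsg.Agent.CosetCert.SuzG24.Defs

/-!
The codes agree with the coset table and with the programs.
-/

set_option autoImplicit false
set_option maxRecDepth 100000
set_option maxHeartbeats 0

namespace Cfsg.Agent.SuzOut

open Cfsg.Agent.Compute Cfsg.Agent.StemCert Cfsg.Agent.LeechModel

theorem base_codes_ok : allBelow 7 (fun x => forceN (Data.baseCodes.getD x 0) fun c =>
    allBelow 1782 fun p =>
      Nat.beq (getField 11 c p) (CosetCert.SuzG24.data.T p x)) = true := by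
  decide +kernel

theorem pair_ok : wordsB 1782 11 7 Data.baseCodes Data.pairWords Data.codes 2 = true := by
  decide +kernel

theorem slp_ok : slpFastB 1782 11 Data.k Data.codes Data.progs = true := by decide +kernel

end Cfsg.Agent.SuzOut
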