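import Cfsg.Agent.SuzOut.Base
import Cfsg.Agent.SuzOut.Codes
import Cfsg.Agent.OutTab.CriterionTwo

/-!
Checks of the certificate.
-/

set_option autoImplicit false
set_option maxRecDepth 100000
set_option maxHeartbeats 0

namespace Cfsg.Agent.SuzOut

open Cfsg.Agent.Compute Cfsg.Agent.StemCert Cfsg.Agent.OutTab Cfsg.Agent.LeechModel

theorem main_wf : wfB Data.mainLevels = true ∧ gensBelow Data.k Data.mainLevels = true ∧
    numForms Data.mainLevels = 448345497600 ∧ (∀ b ∈ Data.mainBase, b < 1782) := by
  refine ⟨?_, ?_, ?_, ?_⟩ <;> decide +kernel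

theorem main_distinct : distinctB 11 Data.codes Data.mainLevels Data.mainBase = true :=
  distinctB_cons_of_pos (P := Data.mainPos0) (by decide +kernel)
    (distinctB_cons_of_pos (P := Data.mainPos1) (by decide +kernel)
      (distinctB_cons_of_pos (P := Data.mainPos2) (by decide +kernel)
        (distinctB_cons_of_pos (P := Data.mainPos3) (by decide +kernel) rfl)))

theorem cent_wf : wfB Data.centLevels = true ∧ gensBelow Data.centWs.length Data.centLevels = true ∧
    numForms Data.centLevels = 9797760 ∧ (∀ b ∈ Data.centBase, b < 1782) := by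
  refine ⟨?_, ?_, ?_, ?_⟩ <;> decide +kernel

theorem cent_distinct : distinctB 11 Data.centCodes Data.centLevels Data.centBase = true :=
  distinctB_cons_of_pos (P := Data.centPos0) (by decide +kernel)
    (distinctB_cons_of_pos (P := Data.centPos1) (by decide +kernel)
      (distinctB_cons_of_pos (P := Data.centPos2) (by decide +kernel) rfl))

theorem cent_words : wordsB 1782 11 Data.k Data.codes Data.centWs Data.centCodes Data.centWs.length = true := by
  decide +kernel

theorem twist_ok : codePermB 11 1782 Data.sigma = true ∧
    normAtB 1782 11 Data.k Data.codes Data.sigma 2 Data.twistWords = true := by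
  refine ⟨?_, ?_⟩ <;> decide +kernel

theorem sift_ok : siftB 1782 11 Data.codes Data.sigma Data.mainLevels Data.mainBase Data.sigDigits [] = true := by
  decide +kernel

theorem commutant_ok : centB 1782 11 Data.codes (Data.mainBase.getD 0 0) Data.mainLv0 Data.mainLv1.gens = true := by
  decide +kernel

end Cfsg.Agent.SuzOut
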