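import Cfsg.Agent.SuzOut.CheckCodes
import Cfsg.Agent.SuzOut.CheckLevels
import Cfsg.Agent.CosetCert.SuzOrder.Main
import Cfsg.Agent.StemCert.Count

/-!
The group on 1782 points with coded generators.
-/

set_option autoImplicit false
set_option maxRecDepth 100000
set_option maxHeartbeats 0

namespace Cfsg.Agent.SuzOut

open Cfsg Cfsg.Agent.Compute Cfsg.Agent.StemCert Cfsg.Agent.LeechModel

theorem card_suz : Nat.card Spor.Suz = 448345497600 := CosetCert.SuzOrder.order_and_simple.2

theorem finite_suz : Finite Spor.Suz := CosetCert.SuzOrder.card_bound.1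

theorem table_action : ∃ φ : Spor.Suz →* Equiv.Perm (Fin 1782), Function.Injective φ ∧
    ∀ (b : Spor.Suz.Gen) (c : Fin 1782),
      (φ (PresentedGroup.of b) c : ℕ) = CosetCert.SuzG24.data.T c (CosetCert.SuzG24.enc b) := by
  obtain ⟨φ, π, -, hfwd⟩ :=
    CosetCert.Data.enumeration CosetCert.SuzG24.valid CosetCert.SuzG24.spells
  obtain ⟨hinj, -⟩ := CosetCert.Data.order_eq CosetCert.SuzG24.valid CosetCert.SuzG24.spells φ hfwd
    finite_suz CosetCert.SuzOrder.card_bound.2 CosetCert.SuzOrder.levels
    CosetCert.SuzOrder.levels_ok (by decide +kernel)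
  refine ⟨φ, hinj, fun b c => ?_⟩
  have h := hfwd [(b, false)] c
  rw [show FreeGroup.mk [(b, false)] = (FreeGroup.of b)⁻¹ from rfl, map_inv, map_inv, inv_inv] at h
  rw [List.map_cons, List.map_nil, CosetCert.Data.fwd_cons, CosetCert.Data.fwd_nil] at h
  exact h

/-- The permutation representation. -/
noncomputable def ι : Spor.Suz →* Equiv.Perm (Fin 1782) := table_action.choose

theorem ι_injective : Function.Injective ι := table_action.choose_spec.1

/-- The presented generators by number. -/
noncomputable def baseGen (s : ℕ) : Spor.Suz := PresentedGroup.of (CosetCert.SuzG24.dec s).1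

theorem coded_base : Coded (w := 11) (k := 7) ι baseGen Data.baseCodes := by
  intro s hs c
  have h := allBelow_eq_true.mp base_codes_ok s hs
  rw [forceN_eq] at h
  have h' := Nat.eq_of_beq_eq_true (allBelow_eq_true.mp h c c.2)
  rw [h', baseGen, show ι = table_action.choose from rfl, table_action.choose_spec.2]
  have e : CosetCert.SuzG24.enc (CosetCert.SuzG24.dec s).1 = s := by
    interval_cases s <;> rfl
  exact (congrArg _ e :)

/-- The two generators. -/
noncomputable def pairGen (s : ℕ) : Spor.Suz := evalW baseGen (Data.pairWords.getD s [])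

theorem coded_pair : Coded (w := 11) (k := 2) ι pairGen Data.codes :=
  coded_of_wordsB coded_base pair_ok

theorem gen_exists : ∃ g : ℕ → Spor.Suz, Coded (w := 11) (k := Data.k) ι g Data.codes ∧
    g 0 = pairGen 0 ∧ g 1 = pairGen 1 ∧
    ∀ s, g s ∈ Submonoid.closure ({pairGen 0, pairGen 1} : Set Spor.Suz) :=
  OutTab.exists_slp coded_pair (slpB_of_fast slp_ok)

/-- The generators. -/
noncomputable def gen : ℕ → Spor.Suz := gen_exists.choose

theorem coded : Coded (w := 11) (k := Data.k) ι gen Data.codes := gen_exists.choose_spec.1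

theorem gen_closure (s : ℕ) : gen s ∈ Submonoid.closure ({gen 0, gen 1} : Set Spor.Suz) := by
  obtain ⟨-, h0, h1, hm⟩ := gen_exists.choose_spec
  rw [show gen 0 = pairGen 0 from h0, show gen 1 = pairGen 1 from h1]
  exact hm s

theorem base_isBase : IsBase ι Data.mainBase :=
  haveI := finite_suz
  isBase_of_card coded main_wf.1 main_wf.2.1 main_wf.2.2.2 main_distinct
    (main_wf.2.2.1.trans card_suz.symm)

theorem generates : ∀ z : Spor.Suz, z ∈ Submonoid.closure (gen '' {s | s < 2}) := by
  haveI := finite_suz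
  have h := generates_of_card coded main_wf.1 main_wf.2.1 main_wf.2.2.2 main_distinct
    (main_wf.2.2.1.trans card_suz.symm)
  intro z
  refine Submonoid.closure_le.mpr ?_ (h z)
  rintro _ ⟨s, -, rfl⟩
  refine Submonoid.closure_mono ?_ (gen_closure s)
  rintro x (rfl | rfl)
  exacts [⟨0, by simp, rfl⟩, ⟨1, by simp, rfl⟩]

end Cfsg.Agent.SuzOut
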